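import Cfsg.Agent.Lib.Spor.CHZ.Orbit

/-!
Totally singular subgroups at a singular vector lie on its line, and semilinear isometries moving a large
subspace along little are linear.
-/

set_option autoImplicit false
set_option maxRecDepth 100000
set_option maxHeartbeats 1000000
set_option linter.unusedSectionVars false

namespace Cfsg.Agent.Spor.CHZ

open Cfsg.Agent.Spor.SpFour Cfsg.Agent.Small.Unitary Cfsg.Agent.Spor.UnitaryTrans

/-- three vectors beside the line -/
def offLine (x : V) : Bool :=
  !decide (herm v0 x = 0 ∧ herm x x = 0) || [0, F4.i, F4.w, F4.v].any (fun c => decide (x = c • v0)) ||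
    centres.any fun u => centres.any fun u' =>
      decide (herm x (delta u x) ≠ 0) && [0, F4.i, F4.w, F4.v].all fun c =>
        decide (delta u x ≠ c • v0 ∧ delta u' x ≠ c • v0 ∧ delta u x + delta u' x ≠ c • v0)

theorem offLine_ok : ∀ x : V, offLine x = true := by decide +kernel

theorem centres_span : ∀ x : V, herm v0 x = 0 → (∀ u ∈ centres, herm u x = 0) → ∃ c : F4, x = c • v0 := by
  decide +kernel

/-- the line and the pairs beside it -/
theorem off_line {v : V} (hv0 : v ≠ 0) (hvv : herm v v = 0) (S : AddSubgroup V)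
    (hinv : ∀ g : L, sp g v = v → ∀ y ∈ S, sp g y ∈ S) {x : V} (hx : x ∈ S) (hxv : herm v x = 0)
    (hxx : herm x x = 0) (hline : ∀ c : F4, x ≠ c • v) : ∃ p ∈ S, ∃ r ∈ S, herm x p ≠ 0 ∧
      ∀ c : F4, p ≠ c • v ∧ r ≠ c • v ∧ p + r ≠ c • v := by
  obtain ⟨a, ha⟩ := exists_move v0_ok.1 v0_ok.2 hv0 hvv
  have hd : ∀ u ∈ centres, ∀ y, sp a y ∈ S → sp a (delta u y) ∈ S := by
    intro u hu y hy
    have hc := List.all_eq_true.mp centres_ok u hu
    rw [decide_eq_true_eq] at hc
    have h1 : sp (tvL u hc.1) v0 = v0 := by rw [sp_tvL, hc.2, zero_smul, add_zero]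
    have h := S.add_mem (hinv (a * tvL u hc.1 * a⁻¹) (by
      rw [← ha]; simp [map_mul, map_inv, h1]) _ hy) hy
    have e : sp (a * tvL u hc.1 * a⁻¹) (sp a y) + sp a y = sp a (delta u y) := by
      simp only [map_mul, map_inv, Equiv.Perm.mul_apply, Equiv.Perm.inv_def, Equiv.symm_apply_apply, sp_tvL,
        (sp_lin a).add]
      rw [add_comm (sp a y), add_assoc, add_self, add_zero]
      rfl
    rwa [e] at h
  obtain ⟨y, rfl⟩ := (sp a).surjective x
  have h := offLine_ok y
  simp only [offLine, Bool.or_eq_true, Bool.and_eq_true, Bool.not_eq_true', decide_eq_false_iff_not,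
    decide_eq_true_eq, List.any_eq_true, List.all_eq_true] at h
  rcases h with (h | ⟨c, -, e⟩) | ⟨u, hu, u', hu', hne, h⟩
  · refine absurd ⟨?_, ?_⟩ h
    · rw [← (sp_lin a).herm, ha]; exact hxv
    · rw [← (sp_lin a).herm]; exact hxx
  · exact absurd (by rw [e, (sp_lin a).smul, ha]) (hline c)
  · refine ⟨_, hd u hu y hx, _, hd u' hu' y hx, by rw [(sp_lin a).herm]; exact hne, fun c => ?_⟩
    have hc : c ∈ [0, F4.i, F4.w, F4.v] := by rcases F4_cases c with rfl | rfl | rfl | rfl <;> decide
    obtain ⟨h1, h2, h3⟩ := h c hc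
    rw [← ha, ← (sp_lin a).smul, ← (sp_lin a).add]
    exact ⟨fun e => h1 ((sp a).injective e), fun e => h2 ((sp a).injective e), fun e => h3 ((sp a).injective e)⟩

/-- inside the orthogonal the isotropic vectors moved nowhere give everything -/
theorem hyper_span {v : V} (hv0 : v ≠ 0) (hvv : herm v v = 0) {x : V} (hx : herm v x = 0)
    (h : ∀ u, herm u u = 0 → herm v u = 0 → herm u x = 0) : ∃ c : F4, x = c • v := by
  obtain ⟨a, ha⟩ := exists_move v0_ok.1 v0_ok.2 hv0 hvv
  obtain ⟨y, rfl⟩ := (sp a).surjective x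
  rw [← ha, (sp_lin a).herm] at hx
  obtain ⟨c, hc⟩ := centres_span y hx fun u hu => by
    have hk := List.all_eq_true.mp centres_ok u hu
    rw [decide_eq_true_eq] at hk
    rw [← (sp_lin a).herm]
    refine h _ (by rw [(sp_lin a).herm]; exact hk.1) ?_
    rw [← ha, (sp_lin a).herm, ← star_herm, hk.2, star_zero]
  exact ⟨c, by rw [hc, (sp_lin a).smul, ha]⟩

/-- the vectors of a subspace left where they are -/
theorem auto_lin {f : Equiv.Perm V} (hf : Semi f) {H : Set V} (hadd : ∀ x ∈ H, ∀ y ∈ H, x + y ∈ H)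
    (hsmul : ∀ (c : F4), ∀ x ∈ H, c • x ∈ H) {n m : ℕ} (hH : H.ncard ≤ n) (hm : n < m * m)
    (hfix : m ≤ (H ∩ fixS f).ncard) : Lin f :=
  hf.resolve_right fun ha => by
    have h := ha.fix_sq hadd hsmul
    have := Nat.mul_le_mul hfix hfix
    omega

/-- moving a subgroup into few places leaves a large part -/
theorem fix_large {f : Equiv.Perm V} (hf : Semi f) (U : AddSubgroup V) {E : Set V}
    (hmov : ∀ y ∈ U, f y + y ∈ E) : (U : Set V).ncard ≤ ((U : Set V) ∩ fixS f).ncard * E.ncard := by
  let d : ↥U →+ V := AddMonoidHom.mk' (fun y => f y + y) fun a b => by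
    show f ((a : V) + b) + ((a : V) + b) = _
    rw [hf.add]
    abel
  have h := d.ker.card_mul_index
  rw [AddSubgroup.index_ker] at h
  have hr : Nat.card d.range ≤ E.ncard := by
    refine le_trans ?_ (Set.ncard_le_ncard (s := Set.range fun y : U => f y + y)
      (by rintro _ ⟨y, rfl⟩; exact hmov y y.2))
    rw [← Nat.card_coe_set_eq]
    exact le_of_eq (Nat.card_congr (Equiv.setCongr rfl))
  have hk : Nat.card d.ker ≤ ((U : Set V) ∩ fixS f).ncard := by
    rw [← Nat.card_coe_set_eq]
    exact Nat.card_le_card_of_injective (fun y => ⟨(y.1 : V), y.1.2, add_cancel' y.2⟩) fun a b e =>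
      Subtype.ext (Subtype.ext (congrArg Subtype.val e :))
  rw [← Nat.card_coe_set_eq]
  show Nat.card U ≤ _
  rw [← h]
  exact Nat.mul_le_mul hk hr

/-- the line of a vector -/
theorem line_card_le (u : V) : {x : V | ∃ c : F4, x = c • u}.ncard ≤ 4 := by
  have h : {x : V | ∃ c : F4, x = c • u} = (fun c : F4 => c • u) '' Set.univ := by
    ext x; simp [eq_comm]
  rw [h]
  refine (Set.ncard_image_le (Set.toFinite _)).trans ?_
  rw [Set.ncard_univ, Nat.card_eq_fintype_card, F4.card]

/-- the orthogonal of a vector -/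
theorem hyper_ncard {u : V} (hu : u ≠ 0) : {y : V | herm u y = 0}.ncard = 64 := by
  obtain ⟨x, hx⟩ := exists_herm_val hu 1
  have e : Nat.card V = Nat.card ↥{y : V | herm u y = 0} * Nat.card F4 := by
    rw [← Nat.card_prod]
    refine Nat.card_eq_of_bijective (fun y => ((⟨y + herm u y • x, by
      show herm u _ = 0
      rw [herm_add_right, herm_smul_right, hx, mul_one, CharTwo.add_self_eq_zero]⟩ :
        {y : V | herm u y = 0}), herm u y)) ⟨fun a b h => ?_, fun p => ⟨(p.1 : V) + p.2 • x, ?_⟩⟩
    · simp only [Prod.mk.injEq, Subtype.mk.injEq] at h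
      rw [h.2] at h
      exact add_right_cancel h.1
    · have hp : herm u ((p.1 : V) + p.2 • x) = p.2 := by
        rw [herm_add_right, herm_smul_right, hx, mul_one, show herm u (p.1 : V) = 0 from p.1.2, zero_add]
      refine Prod.ext (Subtype.ext ?_) hp
      show _ + herm u _ • x = _
      rw [hp, add_assoc, add_self, add_zero]
  rw [card_V, Nat.card_coe_set_eq, Nat.card_eq_fintype_card, F4.card] at e
  omega

/-- moving the orthogonal of a vector along its line forces linearity -/
theorem auto_lin_line {f : Equiv.Perm V} (hf : Semi f) {u : V} (hu : u ≠ 0)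
    (hmov : ∀ y, herm u y = 0 → ∃ c : F4, f y + y = c • u) : Lin f := by
  let U : AddSubgroup V :=
    { carrier := {y | herm u y = 0}
      zero_mem' := herm_zero_right u
      add_mem' := fun {a b} (ha : herm u a = 0) (hb : herm u b = 0) => by
        show herm u (a + b) = 0
        rw [herm_add_right, ha, hb, add_zero]
      neg_mem' := fun {a} ha => by rw [neg_eq']; exact ha }
  have h := fix_large hf U (E := {x | ∃ c : F4, x = c • u}) hmov
  have hc : (U : Set V).ncard = 64 := hyper_ncard hu
  rw [hc] at h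
  have hl := line_card_le u
  refine auto_lin hf (H := (U : Set V)) (fun x hx y hy => U.add_mem hx hy) (fun c x hx => ?_) (n := 64) (m := 16)
    (le_of_eq hc) (by norm_num) (by nlinarith)
  show herm u (c • x) = 0
  rw [herm_smul_right, show herm u x = 0 from hx, mul_zero]

end Cfsg.Agent.Spor.CHZ
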