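import Cfsg.Agent.Lib.Spor.CHZ.Invol

/-!
Sets of semilinear isometries moving the vectors fixed by an involution only along one vector are small.
-/

set_option autoImplicit false
set_option maxRecDepth 100000
set_option linter.unusedSectionVars false

namespace Cfsg.Agent.Spor.CHZ

open Cfsg.Agent.Spor.SpFour Cfsg.Agent.Small.Unitary

theorem Anti.inv {f : Equiv.Perm V} (hf : Anti f) : Anti f⁻¹ :=
  ⟨fun x y => f.injective (by simp [hf.add]), fun c x => f.injective (by simp [hf.smul]), fun x y => by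
    have h := hf.herm (f⁻¹ x) (f⁻¹ y)
    simp at h
    rw [h, star_star]
    rfl⟩

theorem Semi.inv {f : Equiv.Perm V} (hf : Semi f) : Semi f⁻¹ :=
  hf.elim (fun h => Or.inl h.inv) fun h => Or.inr h.inv

theorem Anti.not_lin {f : Equiv.Perm V} (hf : Anti f) : ¬ Lin f := fun hl => by
  have h : f (F4.w • Pi.single 0 1) = F4.w • f (Pi.single 0 1) := hl.smul _ _
  rw [hf.smul] at h
  have hne : f (Pi.single 0 1) ≠ 0 := fun e => by
    have h2 : (Pi.single 0 1 : V) = 0 := f.injective (by rw [e, Semi.zero (Or.inr hf)])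
    exact absurd h2 (by decide +kernel)
  exact absurd (smul_left_injective F4 hne h) (by decide +kernel)

/-- the vectors of a set and their multiples -/
def spanW (U : Set V) : Set V := {x | ∃ a ∈ U, ∃ b ∈ U, x = a + F4.w • b}

theorem fix_spanW {g : Equiv.Perm V} (hg : Lin g) {U : Set V} (h : ∀ y ∈ U, g y = y) :
    ∀ x ∈ spanW U, g x = x := by
  rintro x ⟨a, ha, b, hb, rfl⟩
  rw [hg.add, hg.smul, h a ha, h b hb]

theorem translate_le {X : Set (Equiv.Perm V)} {P : Equiv.Perm V → Prop} {n : ℕ}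
    (hP : {g | P g}.ncard ≤ n) (hX : ∀ g ∈ X, ∀ g' ∈ X, P (g⁻¹ * g')) : X.ncard ≤ n := by
  rcases X.eq_empty_or_nonempty with rfl | ⟨g, hg⟩
  · simp
  calc X.ncard = ((fun g' => g⁻¹ * g') '' X).ncard := (Set.ncard_image_of_injective _ (mul_right_injective _)).symm
    _ ≤ _ := Set.ncard_le_ncard (by rintro _ ⟨g', hg', rfl⟩; exact hX g hg g' hg')
    _ ≤ n := hP

theorem two_classes {X : Set (Equiv.Perm V)} {S : Equiv.Perm V → Prop} {n : ℕ}
    (h1 : {g ∈ X | S g}.ncard ≤ n) (h2 : {g ∈ X | ¬ S g}.ncard ≤ n) : X.ncard ≤ 2 * n := by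
  calc X.ncard = ({g ∈ X | S g} ∪ {g ∈ X | ¬ S g}).ncard :=
        congrArg Set.ncard (Set.ext fun g => ⟨fun h => (em (S g)).imp (⟨h, ·⟩) (⟨h, ·⟩), fun h => h.elim (·.1) (·.1)⟩)
    _ ≤ _ := Set.ncard_union_le _ _
    _ ≤ _ := by omega

theorem split_semi {X : Set (Equiv.Perm V)} {P : Equiv.Perm V → Prop} {n : ℕ} (hS : ∀ g ∈ X, Semi g)
    (hP : {g | Lin g ∧ P g}.ncard ≤ n) (hrel : ∀ g ∈ X, ∀ g' ∈ X, P (g⁻¹ * g')) : X.ncard ≤ 2 * n := by
  refine two_classes (S := Lin) (translate_le hP ?_) (translate_le hP ?_)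
  · rintro g ⟨hg, hl⟩ g' ⟨hg', hl'⟩
    exact ⟨hl.inv.mul hl', hrel g hg g' hg'⟩
  · rintro g ⟨hg, hl⟩ g' ⟨hg', hl'⟩
    exact ⟨((hS g hg).resolve_left hl).inv.mul ((hS g' hg').resolve_left hl'), hrel g hg g' hg'⟩

theorem fix_rel {g g' : Equiv.Perm V} {y : V} (h : g y = g' y) : (g⁻¹ * g') y = y := by
  rw [Equiv.Perm.mul_apply, ← h]; simp

/-- semilinear maps fixing half of the vectors fixed by a conjugate linear involution -/
theorem bound_half {τ : Equiv.Perm V} (hτ : Anti τ) (hc : (fixS τ).ncard = 16) (U : AddSubgroup V)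
    (hU : (U : Set V) ⊆ fixS τ) (hU8 : 8 ≤ Nat.card U) {X : Set (Equiv.Perm V)} (hS : ∀ g ∈ X, Semi g)
    (hfix : ∀ g ∈ X, ∀ y ∈ U, g y = y) : X.ncard ≤ 8 := by
  by_cases hall : ∀ a ∈ fixS τ, a ∈ U
  · refine (split_semi (P := fun g => ∀ y ∈ U, g y = y) hS (n := 4) (card_fixing (H := spanW U) (y0 := 0)
      (fun g hg => hg.1) (fun g hg => fix_spanW hg.1 hg.2) fun x => ?_)
      fun g hg g' hg' y hy => fix_rel ((hfix g hg y hy).trans (hfix g' hg' y hy).symm))
    obtain ⟨a, b, ha, hb, rfl⟩ := hτ.span hc x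
    exact ⟨_, ⟨a, hall a ha, b, hall b hb, rfl⟩, 0, by simp⟩
  push Not at hall
  obtain ⟨a0, ha0, ha0U⟩ := hall
  have hdec : ∀ a ∈ fixS τ, ∃ u ∈ U, ∃ e : F4, (e = 0 ∨ e = 1) ∧ a = u + e • a0 := by
    intro a ha
    by_cases h : a ∈ U
    · exact ⟨a, h, 0, Or.inl rfl, by simp⟩
    by_cases h2 : a + a0 ∈ U
    · exact ⟨a + a0, h2, 1, Or.inr rfl, by rw [one_smul, add_assoc, add_self, add_zero]⟩
    exfalso
    have hsub : (U : Set V) ∪ (fun u => u + a0) '' U ∪ (fun u => u + a) '' U ⊆ fixS τ := by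
      rintro x ((hx | ⟨u, hu, rfl⟩) | ⟨u, hu, rfl⟩)
      · exact hU hx
      · show τ (u + a0) = _
        rw [hτ.add, show τ u = u from hU hu, show τ a0 = a0 from ha0]
      · show τ (u + a) = _
        rw [hτ.add, show τ u = u from hU hu, show τ a = a from ha]
    have hd1 : Disjoint (U : Set V) ((fun u => u + a0) '' U) := Set.disjoint_left.mpr fun x hx hx' => by
      obtain ⟨u, hu, rfl⟩ := hx'
      exact ha0U (by simpa using U.add_mem (U.neg_mem hu) hx)
    have hd2 : Disjoint ((U : Set V) ∪ (fun u => u + a0) '' U) ((fun u => u + a) '' U) :=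
      Set.disjoint_left.mpr fun x hx hx' => by
        obtain ⟨u, hu, rfl⟩ := hx'
        rcases hx with hx | ⟨u', hu', e⟩
        · exact h (by simpa using U.add_mem (U.neg_mem hu) hx)
        · refine h2 ?_
          have e2 := swap_sum e.symm
          rw [← e2]
          exact U.add_mem hu hu'
    have := Set.ncard_le_ncard hsub
    rw [Set.ncard_union_eq hd2, Set.ncard_union_eq hd1, Set.ncard_image_of_injective _ (add_left_injective _),
      Set.ncard_image_of_injective _ (add_left_injective _), hc, ← Nat.card_coe_set_eq,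
      show Nat.card ↥(U : Set V) = Nat.card U from rfl] at this
    omega
  refine (split_semi (P := fun g => ∀ y ∈ U, g y = y) hS (n := 4) (card_fixing (H := spanW U) (y0 := a0)
    (fun g hg => hg.1) (fun g hg => fix_spanW hg.1 hg.2) fun x => ?_)
    fun g hg g' hg' y hy => fix_rel ((hfix g hg y hy).trans (hfix g' hg' y hy).symm))
  obtain ⟨a, b, ha, hb, rfl⟩ := hτ.span hc x
  obtain ⟨u, hu, e, -, rfl⟩ := hdec a ha
  obtain ⟨u', hu', e', -, rfl⟩ := hdec b hb
  exact ⟨u + F4.w • u', ⟨u, hu, u', hu', rfl⟩, e + F4.w * e', by rw [smul_add, add_smul, smul_smul]; abel⟩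

/-- semilinear maps moving the fixed vectors of a conjugate linear involution along one of them -/
theorem bound_line {τ : Equiv.Perm V} (hτ : Anti τ) (hc : (fixS τ).ncard = 16) {d : V} (hd : d ∈ fixS τ)
    (hd0 : Small.Unitary.herm d d = 0) {X : Set (Equiv.Perm V)} (hS : ∀ g ∈ X, Semi g)
    (hmov : ∀ g ∈ X, ∀ y ∈ fixS τ, g y = y ∨ g y = y + d) : X.ncard ≤ 4 := by
  have hreal : ∀ x ∈ fixS τ, ∀ y ∈ fixS τ, star (Small.Unitary.herm x y) = Small.Unitary.herm x y := by
    intro x hx y hy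
    have h := hτ.herm x y
    rw [show τ x = x from hx, show τ y = y from hy] at h
    exact h.symm
  have hgen : ∀ g g' : Equiv.Perm V, Semi g → Semi g' → (Lin g ↔ Lin g') →
      (∀ y ∈ fixS τ, g y = g' y) → g = g' := by
    intro g g' hg hg' hiff h
    ext1 x
    obtain ⟨a, b, ha, hb, rfl⟩ := hτ.span hc x
    rw [hg.add, hg'.add]
    rcases hg with hl | hl
    · rw [hl.smul, (hiff.mp hl).smul, h a ha, h b hb]
    · rw [hl.smul, (hg'.resolve_left fun hl' => hl.not_lin (hiff.mpr hl')).smul, h a ha, h b hb]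
  by_cases hd' : d = 0
  · refine (two_classes (S := Lin) (n := 1) ?_ ?_).trans (by norm_num) <;>
      rw [Set.ncard_le_one] <;> rintro g ⟨hg, hl⟩ g' ⟨hg', hl'⟩ <;>
      refine hgen g g' (hS g hg) (hS g' hg') (by simp [hl, hl']) fun y hy => ?_
    all_goals
      rcases hmov g hg y hy with e | e <;> rcases hmov g' hg' y hy with e' | e' <;> simp [e, e', hd']
  obtain ⟨y0, hy0, hdy⟩ : ∃ y ∈ fixS τ, Small.Unitary.herm d y ≠ 0 := by
    by_contra hno
    push Not at hno
    obtain ⟨w, hw⟩ := exists_herm_ne hd'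
    obtain ⟨a, b, ha, hb, rfl⟩ := hτ.span hc w
    rw [herm_add_right, herm_smul_right, hno a ha, hno b hb, mul_zero, add_zero] at hw
    exact hw rfl
  have hdy1 : Small.Unitary.herm d y0 = 1 :=
    (F4_fixed _ (hreal d hd y0 hy0)).resolve_left hdy
  have heq : ∀ g ∈ X, ∀ y ∈ fixS τ, g y = y + (if g y0 = y0 then 0 else Small.Unitary.herm d y) • d := by
    intro g hg y hy
    have hh : Small.Unitary.herm (g y) (g y0) = Small.Unitary.herm y y0 := by
      rcases hS g hg with hl | hl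
      · exact hl.herm _ _
      · rw [hl.herm, hreal y hy y0 hy0]
    have hyd : Small.Unitary.herm y d = Small.Unitary.herm d y := by rw [← star_herm, hreal d hd y hy]
    rcases hmov g hg y hy with e | e <;> rcases hmov g hg y0 hy0 with e0 | e0 <;> rw [e, e0] at hh <;>
      simp only [herm_add_left, herm_add_right, hd0, add_zero, hdy1] at hh
    · rw [if_pos e0, zero_smul, add_zero, e]
    · rw [if_neg (by rw [e0]; simp [hd']), e, ← hyd, add_eq_left.mp hh, zero_smul, add_zero]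
    · exact absurd (add_eq_left.mp hh) one_ne_zero
    · rw [if_neg (by rw [e0]; simp [hd']), e]
      rw [hyd] at hh
      have : Small.Unitary.herm d y + 1 = 0 := by linear_combination hh
      rw [CharTwo.add_eq_zero.mp this, one_smul]
  have hinj : X.ncard ≤ Nat.card (Bool × Bool) := by
    rw [← Nat.card_coe_set_eq]
    classical
    refine Nat.card_le_card_of_injective (fun g : X => (decide (Lin g.1), decide (g.1 y0 = y0))) ?_
    intro g g' e
    simp only [Prod.mk.injEq, decide_eq_decide] at e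
    refine Subtype.ext (hgen _ _ (hS _ g.2) (hS _ g'.2) e.1 fun y hy => ?_)
    rw [heq _ g.2 y hy, heq _ g'.2 y hy]
    simp only [e.2]
  simpa using hinj

/-- a conjugate linear map cannot fix more than the square root of a subspace -/
theorem Anti.fix_sq {g : Equiv.Perm V} (hg : Anti g) {H : Set V} (hadd : ∀ x ∈ H, ∀ y ∈ H, x + y ∈ H)
    (hsmul : ∀ (c : F4), ∀ x ∈ H, c • x ∈ H) : (H ∩ fixS g).ncard * (H ∩ fixS g).ncard ≤ H.ncard := by
  rw [← Nat.card_coe_set_eq, ← Nat.card_coe_set_eq, ← Nat.card_prod]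
  refine Nat.card_le_card_of_injective (fun p : ↥(H ∩ fixS g) × ↥(H ∩ fixS g) =>
    (⟨(p.1 : V) + F4.w • (p.2 : V), hadd _ p.1.2.1 _ (hsmul _ _ p.2.2.1)⟩ : ↥H)) ?_
  rintro ⟨a, b⟩ ⟨a', b'⟩ e
  have e2 := swap_sum (congrArg Subtype.val e)
  rw [← smul_add] at e2
  have hb : (b : V) + b' = 0 := by
    by_contra hne
    have h1 : g ((b : V) + b') = (b : V) + b' := by rw [hg.add, b.2.2, b'.2.2]
    have h2 : g (F4.w • ((b : V) + b')) = F4.w • ((b : V) + b') := by rw [← e2, hg.add, a.2.2, a'.2.2]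
    exact absurd (hg.fix_meet h1 h2 hne) (by decide +kernel)
  have hb' : b = b' := Subtype.ext (add_cancel' hb)
  rw [hb, smul_zero] at e2
  exact Prod.ext (Subtype.ext (add_cancel' e2)) hb'

end Cfsg.Agent.Spor.CHZ
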