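import Cfsg.Agent.Lib.Spor.CHZ.Decomp

/-!
Four planes: the space is the Hermitian space and the group acts linearly.
-/

set_option autoImplicit false
set_option maxRecDepth 100000
set_option maxHeartbeats 400000
set_option linter.unusedSectionVars false

namespace Cfsg.Agent.Spor.CHZ

open Cfsg.Agent.Spor.SpFour Cfsg.Agent.Small.Unitary

universe w

/-- the number of the piece of a coordinate -/
def kI (i : Fin 4) : Fin 14 := ![1, 2, 3, 4] i

/-- a parameter with entry one at the coordinate -/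
def aI (i : Fin 4) : A3 := ![cA, cA, cA, ![0, 0, 2]] i

theorem aI_co : ∀ i, co (aI i) i = 1 := by decide +kernel

theorem fn_kI : ∀ i a, fn (kI i) a = co a i := by decide +kernel

theorem kI_range : ∀ i, 1 ≤ (kI i : ℕ) ∧ (kI i : ℕ) ≤ 4 := by decide +kernel

theorem kI_swap : ∀ (j : Fin 3) (i : Fin 4) (a : A3), pf (kI (swI j i)) (swA j a) = pf (kI i) a := by decide +kernel

theorem kI_ne : ∀ i, kI i ≠ 0 := by decide +kernel

theorem co_pick : ∀ i i' : Fin 4, i ≠ i' → ∃ a, co a i = 0 ∧ co a i' = 1 := by decide +kernel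

theorem co_cA : ∀ i : Fin 4, co cA i = if i = 3 then 0 else 1 := by decide +kernel

theorem herm_wt : ∀ c : V, herm c c = 0 ↔ ((wt c : ℕ) : ZMod 2) = 0 := by decide +kernel

theorem herm_det : ∀ h h' : F4, h + star h = h' + star h' → F4.w * h + star (F4.w * h) = F4.w * h' + star (F4.w * h') →
    h = h' := by decide +kernel

namespace Rep

variable {M : Type w} [AddCommGroup M] [Module (ZMod 2) M] [Finite M] (R : Rep M)

/-- the polar form -/
def b (x y : M) : ZMod 2 := R.q (x + y) + R.q x + R.q y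

theorem b_comm (x y : M) : R.b x y = R.b y x := by rw [b, b, add_comm x y]; ring

theorem b_add_left (x y u : M) : R.b (x + y) u = R.b x u + R.b y u := R.biadd x y u

theorem b_add_right (x y u : M) : R.b x (y + u) = R.b x y + R.b x u := by
  rw [R.b_comm, R.b_add_left, R.b_comm, R.b_comm x u]

theorem b_zero_right (x : M) : R.b x 0 = 0 := by
  rw [b, add_zero, R.q_zero, add_zero, CharTwo.add_self_eq_zero]

theorem b_sum_right {ι : Type*} (x : M) (s : Finset ι) (f : ι → M) : R.b x (∑ i ∈ s, f i) = ∑ i ∈ s, R.b x (f i) :=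
  map_sum ({ toFun := R.b x, map_zero' := R.b_zero_right x, map_add' := R.b_add_right x } : M →+ ZMod 2) f s

theorem b_act (g : L) (x y : M) : R.b (R.ρ g x) (R.ρ g y) = R.b x y := by
  rw [b, ← R.add, R.q_act, R.q_act, R.q_act, b]

theorem piece_dg (a : A3) {k : Fin 14} {x : M} (hx : x ∈ R.piece k) : R.ρ (dg a) x ∈ R.piece k := by
  rw [mem_piece, ← R.S_dl, S_conv]
  conv_rhs => rw [← hx, S_conv]
  exact R.S_congr (fun c => by
    simp only [conv]
    exact Fintype.sum_equiv (Equiv.subLeft c) _ _ fun a => by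
      simp only [Equiv.subLeft_apply, sub_sub_cancel, mul_comm]) x

variable (hA : (∀ k : Fin 14, 1 ≤ (k : ℕ) → (k : ℕ) ≤ 4 → (R.piece k).ncard = 4) ∧
      ∀ k : Fin 14, ((k : ℕ) = 0 ∨ 5 ≤ (k : ℕ)) → (R.piece k).ncard = 1)
include hA

theorem other_zero {k : Fin 14} (hk : (k : ℕ) = 0 ∨ 5 ≤ (k : ℕ)) {x : M} (hx : x ∈ R.piece k) : x = 0 := by
  obtain ⟨v, hv⟩ := Set.ncard_eq_one.mp (hA.2 k hk)
  have h := R.zero_mem k
  rw [hv, Set.mem_singleton_iff] at h hx
  rw [hx, h]

/-- the four components -/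
theorem four_sum (x : M) : ∑ i, R.S (pf (kI i)) x = x := by
  conv_rhs => rw [← R.sum_proj x]
  have h0 : ∀ k : Fin 14, ((k : ℕ) = 0 ∨ 5 ≤ (k : ℕ)) → R.S (pf k) x = 0 :=
    fun k hk => R.other_zero hA hk (R.proj_mem k x)
  rw [← Finset.sum_subset (s₁ := Finset.univ.image kI) (Finset.subset_univ _) fun k _ hk => h0 k ?_,
    Finset.sum_image (fun a _ b _ h => (by decide +kernel : Function.Injective kI) h)]
  revert hk
  revert k
  decide +kernel

/-- the scalar -/
def Ω (x : M) : M := ∑ i, R.ρ (dg (aI i)) (R.S (pf (kI i)) x)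

omit hA in
theorem Ω_add (x y : M) : R.Ω (x + y) = R.Ω x + R.Ω y := by
  simp only [Ω, R.S_add, R.add, Finset.sum_add_distrib]

omit hA in
theorem Ω_piece {i : Fin 4} {x : M} (hx : x ∈ R.piece (kI i)) : R.Ω x = R.ρ (dg (aI i)) x := by
  rw [Ω, Finset.sum_eq_single i (fun j _ hj => ?_) (fun h => absurd (Finset.mem_univ i) h), hx]
  rw [R.proj_other (fun e => hj ((by decide +kernel : Function.Injective kI) e)) hx, R.ρ_zero]

omit hA in
theorem Ω_of_co {i : Fin 4} {a : A3} (ha : co a i = 1) {x : M} (hx : x ∈ R.piece (kI i)) :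
    R.Ω x = R.ρ (dg a) x := by
  rw [R.Ω_piece hx]
  have e : aI i = a + (aI i - a) := by abel
  rw [e, dg_add, R.mul, R.fixed (k := kI i) ?_ hx]
  have h := co_add a (aI i - a) i
  rw [← e, aI_co, ha] at h
  rw [fn_kI]
  exact left_eq_add.mp h

omit hA in
theorem Ω_mem {i : Fin 4} {x : M} (hx : x ∈ R.piece (kI i)) : R.Ω x ∈ R.piece (kI i) := by
  rw [R.Ω_piece hx]
  exact R.piece_dg _ hx

omit hA in
theorem Ω_sq {i : Fin 4} {x : M} (hx : x ∈ R.piece (kI i)) : R.Ω (R.Ω x) = R.ρ (dg (aI i + aI i)) x := by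
  rw [R.Ω_piece (R.Ω_mem hx), R.Ω_piece hx, dg_add, R.mul]

omit hA in
theorem Ω_ne {i : Fin 4} {x : M} (hx : x ∈ R.piece (kI i)) (hx0 : x ≠ 0) : R.Ω x ≠ x := fun e => by
  rw [R.Ω_piece hx] at e
  exact hx0 (R.free (kI_ne i) (by rw [fn_kI, aI_co]; decide) hx e)

omit hA in
theorem Ω_cube {i : Fin 4} {x : M} (hx : x ∈ R.piece (kI i)) : R.Ω (R.Ω (R.Ω x)) = x := by
  rw [R.Ω_piece (R.Ω_mem (R.Ω_mem hx)), R.Ω_sq hx, ← R.mul, ← dg_add, ← add_assoc, three_smul', dg_zero, R.one]

omit hA in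
theorem Ω_three {i : Fin 4} {x : M} (hx : x ∈ R.piece (kI i)) : x + R.Ω x + R.Ω (R.Ω x) = 0 := by
  obtain ⟨s, hs⟩ : ∃ s, s = x + R.Ω x + R.Ω (R.Ω x) := ⟨_, rfl⟩
  have hsm : s ∈ R.piece (kI i) := hs ▸ R.add_mem (R.add_mem hx (R.Ω_mem hx)) (R.Ω_mem (R.Ω_mem hx))
  rw [← hs]
  by_contra h0
  refine R.Ω_ne hsm h0 ?_
  rw [hs, R.Ω_add, R.Ω_add, R.Ω_cube hx]
  abel

/-- each piece has four elements -/
theorem piece_four {i : Fin 4} {x y : M} (hx : x ∈ R.piece (kI i)) (hx0 : x ≠ 0) (hy : y ∈ R.piece (kI i)) :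
    y = 0 ∨ y = x ∨ y = R.Ω x ∨ y = R.Ω (R.Ω x) := by
  classical
  have h4 := hA.1 (kI i) (kI_range i).1 (kI_range i).2
  have hx1 := R.Ω_mem hx
  have hx2 := R.Ω_mem hx1
  have n1 : R.Ω x ≠ 0 := fun e => hx0 (by rw [← R.Ω_cube hx, e]; simp [Ω, R.S_zero, R.ρ_zero])
  have n2 : R.Ω (R.Ω x) ≠ 0 := fun e => hx0 (by rw [← R.Ω_cube hx, e]; simp [Ω, R.S_zero, R.ρ_zero])
  have hsub : (({0, x, R.Ω x, R.Ω (R.Ω x)} : Finset M) : Set M) ⊆ R.piece (kI i) := by
    intro v hv
    simp only [Finset.coe_insert, Finset.coe_singleton, Set.mem_insert_iff, Set.mem_singleton_iff] at hv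
    rcases hv with rfl | rfl | rfl | rfl
    exacts [R.zero_mem _, hx, hx1, hx2]
  have d1 : x ≠ R.Ω x := fun e => R.Ω_ne hx hx0 e.symm
  have d2 : R.Ω x ≠ R.Ω (R.Ω x) := fun e => R.Ω_ne hx1 n1 e.symm
  have d3 : x ≠ R.Ω (R.Ω x) := fun e => R.Ω_ne hx2 n2 (by rw [R.Ω_cube hx]; exact e)
  have hc : (({0, x, R.Ω x, R.Ω (R.Ω x)} : Finset M) : Set M).ncard = 4 := by
    rw [Set.ncard_coe_finset, Finset.card_insert_of_notMem (by simp [Ne.symm hx0, Ne.symm n1, Ne.symm n2]),
      Finset.card_insert_of_notMem (by simp [d1, d3]), Finset.card_insert_of_notMem (by simp [d2]),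
      Finset.card_singleton]
  have heq := Set.eq_of_subset_of_ncard_le hsub (by rw [hc, h4]) (Set.toFinite _)
  rw [← heq] at hy
  simpa using hy

omit hA in
theorem orth {i i' : Fin 4} (h : i ≠ i') {x y : M} (hx : x ∈ R.piece (kI i)) (hy : y ∈ R.piece (kI i')) :
    R.b x y = 0 := by
  obtain ⟨a, ha, ha'⟩ : ∃ a, co a i = 0 ∧ co a i' = 1 := co_pick i i' h
  have key : ∀ u ∈ R.piece (kI i'), R.b x (R.Ω u) = R.b x u := fun u hu => by
    rw [R.Ω_of_co ha' hu]
    conv_lhs => rw [← R.fixed (k := kI i) (b := a) (by rw [fn_kI]; exact ha) hx]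
    rw [R.b_act]
  have h3 := congrArg (R.b x) (R.Ω_three hy)
  rw [R.b_add_right, R.b_add_right, key _ (R.Ω_mem hy), key _ hy, R.b_zero_right, CharTwo.add_self_eq_zero,
    zero_add] at h3
  exact h3

theorem q_piece {i : Fin 4} {x : M} (hx : x ∈ R.piece (kI i)) (hx0 : x ≠ 0) : R.q x = 1 := by
  obtain ⟨y, hy⟩ := R.nondeg x hx0
  change R.b x y = 1 at hy
  rw [← R.four_sum hA y, R.b_sum_right,
    Finset.sum_eq_single i (fun j _ hj => R.orth hj.symm hx (R.proj_mem _ _)) (fun h => absurd (Finset.mem_univ i) h)]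
    at hy
  obtain ⟨v, hv⟩ : ∃ v, v = R.S (pf (kI i)) y := ⟨_, rfl⟩
  rw [← hv] at hy
  have q1 : R.q (R.Ω x) = R.q x := by rw [R.Ω_piece hx, R.q_act]
  have q2 : R.q (R.Ω (R.Ω x)) = R.q x := by rw [R.Ω_sq hx, R.q_act]
  have s2 : x + R.Ω x = R.Ω (R.Ω x) := by
    have h := R.Ω_three hx
    calc x + R.Ω x = x + R.Ω x + (R.Ω (R.Ω x) + R.Ω (R.Ω x)) := by rw [R.self_add, add_zero]
      _ = R.Ω (R.Ω x) := by rw [← add_assoc, h, zero_add]
  have key : ∀ a : ZMod 2, a + a + a = 1 → a = 1 := by decide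
  refine key _ ?_
  rcases R.piece_four hA hx hx0 (hv ▸ R.proj_mem _ y) with e | e | e | e
  · rw [e, R.b_zero_right] at hy
    exact absurd hy (by decide)
  · rw [e, b, R.self_add, R.q_zero, zero_add, CharTwo.add_self_eq_zero] at hy
    exact absurd hy (by decide)
  · rw [e, b, s2, q1, q2] at hy
    exact hy
  · rw [e, b, show x + R.Ω (R.Ω x) = R.Ω x by
      rw [← s2, ← add_assoc, R.self_add, zero_add], q1, q2] at hy
    exact hy

theorem cA_fixed {x : M} (h : R.ρ (dg cA) x = x) : x ∈ R.piece (kI 3) := by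
  have hz : ∀ i : Fin 4, i ≠ 3 → R.S (pf (kI i)) x = 0 := by
    intro i hi
    refine R.free (k := kI i) (kI_ne i) (b := cA) (by rw [fn_kI, co_cA, if_neg hi]; decide)
      (R.proj_mem _ x) ?_
    conv_rhs => rw [← h]
    rw [← R.S_dl, ← R.S_dl, S_conv, S_conv]
    exact R.S_congr (fun c => by
      simp only [conv]
      exact Fintype.sum_equiv (Equiv.subLeft c) _ _ fun a => by
        simp only [Equiv.subLeft_apply, sub_sub_cancel, mul_comm]) x
  have h' := R.four_sum hA x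
  rw [Finset.sum_eq_single (3 : Fin 4) (fun i _ hi => hz i hi) (fun h => absurd (Finset.mem_univ _) h)] at h'
  exact h'

/-- the elements commuting with the scalar -/
def linK : Subgroup L where
  carrier := {g | ∀ x, R.ρ g (R.Ω x) = R.Ω (R.ρ g x)}
  one_mem' x := by rw [R.one, R.one]
  mul_mem' := fun {g h} hg hh x => by rw [R.mul, hh, hg, R.mul]
  inv_mem' := fun {g} hg x => by
    apply R.ρ_inj g
    rw [R.act_inv, hg, R.act_inv]

theorem linK_of_pieces {g : L} (h : ∀ i, ∀ x ∈ R.piece (kI i), R.ρ g (R.Ω x) = R.Ω (R.ρ g x)) :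
    g ∈ R.linK := by
  intro x
  rw [← R.four_sum hA x]
  have e : ∀ f : Fin 4 → M, R.Ω (∑ i, f i) = ∑ i, R.Ω (f i) := fun f =>
    map_sum ({ toFun := R.Ω, map_zero' := by simp [Ω, R.S_zero, R.ρ_zero], map_add' := R.Ω_add } : M →+ M) f _
  rw [e, R.ρ_sum, R.ρ_sum, e]
  exact Finset.sum_congr rfl fun i _ => h i _ (R.proj_mem _ x)

theorem linK_top : R.linK = ⊤ := by
  refine generated (fun a => R.linK_of_pieces hA fun i x hx => ?_) (fun j => R.linK_of_pieces hA fun i x hx => ?_)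
    (R.linK_of_pieces hA fun i x hx => ?_)
  · rw [R.Ω_piece hx, R.Ω_piece (R.piece_dg a hx), ← R.mul, ← R.mul, ← dg_add, ← dg_add, add_comm]
  · have hmem := R.move_mem (Function.Involutive.bijective (swA_invol j)) (sw_dg j) (kI_swap j i) hx
    rw [R.Ω_of_co (a := swA j (aI i)) (by rw [co_swA, swI_self, aI_co]) hmem, ← R.mul, ← sw_dg, R.mul,
      R.Ω_piece hx]
  · by_cases hi : i = 3
    swap
    · have hcomm : ∀ u, R.ρ kk (R.ρ (dg cA) u) = R.ρ (dg cA) (R.ρ kk u) := fun u => by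
        rw [← R.mul, kk_cA, R.mul]
      rw [R.Ω_of_co (a := cA) (by rw [co_cA, if_neg hi]) hx, hcomm]
      have h3 : R.S (pf (kI 3)) (R.ρ kk x) = 0 := by
        obtain ⟨E, hE⟩ : ∃ E : M → M, ∀ u, E u = u + R.ρ (dg cA) u + R.ρ (dg cA) (R.ρ (dg cA) u) := ⟨_, fun _ => rfl⟩
        have hE3 : ∀ u, E u = R.S (pf (kI 3)) u := by
          intro u
          have hfix : R.ρ (dg cA) (E u) = E u := by
            rw [hE, R.add, R.add, ← R.mul, ← R.mul, ← dg_add, ← dg_add, ← add_assoc, three_smul', dg_zero,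
              R.one]
            abel
          have h := R.cA_fixed hA hfix
          rw [← h, hE, R.S_add, R.S_add, ← R.S_dl, ← R.S_dl, S_conv, S_conv, S_conv]
          have hc : ∀ c, conv (pf (kI 3)) (dl cA) c = pf (kI 3) c := by decide +kernel
          rw [R.S_congr hc, R.S_congr (fun c => show conv (conv (pf (kI 3)) (dl cA)) (dl cA) c = pf (kI 3) c by
            revert c; decide +kernel), R.self_add, zero_add]
        rw [← hE3, hE, ← hcomm, ← hcomm, ← R.add, ← R.add, ← hE, hE3,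
          R.proj_other (fun e => hi ((by decide +kernel : Function.Injective kI) e).symm) hx, R.ρ_zero]
      have e : ∀ f : Fin 4 → M, R.Ω (∑ i, f i) = ∑ i, R.Ω (f i) := fun f =>
        map_sum ({ toFun := R.Ω, map_zero' := by simp [Ω, R.S_zero, R.ρ_zero], map_add' := R.Ω_add } : M →+ M) f _
      conv_lhs => rw [← R.four_sum hA (R.ρ kk x), R.ρ_sum]
      conv_rhs => rw [← R.four_sum hA (R.ρ kk x), e]
      refine Finset.sum_congr rfl fun j _ => ?_
      by_cases hj : j = 3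
      · subst hj
        rw [h3, R.ρ_zero]
        simp [Ω, R.S_zero, R.ρ_zero]
      · exact (R.Ω_of_co (by rw [co_cA, if_neg hj]) (R.proj_mem _ _)).symm
    subst hi
    by_cases hx0 : x = 0
    · rw [hx0, show R.Ω 0 = 0 by simp [Ω, R.S_zero, R.ρ_zero], R.ρ_zero,
        show R.Ω 0 = 0 by simp [Ω, R.S_zero, R.ρ_zero]]
    have hkm : ∀ u ∈ R.piece (kI 3), R.ρ kk u ∈ R.piece (kI 3) := fun u hu => R.cA_fixed hA (by
      rw [← R.mul, ← kk_cA, R.mul, R.fixed (k := kI 3) (b := cA) (by rw [fn_kI]; rfl) hu])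
    have hk3 : ∀ u, R.ρ kk (R.ρ kk (R.ρ kk u)) = u := fun u => by
      rw [← R.mul, ← R.mul, kk_cube, R.one]
    have hinj := R.ρ_inj kk
    have f0 : ∀ u ∈ R.piece (kI 3), u ≠ 0 → R.ρ kk u = u ∨ R.ρ kk u = R.Ω u ∨ R.ρ kk u = R.Ω (R.Ω u) := by
      intro u hu hu0
      rcases R.piece_four hA hu hu0 (hkm u hu) with e | h
      · exact absurd (hinj (e.trans (R.ρ_zero kk).symm)) hu0
      · exact h
    have hx1 := R.Ω_mem hx
    have hx2 := R.Ω_mem hx1
    have n1 : R.Ω x ≠ 0 := fun e => hx0 (by rw [← R.Ω_cube hx, e]; simp [Ω, R.S_zero, R.ρ_zero])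
    have n2 : R.Ω (R.Ω x) ≠ 0 := fun e => hx0 (by rw [← R.Ω_cube hx, e]; simp [Ω, R.S_zero, R.ρ_zero])
    have d3 : x ≠ R.Ω (R.Ω x) := fun e => R.Ω_ne hx2 n2 (by rw [R.Ω_cube hx]; exact e)
    have g1 := f0 _ hx1 n1
    rw [R.Ω_cube hx] at g1
    rcases f0 x hx hx0 with e | e | e
    · rw [e]
      rcases g1 with h | h | h
      · exact h
      · exfalso
        have g2 := f0 _ hx2 n2
        rw [R.Ω_cube hx] at g2
        rcases g2 with h' | h' | h'
        · exact R.Ω_ne hx1 n1 (hinj (h'.trans h.symm))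
        · exact d3 (hinj (e.trans h'.symm))
        · have h'' := hk3 (R.Ω x)
          rw [h, h', h] at h''
          exact R.Ω_ne hx1 n1 h''
      · exact absurd (hinj (h.trans e.symm)) (R.Ω_ne hx hx0)
    · rw [e]
      rcases g1 with h | h | h
      · exact absurd (hinj (h.trans e.symm)) (R.Ω_ne hx hx0)
      · exact h
      · exfalso
        have h'' := hk3 x
        rw [e, h, e] at h''
        exact R.Ω_ne hx hx0 h''
    · rw [e, R.Ω_cube hx]
      rcases g1 with h | h | h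
      · exfalso
        have g2 := f0 _ hx2 n2
        rw [R.Ω_cube hx] at g2
        rcases g2 with h' | h' | h'
        · exact d3 (hinj (e.trans h'.symm))
        · have h'' := hk3 x
          rw [e, h', e] at h''
          exact d3 h''.symm
        · exact R.Ω_ne hx1 n1 (hinj (h'.trans h.symm))
      · exact absurd (hinj (h.trans e.symm)) (R.Ω_ne hx hx0)
      · exact h

/-- scalars -/
def sc (c : F4) (x : M) : M :=
  if c = 0 then 0 else if c = F4.w then R.Ω x else if c = F4.v then R.Ω (R.Ω x) else x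

omit hA in
theorem sc_w (c : F4) {i : Fin 4} {x : M} (hx : x ∈ R.piece (kI i)) : R.sc (F4.w * c) x = R.Ω (R.sc c x) := by
  rcases F4_cases c with rfl | rfl | rfl | rfl
  · simp [sc, Ω, R.S_zero, R.ρ_zero]
  · simp [sc, show F4.w ≠ 0 by decide, show (1 : F4) ≠ 0 by decide, show (1 : F4) ≠ F4.w by decide,
      show (1 : F4) ≠ F4.v by decide]
  · simp [sc, show F4.w * F4.w = F4.v by decide, show F4.w ≠ 0 by decide, show F4.v ≠ 0 by decide,
      show F4.v ≠ F4.w by decide]
  · simp [sc, show F4.w * F4.v = 1 by decide, show F4.v ≠ 0 by decide, show F4.v ≠ F4.w by decide,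
      show (1 : F4) ≠ 0 by decide, show (1 : F4) ≠ F4.w by decide, show (1 : F4) ≠ F4.v by decide, R.Ω_cube hx]

omit hA in
theorem sc_add (c d : F4) {i : Fin 4} {x : M} (hx : x ∈ R.piece (kI i)) :
    R.sc (c + d) x = R.sc c x + R.sc d x := by
  have h := R.Ω_three hx
  have e1 : x + R.Ω x = R.Ω (R.Ω x) := by
    calc x + R.Ω x = x + R.Ω x + (R.Ω (R.Ω x) + R.Ω (R.Ω x)) := by rw [R.self_add, add_zero]
      _ = R.Ω (R.Ω x) := by rw [← add_assoc, h, zero_add]
  have e2 : x + R.Ω (R.Ω x) = R.Ω x := by rw [← e1, ← add_assoc, R.self_add, zero_add]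
  have e3 : R.Ω x + R.Ω (R.Ω x) = x := by rw [← e1, add_left_comm, R.self_add, add_zero]
  rcases F4_cases c with rfl | rfl | rfl | rfl <;> rcases F4_cases d with rfl | rfl | rfl | rfl <;>
    simp [sc, show F4.w ≠ 0 by decide, show F4.v ≠ 0 by decide, show F4.v ≠ F4.w by decide,
      show (1 : F4) ≠ 0 by decide, show (1 : F4) ≠ F4.w by decide, show (1 : F4) ≠ F4.v by decide,
      show (1 : F4) + 1 = 0 by decide, show (1 : F4) + F4.w = F4.v by decide, show (1 : F4) + F4.v = F4.w by decide,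
      show F4.w + 1 = F4.v by decide, show F4.w + F4.w = 0 by decide, show F4.w + F4.v = 1 by decide,
      show F4.v + 1 = F4.w by decide, show F4.v + F4.w = 1 by decide, show F4.v + F4.v = 0 by decide,
      R.self_add, e1, e2, e3, add_comm (R.Ω x) x, add_comm (R.Ω (R.Ω x)) x, add_comm (R.Ω (R.Ω x)) (R.Ω x)]

omit hA in
theorem sc_mem (c : F4) {i : Fin 4} {x : M} (hx : x ∈ R.piece (kI i)) : R.sc c x ∈ R.piece (kI i) := by
  rw [sc]
  split_ifs
  exacts [R.zero_mem _, R.Ω_mem hx, R.Ω_mem (R.Ω_mem hx), hx]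

/-- the space is the Hermitian space with a linear action -/
theorem model : ∃ φ : M ≃+ V, (∀ g, ∃ f : Equiv.Perm V, Lin f ∧ ∀ x, φ (R.ρ g x) = f (φ x)) ∧
    ∀ x, (R.q x = 0 ↔ herm (φ x) (φ x) = 0) := by
  classical
  have hne : ∀ i, ∃ x ∈ R.piece (kI i), x ≠ 0 := fun i => by
    by_contra hno
    push Not at hno
    have h4 := hA.1 (kI i) (kI_range i).1 (kI_range i).2
    rw [show R.piece (kI i) = {0} from Set.eq_singleton_iff_unique_mem.mpr ⟨R.zero_mem _, hno⟩,
      Set.ncard_singleton] at h4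
    omega
  choose e he he0 using hne
  obtain ⟨ψ, hψ⟩ : ∃ ψ : V → M, ∀ c, ψ c = ∑ i, R.sc (c i) (e i) := ⟨_, fun _ => rfl⟩
  have hadd : ∀ c d, ψ (c + d) = ψ c + ψ d := fun c d => by
    simp only [hψ, Pi.add_apply, R.sc_add _ _ (he _), Finset.sum_add_distrib]
  have hz : ∀ c i, R.sc c (e i) = 0 → c = 0 := by
    intro c i h
    rcases F4_cases c with rfl | rfl | rfl | rfl
    · rfl
    all_goals exfalso; refine he0 i ?_
    · simpa [sc, show (1 : F4) ≠ 0 by decide, show (1 : F4) ≠ F4.w by decide, show (1 : F4) ≠ F4.v by decide] using h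
    · simp [sc, show F4.w ≠ 0 by decide] at h
      rw [← R.Ω_cube (he i), h]; simp [Ω, R.S_zero, R.ρ_zero]
    · simp [sc, show F4.v ≠ 0 by decide, show F4.v ≠ F4.w by decide] at h
      rw [← R.Ω_cube (he i), h]; simp [Ω, R.S_zero, R.ρ_zero]
  have hproj : ∀ c i, R.S (pf (kI i)) (ψ c) = R.sc (c i) (e i) := fun c i => by
    rw [hψ, R.S_sum, Finset.sum_eq_single i (fun j _ hj => R.proj_other
      (fun e' => hj ((by decide +kernel : Function.Injective kI) e').symm) (R.sc_mem _ (he j)))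
      (fun h => absurd (Finset.mem_univ i) h)]
    exact R.sc_mem _ (he i)
  let ψh : V →+ M := AddMonoidHom.mk' ψ hadd
  have hinj : Function.Injective ψh := (injective_iff_map_eq_zero ψh).mpr fun c hc => funext fun i => by
    refine hz _ i ?_
    rw [← hproj, show ψ c = 0 from hc, R.S_zero]
  have hbij : Function.Bijective ψh := by
    refine ⟨hinj, fun x => ?_⟩
    have hs : Function.Bijective ψ := by
      haveI : Finite M := inferInstance
      have : Nat.card V = Nat.card M := by rw [card_V, R.card]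
      exact (Nat.bijective_iff_injective_and_card ψ).mpr ⟨hinj, this⟩
    exact hs.2 x
  let φ : M ≃+ V := (AddEquiv.ofBijective ψh hbij).symm
  have hφψ : ∀ c, φ (ψ c) = c := fun c => (AddEquiv.ofBijective ψh hbij).symm_apply_apply c
  have hψφ : ∀ x, ψ (φ x) = x := fun x => (AddEquiv.ofBijective ψh hbij).apply_symm_apply x
  have hq : ∀ c, R.q (ψ c) = ((wt c : ℕ) : ZMod 2) := by
    intro c
    obtain ⟨Q', hQ'⟩ : ∃ Q' : Finset (Fin 4) → M, ∀ s, Q' s = ∑ i ∈ s, R.sc (c i) (e i) := ⟨_, fun _ => rfl⟩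
    have main : ∀ s : Finset (Fin 4), R.q (Q' s) = ((s.filter fun i => c i ≠ 0).card : ZMod 2) := by
      intro s
      induction s using Finset.induction with
      | empty => simp [hQ', R.q_zero]
      | insert j s hj ih =>
        have ho : R.b (R.sc (c j) (e j)) (Q' s) = 0 := by
          rw [hQ', R.b_sum_right]
          exact Finset.sum_eq_zero fun i hi => R.orth (fun e' => hj (by rw [e']; exact hi)) (R.sc_mem _ (he j))
            (R.sc_mem _ (he i))
        rw [hQ', Finset.sum_insert hj, ← hQ' s]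
        have h2 : R.q (R.sc (c j) (e j) + Q' s) = R.q (R.sc (c j) (e j)) + R.q (Q' s) := by
          have key : ∀ a b c : ZMod 2, a + b + c = 0 → a = b + c := by decide
          exact key _ _ _ ho
        rw [h2, ih, Finset.filter_insert]
        by_cases hc : c j = 0
        · simp [hc, sc, R.q_zero]
        · rw [if_pos hc, Finset.card_insert_of_notMem (by simp [hj]), Nat.cast_succ,
            R.q_piece hA (R.sc_mem _ (he j)) (fun e' => hc (hz _ j e'))]
          ring
    rw [show ψ c = Q' Finset.univ by rw [hψ, hQ'], main]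
    rfl
  refine ⟨φ, fun g => ?_, fun x => ?_⟩
  · let f : Equiv.Perm V :=
      { toFun := fun c => φ (R.ρ g (ψ c))
        invFun := fun c => φ (R.ρ g⁻¹ (ψ c))
        left_inv := fun c => by simp only [hψφ, R.inv_act, hφψ]
        right_inv := fun c => by simp only [hψφ, R.act_inv, hφψ] }
    have fadd : ∀ x y, f (x + y) = f x + f y := fun x y => by
      show φ (R.ρ g (ψ (x + y))) = φ (R.ρ g (ψ x)) + φ (R.ρ g (ψ y))
      rw [hadd, R.add, map_add]
    have hΩψ : ∀ c : V, ψ (F4.w • c) = R.Ω (ψ c) := fun c => by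
      have e' : R.Ω (∑ i, R.sc (c i) (e i)) = ∑ i, R.Ω (R.sc (c i) (e i)) :=
        map_sum ({ toFun := R.Ω, map_zero' := by simp [Ω, R.S_zero, R.ρ_zero], map_add' := R.Ω_add } : M →+ M) _ _
      rw [hψ, hψ, e']
      exact Finset.sum_congr rfl fun i _ => R.sc_w _ (he i)
    have fw : ∀ x, f (F4.w • x) = F4.w • f x := fun x => by
      have hg : g ∈ R.linK := by rw [R.linK_top hA]; exact Subgroup.mem_top g
      show φ (R.ρ g (ψ (F4.w • x))) = F4.w • φ (R.ρ g (ψ x))
      rw [hΩψ, hg, ← hψφ (R.ρ g (ψ x)), ← hΩψ, hφψ, hψφ]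
    have fsmul : ∀ (c : F4) x, f (c • x) = c • f x := by
      intro c x
      rcases F4_cases c with rfl | rfl | rfl | rfl
      · rw [zero_smul, zero_smul]
        have h := fadd 0 0
        rw [add_zero] at h
        exact left_eq_add.mp h
      · rw [one_smul, one_smul]
      · exact fw x
      · rw [show F4.v = F4.w * F4.w by decide, mul_smul, mul_smul, fw, fw]
    have fq : ∀ x, herm (f x) (f x) = herm x x := fun x => by
      have h : R.q (ψ (f x)) = R.q (ψ x) := by
        show R.q (ψ (φ (R.ρ g (ψ x)))) = _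
        rw [hψφ, R.q_act]
      rw [hq, hq] at h
      rcases q_cases x with e' | e' <;> rcases q_cases (f x) with e'' | e'' <;> rw [e', e'']
      · rw [(herm_wt x).mp e'] at h
        exact absurd ((herm_wt _).mpr h) (by rw [e'']; decide)
      · rw [(herm_wt (f x)).mp e''] at h
        exact absurd ((herm_wt _).mpr h.symm) (by rw [e']; decide)
    have fB : ∀ x y, CHZ.B (f x) (f y) = CHZ.B x y := fun x y => by
      have h := fq (x + y)
      rw [fadd, q_add, q_add, fq, fq] at h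
      exact add_left_cancel h
    refine ⟨f, ⟨fadd, fsmul, fun x y => ?_⟩, fun x => ?_⟩
    · have h1 := fB x y
      have h2 := fB x (F4.w • y)
      rw [fsmul] at h2
      rw [B_eq, B_eq] at h1 h2
      rw [herm_smul_right, herm_smul_right] at h2
      exact herm_det _ _ h1 h2
    · show φ (R.ρ g x) = φ (R.ρ g (ψ (φ x)))
      rw [hψφ]
  · rw [herm_wt, ← hq, hψφ]

end Rep

end Cfsg.Agent.Spor.CHZ
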