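import Cfsg.Agent.Lib.Spor.CHZ.CaseA
import Mathlib.LinearAlgebra.BilinearForm.Orthogonal
import Mathlib.FieldTheory.Finiteness

/-!
Orthogonal complements in the quadratic space.
-/

set_option autoImplicit false
set_option linter.unusedSectionVars false

namespace Cfsg.Agent.Spor.CHZ.Rep

universe w

variable {M : Type w} [AddCommGroup M] [Module (ZMod 2) M] [Finite M] (R : Rep M)

theorem b_zero_left (x : M) : R.b 0 x = 0 := by rw [R.b_comm, R.b_zero_right]

theorem b_smul_left (c : ZMod 2) (x y : M) : R.b (c • x) y = c • R.b x y := by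
  rcases (show ∀ c : ZMod 2, c = 0 ∨ c = 1 by decide) c with rfl | rfl
  · rw [zero_smul, zero_smul, R.b_zero_left]
  · rw [one_smul, one_smul]

theorem b_smul_right (c : ZMod 2) (x y : M) : R.b x (c • y) = c • R.b x y := by
  rw [R.b_comm, R.b_smul_left, R.b_comm]

theorem b_self (x : M) : R.b x x = 0 := by
  rw [b, R.self_add, R.q_zero, zero_add, CharTwo.add_self_eq_zero]

/-- the polar form as a bilinear form -/
def bform : LinearMap.BilinForm (ZMod 2) M :=
  LinearMap.mk₂ (ZMod 2) R.b R.b_add_left R.b_smul_left R.b_add_right R.b_smul_right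

/-- the orthogonal complement -/
def perp (H : AddSubgroup M) : AddSubgroup M where
  carrier := {x | ∀ h ∈ H, R.b h x = 0}
  zero_mem' := fun h _ => R.b_zero_right h
  add_mem' := fun {x y} hx hy h hh => by rw [R.b_add_right, hx h hh, hy h hh, add_zero]
  neg_mem' := fun {x} hx h hh => by
    have e : -x = x := neg_eq_of_add_eq_zero_left (R.self_add x)
    rw [e]
    exact hx h hh

theorem mem_perp {H : AddSubgroup M} {x : M} : x ∈ R.perp H ↔ ∀ h ∈ H, R.b h x = 0 := Iff.rfl

/-- the orders multiply to the order of the space -/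
theorem card_perp (H : AddSubgroup M) : Nat.card H * Nat.card (R.perp H) = 256 := by
  haveI : Fact (Nat.Prime 2) := ⟨Nat.prime_two⟩
  haveI : Module.Finite (ZMod 2) M := Module.Finite.of_finite
  let H' : Submodule (ZMod 2) M := AddSubgroup.toZModSubmodule 2 H
  have h := LinearMap.BilinForm.finrank_add_finrank_orthogonal (B := R.bform)
    (fun x y e => by show R.b y x = 0; rw [R.b_comm]; exact e) H'
  have htop : R.bform.orthogonal ⊤ = ⊥ := by
    rw [eq_bot_iff]
    intro x hx
    rw [Submodule.mem_bot]
    by_contra h0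
    obtain ⟨y, hy⟩ := R.nondeg x h0
    have e : R.b y x = 0 := hx y Submodule.mem_top
    rw [R.b_comm] at e
    exact one_ne_zero (hy.symm.trans e)
  rw [htop, inf_bot_eq, finrank_bot, add_zero] at h
  have hM : Nat.card M = 2 ^ Module.finrank (ZMod 2) M := by
    rw [Module.natCard_eq_pow_finrank (K := ZMod 2), Nat.card_zmod]
  have h1 : Nat.card H = 2 ^ Module.finrank (ZMod 2) H' := by
    show Nat.card H' = _
    rw [Module.natCard_eq_pow_finrank (K := ZMod 2), Nat.card_zmod]
  have h2 : Nat.card (R.perp H) = 2 ^ Module.finrank (ZMod 2) (R.bform.orthogonal H') := by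
    show Nat.card (R.bform.orthogonal H') = _
    rw [Module.natCard_eq_pow_finrank (K := ZMod 2), Nat.card_zmod]
  rw [h1, h2, ← pow_add, h, ← hM, R.card]

/-- a totally isotropic subgroup has at most sixteen elements -/
theorem isotropic_le {H : AddSubgroup M} (hH : ∀ x ∈ H, ∀ y ∈ H, R.b x y = 0) : Nat.card H ≤ 16 := by
  have h := R.card_perp H
  have hle : Nat.card H ≤ Nat.card (R.perp H) :=
    AddSubgroup.card_le_of_le fun x hx h hh => hH h hh x hx
  nlinarith

end Cfsg.Agent.Spor.CHZ.Rep
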