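import Cfsg.Agent.Lib.Spor.CHZ.Core
import Cfsg.Agent.Lib.Spor.CHZ.Perp

/-!
Tools for a centraliser with its extraspecial subgroup: images, vectors of subgroups, conjugates.
-/

set_option autoImplicit false
set_option linter.unusedSectionVars false

namespace Cfsg.Agent.Spor.CHZ.Core

open Cfsg.Agent.Spor.SpFour Cfsg.Agent.Small.Unitary

universe w

variable {G : Type w} [Group G] [Finite G] {z : G} (K : Core z)

/-- the image of an element of the centraliser -/
noncomputable def img (c : G) : L :=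
  haveI := _root_.Classical.dec (c ∈ Subgroup.centralizer ({z} : Set G))
  if h : c ∈ Subgroup.centralizer ({z} : Set G) then K.ψ ⟨c, h⟩ else 1

theorem img_eq {c : G} (hc : Commute c z) :
    K.img c = K.ψ ⟨c, Subgroup.mem_centralizer_singleton_iff.mpr hc.eq⟩ := dif_pos _

theorem img_mul {c d : G} (hc : Commute c z) (hd : Commute d z) : K.img (c * d) = K.img c * K.img d := by
  rw [K.img_eq hc, K.img_eq hd, K.img_eq (hc.mul_left hd), ← map_mul]
  rfl

theorem img_one : K.img (1 : G) = 1 := by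
  rw [K.img_eq (Commute.one_left z)]
  exact map_one K.ψ

theorem img_inv {c : G} (hc : Commute c z) : K.img c⁻¹ = (K.img c)⁻¹ := by
  rw [K.img_eq hc, K.img_eq hc.inv_left, ← map_inv]
  rfl

theorem img_eq_one {c : G} (hc : Commute c z) : K.img c = 1 ↔ c ∈ K.Q := by
  rw [K.img_eq hc]
  exact K.ψ_ker _

theorem img_Q {x : G} (hx : x ∈ K.Q) : K.img x = 1 := (K.img_eq_one (K.cent x hx)).mpr hx

theorem img_surj (g : L) : ∃ c, Commute c z ∧ K.img c = g := by
  obtain ⟨c, hc⟩ := K.ψ_surj g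
  exact ⟨c, Subgroup.mem_centralizer_singleton_iff.mp c.2,
    (K.img_eq (c := (c : G)) (Subgroup.mem_centralizer_singleton_iff.mp c.2)).trans hc⟩

theorem act_vec {c x : G} (hc : Commute c z) (hx : x ∈ K.Q) :
    K.toRep.ρ (K.img c) (K.vec x) = K.vec (c * x * c⁻¹) := by
  rw [K.img_eq hc]
  exact K.ρ_vec _ hx

theorem vec_inv {x : G} (hx : x ∈ K.Q) : K.vec x⁻¹ = K.vec x := by
  have h := K.vec_mul (K.Q.inv_mem hx) hx
  rw [inv_mul_cancel, K.vec_one] at h
  calc K.vec x⁻¹ = K.vec x⁻¹ + (K.vec x + K.vec x) := by rw [K.add_self_Sp, add_zero]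
    _ = K.vec x := by rw [← add_assoc, ← h, zero_add]

theorem vec_eq_zero {x : G} (hx : x ∈ K.Q) : K.vec x = 0 ↔ x = 1 ∨ x = z := by
  rw [← K.vec_one, eq_comm, K.vec_iff K.Q.one_mem hx, one_mul]

theorem b_zero {x y : G} (hx : x ∈ K.Q) (hy : y ∈ K.Q) : K.toRep.b (K.vec x) (K.vec y) = 0 ↔ Commute x y :=
  K.polar hx hy

/-- commutators with an element of the subgroup -/
theorem conj_cases {y x : G} (hy : y ∈ K.Q) (hx : x ∈ K.Q) : y * x * y⁻¹ = x ∨ y * x * y⁻¹ = x * z := by
  rcases K.comm y hy x hx with e | e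
  · exact Or.inl (mul_inv_eq_one.mp e)
  · exact Or.inr (by rw [mul_inv_eq_iff_eq_mul.mp e, (K.cent x hx).symm.eq])

/-- the image of a subgroup -/
noncomputable def image (E : Subgroup G) (hle : E ≤ Subgroup.centralizer ({z} : Set G)) : Subgroup L :=
  (K.ψ.comp (Subgroup.inclusion hle)).range

theorem mem_image {E : Subgroup G} {hle : E ≤ Subgroup.centralizer ({z} : Set G)} {g : L} :
    g ∈ K.image E hle ↔ ∃ c ∈ E, K.img c = g := by
  constructor
  · rintro ⟨⟨c, hc⟩, h⟩
    exact ⟨c, hc, by rw [← h, K.img_eq (Subgroup.mem_centralizer_singleton_iff.mp (hle hc))]; rfl⟩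
  · rintro ⟨c, hc, h⟩
    exact ⟨⟨c, hc⟩, by rw [← h, K.img_eq (Subgroup.mem_centralizer_singleton_iff.mp (hle hc))]; rfl⟩

theorem card_image (E : Subgroup G) (hle : E ≤ Subgroup.centralizer ({z} : Set G)) :
    Nat.card (K.image E hle) * Nat.card ↥(E ⊓ K.Q) = Nat.card E := by
  have h := (K.ψ.comp (Subgroup.inclusion hle)).ker.card_mul_index
  rw [Subgroup.index_ker] at h
  have e : Nat.card (K.ψ.comp (Subgroup.inclusion hle)).ker = Nat.card ↥(E ⊓ K.Q) := Nat.card_congr
    { toFun := fun x => ⟨((x : E) : G), (x : E).2, (K.ψ_ker _).mp x.2⟩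
      invFun := fun x => ⟨⟨x, x.2.1⟩, (K.ψ_ker (Subgroup.inclusion hle ⟨x, x.2.1⟩)).mpr x.2.2⟩
      left_inv := fun _ => rfl
      right_inv := fun _ => rfl }
  rw [e] at h
  rw [mul_comm]
  exact h

theorem isPGroup_Q : IsPGroup 2 K.Q := IsPGroup.of_card (n := 9) (by rw [K.card]; norm_num)

theorem isPGroup_image {E : Subgroup G} {hle : E ≤ Subgroup.centralizer ({z} : Set G)} (hE : IsPGroup 2 E) :
    IsPGroup 2 (K.image E hle) :=
  hE.of_surjective _ (MonoidHom.rangeRestrict_surjective _)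

/-- the vectors of a subgroup -/
noncomputable def vecS (E : Subgroup G) (hle : E ≤ K.Q) : AddSubgroup K.Sp :=
  Subgroup.toAddSubgroup ((QuotientGroup.mk' K.N).comp (Subgroup.inclusion hle)).range

theorem mem_vecS {E : Subgroup G} {hle : E ≤ K.Q} {v : K.Sp} : v ∈ K.vecS E hle ↔ ∃ x ∈ E, K.vec x = v := by
  constructor
  · rintro ⟨⟨x, hx⟩, h⟩
    exact ⟨x, hx, by rw [K.vec_eq (hle hx)]; exact congrArg Additive.ofMul h⟩
  · rintro ⟨x, hx, h⟩
    exact ⟨⟨x, hx⟩, by rw [← h, K.vec_eq (hle hx)]; rfl⟩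

theorem card_vecS (E : Subgroup G) (hle : E ≤ K.Q) :
    Nat.card (K.vecS E hle) * Nat.card ↥(E ⊓ Subgroup.zpowers z) = Nat.card E := by
  have h := ((QuotientGroup.mk' K.N).comp (Subgroup.inclusion hle)).ker.card_mul_index
  rw [Subgroup.index_ker] at h
  have hk : ∀ x : E, x ∈ ((QuotientGroup.mk' K.N).comp (Subgroup.inclusion hle)).ker ↔
      (x : G) ∈ Subgroup.zpowers z := fun x => by
    rw [MonoidHom.mem_ker, MonoidHom.comp_apply, QuotientGroup.mk'_apply, QuotientGroup.eq_one_iff, N,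
      Subgroup.mem_subgroupOf]
    rfl
  have e : Nat.card ((QuotientGroup.mk' K.N).comp (Subgroup.inclusion hle)).ker =
      Nat.card ↥(E ⊓ Subgroup.zpowers z) := Nat.card_congr
    { toFun := fun x => ⟨((x : E) : G), (x : E).2, (hk _).mp x.2⟩
      invFun := fun x => ⟨⟨x, x.2.1⟩, (hk _).mpr x.2.2⟩
      left_inv := fun _ => rfl
      right_inv := fun _ => rfl }
  rw [e] at h
  rw [mul_comm]
  exact h

include K in
theorem card_zpowers : Nat.card (Subgroup.zpowers z) = 2 := by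
  rw [Nat.card_zpowers]
  exact orderOf_eq_prime (by rw [pow_two]; exact K.z2) K.z1

theorem card_vecS_of_mem {E : Subgroup G} (hle : E ≤ K.Q) (hz : z ∈ E) :
    Nat.card (K.vecS E hle) * 2 = Nat.card E := by
  rw [← K.card_zpowers, ← K.card_vecS E hle, inf_eq_right.mpr (Subgroup.zpowers_le.mpr hz)]

theorem card_vecS_of_not_mem {E : Subgroup G} (hle : E ≤ K.Q) (hz : z ∉ E) :
    Nat.card (K.vecS E hle) = Nat.card E := by
  have hbot : E ⊓ Subgroup.zpowers z = ⊥ := by
    refine (Subgroup.eq_bot_iff_forall _).mpr fun x hx => ?_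
    obtain ⟨k, hk⟩ := Subgroup.mem_zpowers_iff.mp hx.2
    rcases Int.even_or_odd' k with ⟨j, rfl | rfl⟩
    · rw [← hk, zpow_mul, zpow_two, K.z2, one_zpow]
    · rw [zpow_add, zpow_mul, zpow_two, K.z2, one_zpow, one_mul, zpow_one] at hk
      exact absurd (hk ▸ hx.1) hz
  have h := K.card_vecS E hle
  rw [hbot, Subgroup.card_bot, mul_one] at h
  exact h

/-- the elements whose vectors lie in a given subgroup -/
noncomputable def pre (H : AddSubgroup K.Sp) : Subgroup G where
  carrier := {x | x ∈ K.Q ∧ K.vec x ∈ H}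
  one_mem' := ⟨K.Q.one_mem, K.vec_one ▸ H.zero_mem⟩
  mul_mem' := fun {x y} hx hy => ⟨K.Q.mul_mem hx.1 hy.1, by rw [K.vec_mul hx.1 hy.1]; exact H.add_mem hx.2 hy.2⟩
  inv_mem' := fun {x} hx => ⟨K.Q.inv_mem hx.1, by rw [K.vec_inv hx.1]; exact hx.2⟩

theorem pre_le (H : AddSubgroup K.Sp) : K.pre H ≤ K.Q := fun _ hx => hx.1

theorem card_pre (H : AddSubgroup K.Sp) : Nat.card (K.pre H) = Nat.card H * 2 := by
  have e : K.vecS (K.pre H) (K.pre_le H) = H := by
    refine AddSubgroup.ext fun v => ⟨fun hv => ?_, fun hv => ?_⟩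
    · obtain ⟨x, hx, rfl⟩ := K.mem_vecS.mp hv
      exact hx.2
    · obtain ⟨x, hx, rfl⟩ := K.vec_surj v
      exact K.mem_vecS.mpr ⟨x, ⟨hx, hv⟩, rfl⟩
  have h := K.card_vecS_of_mem (K.pre_le H) ⟨K.zQ, by rw [(K.vec_eq_zero K.zQ).mpr (Or.inr rfl)]; exact H.zero_mem⟩
  rw [e] at h
  exact h.symm

/-- the centraliser of a noncentral element in the subgroup -/
theorem cent_half {x : G} (hx : x ∈ K.Q) (h1 : x ≠ 1) (h2 : x ≠ z) :
    Nat.card (K.toRep.perp (AddSubgroup.zmultiples (K.vec x))) = 128 ∧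
      (K.Q ⊓ Subgroup.centralizer ({x} : Set G) = K.pre (K.toRep.perp (AddSubgroup.zmultiples (K.vec x)))) := by
  have hv : K.vec x ≠ 0 := fun e => by
    rcases (K.vec_eq_zero hx).mp e with h | h
    exacts [h1 h, h2 h]
  have hord : addOrderOf (K.vec x) = 2 := addOrderOf_eq_prime (by rw [two_nsmul]; exact K.add_self_Sp _) hv
  constructor
  · have h := K.toRep.card_perp (AddSubgroup.zmultiples (K.vec x))
    rw [Nat.card_zmultiples, hord] at h
    omega
  · refine Subgroup.ext fun y => ⟨fun hy => ⟨hy.1, fun h hh => ?_⟩, fun hy => ⟨hy.1, ?_⟩⟩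
    · obtain ⟨k, rfl⟩ := AddSubgroup.mem_zmultiples_iff.mp hh
      have hb : K.toRep.b (K.vec x) (K.vec y) = 0 :=
        (K.b_zero hx hy.1).mpr (Subgroup.mem_centralizer_singleton_iff.mp hy.2 : y * x = x * y).symm
      rcases Int.even_or_odd' k with ⟨j, rfl | rfl⟩
      · rw [mul_comm, mul_zsmul, two_zsmul, K.add_self_Sp, zsmul_zero]
        exact K.toRep.b_zero_left _
      · rw [add_zsmul, mul_comm, mul_zsmul, two_zsmul, K.add_self_Sp, zsmul_zero, one_zsmul, zero_add]
        exact hb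
    · exact Subgroup.mem_centralizer_singleton_iff.mpr
        ((K.b_zero hx hy.1).mp (hy.2 _ (AddSubgroup.mem_zmultiples _))).symm.eq

theorem card_cent_mem {x : G} (hx : x ∈ K.Q) (h1 : x ≠ 1) (h2 : x ≠ z) :
    Nat.card ↥(K.Q ⊓ Subgroup.centralizer ({x} : Set G)) = 256 := by
  obtain ⟨h, e⟩ := K.cent_half hx h1 h2
  rw [e, K.card_pre, h]

/-- the same structure at a conjugate -/
noncomputable def conj (g : G) : Core (g * z * g⁻¹) :=
  have hm : ∀ c : ↥(Subgroup.centralizer ({g * z * g⁻¹} : Set G)),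
      g⁻¹ * (c : G) * g ∈ Subgroup.centralizer ({z} : Set G) := fun c => by
    have h := Subgroup.mem_centralizer_singleton_iff.mp c.2
    rw [Subgroup.mem_centralizer_singleton_iff]
    calc g⁻¹ * (c : G) * g * z = g⁻¹ * ((c : G) * (g * z * g⁻¹)) * g := by group
      _ = g⁻¹ * (g * z * g⁻¹ * c) * g := by rw [h]
      _ = z * (g⁻¹ * c * g) := by group
  { Q := K.Q.map (MulAut.conj g).toMonoidHom
    ψ := K.ψ.comp
      { toFun := fun c => ⟨g⁻¹ * (c : G) * g, hm c⟩
        map_one' := Subtype.ext (by show g⁻¹ * 1 * g = 1; group)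
        map_mul' := fun a c => Subtype.ext (by
          show g⁻¹ * ((a : G) * c) * g = g⁻¹ * a * g * (g⁻¹ * c * g); group) }
    ψ_surj := fun l => by
      obtain ⟨d, hd⟩ := K.ψ_surj l
      refine ⟨⟨g * d * g⁻¹, ?_⟩, ?_⟩
      · have h := Subgroup.mem_centralizer_singleton_iff.mp d.2
        rw [Subgroup.mem_centralizer_singleton_iff]
        calc g * (d : G) * g⁻¹ * (g * z * g⁻¹) = g * ((d : G) * z) * g⁻¹ := by group
          _ = g * (z * d) * g⁻¹ := by rw [h]
          _ = g * z * g⁻¹ * (g * d * g⁻¹) := by group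
      · rw [← hd]
        exact congrArg K.ψ (Subtype.ext (by show g⁻¹ * (g * d * g⁻¹) * g = d; group))
    ψ_ker := fun c => by
      rw [MonoidHom.comp_apply, K.ψ_ker]
      show g⁻¹ * (c : G) * g ∈ K.Q ↔ _
      rw [Subgroup.mem_map_equiv, MulAut.conj_symm_apply]
    z1 := fun e => K.z1 (conj_eq_one_iff.mp e)
    z2 := by rw [show g * z * g⁻¹ * (g * z * g⁻¹) = g * (z * z) * g⁻¹ by group, K.z2]; group
    cent := by
      rintro _ ⟨x, hx, rfl⟩
      exact (K.cent x hx).map (MulAut.conj g).toMonoidHom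
    normal := by
      rintro c hc _ ⟨x, hx, rfl⟩
      have hc' : Commute (g⁻¹ * c * g) z := by
        have := hc.map (MulAut.conj g⁻¹).toMonoidHom
        simpa [mul_assoc] using this
      exact ⟨_, K.normal _ hc' x hx, by simp [mul_assoc]⟩
    zQ := ⟨z, K.zQ, rfl⟩
    card := by rw [Subgroup.card_map_of_injective (MulAut.conj g).injective, K.card]
    comm := by
      rintro _ ⟨x, hx, rfl⟩ _ ⟨y, hy, rfl⟩
      rw [← map_inv, ← map_inv, ← map_mul, ← map_mul, ← map_mul]
      rcases K.comm x hx y hy with e | e <;> rw [e]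
      exacts [Or.inl (map_one _), Or.inr rfl]
    sq := by
      rintro _ ⟨x, hx, rfl⟩
      rw [← map_mul]
      rcases K.sq x hx with e | e <;> rw [e]
      exacts [Or.inl (map_one _), Or.inr rfl]
    center := by
      rintro _ ⟨x, hx, rfl⟩ h
      have := K.center x hx fun y hy => by
        have h' := h _ ⟨y, hy, rfl⟩
        exact (MulAut.conj g).injective (by simpa only [map_mul, MulEquiv.coe_toMonoidHom] using h'.eq)
      rcases this with e | e <;> rw [e]
      exacts [Or.inl (map_one _), Or.inr rfl]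
    self := fun c hc h => by
      refine ⟨g⁻¹ * c * g, K.self _ ?_ fun x hx => ?_, by simp [mul_assoc]⟩
      · have := hc.map (MulAut.conj g⁻¹).toMonoidHom
        simpa [mul_assoc] using this
      · have := (h _ ⟨x, hx, rfl⟩).map (MulAut.conj g⁻¹).toMonoidHom
        simpa [mul_assoc] using this }

end Cfsg.Agent.Spor.CHZ.Core
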