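import Cfsg.Agent.Lib.Spor.CHZ.NoLarge
import Cfsg.Agent.Lib.Spor.CHZ.CoreTools

/-!
A fixed plane and three planes: the involution has no other conjugate in its centraliser.
-/

set_option autoImplicit false
set_option linter.unusedSectionVars false
set_option maxHeartbeats 1600000

namespace Cfsg.Agent.Spor.CHZ.Core

open Cfsg.Agent.Spor.SpFour Cfsg.Agent.Small.Unitary

universe w

set_option synthInstance.maxSize 2000 in
theorem half_key : ∀ m < 7, 64 ≤ 2 * 2 ^ m → 2 ^ m ≠ 64 → 2 ^ m = 32 := by decide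

variable {G : Type w} [Group G] [Finite G] {z t : G}

/-- a commuting second involution is not in the subgroup of the first -/
theorem not_mem (K : Core z) (hB : K.toRep.CaseB) (T : Core t) (hne : t ≠ z) : t ∉ K.Q := by
  classical
  intro htQ
  have htz : Commute t z := K.cent t htQ
  have hv0 : K.vec t ≠ 0 := fun e => by
    rcases (K.vec_eq_zero htQ).mp e with h | h
    exacts [T.z1 h, hne h]
  obtain ⟨E0, hE0⟩ : ∃ E0 : Subgroup G, E0 = K.Q ⊓ Subgroup.centralizer ({t} : Set G) := ⟨_, rfl⟩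
  have hE0c : E0 ≤ Subgroup.centralizer ({t} : Set G) := hE0 ▸ inf_le_right
  have hE0Q : E0 ≤ K.Q := hE0 ▸ inf_le_left
  have hmemE0 : ∀ {y}, y ∈ K.Q → Commute y t → y ∈ E0 := fun hy hc =>
    hE0 ▸ ⟨hy, Subgroup.mem_centralizer_singleton_iff.mpr hc.eq⟩
  have hcard0 : Nat.card E0 = 256 := hE0 ▸ K.card_cent_mem htQ T.z1 hne
  have hD : E0 ⊓ T.Q = K.Q ⊓ T.Q :=
    le_antisymm (inf_le_inf_right _ hE0Q) fun x hx => ⟨hmemE0 hx.1 (T.cent x hx.2), hx.2⟩
  have hcomm_t : ∀ {y}, y ∈ E0 → Commute y t := fun hy =>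
    Subgroup.mem_centralizer_singleton_iff.mp (hE0c hy)
  by_cases hz : z ∈ T.Q
  · -- the meet is large
    obtain ⟨F0, hF0⟩ : ∃ F0 : Subgroup G, F0 = T.Q ⊓ Subgroup.centralizer ({z} : Set G) := ⟨_, rfl⟩
    have hF0c : F0 ≤ Subgroup.centralizer ({z} : Set G) := hF0 ▸ inf_le_right
    have hcard1 : Nat.card F0 = 256 := hF0 ▸ T.card_cent_mem hz K.z1 hne.symm
    have hD1 : F0 ⊓ K.Q = K.Q ⊓ T.Q := by
      rw [hF0]
      exact le_antisymm (fun x hx => ⟨hx.2, hx.1.1⟩) fun x hx =>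
        ⟨⟨hx.2, Subgroup.mem_centralizer_singleton_iff.mpr (K.cent x hx.1).eq⟩, hx.1⟩
    have hel : Nat.card (K.image F0 hF0c) ≤ 16 := by
      refine Two.elementary_le (K.isPGroup_image (T.isPGroup_Q.to_le (hF0 ▸ inf_le_left))) fun x hx => ?_
      obtain ⟨c, hc, rfl⟩ := K.mem_image.mp hx
      have hcz : Commute c z := Subgroup.mem_centralizer_singleton_iff.mp (hF0c hc)
      rw [← K.img_mul hcz hcz]
      refine K.img_Q ?_
      rcases T.sq c ((hF0 ▸ inf_le_left : F0 ≤ T.Q) hc) with e | e <;> rw [e]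
      exacts [K.Q.one_mem, htQ]
    have hprod := K.card_image F0 hF0c
    rw [hD1, hcard1] at hprod
    have hdis : ∀ {a : G}, a = 1 ∨ a = z → a = 1 ∨ a = t → a = 1 := fun {a} h h' => by
      rcases h with h | h
      · exact h
      · exact h'.resolve_right fun e => hne (e.symm.trans h)
    have hsing : ∀ x ∈ K.Q ⊓ T.Q, x * x = 1 := fun x hx => hdis (K.sq x hx.1) (T.sq x hx.2)
    have hDK : K.Q ⊓ T.Q ≤ K.Q := inf_le_left
    have hE := K.card_vecS_of_mem hDK ⟨K.zQ, hz⟩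
    refine K.toRep.no_large hB (K.vecS _ hDK) (fun v hv => ?_) (by nlinarith)
      (K.mem_vecS.mpr ⟨t, ⟨htQ, T.zQ⟩, rfl⟩) hv0 fun g hg v hv => ?_
    · obtain ⟨x, hx, rfl⟩ := K.mem_vecS.mp hv
      exact (K.sqv_vec hx.1).mpr (hsing x hx)
    · obtain ⟨x, hx, rfl⟩ := K.mem_vecS.mp hv
      obtain ⟨c, hcz, rfl⟩ := K.img_surj g
      rw [K.act_vec hcz htQ] at hg
      obtain ⟨c', hc'z, hc't, hc'img⟩ : ∃ c', Commute c' z ∧ c' * t * c'⁻¹ = t ∧ K.img c' = K.img c := by
        rcases (K.vec_iff (K.normal c hcz t htQ) htQ).mp hg with e | e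
        · exact ⟨c, hcz, e.symm, rfl⟩
        · obtain ⟨y, hy, hyt⟩ : ∃ y ∈ K.Q, ¬ Commute t y := by
            by_contra hall
            push Not at hall
            rcases K.center t htQ hall with h | h
            exacts [T.z1 h, hne h]
          have hyt' : y * t * y⁻¹ = t * z :=
            (K.conj_cases hy htQ).resolve_left fun h => hyt (mul_inv_eq_iff_eq_mul.mp h).symm
          refine ⟨y * c, (K.cent y hy).mul_left hcz, ?_, by rw [K.img_mul (K.cent y hy) hcz, K.img_Q hy, one_mul]⟩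
          have e' : c * t * c⁻¹ = t * z := by
            conv_rhs => rw [e, mul_assoc, K.z2, mul_one]
          calc y * c * t * (y * c)⁻¹ = y * (c * t * c⁻¹) * y⁻¹ := by group
            _ = y * t * y⁻¹ * (y * z * y⁻¹) := by rw [e']; group
            _ = t := by rw [hyt', (K.cent y hy).eq, mul_inv_cancel_right, mul_assoc, K.z2, mul_one]
      rw [← hc'img, K.act_vec hc'z hx.1]
      exact K.mem_vecS.mpr ⟨_, ⟨K.normal c' hc'z x hx.1, T.normal c' (mul_inv_eq_iff_eq_mul.mp hc't) x hx.2⟩, rfl⟩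
  · -- the meet is central and small
    obtain ⟨H, hH⟩ : ∃ H, H = K.toRep.perp (AddSubgroup.zmultiples (K.vec t)) := ⟨_, rfl⟩
    obtain ⟨hHcard, hHpre⟩ := K.cent_half htQ T.z1 hne
    rw [← hH] at hHcard hHpre
    rw [← hE0] at hHpre
    have hP2 : Nat.card (K.toRep.perp H) = 2 := by
      have h := K.toRep.card_perp H
      rw [hHcard] at h
      omega
    have hDle : ∀ d ∈ K.Q ⊓ T.Q, d = 1 ∨ d = t := by
      intro d hd
      have hcomm : ∀ y ∈ E0, Commute y d := fun y hy => by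
        rcases K.comm y (hE0Q hy) d hd.1 with e | e
        · exact mul_inv_eq_iff_eq_mul.mp (mul_inv_eq_one.mp e)
        · exact absurd (e ▸ T.Q.mul_mem (T.normal y (hcomm_t hy) d hd.2) (T.Q.inv_mem hd.2)) hz
      have hperp : ∀ {x}, x ∈ K.Q → (∀ y ∈ E0, Commute y x) → K.vec x ∈ K.toRep.perp H := fun {x} hx hxc h hh => by
        obtain ⟨y, hy, rfl⟩ := K.vec_surj h
        exact (K.b_zero hy hx).mpr (hxc y (by rw [hHpre]; exact ⟨hy, hh⟩))
      have hdv : K.vec d = 0 ∨ K.vec d = K.vec t := by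
        by_contra hh
        push Not at hh
        have h3 : 3 ≤ (K.toRep.perp H : Set K.Sp).ncard := by
          refine le_trans ?_ (Set.ncard_le_ncard (s := (({0, K.vec t, K.vec d} : Finset K.Sp) : Set K.Sp)) ?_)
          · rw [Set.ncard_coe_finset, Finset.card_insert_of_notMem (by simp [Ne.symm hv0, Ne.symm hh.1]),
              Finset.card_insert_of_notMem (by simp [Ne.symm hh.2]), Finset.card_singleton]
          · intro v hv
            simp only [Finset.coe_insert, Finset.coe_singleton, Set.mem_insert_iff, Set.mem_singleton_iff] at hv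
            rcases hv with rfl | rfl | rfl
            exacts [AddSubgroup.zero_mem _, hperp htQ fun y hy => hcomm_t hy, hperp hd.1 hcomm]
        rw [← Nat.card_coe_set_eq] at h3
        exact absurd (hP2 ▸ h3) (by norm_num)
      rcases hdv with e | e
      · exact ((K.vec_eq_zero hd.1).mp e).imp id fun e' => absurd (e' ▸ hd.2) hz
      · rcases (K.vec_iff hd.1 htQ).mp e with e' | e'
        · exact Or.inr e'.symm
        · refine absurd ?_ hz
          rw [show z = d⁻¹ * t by rw [e']; group]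
          exact T.Q.mul_mem (T.Q.inv_mem hd.2) T.zQ
    have hprod := T.card_image E0 hE0c
    rw [hD, hcard0, show K.Q ⊓ T.Q = Subgroup.zpowers t from le_antisymm (fun d hd => by
      rcases hDle d hd with rfl | rfl
      exacts [one_mem _, Subgroup.mem_zpowers _]) (Subgroup.zpowers_le.mpr ⟨htQ, T.zQ⟩), T.card_zpowers] at hprod
    have hdvd : Nat.card (T.image E0 hE0c) ∣ 25920 :=
      (Classical.UFourTwo.card_su (F := F4) hF).1 ▸ Subgroup.card_subgroup_dvd_card _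
    rw [show Nat.card (T.image E0 hE0c) = 128 by omega] at hdvd
    norm_num at hdvd

/-- the theorem -/
theorem no_commuting_conjugate {z₀ : G} (hall : ∀ x, IsConj z₀ x → ∃ K : Core x, K.toRep.CaseB) {z t : G}
    (hz₀ : IsConj z₀ z) (ht₀ : IsConj z₀ t) (htz : Commute t z) (hne : t ≠ z) : False := by
  classical
  -- no conjugate in the subgroup of another
  have noQ : ∀ {x y : G} (X : Core x), X.toRep.CaseB → IsConj z₀ y → y ∈ X.Q → y = x := by
    intro x y X hX hy hyQ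
    by_contra hyx
    obtain ⟨Y, -⟩ := hall y hy
    exact X.not_mem hX Y hyx hyQ
  have no_td : ∀ {x d : G} (X : Core x), X.toRep.CaseB → d ∈ X.Q → d ≠ 1 → IsConj z₀ (d * x) → False := by
    intro x d X hX hd hd1 h
    exact hd1 (mul_eq_right.mp (noQ X hX h (X.Q.mul_mem hd X.zQ)))
  have moved : ∀ {x y : G} (X : Core x), IsConj z₀ y → Commute y x → IsConj z₀ (x * y) → ∀ {u : G}, u ∈ X.Q →
      X.vec u ∈ (X.toRep.dI (X.img y)).range → IsConj z₀ (u * y) := by
    intro x y X hy hyx hxy u hu hr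
    obtain ⟨v, hv⟩ := hr
    obtain ⟨c, hc, rfl⟩ := X.vec_surj v
    rw [X.toRep.dI_apply, ← X.vec_inv hc, X.act_vec hyx (X.Q.inv_mem hc), X.vec_inv hc,
      ← X.vec_mul hc (X.normal y hyx _ (X.Q.inv_mem hc))] at hv
    rcases (X.vec_iff (X.Q.mul_mem hc (X.normal y hyx _ (X.Q.inv_mem hc))) hu).mp hv with e | e <;> rw [e]
    · rw [show c * (y * c⁻¹ * y⁻¹) * y = c * y * c⁻¹ by group]
      exact hy.trans (isConj_iff.mpr ⟨c, rfl⟩)
    · refine hxy.trans (isConj_iff.mpr ⟨c, ?_⟩)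
      have hc' : Commute (c * (y * c⁻¹ * y⁻¹)) x :=
        (X.cent c hc).mul_left (X.cent _ (X.normal y hyx _ (X.Q.inv_mem hc)))
      rw [hc'.eq]
      calc c * (x * y) * c⁻¹ = c * x * (y * c⁻¹) := by group
        _ = x * c * (y * c⁻¹) := by rw [(X.cent c hc).eq]
        _ = x * (c * (y * c⁻¹ * y⁻¹)) * y := by group
  -- vectors fixed by a second involution are centralised by it
  have fixed_comm : ∀ {x y : G} (X : Core x) (Y : Core y), X.toRep.CaseB → Y.toRep.CaseB → IsConj z₀ x →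
      IsConj z₀ y → Commute y x → y ≠ x → ∀ u ∈ X.Q, X.toRep.ρ (X.img y) (X.vec u) = X.vec u → Commute y u := by
    intro x y X Y hX hY hx hy hyx hyne u hu hfix
    by_contra hnc
    rw [X.act_vec hyx hu] at hfix
    have hyu : y * u * y⁻¹ = u * x := by
      rcases (X.vec_iff (X.normal y hyx u hu) hu).mp hfix with e | e
      · exact absurd (mul_inv_eq_iff_eq_mul.mp e.symm) hnc
      · conv_rhs => rw [e, mul_assoc, X.z2, mul_one]
    have hxy : IsConj z₀ (x * y) := hy.trans (isConj_iff.mpr ⟨u⁻¹, by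
      calc u⁻¹ * y * u⁻¹⁻¹ = u⁻¹ * (y * u * y⁻¹) * y := by group
        _ = x * y := by rw [hyu]; group⟩)
    have hyQ : y ∉ X.Q := fun h => hyne (noQ X hX hy h)
    have hxQ : x ∉ Y.Q := fun h => hyne (noQ Y hY hx h).symm
    have hi1 : X.img y ≠ 1 := fun h => hyQ ((X.img_eq_one hyx).mp h)
    have hi2 : X.img y * X.img y = 1 := by rw [← X.img_mul hyx hyx, Y.z2, X.img_one]
    obtain ⟨hR, hF64, ⟨s, hs, hs0, hsq⟩, hperp⟩ := X.toRep.involution_facts hX hi2 hi1
    obtain ⟨E0, hE0⟩ : ∃ E0 : Subgroup G, E0 = X.Q ⊓ Subgroup.centralizer ({y} : Set G) := ⟨_, rfl⟩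
    have hE0c : E0 ≤ Subgroup.centralizer ({y} : Set G) := hE0 ▸ inf_le_right
    have hE0Q : E0 ≤ X.Q := hE0 ▸ inf_le_left
    have hcy : ∀ {a}, a ∈ E0 → Commute a y := fun ha => Subgroup.mem_centralizer_singleton_iff.mp (hE0c ha)
    have hmemE0 : ∀ {a}, a ∈ X.Q → Commute a y → a ∈ E0 := fun ha hc =>
      hE0 ▸ ⟨ha, Subgroup.mem_centralizer_singleton_iff.mpr hc.eq⟩
    have hxE0 : x ∈ E0 := hmemE0 X.zQ hyx.symm
    obtain ⟨H, hH⟩ : ∃ H, H = X.vecS E0 hE0Q := ⟨_, rfl⟩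
    have hHF : H ≤ (X.toRep.dI (X.img y)).ker := by
      intro v hv
      obtain ⟨a, ha, rfl⟩ := X.mem_vecS.mp (hH ▸ hv)
      rw [X.toRep.mem_ker_dI, X.act_vec hyx (hE0Q ha), (hcy ha).symm.eq, mul_inv_cancel_right]
    have huF : X.vec u ∈ (X.toRep.dI (X.img y)).ker := by
      rw [X.toRep.mem_ker_dI, X.act_vec hyx hu]; exact hfix
    have huH : X.vec u ∉ H := fun h => by
      obtain ⟨a, ha, e⟩ := X.mem_vecS.mp (hH ▸ h)
      rcases (X.vec_iff (hE0Q ha) hu).mp e with e' | e'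
      · exact hnc (e' ▸ (hcy ha).symm)
      · exact hnc (e' ▸ (hcy ha).symm.mul_right hyx)
    have hH32 : Nat.card H = 32 := by
      have hdvd : Nat.card H ∣ 64 := hF64 ▸ AddSubgroup.card_dvd_of_le hHF
      have hne64 : Nat.card H ≠ 64 := fun h => huH (by
        rw [AddSubgroup.eq_of_le_of_card_ge hHF (by rw [h, hF64])]; exact huF)
      -- every fixed vector is in the subgroup or in one coset
      have hle : Nat.card (X.toRep.dI (X.img y)).ker ≤ 2 * Nat.card H := by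
        have hcos : ∀ f ∈ (X.toRep.dI (X.img y)).ker, f ∈ H ∨ X.vec u + f ∈ H := by
          intro f hf
          obtain ⟨a, ha, rfl⟩ := X.vec_surj f
          rw [X.toRep.mem_ker_dI, X.act_vec hyx ha] at hf
          rcases (X.vec_iff (X.normal y hyx a ha) ha).mp hf with e | e
          · exact Or.inl (hH ▸ X.mem_vecS.mpr ⟨a, hmemE0 ha (mul_inv_eq_iff_eq_mul.mp e.symm).symm, rfl⟩)
          · refine Or.inr (hH ▸ X.mem_vecS.mpr ⟨u * a, hmemE0 (X.Q.mul_mem hu ha) ?_, X.vec_mul hu ha⟩)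
            have e' : y * a * y⁻¹ = a * x := by conv_rhs => rw [e, mul_assoc, X.z2, mul_one]
            refine (mul_inv_eq_iff_eq_mul.mp ?_).symm
            calc y * (u * a) * y⁻¹ = y * u * y⁻¹ * (y * a * y⁻¹) := by group
              _ = u * (x * a) * x := by rw [hyu, e']; group
              _ = u * a := by rw [← (X.cent a ha).eq, mul_assoc, mul_assoc a, X.z2, mul_one]
        rw [show Nat.card (X.toRep.dI (X.img y)).ker = ((X.toRep.dI (X.img y)).ker : Set X.Sp).ncard from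
          Nat.card_coe_set_eq _, two_mul, show Nat.card H = (H : Set X.Sp).ncard from Nat.card_coe_set_eq _]
        refine le_trans (Set.ncard_le_ncard (t := (H : Set X.Sp) ∪ (fun f => X.vec u + f) '' (H : Set X.Sp))
          fun f hf => ?_) (le_trans (Set.ncard_union_le _ _) (add_le_add_right (Set.ncard_image_le) _))
        rcases hcos f hf with h | h
        · exact Or.inl h
        · refine Or.inr ⟨_, h, ?_⟩
          show X.vec u + (X.vec u + f) = f
          rw [← add_assoc, X.add_self_Sp, zero_add]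
      rw [hF64] at hle
      have : Nat.card H ≤ 64 := Nat.le_of_dvd (by norm_num) hdvd
      obtain ⟨m, hm, e⟩ := (Nat.dvd_prime_pow Nat.prime_two).mp (show Nat.card H ∣ 2 ^ 6 by norm_num; exact hdvd)
      rw [e] at hle hne64 ⊢
      exact half_key m (by omega) hle hne64
    have hE64 : Nat.card E0 = 64 := by rw [← X.card_vecS_of_mem hE0Q hxE0, ← hH, hH32]
    have hperpH : Nat.card (X.toRep.perp H) = 8 := by
      have h := X.toRep.card_perp H
      rw [hH32] at h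
      omega
    have hD : E0 ⊓ Y.Q = X.Q ⊓ Y.Q :=
      le_antisymm (inf_le_inf_right _ hE0Q) fun a ha => ⟨hmemE0 ha.1 (Y.cent a ha.2), ha.2⟩
    have hDQ : X.Q ⊓ Y.Q ≤ X.Q := inf_le_left
    have hDx : x ∉ X.Q ⊓ Y.Q := fun h => hxQ h.2
    have hvec : Nat.card (X.vecS _ hDQ) = Nat.card ↥(X.Q ⊓ Y.Q) := X.card_vecS_of_not_mem hDQ hDx
    have hER : ∀ d ∈ X.Q ⊓ Y.Q, X.vec d ∈ (X.toRep.dI (X.img y)).range → d = 1 := by
      intro d hd hr
      by_contra hd1
      exact no_td Y hY hd.2 hd1 (moved X hy hyx hxy hd.1 hr)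
    have hD2 : Nat.card ↥(X.Q ⊓ Y.Q) ≤ 2 := by
      have hEperp : X.vecS _ hDQ ≤ X.toRep.perp H := by
        intro v hv h hh
        obtain ⟨d, hd, rfl⟩ := X.mem_vecS.mp hv
        obtain ⟨a, ha, rfl⟩ := X.mem_vecS.mp (hH ▸ hh)
        refine (X.b_zero (hE0Q ha) hd.1).mpr ?_
        rcases X.comm a (hE0Q ha) d hd.1 with e | e
        · exact mul_inv_eq_iff_eq_mul.mp (mul_inv_eq_one.mp e)
        · exact absurd (e ▸ Y.Q.mul_mem (Y.normal a (hcy ha) d hd.2) (Y.Q.inv_mem hd.2)) hxQ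
      have hRperp : (X.toRep.dI (X.img y)).range ≤ X.toRep.perp H := by
        intro v hv h hh
        rw [← hperp] at hv
        exact hv h (hHF hh)
      have hinj : Function.Injective (fun p : ↥(X.vecS _ hDQ) × ↥(X.toRep.dI (X.img y)).range =>
          (⟨(p.1 : X.Sp) + p.2, AddSubgroup.add_mem _ (hEperp p.1.2) (hRperp p.2.2)⟩ : X.toRep.perp H)) := by
        intro p p' e
        have e' : (p.1 : X.Sp) + p.2 = p'.1 + p'.2 := congrArg Subtype.val e
        have hmem : (p.1 : X.Sp) + p'.1 = p.2 + p'.2 := by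
          calc (p.1 : X.Sp) + p'.1 = p.1 + p.2 + (p.2 + p'.1) := by
                rw [add_assoc, ← add_assoc (p.2 : X.Sp), X.add_self_Sp, zero_add]
            _ = p.2 + p'.2 := by
                rw [e', add_comm (p.2 : X.Sp) p'.1, ← add_assoc, add_assoc (p'.1 : X.Sp), add_comm (p'.2 : X.Sp),
                  ← add_assoc, X.add_self_Sp, zero_add, add_comm]
        obtain ⟨d, hd, hde⟩ := X.mem_vecS.mp (AddSubgroup.add_mem _ p.1.2 p'.1.2)
        have hd1 := hER d hd (by rw [hde, hmem]; exact AddSubgroup.add_mem _ p.2.2 p'.2.2)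
        rw [hd1, X.vec_one] at hde
        have h1 : (p.1 : X.Sp) = p'.1 := by
          calc (p.1 : X.Sp) = p.1 + (p'.1 + p'.1) := by rw [X.add_self_Sp, add_zero]
            _ = p'.1 := by rw [← add_assoc, ← hde, zero_add]
        rw [h1] at e'
        exact Prod.ext (Subtype.ext h1) (Subtype.ext (add_left_cancel e'))
      have h := Nat.card_le_card_of_injective _ hinj
      rw [Nat.card_prod, hR, hperpH, hvec] at h
      omega
    have hprod := Y.card_image E0 hE0c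
    rw [hD, hE64] at hprod
    have hjP : Y.img x ∈ Y.image E0 hE0c := Y.mem_image.mpr ⟨x, hxE0, rfl⟩
    obtain ⟨-, hcentre, -⟩ := Two.large_two (Y.isPGroup_image (X.isPGroup_Q.to_le hE0Q)) hjP (fun p hp => by
      obtain ⟨a, ha, rfl⟩ := Y.mem_image.mp hp
      rw [← Y.img_mul (hcy ha) (hcy ha)]
      rcases X.sq a (hE0Q ha) with e | e <;> rw [e]
      exacts [Or.inl Y.img_one, Or.inr rfl]) (by
      have : 0 < Nat.card ↥(X.Q ⊓ Y.Q) := Nat.card_pos
      nlinarith)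
    -- a singular commutator vector
    obtain ⟨a, ha, hav⟩ := X.vec_surj s
    have ha2 : a * a = 1 := (X.sqv_vec ha).mp (by rw [hav]; exact hsq)
    have hay : IsConj z₀ (a * y) := moved X hy hyx hxy ha (by rw [hav]; exact hs)
    have hya : Commute a y := by
      obtain ⟨W, -⟩ := hall _ hay
      calc a * y = (a * y)⁻¹ := (inv_eq_of_mul_eq_one_right W.z2).symm
        _ = y * a := by rw [mul_inv_rev, inv_eq_of_mul_eq_one_right Y.z2, inv_eq_of_mul_eq_one_right ha2]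
    have haE0 : a ∈ E0 := hmemE0 ha hya
    have hcen : ∀ q ∈ Y.image E0 hE0c, Y.img a * q = q * Y.img a := by
      intro q hq
      obtain ⟨b, hb, rfl⟩ := Y.mem_image.mp hq
      have hab : Commute a b := by
        refine ((X.b_zero (hE0Q hb) ha).mp ?_).symm
        rw [← hperp] at hs
        rw [hav]
        exact hs _ (hHF (hH ▸ X.mem_vecS.mpr ⟨b, hb, rfl⟩))
      rw [← Y.img_mul hya (hcy hb), ← Y.img_mul (hcy hb) hya, hab.eq]
    rcases hcentre _ (Y.mem_image.mpr ⟨a, haE0, rfl⟩) hcen with e | e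
    · have h1 := hER a ⟨ha, (Y.img_eq_one hya).mp e⟩ (hav ▸ hs)
      exact hs0 (by rw [← hav, h1, X.vec_one])
    · have hax : a * x ∈ Y.Q := (Y.img_eq_one (hya.mul_left hyx.symm)).mp (by
        rw [Y.img_mul hya hyx.symm, e, ← Y.img_mul hyx.symm hyx.symm, X.z2, Y.img_one])
      have hvax : X.vec (a * x) = s := by
        rw [X.vec_mul ha X.zQ, (X.vec_eq_zero X.zQ).mpr (Or.inr rfl), add_zero, hav]
      have h1 := hER _ ⟨X.Q.mul_mem ha X.zQ, hax⟩ (hvax ▸ hs)
      exact hs0 (by rw [← hvax, h1, X.vec_one])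
  -- the two centralisers
  obtain ⟨K, hK⟩ := hall z hz₀
  obtain ⟨T, hT⟩ := hall t ht₀
  have htQ : t ∉ K.Q := fun h => hne (noQ K hK ht₀ h)
  have hzQ : z ∉ T.Q := fun h => hne (noQ T hT hz₀ h).symm
  have hi1 : K.img t ≠ 1 := fun h => htQ ((K.img_eq_one htz).mp h)
  have hi2 : K.img t * K.img t = 1 := by rw [← K.img_mul htz htz, T.z2, K.img_one]
  have hj1 : T.img z ≠ 1 := fun h => hzQ ((T.img_eq_one htz.symm).mp h)
  have hj2 : T.img z * T.img z = 1 := by rw [← T.img_mul htz.symm htz.symm, K.z2, T.img_one]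
  obtain ⟨hR, hF64, ⟨s, hs, hs0, -⟩, hperp⟩ := K.toRep.involution_facts hK hi2 hi1
  obtain ⟨-, -, -, hperp'⟩ := T.toRep.involution_facts hT hj2 hj1
  obtain ⟨E0, hE0⟩ : ∃ E0 : Subgroup G, E0 = K.Q ⊓ Subgroup.centralizer ({t} : Set G) := ⟨_, rfl⟩
  have hE0c : E0 ≤ Subgroup.centralizer ({t} : Set G) := hE0 ▸ inf_le_right
  have hE0Q : E0 ≤ K.Q := hE0 ▸ inf_le_left
  have hct : ∀ {a}, a ∈ E0 → Commute a t := fun ha => Subgroup.mem_centralizer_singleton_iff.mp (hE0c ha)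
  have hmemE0 : ∀ {a}, a ∈ K.Q → Commute a t → a ∈ E0 := fun ha hc =>
    hE0 ▸ ⟨ha, Subgroup.mem_centralizer_singleton_iff.mpr hc.eq⟩
  have hzE0 : z ∈ E0 := hmemE0 K.zQ htz.symm
  have hfixE0 : ∀ a ∈ K.Q, K.toRep.ρ (K.img t) (K.vec a) = K.vec a → a ∈ E0 := fun a ha h =>
    hmemE0 ha (fixed_comm K T hK hT hz₀ ht₀ htz hne a ha h).symm
  have hH : K.vecS E0 hE0Q = (K.toRep.dI (K.img t)).ker := by
    refine AddSubgroup.ext fun v => ⟨fun hv => ?_, fun hv => ?_⟩
    · obtain ⟨a, ha, rfl⟩ := K.mem_vecS.mp hv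
      rw [K.toRep.mem_ker_dI, K.act_vec htz (hE0Q ha), (hct ha).symm.eq, mul_inv_cancel_right]
    · obtain ⟨a, ha, rfl⟩ := K.vec_surj v
      exact K.mem_vecS.mpr ⟨a, hfixE0 a ha (K.toRep.mem_ker_dI.mp hv), rfl⟩
  have hE128 : Nat.card E0 = 128 := by rw [← K.card_vecS_of_mem hE0Q hzE0, hH, hF64]
  have hD : E0 ⊓ T.Q = K.Q ⊓ T.Q :=
    le_antisymm (inf_le_inf_right _ hE0Q) fun a ha => ⟨hmemE0 ha.1 (T.cent a ha.2), ha.2⟩
  have hDQ : K.Q ⊓ T.Q ≤ K.Q := inf_le_left
  have hvec : Nat.card (K.vecS _ hDQ) = Nat.card ↥(K.Q ⊓ T.Q) :=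
    K.card_vecS_of_not_mem hDQ fun h => hzQ h.2
  have hEperp : K.vecS _ hDQ ≤ (K.toRep.dI (K.img t)).range := by
    rw [← hperp]
    intro v hv h hh
    obtain ⟨d, hd, rfl⟩ := K.mem_vecS.mp hv
    obtain ⟨a, ha, rfl⟩ := K.mem_vecS.mp (hH ▸ hh)
    refine (K.b_zero (hE0Q ha) hd.1).mpr ?_
    rcases K.comm a (hE0Q ha) d hd.1 with e | e
    · exact mul_inv_eq_iff_eq_mul.mp (mul_inv_eq_one.mp e)
    · exact absurd (e ▸ T.Q.mul_mem (T.normal a (hct ha) d hd.2) (T.Q.inv_mem hd.2)) hzQ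
  have hD4 : Nat.card ↥(K.Q ⊓ T.Q) ≤ 4 := by
    rw [← hvec, ← hR]
    exact AddSubgroup.card_le_of_le hEperp
  have hprod := T.card_image E0 hE0c
  rw [hD, hE128] at hprod
  have hjP : T.img z ∈ T.image E0 hE0c := T.mem_image.mpr ⟨z, hzE0, rfl⟩
  obtain ⟨hP32, -, g, hg3, hgj, hgP⟩ := Two.large_two (T.isPGroup_image (K.isPGroup_Q.to_le hE0Q)) hjP
    (fun p hp => by
      obtain ⟨a, ha, rfl⟩ := T.mem_image.mp hp
      rw [← T.img_mul (hct ha) (hct ha)]
      rcases K.sq a (hE0Q ha) with e | e <;> rw [e]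
      exacts [Or.inl T.img_one, Or.inr rfl]) (by nlinarith)
  have hER : K.vecS _ hDQ = (K.toRep.dI (K.img t)).range := AddSubgroup.eq_of_le_of_card_ge hEperp (by
    rw [hvec, hR]; rw [hP32] at hprod; omega)
  have hzt : ¬ IsConj z₀ (z * t) := by
    intro h
    obtain ⟨d, hd, hds⟩ := K.mem_vecS.mp (hER.symm ▸ hs)
    exact no_td T hT hd.2 (fun e => hs0 (by rw [← hds, e, K.vec_one]))
      (moved K ht₀ htz h hd.1 (hds ▸ hs))
  -- a lift of the element of order three centralising both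
  obtain ⟨c, hct', hcg⟩ := T.img_surj g
  obtain ⟨z', hz'⟩ : ∃ z', z' = c * z * c⁻¹ := ⟨_, rfl⟩
  have hz'c : IsConj z₀ z' := hz₀.trans (isConj_iff.mpr ⟨c, hz'.symm⟩)
  have hz't : Commute z' t := hz' ▸ (hct'.mul_left htz.symm).mul_left hct'.inv_left
  have hz'img : T.img z' = T.img z := by
    rw [hz', T.img_mul (hct'.mul_left htz.symm) hct'.inv_left, T.img_mul hct' htz.symm, T.img_inv hct', hcg, hgj]
    group
  have hz'ne : z' ≠ t := fun e => hj1 (by rw [← hz'img, e, T.img_Q T.zQ])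
  obtain ⟨q, hq⟩ : ∃ q, q = z * z' := ⟨_, rfl⟩
  have hzinv : z⁻¹ = z := inv_eq_of_mul_eq_one_right K.z2
  have hzq : z' = z * q := by rw [hq, ← mul_assoc, K.z2, one_mul]
  have hqQ : q ∈ T.Q := (T.img_eq_one (hq ▸ htz.symm.mul_left hz't)).mp (by
    rw [hq, T.img_mul htz.symm hz't, hz'img, hj2])
  obtain ⟨Z', hZ'⟩ := hall z' hz'c
  have hqfix : T.toRep.ρ (T.img z) (T.vec q) = T.vec q := by
    rw [T.act_vec htz.symm hqQ, ← T.vec_inv hqQ]
    congr 1
    rw [hq, mul_inv_rev, inv_eq_of_mul_eq_one_right Z'.z2, hzinv]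
    calc z * (z * z') * z = z * z * (z' * z) := by group
      _ = z' * z := by rw [K.z2, one_mul]

  have hqz : Commute z q := fixed_comm T K hT hK ht₀ hz₀ htz.symm hne.symm q hqQ hqfix
  have hqR : T.vec q ∈ (T.toRep.dI (T.img z)).range := by
    rw [← hperp']
    intro h hh
    obtain ⟨b, hb, rfl⟩ := T.vec_surj h
    have h1 := fixed_comm T K hT hK ht₀ hz₀ htz.symm hne.symm b hb (T.toRep.mem_ker_dI.mp hh)
    have h2 := fixed_comm T Z' hT hZ' ht₀ hz'c hz't hz'ne b hb (hz'img ▸ T.toRep.mem_ker_dI.mp hh)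
    refine (T.b_zero hb hqQ).mpr ?_
    rw [hq]
    exact h1.symm.mul_right h2.symm
  obtain ⟨v, hv⟩ := hqR
  obtain ⟨y, hy, rfl⟩ := T.vec_surj v
  rw [T.toRep.dI_apply, ← T.vec_inv hy, T.act_vec htz.symm (T.Q.inv_mem hy), T.vec_inv hy,
    ← T.vec_mul hy (T.normal z htz.symm _ (T.Q.inv_mem hy))] at hv
  have hqz' : z' = q * z := by rw [hzq, hqz.eq]
  rcases (T.vec_iff (T.Q.mul_mem hy (T.normal z htz.symm _ (T.Q.inv_mem hy))) hqQ).mp hv with e | e
  swap
  · refine hzt (hz'c.trans (isConj_iff.mpr ⟨y⁻¹, ?_⟩))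
    rw [hqz', e]
    calc y⁻¹ * (y * (z * y⁻¹ * z⁻¹) * t * z) * y⁻¹⁻¹ = z * y⁻¹ * z⁻¹ * (t * z) * y := by group
      _ = z * (y⁻¹ * t * y) := by rw [htz.eq]; group
      _ = z * t := by rw [mul_assoc y⁻¹, ← (T.cent y hy).eq]; group
  obtain ⟨c', hc'⟩ : ∃ c', c' = y⁻¹ * c := ⟨_, rfl⟩
  have hc't : Commute c' t := hc' ▸ (T.cent y hy).inv_left.mul_left hct'
  have hc'z : Commute c' z := by
    refine mul_inv_eq_iff_eq_mul.mp ?_
    rw [hc', show y⁻¹ * c * z * (y⁻¹ * c)⁻¹ = y⁻¹ * (c * z * c⁻¹) * y by group, ← hz', hqz', e]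
    group
  have hc'g : T.img c' = g := by
    rw [hc', T.img_mul (T.cent y hy).inv_left hct', T.img_Q (T.Q.inv_mem hy), one_mul, hcg]
  -- the fixed plane
  have hUF : ∀ u ∈ K.toRep.piece 0, u ∈ (K.toRep.dI (K.img t)).ker := fun u hu =>
    K.toRep.mem_ker_dI.mpr (K.toRep.fixed_u hK _ hu)
  obtain ⟨u, hu, hnu⟩ := K.toRep.U_not_perp hK _ hUF
  rw [hperp] at hnu
  obtain ⟨a, ha, hau⟩ := K.mem_vecS.mp (hH.symm ▸ hUF u hu)
  refine hnu ?_
  rw [← hER]
  have hfa := K.toRep.fixed_u hK (K.img c') hu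
  rw [← hau, K.act_vec hc'z (hE0Q ha)] at hfa
  have hp : g * T.img a * g⁻¹ = T.img a ∨ g * T.img a * g⁻¹ = T.img a * T.img z := by
    have himg : g * T.img a * g⁻¹ = T.img (c' * a * c'⁻¹) := by
      rw [T.img_mul (hc't.mul_left (hct ha)) hc't.inv_left, T.img_mul hc't (hct ha), T.img_inv hc't, hc'g]
    rw [himg]
    rcases (K.vec_iff (K.normal c' hc'z a (hE0Q ha)) (hE0Q ha)).mp hfa with e' | e'
    · exact Or.inl (congrArg T.img e'.symm)
    · refine Or.inr ?_
      have e2 : c' * a * c'⁻¹ = a * z := by conv_rhs => rw [e', mul_assoc, K.z2, mul_one]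
      rw [e2, T.img_mul (hct ha) htz.symm]
  have hfix : g * T.img a = T.img a * g := by
    rcases hp with h | h
    · exact mul_inv_eq_iff_eq_mul.mp h
    exfalso
    have hgj' : g * T.img z * g⁻¹ = T.img z := mul_inv_eq_iff_eq_mul.mpr hgj
    apply hj1
    have h3 : g * (g * (g * T.img a * g⁻¹) * g⁻¹) * g⁻¹ = T.img a := by
      calc g * (g * (g * T.img a * g⁻¹) * g⁻¹) * g⁻¹ = g * g * g * T.img a * (g * g * g)⁻¹ := by group
        _ = T.img a := by rw [hg3]; group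
    generalize T.img a = p at h h3
    generalize T.img z = j at h hgj' hj2 ⊢
    have step : ∀ k, g * (p * k) * g⁻¹ = p * j * (g * k * g⁻¹) := fun k => by rw [← h]; group
    rw [h, step, hgj', mul_assoc p, hj2, mul_one, h] at h3
    exact mul_eq_left.mp h3
  rcases hgP _ (T.mem_image.mpr ⟨a, ha, rfl⟩) hfix with e' | e'
  · exact K.mem_vecS.mpr ⟨a, ⟨hE0Q ha, (T.img_eq_one (hct ha)).mp e'⟩, hau⟩
  · refine K.mem_vecS.mpr ⟨a * z, ⟨K.Q.mul_mem (hE0Q ha) K.zQ, ?_⟩, ?_⟩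
    · exact (T.img_eq_one ((hct ha).mul_left htz.symm)).mp (by rw [T.img_mul (hct ha) htz.symm, e', hj2])
    · rw [K.vec_mul (hE0Q ha) K.zQ, (K.vec_eq_zero K.zQ).mpr (Or.inr rfl), add_zero, hau]

end Cfsg.Agent.Spor.CHZ.Core
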