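import Mathlib.GroupTheory.OrderOfElement
import Mathlib.Algebra.Group.Commute.Basic
import Mathlib.Tactic.Group

/-!
Two involutions: conjugate when the product has odd order, centralised by an involution otherwise.
-/

set_option autoImplicit false

namespace Cfsg.Agent.Spor.CHZ

variable {G : Type*} [Group G]

theorem dih_rev {x y : G} (hx : x * x = 1) (hy : y * y = 1) (j : ℕ) :
    x * (x * y) ^ j * x = ((x * y) ^ j)⁻¹ := by
  have hxi : x⁻¹ = x := inv_eq_of_mul_eq_one_right hx
  have hyi : y⁻¹ = y := inv_eq_of_mul_eq_one_right hy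
  have e : x * (x * y) * x⁻¹ = (x * y)⁻¹ := by rw [mul_inv_rev, hxi, hyi, ← mul_assoc, hx, one_mul]
  have h := conj_pow (a := x) (b := x * y) (i := j)
  rw [e, inv_pow, hxi] at h
  exact h.symm

theorem dih_conj {x y : G} (hx : x * x = 1) (hy : y * y = 1) (j : ℕ) :
    (x * y) ^ j * x * ((x * y) ^ j)⁻¹ = (x * y) ^ (2 * j) * x := by
  rw [← dih_rev hx hy j, two_mul, pow_add]
  calc (x * y) ^ j * x * (x * (x * y) ^ j * x) = (x * y) ^ j * (x * x) * (x * y) ^ j * x := by
        simp only [mul_assoc]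
    _ = _ := by rw [hx, mul_one]

/-- odd order: conjugate inside what they generate -/
theorem dih_odd {x y : G} (hx : x * x = 1) (hy : y * y = 1) (h : Odd (orderOf (x * y))) :
    ∃ g : G, g * x * g⁻¹ = y ∧ ∀ u : G, Commute u x → Commute u y → Commute g u := by
  obtain ⟨k, hk⟩ := h
  refine ⟨(x * y) ^ k, ?_, fun u h1 h2 => ((h1.mul_right h2).symm).pow_left k⟩
  have hm : (x * y) ^ (2 * k) = (x * y)⁻¹ := by
    refine eq_inv_of_mul_eq_one_left ?_
    rw [← pow_succ, ← hk, pow_orderOf_eq_one]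
  rw [dih_conj hx hy, hm, mul_inv_rev, inv_eq_of_mul_eq_one_right hx, inv_eq_of_mul_eq_one_right hy, mul_assoc,
    hx, mul_one]

/-- otherwise: centralised by an involution, one of whose products is conjugate to one of the two -/
theorem dih_even [Finite G] {x y : G} (hx : x * x = 1) (hy : y * y = 1) (h : ¬ Odd (orderOf (x * y))) :
    ∃ u : G, u ≠ 1 ∧ u * u = 1 ∧ Commute u x ∧ Commute u y ∧ (IsConj x (x * u) ∨ IsConj y (x * u)) := by
  obtain ⟨k, hk⟩ := Nat.not_odd_iff_even.mp h
  have hkpos : 0 < k := by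
    have := orderOf_pos (x * y)
    omega
  have hz2 : (x * y) ^ k * (x * y) ^ k = 1 := by rw [← pow_add, ← hk, pow_orderOf_eq_one]
  have hz1 : (x * y) ^ k ≠ 1 := fun e => by
    have := Nat.le_of_dvd hkpos (orderOf_dvd_of_pow_eq_one e)
    omega
  have hzx : Commute ((x * y) ^ k) x := by
    have e := dih_rev hx hy k
    rw [inv_eq_of_mul_eq_one_right hz2] at e
    show (x * y) ^ k * x = x * (x * y) ^ k
    nth_rewrite 1 [← e]
    rw [mul_assoc, hx, mul_one]
  have ey : y = x * (x * y) := by rw [← mul_assoc, hx, one_mul]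
  have hzy : Commute ((x * y) ^ k) y := by
    rw [show Commute ((x * y) ^ k) y ↔ Commute ((x * y) ^ k) (x * (x * y)) by rw [← ey]]
    exact hzx.mul_right ((Commute.refl (x * y)).pow_left k)
  refine ⟨(x * y) ^ k, hz1, hz2, hzx, hzy, ?_⟩
  rcases Nat.even_or_odd' k with ⟨j, hj | hj⟩
  · left
    refine isConj_iff.mpr ⟨(x * y) ^ j, ?_⟩
    rw [dih_conj hx hy, ← hzx.eq, hj]
  · right
    refine isConj_iff.mpr ⟨((x * y) ^ j)⁻¹, ?_⟩
    rw [inv_inv, hj, pow_succ', two_mul, pow_add, ← dih_rev hx hy j]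
    conv_lhs => arg 1; arg 2; rw [ey]
    have hc : Commute ((x * y) ^ j) (x * y) := (Commute.refl _).pow_left j
    calc x * (x * y) ^ j * x * (x * (x * y)) * (x * y) ^ j
        = x * ((x * y) ^ j * (x * y)) * (x * y) ^ j := by
          simp only [mul_assoc]
          rw [← mul_assoc x x, hx, one_mul]
      _ = x * ((x * y) * ((x * y) ^ j * (x * y) ^ j)) := by rw [hc.eq]; simp only [mul_assoc]

end Cfsg.Agent.Spor.CHZ
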