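import Cfsg.Agent.Lib.Spor.CHZ.Pair
import Cfsg.Agent.Lib.Spor.CHZ.Dihedral

/-!
The component is the whole class, which has 693 members and is a class of 3-transpositions.
-/

set_option autoImplicit false
set_option maxRecDepth 100000
set_option linter.unusedSectionVars false

namespace Cfsg.Agent.Spor.CHZ

open Cfsg.Agent.Spor.SpFour Cfsg.Agent.Small.Unitary

universe w

variable {G : Type w} [Group G] [Finite G] {D : Set G} (L : Loc D)
include L

/-- outside the component the products have odd order -/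
theorem Loc.odd_out {z y : G} (hz : z ∈ D) (hy : y ∈ D) (hn : y ∉ comp D z) : Odd (orderOf (z * y)) := by
  by_contra hodd
  obtain ⟨u, hu1, -, huz, huy, hconj⟩ := dih_even (L.sq hz) (L.sq hy) hodd
  have hD : z * u ∈ D := by
    rcases hconj with h | h <;> obtain ⟨g, hg⟩ := isConj_iff.mp h <;> rw [← hg]
    exacts [L.conj g z hz, L.conj g y hy]
  have ha : z * u ∈ nb D z :=
    ⟨hD, fun h => hu1 (mul_eq_left.mp h), (Commute.refl z).mul_left huz⟩
  refine hn (L.member_stab hz hy (L.pair_le hz ha ?_))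
  rw [← mul_assoc, L.sq hz, one_mul]
  exact huy.symm

theorem Loc.types_conj {g u s : G} (hg : Commute g u) :
    (InQ D (g * s * g⁻¹) u ↔ InQ D s u) ∧ (TvT D (g * s * g⁻¹) u ↔ TvT D s u) := by
  have e : g * u * g⁻¹ = u := mul_inv_eq_iff_eq_mul.mpr hg.eq
  have e' : g⁻¹ * u * g⁻¹⁻¹ = u := mul_inv_eq_iff_eq_mul.mpr hg.inv_left.eq
  have es : g⁻¹ * (g * s * g⁻¹) * g⁻¹⁻¹ = s := by group
  refine ⟨⟨fun h => ?_, fun h => ?_⟩, ⟨fun h => ?_, fun h => ?_⟩⟩
  · have := InQ.conj L (g := g⁻¹) h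
    rwa [e', es] at this
  · have := InQ.conj L (g := g) h
    rwa [e] at this
  · have := TvT.conj L (g := g⁻¹) h
    rwa [e', es] at this
  · have := TvT.conj L (g := g) h
    rwa [e] at this

/-- every member lies in every component -/
theorem Loc.comp_all {z y : G} (hz : z ∈ D) (hy : y ∈ D) : y ∈ comp D z := by
  by_contra hyn
  obtain ⟨b, hbD, hby, hbc⟩ := L.nbr y hy
  have hb : b ∈ nb D y := ⟨hbD, hby, hbc⟩
  obtain ⟨S, hS⟩ := L.str y hy
  have hwD : y * b ∉ D := by
    rw [← hbc.eq]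
    exact half_at L hy hS hb
  have hw2 : y * b * (y * b) = 1 := by
    rw [show y * b * (y * b) = y * (b * y) * b by group, hbc.eq,
      show y * (y * b) * b = (y * y) * (b * b) by group, L.sq hy, L.sq hbD, one_mul]
  have hodd : ¬ Odd (orderOf (z * (y * b))) := fun h => by
    obtain ⟨g, hg, -⟩ := dih_odd (L.sq hz) hw2 h
    exact hwD (hg ▸ L.conj g z hz)
  obtain ⟨u, hu1, hu2, huz, huw, -⟩ := dih_even (L.sq hz) hw2 hodd
  have huy := L.pair_le hy hb huw
  obtain ⟨y', hy', huy'⟩ := L.fixed_member hy hu2 huy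
  have hne : u ≠ z := fun e => hyn (L.comp_symm hy (L.member_stab hy hz (e ▸ huy)))
  obtain ⟨s, hs, hus, hdiff⟩ := two_types L hz huz hu2 hu1 hne
  have hsz : s ∈ comp D z := L.comp_step hz (L.mem_comp_self hz) hs.1 hs.2.2.symm
  have hy'n : y' ∉ comp D z := fun h => hyn (by
    rw [← L.comp_eq hz h, L.comp_eq hy hy']
    exact L.mem_comp_self hy)
  obtain ⟨g, hg, hgc⟩ := dih_odd (L.sq hz) (L.sq hy'.1) (L.odd_out hz hy'.1 hy'n)
  obtain ⟨g', hg', hgc'⟩ := dih_odd (L.sq hs.1) (L.sq hy'.1) (L.odd_out hs.1 hy'.1 (L.comp_eq hz hsz ▸ hy'n))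
  have h1 := L.types_conj (s := z) (hgc u huz huy')
  have h2 := L.types_conj (s := s) (hgc' u hus huy')
  rw [hg] at h1
  rw [hg'] at h2
  exact hdiff ⟨h1.1.symm.trans h2.1, h1.2.symm.trans h2.2⟩

theorem Loc.comp_univ {z : G} (hz : z ∈ D) : comp D z = D :=
  Set.Subset.antisymm (fun _ h => h.1) fun _ h => L.comp_all hz h

theorem Loc.card_class {z : G} (hz : z ∈ D) : D.ncard = 693 := by
  conv_lhs => rw [← L.comp_univ hz]
  exact card_component L hz

/-- products of members have order at most three -/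
theorem Loc.prod_pow {x y : G} (hx : x ∈ D) (hy : y ∈ D) : (x * y) ^ 2 = 1 ∨ (x * y) ^ 3 = 1 := by
  by_cases hc : Commute x y
  · exact Or.inl (by rw [hc.mul_pow, pow_two, pow_two, L.sq hx, L.sq hy, one_mul])
  · exact Or.inr (L.prod_comp hx (L.comp_all hx hy) hc)

end Cfsg.Agent.Spor.CHZ
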