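import Cfsg.Agent.Lib.Spor.CHZ.Residue
import Cfsg.Agent.Lib.Spor.CHZ.CaseA
import Mathlib.LinearAlgebra.Dual.Lemmas
import Mathlib.LinearAlgebra.Matrix.ToLin

/-!
An involution centraliser which is an extraspecial group extended by the unitary group: the quadratic space, and
the structure on it when it is the Hermitian space.
-/

set_option autoImplicit false
set_option maxRecDepth 100000
set_option linter.unusedSectionVars false

namespace Cfsg.Agent.Spor.CHZ

open Cfsg.Agent.Spor.SpFour Cfsg.Agent.Small.Unitary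

universe w

/-- the centraliser with its subgroup and quotient -/
structure Core {G : Type w} [Group G] (z : G) where
  Q : Subgroup G
  ψ : ↥(Subgroup.centralizer ({z} : Set G)) →* L
  ψ_surj : Function.Surjective ψ
  ψ_ker : ∀ c, ψ c = 1 ↔ (c : G) ∈ Q
  z1 : z ≠ 1
  z2 : z * z = 1
  cent : ∀ x ∈ Q, Commute x z
  normal : ∀ c, Commute c z → ∀ x ∈ Q, c * x * c⁻¹ ∈ Q
  zQ : z ∈ Q
  card : Nat.card Q = 512
  comm : ∀ x ∈ Q, ∀ y ∈ Q, x * y * x⁻¹ * y⁻¹ = 1 ∨ x * y * x⁻¹ * y⁻¹ = z
  sq : ∀ x ∈ Q, x * x = 1 ∨ x * x = z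
  center : ∀ x ∈ Q, (∀ y ∈ Q, Commute x y) → x = 1 ∨ x = z
  self : ∀ c, Commute c z → (∀ x ∈ Q, Commute c x) → c ∈ Q

set_option synthInstance.maxSize 2000 in
set_option synthInstance.maxHeartbeats 100000 in
theorem sum_key : ∀ (p r s : ZMod 2) (a b c d : F4), (p = 0 ↔ a = 0) → (r = 0 ↔ b = 0) → (s = 0 ↔ c = 0) →
    (a = 0 ∨ a = 1) → (b = 0 ∨ b = 1) → (c = 0 ∨ c = 1) → a = b + c + d → (p + r + s = 0 ↔ d = 0) := by
  decide +kernel

namespace Core

variable {G : Type w} [Group G] [Finite G] {z : G} (K : Core z)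

/-- the centre inside the subgroup -/
def N : Subgroup K.Q := (Subgroup.zpowers z).subgroupOf K.Q

theorem mem_N {x : K.Q} : x ∈ K.N ↔ (x : G) = 1 ∨ (x : G) = z := by
  rw [N, Subgroup.mem_subgroupOf]
  constructor
  · intro h
    obtain ⟨k, hk⟩ := Subgroup.mem_zpowers_iff.mp h
    rcases Int.even_or_odd' k with ⟨j, rfl | rfl⟩
    · left; rw [← hk, zpow_mul, zpow_two, K.z2, one_zpow]
    · right; rw [← hk, zpow_add, zpow_mul, zpow_two, K.z2, one_zpow, one_mul, zpow_one]
  · rintro (h | h) <;> rw [h]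
    exacts [one_mem _, Subgroup.mem_zpowers z]

instance normal_N : K.N.Normal := by
  refine ⟨fun n hn g => ?_⟩
  have e : g * n * g⁻¹ = n := by
    apply Subtype.ext
    show (g : G) * n * (g : G)⁻¹ = n
    rcases K.mem_N.mp hn with h | h
    · rw [h, mul_one, mul_inv_cancel]
    · rw [h, (K.cent g g.2).eq, mul_inv_cancel_right]
  rw [e]
  exact hn

instance comm_quot : CommGroup (K.Q ⧸ K.N) :=
  { (inferInstance : Group (K.Q ⧸ K.N)) with
    mul_comm := fun a b => by
      obtain ⟨x, rfl⟩ := QuotientGroup.mk'_surjective K.N a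
      obtain ⟨y, rfl⟩ := QuotientGroup.mk'_surjective K.N b
      rw [← map_mul, ← map_mul, QuotientGroup.mk'_eq_mk']
      refine ⟨(x * y)⁻¹ * (y * x), K.mem_N.mpr ?_, mul_inv_cancel_left _ _⟩
      have e : (((x * y)⁻¹ * (y * x) : K.Q) : G) = (y : G)⁻¹ * (x : G)⁻¹ * (y : G)⁻¹⁻¹ * (x : G)⁻¹⁻¹ := by
        simp [mul_assoc]
      rw [e]
      exact K.comm _ (K.Q.inv_mem y.2) _ (K.Q.inv_mem x.2) }

/-- the space -/
abbrev Sp : Type w := Additive (K.Q ⧸ K.N)

/-- the vector of an element -/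
noncomputable def vec (x : G) : K.Sp :=
  haveI := _root_.Classical.dec (x ∈ K.Q)
  if h : x ∈ K.Q then Additive.ofMul (QuotientGroup.mk' K.N ⟨x, h⟩) else 0

theorem vec_eq {x : G} (hx : x ∈ K.Q) : K.vec x = Additive.ofMul (QuotientGroup.mk' K.N ⟨x, hx⟩) := dif_pos hx

theorem vec_mul {x y : G} (hx : x ∈ K.Q) (hy : y ∈ K.Q) : K.vec (x * y) = K.vec x + K.vec y := by
  rw [K.vec_eq (K.Q.mul_mem hx hy), K.vec_eq hx, K.vec_eq hy]
  rfl

theorem vec_iff {x y : G} (hx : x ∈ K.Q) (hy : y ∈ K.Q) : K.vec x = K.vec y ↔ y = x ∨ y = x * z := by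
  rw [K.vec_eq hx, K.vec_eq hy, Additive.ofMul.apply_eq_iff_eq, QuotientGroup.mk'_apply, QuotientGroup.mk'_apply,
    QuotientGroup.eq, K.mem_N]
  exact or_congr (inv_mul_eq_one.trans eq_comm) inv_mul_eq_iff_eq_mul

theorem vec_surj (v : K.Sp) : ∃ x ∈ K.Q, K.vec x = v := by
  obtain ⟨⟨x, hx⟩, h⟩ := QuotientGroup.mk'_surjective K.N (Additive.toMul v)
  exact ⟨x, hx, by rw [K.vec_eq hx, h]; rfl⟩

theorem vec_one : K.vec 1 = 0 := by rw [K.vec_eq K.Q.one_mem]; rfl

theorem add_self_Sp (v : K.Sp) : v + v = 0 := by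
  obtain ⟨x, hx, rfl⟩ := K.vec_surj v
  rw [← K.vec_mul hx hx, ← K.vec_one]
  refine (K.vec_iff (K.Q.mul_mem hx hx) K.Q.one_mem).mpr ?_
  rcases K.sq x hx with e | e <;> rw [e]
  · exact Or.inl rfl
  · exact Or.inr K.z2.symm

instance module_Sp : Module (ZMod 2) K.Sp :=
  AddCommGroup.zmodModule fun v => by rw [two_nsmul]; exact K.add_self_Sp v

theorem card_Sp : Nat.card K.Sp = 256 := by
  have hN : Nat.card K.N = 2 := by
    have hz : (⟨z, K.zQ⟩ : K.Q) ∈ K.N := K.mem_N.mpr (Or.inr rfl)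
    rw [Nat.card_eq_two_iff]
    refine ⟨⟨1, K.N.one_mem⟩, ⟨_, hz⟩, fun e => K.z1 (congrArg (fun v : K.N => ((v : K.Q) : G)) e).symm, ?_⟩
    refine Set.eq_univ_of_forall fun x => ?_
    rcases K.mem_N.mp x.2 with h | h
    · exact Or.inl (Subtype.ext (Subtype.ext h))
    · exact Or.inr (Subtype.ext (Subtype.ext h))
  have h := K.N.card_eq_card_quotient_mul_card_subgroup
  rw [K.card, hN] at h
  show Nat.card (K.Q ⧸ K.N) = 256
  omega

/-- the lift of a group element -/
noncomputable def lift (g : L) : G := (Function.surjInv K.ψ_surj g : ↥(Subgroup.centralizer ({z} : Set G)))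

theorem lift_comm (g : L) : Commute (K.lift g) z :=
  Subgroup.mem_centralizer_singleton_iff.mp (Function.surjInv K.ψ_surj g).2

/-- the representative of a vector -/
noncomputable def rep (v : K.Sp) : G := (K.vec_surj v).choose

theorem rep_mem (v : K.Sp) : K.rep v ∈ K.Q := (K.vec_surj v).choose_spec.1

theorem vec_rep (v : K.Sp) : K.vec (K.rep v) = v := (K.vec_surj v).choose_spec.2

/-- the action -/
noncomputable def ρ (g : L) (v : K.Sp) : K.Sp := K.vec (K.lift g * K.rep v * (K.lift g)⁻¹)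

theorem conj_vec {c : G} (hc : Commute c z) {x y : G} (hx : x ∈ K.Q) (hy : y ∈ K.Q) (h : K.vec x = K.vec y) :
    K.vec (c * x * c⁻¹) = K.vec (c * y * c⁻¹) := by
  refine (K.vec_iff (K.normal c hc x hx) (K.normal c hc y hy)).mpr ?_
  rcases (K.vec_iff hx hy).mp h with rfl | rfl
  · exact Or.inl rfl
  · refine Or.inr ?_
    rw [show c * (x * z) * c⁻¹ = c * x * c⁻¹ * (c * z * c⁻¹) by group, hc.eq, mul_inv_cancel_right]

theorem inner_vec {y x : G} (hy : y ∈ K.Q) (hx : x ∈ K.Q) : K.vec (y * x * y⁻¹) = K.vec x := by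
  refine ((K.vec_iff hx (K.normal y (K.cent y hy) x hx)).mpr ?_).symm
  rcases K.comm y hy x hx with e | e
  · exact Or.inl (mul_inv_eq_one.mp e)
  · exact Or.inr (by rw [mul_inv_eq_iff_eq_mul.mp e, (K.cent x hx).symm.eq])

/-- the action is conjugation -/
theorem ρ_vec (c : ↥(Subgroup.centralizer ({z} : Set G))) {x : G} (hx : x ∈ K.Q) :
    K.ρ (K.ψ c) (K.vec x) = K.vec ((c : G) * x * (c : G)⁻¹) := by
  have hc : Commute (c : G) z := Subgroup.mem_centralizer_singleton_iff.mp c.2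
  obtain ⟨d, hd⟩ : ∃ d, d = Function.surjInv K.ψ_surj (K.ψ c) := ⟨_, rfl⟩
  have hlift : K.lift (K.ψ c) = (d : G) := by rw [hd]; rfl
  have hdc : Commute (d : G) z := Subgroup.mem_centralizer_singleton_iff.mp d.2
  have hy : ((c⁻¹ * d : ↥(Subgroup.centralizer ({z} : Set G))) : G) ∈ K.Q := by
    refine (K.ψ_ker _).mp ?_
    rw [map_mul, map_inv, hd, Function.surjInv_eq K.ψ_surj, inv_mul_cancel]
  rw [ρ, hlift, K.conj_vec hdc (K.rep_mem _) hx (K.vec_rep _)]
  obtain ⟨y, hy'⟩ : ∃ y, y = (c : G)⁻¹ * d := ⟨_, rfl⟩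
  have hyQ : y ∈ K.Q := hy' ▸ hy
  have e : (d : G) * x * (d : G)⁻¹ = (c : G) * (y * x * y⁻¹) * (c : G)⁻¹ := by rw [hy']; group
  rw [e]
  exact K.conj_vec hc (K.normal y (K.cent y hyQ) x hx) hx (K.inner_vec hyQ hx)

/-- the square -/
noncomputable def sqv (v : K.Sp) : ZMod 2 :=
  haveI := _root_.Classical.dec (K.rep v * K.rep v = 1)
  if K.rep v * K.rep v = 1 then 0 else 1

theorem sqv_vec {x : G} (hx : x ∈ K.Q) : K.sqv (K.vec x) = 0 ↔ x * x = 1 := by
  classical
  have h := (K.vec_iff hx (K.rep_mem _)).mp (K.vec_rep (K.vec x)).symm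
  have e : K.rep (K.vec x) * K.rep (K.vec x) = x * x := by
    rcases h with h | h <;> rw [h]
    rw [mul_assoc x z, ← mul_assoc z, (K.cent x hx).symm.eq, mul_assoc x z, K.z2, mul_one]
  rw [sqv, e]
  split_ifs with hh <;> simp [hh]

theorem polar {x y : G} (hx : x ∈ K.Q) (hy : y ∈ K.Q) :
    K.sqv (K.vec x + K.vec y) + K.sqv (K.vec x) + K.sqv (K.vec y) = 0 ↔ Commute x y := by
  classical
  have key : ∀ a b c : ZMod 2, (a + b + c = 0 ↔ ((a = 0) ↔ (b = 0 ↔ c = 0))) := by decide
  rw [key, ← K.vec_mul hx hy, K.sqv_vec (K.Q.mul_mem hx hy), K.sqv_vec hx, K.sqv_vec hy]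
  rcases K.comm y hy x hx with h | h
  · have hc : Commute y x := by
      rw [mul_inv_eq_one, mul_inv_eq_iff_eq_mul] at h
      exact h
    rw [iff_true_right hc.symm, show x * y * (x * y) = x * (y * x) * y by group, hc.eq,
      show x * (x * y) * y = (x * x) * (y * y) by group]
    rcases K.sq x hx with a | a <;> rcases K.sq y hy with b | b <;> rw [a, b] <;> simp [K.z1, K.z2]
  · have hyx : y * x = z * (x * y) := by
      rw [mul_inv_eq_iff_eq_mul] at h
      rw [mul_inv_eq_iff_eq_mul] at h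
      rw [h, mul_assoc]
    have hn : ¬ Commute x y := fun hc => K.z1 (by
      rw [← hc.eq] at hyx
      exact right_eq_mul.mp hyx)
    rw [iff_false_right hn, show x * y * (x * y) = x * (y * x) * y by group, hyx, ← mul_assoc x z, (K.cent x hx).eq,
      show z * x * (x * y) * y = z * ((x * x) * (y * y)) by group]
    rcases K.sq x hx with a | a <;> rcases K.sq y hy with b | b <;> rw [a, b] <;> simp [K.z1, K.z2]

theorem sqv_biadd (a b c : K.Sp) : K.sqv (a + b + c) + K.sqv (a + b) + K.sqv c =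
    (K.sqv (a + c) + K.sqv a + K.sqv c) + (K.sqv (b + c) + K.sqv b + K.sqv c) := by
  obtain ⟨x, hx, rfl⟩ := K.vec_surj a
  obtain ⟨y, hy, rfl⟩ := K.vec_surj b
  obtain ⟨u, hu, rfl⟩ := K.vec_surj c
  rw [← K.vec_mul hx hy]
  have h1 := K.polar (K.Q.mul_mem hx hy) hu
  have h2 := K.polar hx hu
  have h3 := K.polar hy hu
  have key : ∀ p r s : ZMod 2, (p = 0 ↔ (r = 0 ↔ s = 0)) → p = r + s := by decide
  refine key _ _ _ ?_
  rw [h1, h2, h3]
  constructor
  · intro h
    constructor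
    · intro hxu
      have e : y = x⁻¹ * (x * y) := by group
      rw [e]
      exact hxu.inv_left.mul_left h
    · intro hyu
      have e : x = x * y * y⁻¹ := by group
      rw [e]
      exact h.mul_left hyu.inv_left
  · intro h
    by_cases hxu : Commute x u
    · exact hxu.mul_left (h.mp hxu)
    · have hyu : ¬ Commute y u := fun hh => hxu (h.mpr hh)
      have flip : ∀ {x}, x ∈ K.Q → ¬ Commute x u → x * u * x⁻¹ = z * u := by
        intro x hx hn
        rcases K.comm x hx u hu with e | e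
        · exact absurd (mul_inv_eq_iff_eq_mul.mp (mul_inv_eq_one.mp e)) hn
        · exact mul_inv_eq_iff_eq_mul.mp e
      refine mul_inv_eq_iff_eq_mul.mp ?_
      rw [show x * y * u * (x * y)⁻¹ = x * (y * u * y⁻¹) * x⁻¹ by group, flip hy hyu, ← mul_assoc,
        (K.cent x hx).eq, mul_assoc z x, mul_assoc z, flip hx hxu, ← mul_assoc, K.z2, one_mul]

/-- the action on the quadratic space -/
noncomputable def toRep : Rep K.Sp where
  ρ := K.ρ
  q := K.sqv
  one v := by
    obtain ⟨x, hx, rfl⟩ := K.vec_surj v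
    rw [← map_one K.ψ, K.ρ_vec 1 hx, Subgroup.coe_one, inv_one, mul_one, one_mul]
  mul g h v := by
    obtain ⟨c, rfl⟩ := K.ψ_surj g
    obtain ⟨d, rfl⟩ := K.ψ_surj h
    obtain ⟨x, hx, rfl⟩ := K.vec_surj v
    have hd : Commute (d : G) z := Subgroup.mem_centralizer_singleton_iff.mp d.2
    rw [← map_mul, K.ρ_vec _ hx, K.ρ_vec d hx, K.ρ_vec c (K.normal d hd x hx), Subgroup.coe_mul]
    congr 1
    group
  add g a b := by
    obtain ⟨c, rfl⟩ := K.ψ_surj g
    obtain ⟨x, hx, rfl⟩ := K.vec_surj a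
    obtain ⟨y, hy, rfl⟩ := K.vec_surj b
    have hc : Commute (c : G) z := Subgroup.mem_centralizer_singleton_iff.mp c.2
    rw [← K.vec_mul hx hy, K.ρ_vec c (K.Q.mul_mem hx hy), K.ρ_vec c hx, K.ρ_vec c hy,
      ← K.vec_mul (K.normal _ hc x hx) (K.normal _ hc y hy)]
    congr 1
    group
  q_act g v := by
    obtain ⟨c, rfl⟩ := K.ψ_surj g
    obtain ⟨x, hx, rfl⟩ := K.vec_surj v
    have hc : Commute (c : G) z := Subgroup.mem_centralizer_singleton_iff.mp c.2
    rw [K.ρ_vec c hx]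
    have key : ∀ a b : ZMod 2, (a = 0 ↔ b = 0) → a = b := by decide
    refine key _ _ ?_
    rw [K.sqv_vec (K.normal _ hc x hx), K.sqv_vec hx,
      show (c : G) * x * (c : G)⁻¹ * ((c : G) * x * (c : G)⁻¹) = (c : G) * (x * x) * (c : G)⁻¹ by group]
    exact conj_eq_one_iff
  q_zero := by rw [← K.vec_one, K.sqv_vec K.Q.one_mem, one_mul]
  biadd := K.sqv_biadd
  nondeg v hv := by
    obtain ⟨x, hx, rfl⟩ := K.vec_surj v
    by_contra hno
    push Not at hno
    refine hv ?_
    have h := K.center x hx fun y hy => (K.polar hx hy).mp (by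
      rcases (show ∀ c : ZMod 2, c = 0 ∨ c = 1 by decide) (K.sqv (K.vec x + K.vec y) + K.sqv (K.vec x) +
        K.sqv (K.vec y)) with e | e
      · exact e
      · exact absurd e (hno _))
    rw [← K.vec_one]
    refine ((K.vec_iff K.Q.one_mem hx).mpr ?_).symm
    rw [one_mul]
    exact h
  card := K.card_Sp
  faithful g hg := by
    classical
    obtain ⟨c, rfl⟩ := K.ψ_surj g
    have hc : Commute (c : G) z := Subgroup.mem_centralizer_singleton_iff.mp c.2
    have hstep : ∀ x ∈ K.Q, (c : G) * x * (c : G)⁻¹ = x ∨ (c : G) * x * (c : G)⁻¹ = x * z := fun x hx => by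
      have h := hg (K.vec x)
      rw [K.ρ_vec c hx] at h
      exact (K.vec_iff hx (K.normal _ hc x hx)).mp h.symm
    -- the functional is given by an element of the subgroup
    let bb : K.Sp → K.Sp → ZMod 2 := fun a b => K.sqv (a + b) + K.sqv a + K.sqv b
    have bl : ∀ a b u, bb (a + b) u = bb a u + bb b u := K.sqv_biadd
    have bc : ∀ a b, bb a b = bb b a := fun a b => by simp only [bb, add_comm a b]; ring
    have br : ∀ u a b, bb u (a + b) = bb u a + bb u b := fun u a b => by rw [bc, bl, bc a, bc b]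
    let Φ : K.Sp →+ Module.Dual (ZMod 2) K.Sp := AddMonoidHom.mk'
      (fun a => AddMonoidHom.toZModLinearMap 2 (AddMonoidHom.mk' (bb a) (br a)))
      (fun a b => LinearMap.ext fun u => bl a b u)
    let Φl := Φ.toZModLinearMap 2
    have hinj : Function.Injective Φl := by
      refine (injective_iff_map_eq_zero Φl).mpr fun a ha => ?_
      obtain ⟨x, hx, rfl⟩ := K.vec_surj a
      have h := K.center x hx fun y hy => (K.polar hx hy).mp (LinearMap.congr_fun ha (K.vec y))
      rw [← K.vec_one]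
      refine ((K.vec_iff K.Q.one_mem hx).mpr ?_).symm
      rw [one_mul]
      exact h
    haveI : Module.Finite (ZMod 2) K.Sp := Module.Finite.of_finite
    have hsurj : Function.Surjective Φl :=
      (LinearMap.injective_iff_surjective_of_finrank_eq_finrank Subspace.dual_finrank_eq.symm).mp hinj
    let lam : K.Sp → ZMod 2 := fun v => if (c : G) * K.rep v * (c : G)⁻¹ = K.rep v then 0 else 1
    have hlam : ∀ x ∈ K.Q, (lam (K.vec x) = 0 ↔ (c : G) * x * (c : G)⁻¹ = x) := by
      intro x hx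
      have h := (K.vec_iff hx (K.rep_mem _)).mp (K.vec_rep (K.vec x)).symm
      have e : (c : G) * K.rep (K.vec x) * (c : G)⁻¹ = K.rep (K.vec x) ↔ (c : G) * x * (c : G)⁻¹ = x := by
        rcases h with h | h <;> rw [h]
        rw [show (c : G) * (x * z) * (c : G)⁻¹ = (c : G) * x * (c : G)⁻¹ * ((c : G) * z * (c : G)⁻¹) by group,
          hc.eq, mul_inv_cancel_right, mul_left_inj]
      simp only [lam]
      split_ifs with hh <;> simp [← e, hh]
    have ladd : ∀ a b, lam (a + b) = lam a + lam b := by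
      intro a b
      obtain ⟨x, hx, rfl⟩ := K.vec_surj a
      obtain ⟨y, hy, rfl⟩ := K.vec_surj b
      rw [← K.vec_mul hx hy]
      have key : ∀ p r s : ZMod 2, (p = 0 ↔ (r = 0 ↔ s = 0)) → p = r + s := by decide
      refine key _ _ _ ?_
      rw [hlam _ (K.Q.mul_mem hx hy), hlam x hx, hlam y hy,
        show (c : G) * (x * y) * (c : G)⁻¹ = (c : G) * x * (c : G)⁻¹ * ((c : G) * y * (c : G)⁻¹) by group]
      rcases hstep x hx with ex | ex <;> rcases hstep y hy with ey | ey <;> rw [ex, ey]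
      · simp
      · simp only [iff_false_right (K.z1 ∘ mul_eq_left.mp), mul_right_inj]
        simp [K.z1]
      · rw [mul_assoc, (K.cent y hy).symm.eq, ← mul_assoc]
        simp [K.z1]
      · rw [mul_assoc x z, ← mul_assoc z, (K.cent y hy).symm.eq, mul_assoc y, K.z2, mul_one]
        simp [K.z1]
    obtain ⟨a, ha⟩ := hsurj (AddMonoidHom.toZModLinearMap 2 (AddMonoidHom.mk' lam ladd))
    obtain ⟨y, hy, rfl⟩ := K.vec_surj a
    refine (K.ψ_ker c).mpr ?_
    have hmem : (c : G) * y⁻¹ ∈ K.Q := by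
      refine K.self _ (hc.mul_left (K.cent y hy).inv_left) fun x hx => ?_
      refine mul_inv_eq_iff_eq_mul.mp ?_
      have hx' : y⁻¹ * x * y ∈ K.Q := K.Q.mul_mem (K.Q.mul_mem (K.Q.inv_mem hy) hx) hy
      have e : lam (K.vec x) = bb (K.vec y) (K.vec x) := (LinearMap.congr_fun ha (K.vec x)).symm
      have h1 := hlam x hx
      rw [e] at h1
      have h2 := K.polar hy hx
      rw [show (c : G) * y⁻¹ * x * ((c : G) * y⁻¹)⁻¹ = (c : G) * (y⁻¹ * x * y) * (c : G)⁻¹ by group]
      by_cases hyx : Commute y x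
      · rw [hyx.inv_left.eq, inv_mul_cancel_right]
        exact h1.mp (h2.mpr hyx)
      · rcases K.comm _ (K.Q.inv_mem hy) x hx with e' | e'
        · refine absurd ?_ hyx
          rw [mul_inv_eq_one, mul_inv_eq_iff_eq_mul] at e'
          exact (Commute.inv_left_iff.mp e')
        · rw [inv_inv, mul_inv_eq_iff_eq_mul] at e'
          rw [e', show (c : G) * (z * x) * (c : G)⁻¹ = (c : G) * z * (c : G)⁻¹ * ((c : G) * x * (c : G)⁻¹) by group,
            hc.eq, mul_inv_cancel_right]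
          rcases hstep x hx with f | f
          · exact absurd (h2.mp (h1.mpr f)) hyx
          · rw [f, (K.cent x hx).eq, ← mul_assoc, K.z2, one_mul]
    simpa using K.Q.mul_mem hmem hy

/-! ### the Hermitian case -/

theorem det_one_mem {f : Equiv.Perm V} (hf : Lin f) (A : Matrix (Fin 4) (Fin 4) F4)
    (hA : ∀ v, A.mulVec v = f v) (hd : A.det = 1) : ∃ g : L, f = sp g := by
  have hU : A.conjTranspose * A = 1 := by
    ext i j
    have h := hf.herm (Pi.single i 1) (Pi.single j 1)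
    rw [← hA, ← hA, herm, Matrix.star_mulVec, ← Matrix.dotProduct_mulVec, Matrix.mulVec_mulVec,
      Matrix.mulVec_single_one, herm_single_left, star_one, one_mul] at h
    have e : (star (Pi.single i (1 : F4) : V)) = Pi.single i 1 := by
      funext k
      by_cases hk : k = i
      · subst hk; simp
      · simp [hk]
    rw [e, single_dotProduct, one_mul] at h
    rw [Matrix.one_apply]
    rw [Pi.single_apply] at h
    exact h
  exact ⟨mkSU hstar A hU hd, Equiv.ext fun v => (hA v).symm⟩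

/-- the structure -/
theorem exists_setup (φ : K.Sp ≃+ V) (hlin : ∀ g, ∃ f : Equiv.Perm V, Lin f ∧ ∀ x, φ (K.ρ g x) = f (φ x))
    (hq : ∀ x, K.sqv x = 0 ↔ herm (φ x) (φ x) = 0) : ∃ S : Setup z, Full S ∧ S.Q = K.Q := by
  classical
  choose fg hfg hfρ using hlin
  have fmul : ∀ g h, fg (g * h) = fg g * fg h := fun g h => Equiv.ext fun v => by
    obtain ⟨x, rfl⟩ := φ.surjective v
    rw [Equiv.Perm.mul_apply, ← hfρ h, ← hfρ g, ← hfρ]
    exact congrArg φ (K.toRep.mul g h x)
  let Φ : L →* Equiv.Perm V := MonoidHom.mk' fg fmul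
  have hΦinj : Function.Injective Φ := (injective_iff_map_eq_one Φ).mpr fun g hg => by
    refine K.toRep.faithful g fun x => φ.injective ?_
    rw [show K.toRep.ρ g x = K.ρ g x from rfl, hfρ]
    show Φ g (φ x) = φ x
    rw [hg]
    rfl
  -- determinants
  let mat : L → Matrix (Fin 4) (Fin 4) F4 := fun g => LinearMap.toMatrix'
    { toFun := fg g, map_add' := (hfg g).add, map_smul' := fun c x => (hfg g).smul c x }
  have hmat : ∀ g v, (mat g).mulVec v = fg g v := fun g v => by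
    rw [← Matrix.toLin'_apply, Matrix.toLin'_toMatrix']
    rfl
  have hmul : ∀ g h, mat (g * h) = mat g * mat h := fun g h => Matrix.ext_iff_mulVec.mpr fun v => by
    rw [← Matrix.mulVec_mulVec, hmat, hmat, hmat, fmul]
    rfl
  have hone : mat 1 = 1 := Matrix.ext_iff_mulVec.mpr fun v => by
    rw [hmat, Matrix.one_mulVec]
    exact DFunLike.congr_fun (map_one Φ) v
  let δ : L →* F4 := { toFun := fun g => (mat g).det, map_one' := by rw [hone, Matrix.det_one],
                       map_mul' := fun g h => by rw [hmul, Matrix.det_mul] }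
  have hδ : ∀ g, δ g = 1 := by
    have hle : (⊤ : Subgroup L) ≤ δ.toHomUnits.ker := by
      rw [← (UnitaryTrans.isClass (F := F4) (n := 4) hstar hF le_rfl).2.2, Subgroup.closure_le]
      intro τ hτ
      obtain ⟨v, hv, -, rfl⟩ := UnitaryTrans.exists_tv hstar τ hτ
      rw [SetLike.mem_coe, MonoidHom.mem_ker]
      refine Units.ext ?_
      rw [MonoidHom.coe_toHomUnits, Units.val_one]
      have key : ∀ d : F4, d * d = 1 → d = 1 := by decide +kernel
      refine key _ ?_
      rw [← map_mul, UnitaryTrans.tv_sq, map_one]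
    intro g
    have := MonoidHom.mem_ker.mp (hle (Subgroup.mem_top g))
    exact congrArg Units.val this
  have hin : ∀ g, Φ g ∈ (sp : L →* Equiv.Perm V).range := fun g => by
    obtain ⟨h, e⟩ := det_one_mem (hfg g) (mat g) (hmat g) (hδ g)
    exact ⟨h, e.symm⟩
  have hrange : Φ.range = (sp : L →* Equiv.Perm V).range := by
    refine Subgroup.eq_of_le_of_card_ge (by rintro _ ⟨g, rfl⟩; exact hin g) ?_
    rw [← Nat.card_congr (MonoidHom.ofInjective sp_inj).toEquiv, ← Nat.card_congr (MonoidHom.ofInjective hΦinj).toEquiv]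
  let π : G → Equiv.Perm V := fun c =>
    if h : c ∈ Subgroup.centralizer ({z} : Set G) then fg (K.ψ ⟨c, h⟩) else 1
  have hπ : ∀ c (h : Commute c z), π c = fg (K.ψ ⟨c, Subgroup.mem_centralizer_singleton_iff.mpr h.eq⟩) :=
    fun c h => dif_pos _
  let ν : G → V := fun x => φ (K.vec x)
  have hB : ∀ x y : K.Sp, (K.sqv (x + y) + K.sqv x + K.sqv y = 0) ↔ CHZ.B (φ x) (φ y) = 0 := by
    intro x y
    have key := sum_key
    exact key _ _ _ _ _ _ _ (hq _) (hq _) (hq _) (q_cases _) (q_cases _) (q_cases _) (by rw [map_add, q_add])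
  refine ⟨{
    Q := K.Q, ν := ν, π := π, z1 := K.z1, z2 := K.z2, cent := K.cent, normal := K.normal, zQ := K.zQ
    π_mul := fun c d hc hd => by
      rw [hπ c hc, hπ d hd, hπ (c * d) (hc.mul_left hd), ← fmul, ← map_mul]
      rfl
    π_semi := fun c hc => Or.inl (hπ c hc ▸ hfg _)
    π_iff := fun c hc => by
      rw [hπ c hc, show fg (K.ψ ⟨c, _⟩) = 1 ↔ K.ψ ⟨c, _⟩ = 1 from map_eq_one_iff Φ hΦinj, K.ψ_ker]
    π_surj := fun g => by
      obtain ⟨h, hh⟩ : sp g ∈ Φ.range := hrange ▸ ⟨g, rfl⟩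
      obtain ⟨c, hc⟩ := K.ψ_surj h
      have hcz : Commute (c : G) z := Subgroup.mem_centralizer_singleton_iff.mp c.2
      exact ⟨c, hcz, by rw [hπ _ hcz, ← hh]; show fg _ = fg h; rw [← hc]⟩
    ν_mul := fun x hx y hy => by show φ _ = φ _ + φ _; rw [K.vec_mul hx hy, map_add]
    ν_zero := fun x hx => by
      show φ _ = 0 ↔ _
      rw [φ.map_eq_zero_iff, ← K.vec_one, eq_comm, K.vec_iff K.Q.one_mem hx, one_mul]
    ν_surj := fun v => by
      obtain ⟨x, hx, e⟩ := K.vec_surj (φ.symm v)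
      exact ⟨x, hx, by show φ _ = v; rw [e, AddEquiv.apply_symm_apply]⟩
    ν_sq := fun x hx => by rw [← K.sqv_vec hx]; exact hq _
    ν_comm := fun x hx y hy => by rw [← K.polar hx hy]; exact hB _ _
    ν_act := fun c hc x hx => by
      show φ _ = π c (φ _)
      rw [hπ c hc, ← hfρ, K.ρ_vec ⟨c, _⟩ hx] }, ?_, rfl⟩
  intro c hc
  obtain ⟨g, hg⟩ := hin (K.ψ ⟨c, Subgroup.mem_centralizer_singleton_iff.mpr hc.eq⟩)
  exact ⟨g, (hπ c hc).trans hg.symm⟩

end Core

end Cfsg.Agent.Spor.CHZ
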