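import Cfsg.Agent.Lib.Spor.CHZ.Graph

/-!
The component of a member has 693 members.
-/

set_option autoImplicit false
set_option maxRecDepth 100000
set_option maxHeartbeats 400000
set_option linter.unusedSectionVars false

namespace Cfsg.Agent.Spor.CHZ

open Cfsg.Agent.Spor.SpFour Cfsg.Agent.Small.Unitary

universe w

/-- the first coordinate not zero is one -/
def normed (v : V) : Bool :=
  decide (v 0 = 1) || (decide (v 0 = 0) && (decide (v 1 = 1) || (decide (v 1 = 0) &&
    (decide (v 2 = 1) || (decide (v 2 = 0) && decide (v 3 = 1))))))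

/-- one vector on each point -/
def reps : Finset V := Finset.univ.filter fun v => normed v = true ∧ herm v v = 0

theorem reps_card : reps.card = 45 := by decide +kernel

theorem reps_perp : ∀ p ∈ reps, (reps.filter fun r => herm p r = 0).card = 13 := by decide +kernel

theorem reps_spec : ∀ v : V, (v = 0 ∨ ¬ herm v v = 0) ∨
    [F4.i, F4.w, F4.v].any (fun c => decide (normed (c • v) = true)) = true := by decide +kernel

theorem reps_ne : ∀ v ∈ reps, v ≠ 0 ∧ herm v v = 0 := by decide +kernel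

theorem reps_unique : ∀ v ∈ reps, ∀ c : F4, c • v ∈ reps → c = 1 := by decide +kernel

variable {G : Type w} [Group G] [Finite G] {D : Set G} (L : Loc D) {z : G} (hz : z ∈ D)
  {S : Setup z} (hS : Full S)
include L hz hS

theorem exists_rep {t : G} (ht : t ∈ nb D z) : ∃ r ∈ reps, Pt S t r := by
  obtain ⟨u, hu⟩ := point L hz hS ht
  rcases reps_spec u with (h | h) | h
  · exact absurd h hu.ne
  · exact absurd hu.iso h
  simp only [List.any_eq_true, decide_eq_true_eq] at h
  obtain ⟨c, hc, hn⟩ := h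
  have hc0 : c ≠ 0 := (by decide +kernel : ∀ c ∈ [F4.i, F4.w, F4.v], c ≠ 0) c hc
  have hiso : herm (c • u) (c • u) = 0 := (q_smul c hc0 u).trans hu.iso
  exact ⟨c • u, Finset.mem_filter.mpr ⟨Finset.mem_univ _, hn, hiso⟩,
    fun e => hu.ne ((smul_eq_zero.mp e).resolve_left hc0), hiso, fun v => by rw [hu.act, tv_same hc0 rfl]⟩

/-- the members over given points -/
theorem card_points (P : Finset V) (hP : P ⊆ reps) :
    {t | t ∈ nb D z ∧ ∃ r ∈ P, Pt S t r}.ncard = 4 * P.card := by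
  classical
  have huniq : ∀ {t : G} {r r' : V}, r ∈ reps → r' ∈ reps → Pt S t r → Pt S t r' → r = r' := by
    intro t r r' hr hr' h h'
    obtain ⟨c, hc⟩ := tv_unique h.ne fun v => add_left_cancel ((h.act v).symm.trans (h'.act v))
    have hc1 := reps_unique r' hr' c (hc ▸ hr)
    rw [hc, hc1, one_smul]
  let A : Finset G := (Set.toFinite {t | t ∈ nb D z ∧ ∃ r ∈ P, Pt S t r}).toFinset
  have hA : ∀ {t}, t ∈ A ↔ (t ∈ nb D z ∧ ∃ r ∈ P, Pt S t r) := fun {t} => Set.Finite.mem_toFinset _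
  rw [Set.ncard_eq_toFinset_card _ (Set.toFinite _), show (Set.toFinite _).toFinset = A from rfl]
  choose! f hf hfP using fun t (h : t ∈ A) => (hA.mp h).2
  rw [Finset.card_eq_sum_card_fiberwise hf, Finset.sum_const_nat (m := 4), mul_comm]
  intro r hr
  obtain ⟨hr0, hrr⟩ := reps_ne r (hP hr)
  obtain ⟨t, ht, hpt⟩ := exists_over L hz hS hr0 hrr
  refine Eq.trans ?_ (card_over L hz hS ht)
  rw [Set.ncard_eq_toFinset_card _ (Set.toFinite _)]
  congr 1
  ext w
  refine Iff.trans Finset.mem_filter (Iff.trans ?_ (Set.Finite.mem_toFinset _).symm)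
  constructor
  · rintro ⟨hw, e⟩
    refine ⟨(hA.mp hw).1, Equiv.ext fun v => ?_⟩
    rw [(hfP w hw).act, e, hpt.act]
  · rintro ⟨hw, e⟩
    have hpw : Pt S w r := ⟨hr0, hrr, fun v => by rw [e]; exact hpt.act v⟩
    have hwA : w ∈ A := hA.mpr ⟨hw, r, hr, hpw⟩
    exact ⟨hwA, huniq (hP (hf w hwA)) (hP hr) (hfP w hwA) hpw⟩

theorem card_nb : (nb D z).ncard = 180 := by
  have h := card_points L hz hS reps (Finset.Subset.refl _)
  rw [reps_card] at h
  refine Eq.trans ?_ h
  congr 1
  ext t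
  exact ⟨fun ht => ⟨ht, exists_rep L hz hS ht⟩, fun h => h.1⟩

/-- neighbours commuting with a given one -/
theorem card_perp {s : G} (hs : s ∈ nb D z) : {t | t ∈ nb D z ∧ Commute t s}.ncard = 52 := by
  classical
  obtain ⟨p, hp, hps⟩ := exists_rep L hz hS hs
  have h := card_points L hz hS (reps.filter fun r => herm p r = 0) (Finset.filter_subset _ _)
  rw [reps_perp p hp] at h
  refine Eq.trans ?_ h
  congr 1
  ext t
  constructor
  · rintro ⟨ht, hc⟩
    obtain ⟨r, hr, hrt⟩ := exists_rep L hz hS ht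
    exact ⟨ht, r, Finset.mem_filter.mpr ⟨hr, (commute_iff L hz hS hs hps ht hrt).mp hc.symm⟩, hrt⟩
  · rintro ⟨ht, r, hr, hrt⟩
    exact ⟨ht, ((commute_iff L hz hS hs hps ht hrt).mpr (Finset.mem_filter.mp hr).2).symm⟩

omit hS in
/-- the common neighbours at distance two -/
theorem card_common {b : G} (hb : b ∈ D) (hzb : ¬ Commute z b) (h : ∃ a ∈ nb D z, Commute a b) :
    {a | a ∈ nb D z ∧ Commute a b}.ncard = 45 := by
  classical
  obtain ⟨T, hT⟩ := L.str b hb
  have hnb : ∀ {a}, a ∈ nb D z → Commute a b → a ∈ nb D b := fun ha hc =>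
    ⟨ha.1, fun e => hzb (e ▸ ha.2.2.symm), hc⟩
  let A : Finset G := (Set.toFinite {a | a ∈ nb D z ∧ Commute a b}).toFinset
  have hA : ∀ {a}, a ∈ A ↔ (a ∈ nb D z ∧ Commute a b) := fun {a} => Set.Finite.mem_toFinset _
  choose! f hf hfP using fun a (ha : a ∈ A) => exists_rep L hb hT (hnb (hA.mp ha).1 (hA.mp ha).2)
  rw [Set.ncard_eq_toFinset_card _ (Set.toFinite _), show (Set.toFinite _).toFinset = A from rfl, ← reps_card]
  refine Finset.card_bij (fun a _ => f a) (fun a ha => hf a ha) (fun a ha a' ha' e => ?_) fun r hr => ?_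
  · by_contra hne
    have h1 := hnb (hA.mp ha).1 (hA.mp ha).2
    have h2 := hnb (hA.mp ha').1 (hA.mp ha').2
    have hsame : T.π a' = T.π a := Equiv.ext fun v => by rw [(hfP a' ha').act, (hfP a ha).act, e]
    have hl : a' ∈ line D b a := (mem_line_iff L hb hT h1).mpr (Or.inr ⟨h2, hsame⟩)
    have e1 : line D a a' = line D b a := L.line_eq hb h1 ⟨h1.1, fun v _ _ h => h⟩ hl hne
    have hbl : b ∈ line D a a' := by rw [e1]; exact ⟨hb, fun v _ h _ => h⟩
    exact hzb (hbl.2 z hz (hA.mp ha).1.2.2.symm (hA.mp ha').1.2.2.symm)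
  · obtain ⟨hr0, hrr⟩ := reps_ne r hr
    obtain ⟨c, hc, hcr⟩ := exists_over L hb hT hr0 hrr
    obtain ⟨e, he, hez, heb⟩ := cover L hz hb hzb h hc
    obtain ⟨hen, hπ⟩ := ((mem_line_iff L hb hT hc).mp he).resolve_left heb
    have hezne : e ≠ z := fun h' => hzb (h' ▸ hen.2.2)
    have heA : e ∈ A := hA.mpr ⟨⟨hen.1, hezne, hez⟩, hen.2.2⟩
    refine ⟨e, heA, ?_⟩
    obtain ⟨k, hk⟩ := tv_unique (hfP e heA).ne fun v => add_left_cancel
      (((hfP e heA).act v).symm.trans ((congrArg (fun g => g v) hπ).trans (hcr.act v)))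
    have hk1 := reps_unique r hr k (hk ▸ hf e heA)
    rw [hk, hk1, one_smul]

omit hS in
/-- a member, its neighbours and theirs -/
theorem card_component : {b | b ∈ D ∧ (b = z ∨ ∃ a ∈ nb D z, Commute a b)}.ncard = 693 := by
  classical
  obtain ⟨S, hS⟩ := L.str z hz
  let far : Set G := {b | b ∈ D ∧ ¬ Commute z b ∧ ∃ a ∈ nb D z, Commute a b}
  let A : Finset G := (Set.toFinite (nb D z)).toFinset
  let F : Finset G := (Set.toFinite far).toFinset
  have hA : ∀ {a}, a ∈ A ↔ a ∈ nb D z := fun {a} => Set.Finite.mem_toFinset _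
  have hF : ∀ {b}, b ∈ F ↔ b ∈ far := fun {b} => Set.Finite.mem_toFinset _
  have hAc : A.card = 180 := by rw [← Set.ncard_eq_toFinset_card _ (Set.toFinite _)]; exact card_nb L hz hS
  have h1 : ∀ a ∈ A, (F.bipartiteAbove (fun a b => Commute a b) a).card = 128 := by
    intro a ha
    have haD := (hA.mp ha).1
    obtain ⟨T, hT⟩ := L.str a haD
    have hzn : z ∈ nb D a := ⟨hz, (hA.mp ha).2.1.symm, (hA.mp ha).2.2.symm⟩
    have hset : ((F.bipartiteAbove (fun a b => Commute a b) a : Finset G) : Set G) =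
        nb D a \ {t | t ∈ nb D a ∧ Commute t z} := by
      ext b
      simp only [Finset.bipartiteAbove, Finset.coe_filter, Set.mem_ofPred_eq, Set.mem_sdiff, hF]
      constructor
      · rintro ⟨⟨hbD, hzb, -⟩, hab⟩
        exact ⟨⟨hbD, fun e => hzb (e ▸ (hA.mp ha).2.2.symm), hab.symm⟩, fun h => hzb h.2.symm⟩
      · rintro ⟨hb, hnb⟩
        exact ⟨⟨hb.1, fun h => hnb ⟨hb, h.symm⟩, a, hA.mp ha, hb.2.2.symm⟩, hb.2.2.symm⟩
    rw [← Set.ncard_coe_finset, hset, Set.ncard_sdiff (fun t ht => ht.1), card_nb L haD hT, card_perp L haD hT hzn]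
  have h2 : ∀ b ∈ F, (A.bipartiteBelow (fun a b => Commute a b) b).card = 45 := by
    intro b hb
    obtain ⟨hbD, hzb, h⟩ := hF.mp hb
    rw [← card_common L hz hbD hzb h, ← Set.ncard_coe_finset]
    congr 1
    ext a
    simp [Finset.bipartiteBelow, hA]
  have hcount := Finset.card_mul_eq_card_mul _ h1 h2
  rw [hAc] at hcount
  have hFc : far.ncard = 512 := by
    rw [Set.ncard_eq_toFinset_card _ (Set.toFinite _)]
    show F.card = 512
    omega
  have e : {b | b ∈ D ∧ (b = z ∨ ∃ a ∈ nb D z, Commute a b)} = ({z} ∪ nb D z) ∪ far := by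
    ext b
    constructor
    · rintro ⟨hb, h | h⟩
      · exact Or.inl (Or.inl h)
      · by_cases hc : Commute z b
        · by_cases hbz : b = z
          · exact Or.inl (Or.inl hbz)
          · exact Or.inl (Or.inr ⟨hb, hbz, hc.symm⟩)
        · exact Or.inr ⟨hb, hc, h⟩
    · rintro ((h | h) | h)
      · exact ⟨(show b = z from h) ▸ hz, Or.inl h⟩
      · exact ⟨h.1, Or.inr ⟨b, h, Commute.refl b⟩⟩
      · exact ⟨h.1, Or.inr h.2.2⟩
  rw [e, Set.ncard_union_eq, Set.ncard_union_eq, Set.ncard_singleton, card_nb L hz hS, hFc]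
  · exact Set.disjoint_singleton_left.mpr fun h => h.2.1 rfl
  · rw [Set.disjoint_left]
    rintro b (h | h) ⟨-, hc, -⟩
    · exact hc ((show b = z from h) ▸ Commute.refl b)
    · exact hc h.2.2.symm

end Cfsg.Agent.Spor.CHZ
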