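import Cfsg.Agent.Lib.Spor.CHZ.XCore
import Cfsg.Agent.Lib.Small.Unitary.Simple

/-!
An involution centraliser whose two-core is a group of order two times an extraspecial group of order 2^9, with
quotient the automorphism group of the group of order 25920: the quotient of the linear part by the second
central involution has the structure studied before, and the whole centraliser acts on its space.
-/

set_option autoImplicit false
set_option linter.unusedSectionVars false
set_option maxHeartbeats 800000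

namespace Cfsg.Agent.Spor.CHZ

open Cfsg.Agent.Spor.SpFour Cfsg.Agent.Small.Unitary
open scoped commutatorElement

universe w

theorem L_perfect : commutator L = ⊤ := commutator_eq_top hstar (by rw [hF]; norm_num) (by norm_num) (by norm_num)

/-- the only normal subgroups of the group of order 25920 -/
theorem L_normal {N : Subgroup L} (hN : N.Normal) : N = ⊥ ∨ N = ⊤ := by
  haveI : IsSimpleGroup (Cfsg.PSU 4 F4 2) := psu_simple hstar (by rw [hF]; norm_num) (by norm_num) (by norm_num)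
  have hcen : Subgroup.center L = ⊥ :=
    Subgroup.eq_bot_of_card_eq _ (Classical.UFourTwo.card_su (F := F4) hF).2
  let e : Cfsg.PSU 4 F4 2 ≃* L := (QuotientGroup.quotientMulEquivOfEq hcen).trans QuotientGroup.quotientBot
  haveI : (N.comap e.toMonoidHom).Normal := hN.comap e.toMonoidHom
  rcases (inferInstance : (N.comap e.toMonoidHom).Normal).eq_bot_or_eq_top with h | h
  · refine Or.inl (Subgroup.comap_injective (f := e.toMonoidHom) e.surjective (h.trans ?_))
    exact ((MonoidHom.comap_bot _).trans (MonoidHom.ker_eq_bot_iff _ |>.mpr e.injective)).symm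
  · exact Or.inr (Subgroup.comap_injective (f := e.toMonoidHom) e.surjective (h.trans (Subgroup.comap_top _).symm))

/-- the centraliser with its subgroup, second central involution and quotient -/
structure DCore {G : Type w} [Group G] (z z1 : G) where
  Q : Subgroup G
  ψ : ↥(Subgroup.centralizer ({z} : Set G)) →* ↥Gam
  ψ_surj : Function.Surjective ψ
  ψ_ker : ∀ c, ψ c = 1 ↔ (c : G) ∈ Q
  ne_one : z ≠ 1
  sqz : z * z = 1
  one_ne : z1 ≠ 1
  sq1 : z1 * z1 = 1
  ne_z : z1 ≠ z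
  cent : ∀ x ∈ Q, Commute x z
  cent1 : ∀ x ∈ Q, Commute x z1
  normal : ∀ c, Commute c z → ∀ x ∈ Q, c * x * c⁻¹ ∈ Q
  zQ : z ∈ Q
  oneQ : z1 ∈ Q
  card : Nat.card Q = 1024
  comm : ∀ x ∈ Q, ∀ y ∈ Q, x * y * x⁻¹ * y⁻¹ = 1 ∨ x * y * x⁻¹ * y⁻¹ = z
  sq : ∀ x ∈ Q, x * x = 1 ∨ x * x = z
  center : ∀ x ∈ Q, (∀ y ∈ Q, Commute x y) → x = 1 ∨ x = z ∨ x = z1 ∨ x = z1 * z
  self : ∀ c, Commute c z → (∀ x ∈ Q, Commute c x) → c ∈ Q

namespace DCore

variable {G : Type w} [Group G] [Finite G] {z z1 : G} (D : DCore z z1)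
include D

theorem z_inv : z⁻¹ = z := inv_eq_of_mul_eq_one_right D.sqz

theorem one_inv : z1⁻¹ = z1 := inv_eq_of_mul_eq_one_right D.sq1

theorem z_comm : Commute z z1 := D.cent1 z D.zQ

theorem zz1_ne : z1 * z ≠ 1 := fun e => D.ne_z ((mul_eq_one_iff_eq_inv.mp e).trans D.z_inv)

/-- the second choice -/
def symm : DCore z (z1 * z) where
  Q := D.Q
  ψ := D.ψ
  ψ_surj := D.ψ_surj
  ψ_ker := D.ψ_ker
  ne_one := D.ne_one
  sqz := D.sqz
  one_ne := D.zz1_ne
  sq1 := by rw [show z1 * z * (z1 * z) = z1 * (z * z1) * z by group, D.z_comm.eq, ← mul_assoc, D.sq1, one_mul, D.sqz]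
  ne_z := fun e => D.one_ne (mul_eq_right.mp e)
  cent := D.cent
  cent1 := fun x hx => (D.cent1 x hx).mul_right (D.cent x hx)
  normal := D.normal
  zQ := D.zQ
  oneQ := D.Q.mul_mem D.oneQ D.zQ
  card := D.card
  comm := D.comm
  sq := D.sq
  center := fun x hx h => by
    rcases D.center x hx h with e | e | e | e
    · exact Or.inl e
    · exact Or.inr (Or.inl e)
    · exact Or.inr (Or.inr (Or.inr (by rw [e, mul_assoc, D.sqz, mul_one])))
    · exact Or.inr (Or.inr (Or.inl e))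
  self := D.self

/-- the image of an element of the centraliser -/
noncomputable def img (c : G) : ↥Gam :=
  haveI := _root_.Classical.dec (c ∈ Subgroup.centralizer ({z} : Set G))
  if h : c ∈ Subgroup.centralizer ({z} : Set G) then D.ψ ⟨c, h⟩ else 1

theorem img_eq {c : G} (hc : Commute c z) :
    D.img c = D.ψ ⟨c, Subgroup.mem_centralizer_singleton_iff.mpr hc.eq⟩ := dif_pos _

theorem img_mul {c d : G} (hc : Commute c z) (hd : Commute d z) : D.img (c * d) = D.img c * D.img d := by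
  rw [D.img_eq hc, D.img_eq hd, D.img_eq (hc.mul_left hd), ← map_mul]
  rfl

theorem img_one : D.img (1 : G) = 1 := by
  rw [D.img_eq (Commute.one_left z)]
  exact map_one D.ψ

theorem img_inv {c : G} (hc : Commute c z) : D.img c⁻¹ = (D.img c)⁻¹ := by
  rw [D.img_eq hc, D.img_eq hc.inv_left, ← map_inv]
  rfl

theorem img_pow {c : G} (hc : Commute c z) (n : ℕ) : D.img (c ^ n) = D.img c ^ n := by
  induction n with
  | zero => rw [pow_zero, pow_zero, D.img_one]
  | succ n ih => rw [pow_succ, pow_succ, D.img_mul (hc.pow_left n) hc, ih]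

theorem img_eq_one {c : G} (hc : Commute c z) : D.img c = 1 ↔ c ∈ D.Q := by
  rw [D.img_eq hc]
  exact D.ψ_ker _

theorem img_Q {x : G} (hx : x ∈ D.Q) : D.img x = 1 := (D.img_eq_one (D.cent x hx)).mpr hx

theorem img_surj (g : ↥Gam) : ∃ c, Commute c z ∧ D.img c = g := by
  obtain ⟨c, hc⟩ := D.ψ_surj g
  exact ⟨c, Subgroup.mem_centralizer_singleton_iff.mp c.2,
    (D.img_eq (c := (c : G)) (Subgroup.mem_centralizer_singleton_iff.mp c.2)).trans hc⟩

theorem isPGroup_Q : IsPGroup 2 D.Q := IsPGroup.of_card (n := 10) (by rw [D.card]; norm_num)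

/-- membership in the centre -/
def InW (_D : DCore z z1) (x : G) : Prop := x = 1 ∨ x = z ∨ x = z1 ∨ x = z1 * z

theorem InW.mem {x : G} (h : D.InW x) : x ∈ D.Q := by
  rcases h with rfl | rfl | rfl | rfl
  exacts [D.Q.one_mem, D.zQ, D.oneQ, D.Q.mul_mem D.oneQ D.zQ]

theorem InW.comm_Q {x : G} (h : D.InW x) {y : G} (hy : y ∈ D.Q) : Commute y x := by
  rcases h with rfl | rfl | rfl | rfl
  exacts [Commute.one_right y, D.cent y hy, D.cent1 y hy, (D.cent1 y hy).mul_right (D.cent y hy)]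

/-- the centre -/
def W : Subgroup G where
  carrier := {x | D.InW x}
  one_mem' := Or.inl rfl
  mul_mem' := by
    have e1 : z * z1 = z1 * z := D.z_comm.eq
    have e3 : z * (z1 * z) = z1 := by rw [← mul_assoc, e1, mul_assoc, D.sqz, mul_one]
    have e4 : z1 * (z1 * z) = z := by rw [← mul_assoc, D.sq1, one_mul]
    have e5 : z1 * z * z = z1 := by rw [mul_assoc, D.sqz, mul_one]
    have e6 : z1 * z * z1 = z := by rw [mul_assoc, e1, e4]
    have e7 : z1 * z * (z1 * z) = 1 := D.symm.sq1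
    rintro x y (rfl | rfl | rfl | rfl) (rfl | rfl | rfl | rfl) <;>
      simp only [InW, Set.mem_ofPred_eq, one_mul, mul_one, D.sqz, D.sq1, e1, e3, e4, e5, e6, e7, true_or, or_true]
  inv_mem' := by
    rintro x (rfl | rfl | rfl | rfl)
    · exact Or.inl inv_one
    · exact Or.inr (Or.inl D.z_inv)
    · exact Or.inr (Or.inr (Or.inl D.one_inv))
    · exact Or.inr (Or.inr (Or.inr D.symm.one_inv))

theorem mem_W {x : G} : x ∈ D.W ↔ x = 1 ∨ x = z ∨ x = z1 ∨ x = z1 * z := Iff.rfl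

theorem W_le : D.W ≤ D.Q := fun _ hx => InW.mem D hx

theorem mem_W_iff {x : G} : x ∈ D.W ↔ x ∈ D.Q ∧ ∀ y ∈ D.Q, Commute x y :=
  ⟨fun hx => ⟨InW.mem D hx, fun _ hy => (InW.comm_Q D hx hy).symm⟩, fun h => D.center x h.1 h.2⟩

theorem card_W : Nat.card D.W = 4 := by
  classical
  have h : ((D.W : Subgroup G) : Set G) = (({1, z, z1, z1 * z} : Finset G) : Set G) := by
    ext x
    simp [D.mem_W]
  show Nat.card ↥((D.W : Subgroup G) : Set G) = 4
  rw [h, Nat.card_coe_set_eq, Set.ncard_coe_finset, Finset.card_insert_of_notMem, Finset.card_insert_of_notMem,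
    Finset.card_insert_of_notMem, Finset.card_singleton]
  · simp only [Finset.mem_singleton]
    exact fun e => D.ne_one (mul_eq_left.mp e.symm)
  · simp only [Finset.mem_insert, Finset.mem_singleton, not_or]
    exact ⟨Ne.symm D.ne_z, fun e => D.one_ne (mul_eq_right.mp e.symm)⟩
  · simp only [Finset.mem_insert, Finset.mem_singleton, not_or]
    exact ⟨Ne.symm D.ne_one, Ne.symm D.one_ne, Ne.symm D.zz1_ne⟩

/-- the centraliser permutes the centre -/
theorem W_conj {c : G} (hc : Commute c z) {x : G} (hx : x ∈ D.W) : c * x * c⁻¹ ∈ D.W := by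
  refine D.mem_W_iff.mpr ⟨D.normal c hc x (InW.mem D hx), fun y hy => ?_⟩
  have h := ((D.mem_W_iff.mp hx).2 (c⁻¹ * y * c) (by simpa using D.normal c⁻¹ hc.inv_left y hy)).map
    (MulAut.conj c).toMonoidHom
  simpa [mul_assoc] using h

theorem conj_one {c : G} (hc : Commute c z) : c * z1 * c⁻¹ = z1 ∨ c * z1 * c⁻¹ = z1 * z := by
  rcases D.mem_W.mp (D.W_conj hc (Or.inr (Or.inr (Or.inl rfl)))) with e | e | e | e
  · exact absurd (conj_eq_one_iff.mp e) D.one_ne
  · refine absurd ?_ D.ne_z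
    rw [show z1 = c⁻¹ * (c * z1 * c⁻¹) * c by group, e, mul_assoc, ← hc.eq, inv_mul_cancel_left]
  · exact Or.inl e
  · exact Or.inr e

/-- the elements acting linearly -/
noncomputable def lin : Subgroup G where
  carrier := {c | Commute c z ∧ D.img c ∈ ι.range}
  one_mem' := ⟨Commute.one_left z, by rw [D.img_one]; exact one_mem _⟩
  mul_mem' := fun ha hb => ⟨ha.1.mul_left hb.1, by rw [D.img_mul ha.1 hb.1]; exact mul_mem ha.2 hb.2⟩
  inv_mem' := fun ha => ⟨ha.1.inv_left, by rw [D.img_inv ha.1]; exact inv_mem ha.2⟩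

theorem Q_le : D.Q ≤ D.lin := fun x hx => ⟨D.cent x hx, by rw [D.img_Q hx]; exact one_mem _⟩

/-- the linear elements fix the second involution -/
theorem lin_fix {c : G} (hc : c ∈ D.lin) : Commute c z1 := by
  classical
  have hswap : ∀ {a}, Commute a z → a * z1 * a⁻¹ = z1 * z → a * (z1 * z) * a⁻¹ = z1 := fun {a} ha e => by
    rw [show a * (z1 * z) * a⁻¹ = a * z1 * a⁻¹ * (a * z * a⁻¹) by group, e, ha.eq, mul_inv_cancel_right,
      mul_assoc, D.sqz, mul_one]
  have hinv : ∀ {a}, Commute a z → a⁻¹ * z1 * a⁻¹⁻¹ = a * z1 * a⁻¹ := fun {a} ha => by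
    rcases D.conj_one ha with e | e <;> rw [e, inv_inv]
    · exact (by rw [mul_assoc, ← (mul_inv_eq_iff_eq_mul.mp e), inv_mul_cancel_left])
    · calc a⁻¹ * z1 * a = a⁻¹ * (a * (z1 * z) * a⁻¹) * a := by rw [hswap ha e]
        _ = z1 * z := by group
  have hQfix : ∀ {q}, q ∈ D.Q → q * z1 * q⁻¹ = z1 := fun hq => by rw [(D.cent1 _ hq).eq, mul_inv_cancel_right]
  -- the group elements all whose lifts fix the involution
  let N : Subgroup L :=
    { carrier := {g | ∀ a, Commute a z → D.img a = ι g → a * z1 * a⁻¹ = z1}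
      one_mem' := fun a ha e => hQfix ((D.img_eq_one ha).mp (by rw [e, map_one]))
      mul_mem' := fun {g h} hg hh a ha e => by
        obtain ⟨b, hb, hbh⟩ := D.img_surj (ι h)
        have h1 : (a * b⁻¹) * z1 * (a * b⁻¹)⁻¹ = z1 := hg _ (ha.mul_left hb.inv_left) (by
          rw [D.img_mul ha hb.inv_left, D.img_inv hb, e, hbh, map_mul, mul_inv_cancel_right])
        have h2 := hh b hb hbh
        calc a * z1 * a⁻¹ = (a * b⁻¹) * (b * z1 * b⁻¹) * (a * b⁻¹)⁻¹ := by group
          _ = z1 := by rw [h2, h1]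
      inv_mem' := fun {g} hg a ha e => by
        have h1 := hg a⁻¹ ha.inv_left (by rw [D.img_inv ha, e, map_inv, inv_inv])
        rwa [hinv ha] at h1 }
  suffices hN : N = ⊤ by
    obtain ⟨g, hg⟩ := hc.2
    have := (hN ▸ Subgroup.mem_top g : g ∈ N) c hc.1 hg.symm
    exact mul_inv_eq_iff_eq_mul.mp this
  rw [eq_top_iff, ← L_perfect, commutator_def, Subgroup.commutator_le]
  intro g _ h _ a ha e
  obtain ⟨b, hb, hbg⟩ := D.img_surj (ι g)
  obtain ⟨d, hd, hdh⟩ := D.img_surj (ι h)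
  obtain ⟨k, hk⟩ : ∃ k, k = b * d * b⁻¹ * d⁻¹ := ⟨_, rfl⟩
  have hkz : Commute k z := hk ▸ ((hb.mul_left hd).mul_left hb.inv_left).mul_left hd.inv_left
  have hkimg : D.img k = ι ⁅g, h⁆ := by
    rw [hk, D.img_mul ((hb.mul_left hd).mul_left hb.inv_left) hd.inv_left, D.img_mul (hb.mul_left hd) hb.inv_left,
      D.img_mul hb hd, D.img_inv hb, D.img_inv hd, hbg, hdh, commutatorElement_def, map_mul, map_mul, map_mul,
      map_inv, map_inv]
  have hkfix : k * z1 * k⁻¹ = z1 := by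
    have step : ∀ {p}, Commute p z → ∀ x, x = z1 ∨ x = z1 * z →
        p * x * p⁻¹ = if p * z1 * p⁻¹ = z1 then x else x * z := by
      intro p hp x hx
      rcases hx with rfl | rfl
      · split_ifs with h
        · exact h
        · exact (D.conj_one hp).resolve_left h
      · split_ifs with h
        · rw [show p * (z1 * z) * p⁻¹ = p * z1 * p⁻¹ * (p * z * p⁻¹) by group, h, hp.eq, mul_inv_cancel_right]
        · rw [hswap hp ((D.conj_one hp).resolve_left h), mul_assoc, D.sqz, mul_one]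
    rw [hk, show b * d * b⁻¹ * d⁻¹ * z1 * (b * d * b⁻¹ * d⁻¹)⁻¹ =
      b * (d * (b⁻¹ * (d⁻¹ * z1 * d⁻¹⁻¹) * b⁻¹⁻¹) * d⁻¹) * b⁻¹ by group]
    have c1 := D.conj_one hd.inv_left
    rw [step hb.inv_left _ c1, hinv hb, hinv hd]
    have hmem : ∀ {x}, (x = z1 ∨ x = z1 * z) → (x * z = z1 ∨ x * z = z1 * z) := fun hx => by
      rcases hx with rfl | rfl
      · exact Or.inr rfl
      · exact Or.inl (by rw [mul_assoc, D.sqz, mul_one])
    have hne : z1 * z ≠ z1 := fun e' => D.ne_one (mul_eq_left.mp e')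
    by_cases h1 : b * z1 * b⁻¹ = z1 <;> by_cases h2 : d * z1 * d⁻¹ = z1
    · simp only [h1, h2, if_true, step hd _ (Or.inl rfl), step hb _ (Or.inl rfl)]
    · simp only [h1, if_true, (D.conj_one hd).resolve_left h2, step hd _ (Or.inr rfl), h2, if_false,
        mul_assoc z1 z z, D.sqz, mul_one, hne, step hb _ (Or.inl rfl)]
    · simp only [h1, h2, if_false, if_true, step hd _ (hmem (Or.inl rfl)), step hb _ (Or.inr rfl),
        mul_assoc z1 z z, D.sqz, mul_one]
    · simp only [h1, if_false, (D.conj_one hd).resolve_left h2, h2, mul_assoc z1 z z, D.sqz, mul_one,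
        step hd _ (Or.inl rfl), step hb _ (Or.inr rfl)]
  have hq : k⁻¹ * a ∈ D.Q := (D.img_eq_one (hkz.inv_left.mul_left ha)).mp (by
    rw [D.img_mul hkz.inv_left ha, D.img_inv hkz, hkimg, e, inv_mul_cancel])
  rw [show a * z1 * a⁻¹ = k * ((k⁻¹ * a) * z1 * (k⁻¹ * a)⁻¹) * k⁻¹ by group, hQfix hq, hkfix]

/-- a normal two-subgroup of the linear part is inside the subgroup -/
theorem two_le {P : Subgroup G} (hP : IsPGroup 2 P) (hPz : ∀ x ∈ P, Commute x z)
    (hn : ∀ c ∈ D.lin, ∀ x ∈ P, c * x * c⁻¹ ∈ P) : P ≤ D.Q := by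
  obtain ⟨P', hP'⟩ : ∃ P' : Subgroup ↥Gam, P' = (P.subgroupOf (Subgroup.centralizer ({z} : Set G))).map D.ψ :=
    ⟨_, rfl⟩
  have hmem : ∀ {f}, f ∈ P' ↔ ∃ x ∈ P, D.img x = f := by
    intro f
    rw [hP']
    constructor
    · rintro ⟨c, hc, rfl⟩
      exact ⟨c, hc, D.img_eq (Subgroup.mem_centralizer_singleton_iff.mp c.2)⟩
    · rintro ⟨x, hx, rfl⟩
      exact ⟨⟨x, Subgroup.mem_centralizer_singleton_iff.mpr (hPz x hx).eq⟩, hx, (D.img_eq (hPz x hx)).symm⟩
  have hconj : ∀ g : L, ∀ f ∈ P', ι g * f * (ι g)⁻¹ ∈ P' := by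
    intro g f hf
    obtain ⟨x, hx, rfl⟩ := hmem.mp hf
    obtain ⟨c, hc, hcg⟩ := D.img_surj (ι g)
    refine hmem.mpr ⟨_, hn c ⟨hc, hcg ▸ ⟨g, rfl⟩⟩ x hx, ?_⟩
    rw [D.img_mul (hc.mul_left (hPz x hx)) hc.inv_left, D.img_mul hc (hPz x hx), D.img_inv hc, hcg]
  have hp2 : IsPGroup 2 P' := hP' ▸ (hP.comap_of_injective _ Subtype.val_injective).map _
  haveI : (P'.comap ι).Normal := ⟨fun x hx g => by
    show ι (g * x * g⁻¹) ∈ P'
    rw [map_mul, map_mul, map_inv]
    exact hconj g _ hx⟩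
  have hbot : P'.comap ι = ⊥ := (L_normal inferInstance).resolve_right fun e => by
    have h := Two.isPGroup_comap hp2
    rw [e] at h
    obtain ⟨n, hn⟩ := h.exists_card_eq
    rw [Subgroup.card_top, card_L] at hn
    have h81 : 3 ∣ 2 ^ n := hn ▸ (by norm_num : 3 ∣ 25920)
    exact absurd (Nat.prime_three.dvd_of_dvd_pow h81) (by norm_num)
  intro x hx
  refine (D.img_eq_one (hPz x hx)).mp (centralizes fun g => ?_)
  have hm : D.img x * ι g * (D.img x)⁻¹ * (ι g)⁻¹ ∈ ι.range :=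
    mul_mem (range_normal _ g) (inv_mem ⟨g, rfl⟩)
  obtain ⟨g', hg'⟩ := hm
  have hP'' : ι g' ∈ P' := by
    rw [hg', show D.img x * ι g * (D.img x)⁻¹ * (ι g)⁻¹ = D.img x * (ι g * (D.img x)⁻¹ * (ι g)⁻¹) by group]
    exact P'.mul_mem (hmem.mpr ⟨x, hx, rfl⟩) (hconj g _ (P'.inv_mem (hmem.mpr ⟨x, hx, rfl⟩)))
  have : g' = 1 := Subgroup.mem_bot.mp (hbot ▸ (hP'' : g' ∈ P'.comap ι))
  rw [this, map_one] at hg'
  exact mul_inv_eq_iff_eq_mul.mp (mul_inv_eq_one.mp hg'.symm)

/-- only the subgroup moves every element along the second involution -/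
theorem self_one {c : G} (hc : c ∈ D.lin) (h : ∀ x ∈ D.Q, c * x * c⁻¹ = x ∨ c * x * c⁻¹ = x * z1) : c ∈ D.Q := by
  classical
  have hz1 : ∀ {a}, a ∈ D.lin → a * z1 * a⁻¹ = z1 := fun ha => by rw [(D.lin_fix ha).eq, mul_inv_cancel_right]
  let N : Subgroup G :=
    { carrier := {a | a ∈ D.lin ∧ ∀ x ∈ D.Q, a * x * a⁻¹ = x ∨ a * x * a⁻¹ = x * z1}
      one_mem' := ⟨D.lin.one_mem, fun x _ => Or.inl (by group)⟩
      mul_mem' := fun {a b} ha hb => ⟨D.lin.mul_mem ha.1 hb.1, fun x hx => by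
        have e0 : a * b * x * (a * b)⁻¹ = a * (b * x * b⁻¹) * a⁻¹ := by group
        have e1 : a * (x * z1) * a⁻¹ = a * x * a⁻¹ * z1 := by
          rw [show a * (x * z1) * a⁻¹ = a * x * a⁻¹ * (a * z1 * a⁻¹) by group, hz1 ha.1]
        rw [e0]
        rcases hb.2 x hx with e | e <;> rcases ha.2 x hx with e' | e' <;> rw [e]
        · exact Or.inl e'
        · exact Or.inr e'
        · exact Or.inr (by rw [e1, e'])
        · exact Or.inl (by rw [e1, e', mul_assoc, D.sq1, mul_one])⟩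
      inv_mem' := fun {a} ha => ⟨D.lin.inv_mem ha.1, fun x hx => by
        rcases ha.2 x hx with e | e
        · exact Or.inl (by rw [inv_inv]; calc a⁻¹ * x * a = a⁻¹ * (a * x * a⁻¹) * a := by rw [e]
                                              _ = x := by group)
        · refine Or.inr ?_
          have e' : a⁻¹ * (x * z1) * a = x := by rw [← e]; group
          rw [inv_inv]
          calc a⁻¹ * x * a = a⁻¹ * (x * z1) * a * (a⁻¹ * z1 * a) := by
                rw [show a⁻¹ * (x * z1) * a * (a⁻¹ * z1 * a) = a⁻¹ * (x * (z1 * z1)) * a by group, D.sq1, mul_one]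
            _ = x * z1 := by rw [e', mul_assoc a⁻¹, ← (D.lin_fix ha.1).eq, inv_mul_cancel_left]⟩ }
  have hNQ : IsPGroup 2 N := by
    intro a
    -- the square centralises the subgroup
    have h2 : (a : G) * a ∈ D.Q := D.self _ (a.2.1.1.mul_left a.2.1.1) fun x hx => by
      refine mul_inv_eq_iff_eq_mul.mp ?_
      rw [show (a : G) * a * x * ((a : G) * a)⁻¹ = a * (a * x * (a : G)⁻¹) * (a : G)⁻¹ by group]
      rcases a.2.2 x hx with e | e
      · rw [e, e]
      · rw [e, show (a : G) * (x * z1) * (a : G)⁻¹ = a * x * (a : G)⁻¹ * (a * z1 * (a : G)⁻¹) by group, hz1 a.2.1, e,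
          mul_assoc, D.sq1, mul_one]
    obtain ⟨k, hk⟩ := D.isPGroup_Q ⟨_, h2⟩
    refine ⟨k + 1, Subtype.ext ?_⟩
    rw [pow_succ', pow_mul, Subgroup.coe_pow, Subgroup.coe_one, Subgroup.coe_pow, pow_two]
    exact congrArg Subtype.val hk
  refine D.two_le hNQ (fun x hx => hx.1.1) (fun a ha x hx => ⟨D.lin.mul_mem (D.lin.mul_mem ha hx.1) (D.lin.inv_mem ha),
    fun y hy => ?_⟩) ⟨hc, h⟩
  obtain ⟨y', hy'⟩ : ∃ y', y' = a⁻¹ * y * a := ⟨_, rfl⟩
  have hy'Q : y' ∈ D.Q := by
    have := D.normal a⁻¹ ha.1.inv_left y hy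
    rwa [inv_inv, ← hy'] at this
  rw [show a * x * a⁻¹ * y * (a * x * a⁻¹)⁻¹ = a * (x * (a⁻¹ * y * a) * x⁻¹) * a⁻¹ by group, ← hy']
  rcases hx.2 y' hy'Q with e | e <;> rw [e, hy']
  · exact Or.inl (by group)
  · refine Or.inr ?_
    rw [show a * (a⁻¹ * y * a * z1) * a⁻¹ = y * (a * z1 * a⁻¹) by group, hz1 ha]

/-- the second involution among the linear elements -/
noncomputable def Z1 : Subgroup ↥D.lin := (Subgroup.zpowers z1).subgroupOf D.lin

theorem mem_zp1 {x : G} : x ∈ Subgroup.zpowers z1 ↔ x = 1 ∨ x = z1 := by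
  refine ⟨fun h => ?_, ?_⟩
  · obtain ⟨k, rfl⟩ := Subgroup.mem_zpowers_iff.mp h
    rcases Int.even_or_odd' k with ⟨j, rfl | rfl⟩
    · left; rw [zpow_mul, zpow_two, D.sq1, one_zpow]
    · right; rw [zpow_add, zpow_mul, zpow_two, D.sq1, one_zpow, one_mul, zpow_one]
  · rintro (rfl | rfl)
    exacts [one_mem _, Subgroup.mem_zpowers _]

instance Z1_normal : D.Z1.Normal := ⟨fun n hn g => by
  have e : g * n * g⁻¹ = n := Subtype.ext (by
    rcases D.mem_zp1.mp hn with h | h
    · show (g : G) * n * (g : G)⁻¹ = n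
      rw [show ((n : G)) = 1 from h, mul_one, mul_inv_cancel]
    · show (g : G) * n * (g : G)⁻¹ = n
      rw [show ((n : G)) = z1 from h, (D.lin_fix g.2).eq, mul_inv_cancel_right])
  rwa [e]⟩

/-- the quotient of the linear part -/
abbrev LQ : Type w := ↥D.lin ⧸ D.Z1

/-- the involution in the quotient -/
noncomputable def zb : D.LQ := QuotientGroup.mk' D.Z1 ⟨z, D.Q_le D.zQ⟩

/-- the class of an element -/
noncomputable def cls (x : ↥D.lin) : D.LQ := QuotientGroup.mk' D.Z1 x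

theorem cls_eq {x y : ↥D.lin} : D.cls x = D.cls y ↔ (y : G) = x ∨ (y : G) = x * z1 := by
  rw [cls, cls, QuotientGroup.mk'_apply, QuotientGroup.mk'_apply, QuotientGroup.eq]
  show ((x⁻¹ * y : ↥D.lin) : G) ∈ Subgroup.zpowers z1 ↔ _
  rw [D.mem_zp1, Subgroup.coe_mul, Subgroup.coe_inv]
  exact or_congr (inv_mul_eq_one.trans eq_comm) inv_mul_eq_iff_eq_mul

/-- the image of a linear element -/
noncomputable def limg : ↥D.lin →* ↥ι.range :=
  MonoidHom.mk' (fun c => ⟨D.img (c : G), c.2.2⟩) fun a b => Subtype.ext (D.img_mul a.2.1 b.2.1)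

/-- the map on the quotient -/
noncomputable def qimg : D.LQ →* L :=
  QuotientGroup.lift D.Z1 ((MonoidHom.ofInjective ι_inj).symm.toMonoidHom.comp D.limg) fun c hc => by
    rw [MonoidHom.mem_ker, MonoidHom.comp_apply, MulEquiv.coe_toMonoidHom, MulEquiv.map_eq_one_iff]
    refine Subtype.ext (D.img_Q ?_)
    rcases D.mem_zp1.mp hc with h | h <;> rw [show ((c : G)) = _ from h]
    exacts [D.Q.one_mem, D.oneQ]

theorem ι_qimg (x : ↥D.lin) : ι (D.qimg (D.cls x)) = D.img (x : G) :=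
  congrArg Subtype.val ((MonoidHom.ofInjective ι_inj).apply_symm_apply (D.limg x))

/-- the quotient of the subgroup -/
noncomputable def Qb : Subgroup D.LQ := (D.Q.subgroupOf D.lin).map (QuotientGroup.mk' D.Z1)

theorem mem_Qb {x : ↥D.lin} : D.cls x ∈ D.Qb ↔ (x : G) ∈ D.Q := by
  constructor
  · rintro ⟨y, hy, e⟩
    rcases D.cls_eq.mp e with h | h <;> rw [h]
    exacts [hy, D.Q.mul_mem hy D.oneQ]
  · exact fun h => ⟨x, h, rfl⟩

/-- the structure on the quotient -/
noncomputable def core : Core D.zb :=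
  have hall : ∀ c : D.LQ, Commute c D.zb := fun c => by
    obtain ⟨c, rfl⟩ := QuotientGroup.mk'_surjective D.Z1 c
    exact (show Commute c ⟨z, D.Q_le D.zQ⟩ from Subtype.ext c.2.1.eq).map _
  { Q := D.Qb
    ψ := D.qimg.comp (Subgroup.centralizer ({D.zb} : Set D.LQ)).subtype
    ψ_surj := fun g => by
      obtain ⟨c, hc, hcg⟩ := D.img_surj (ι g)
      refine ⟨⟨D.cls ⟨c, hc, hcg ▸ ⟨g, rfl⟩⟩, Subgroup.mem_centralizer_singleton_iff.mpr (hall _).eq⟩, ι_inj ?_⟩
      rw [MonoidHom.comp_apply]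
      exact (D.ι_qimg ⟨c, _⟩).trans hcg
    ψ_ker := fun c => by
      obtain ⟨x, hx⟩ := QuotientGroup.mk'_surjective D.Z1 (c : D.LQ)
      rw [MonoidHom.comp_apply, Subgroup.coe_subtype, ← hx]
      show D.qimg (D.cls x) = 1 ↔ D.cls x ∈ D.Qb
      rw [D.mem_Qb, ← D.img_eq_one x.2.1, ← D.ι_qimg, map_eq_one_iff ι ι_inj]
    z1 := fun e => by
      rcases D.cls_eq.mp (show D.cls 1 = D.cls ⟨z, D.Q_le D.zQ⟩ from e.symm) with h | h
      · exact D.ne_one h
      · exact D.ne_z (h.trans (one_mul _)).symm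
    z2 := by
      show D.cls _ * D.cls _ = 1
      rw [cls, ← map_mul, show (⟨z, D.Q_le D.zQ⟩ : ↥D.lin) * ⟨z, D.Q_le D.zQ⟩ = 1 from Subtype.ext D.sqz, map_one]
    cent := fun x _ => hall x
    normal := by
      rintro c - _ ⟨x, hx, rfl⟩
      obtain ⟨c, rfl⟩ := QuotientGroup.mk'_surjective D.Z1 c
      refine ⟨c * x * c⁻¹, D.normal _ c.2.1 _ hx, by rw [map_mul, map_mul, map_inv]⟩
    zQ := D.mem_Qb.mpr D.zQ
    card := by
      have h := ((QuotientGroup.mk' D.Z1).comp (D.Q.subgroupOf D.lin).subtype).ker.card_mul_index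
      rw [Subgroup.index_ker, MonoidHom.range_comp, Subgroup.range_subtype, ← Qb,
        Nat.card_congr (Subgroup.subgroupOfEquivOfLe D.Q_le).toEquiv, D.card] at h
      have hk : Nat.card ((QuotientGroup.mk' D.Z1).comp (D.Q.subgroupOf D.lin).subtype).ker = 2 := by
        have hz : (⟨⟨z1, D.Q_le D.oneQ⟩, D.oneQ⟩ : D.Q.subgroupOf D.lin) ∈
            ((QuotientGroup.mk' D.Z1).comp (D.Q.subgroupOf D.lin).subtype).ker :=
          (QuotientGroup.eq_one_iff _).mpr (D.mem_zp1.mpr (Or.inr rfl))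
        refine Nat.card_eq_two_iff.mpr ⟨1, ⟨_, hz⟩, fun e => D.one_ne
          (congrArg Subtype.val (congrArg Subtype.val (congrArg Subtype.val e))).symm, ?_⟩
        refine Set.eq_univ_of_forall fun v => ?_
        rcases D.mem_zp1.mp ((QuotientGroup.eq_one_iff (N := D.Z1) ((v : D.Q.subgroupOf D.lin) : ↥D.lin)).mp v.2) with e | e
        · exact Or.inl (Subtype.ext (Subtype.ext (Subtype.ext e)))
        · exact Or.inr (Subtype.ext (Subtype.ext (Subtype.ext e)))
      rw [hk] at h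
      change Nat.card ↥D.Qb = _
      exact Nat.eq_of_mul_eq_mul_left two_pos (h.trans (by norm_num))
    comm := by
      rintro _ ⟨x, hx, rfl⟩ _ ⟨y, hy, rfl⟩
      rw [← map_inv, ← map_inv, ← map_mul, ← map_mul, ← map_mul]
      rcases D.comm _ hx _ hy with e | e
      · exact Or.inl (by rw [show x * y * x⁻¹ * y⁻¹ = 1 from Subtype.ext e, map_one])
      · exact Or.inr (congrArg (QuotientGroup.mk' D.Z1) (Subtype.ext e))
    sq := by
      rintro _ ⟨x, hx, rfl⟩
      rw [← map_mul]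
      rcases D.sq _ hx with e | e
      · exact Or.inl (by rw [show x * x = 1 from Subtype.ext e, map_one])
      · exact Or.inr (congrArg (QuotientGroup.mk' D.Z1) (Subtype.ext e))
    center := by
      rintro _ ⟨x, hx, rfl⟩ h
      have hW : (x : G) ∈ D.W := D.center _ hx fun y hy => by
        have h' := h (D.cls ⟨y, D.Q_le hy⟩) (D.mem_Qb.mpr hy)
        rcases D.comm _ hx y hy with e | e
        · exact mul_inv_eq_iff_eq_mul.mp (mul_inv_eq_one.mp e)
        exfalso
        have hone : D.cls (x * ⟨y, D.Q_le hy⟩ * x⁻¹ * (⟨y, D.Q_le hy⟩ : ↥D.lin)⁻¹) = D.cls 1 := by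
          simp only [cls, map_mul, map_inv, map_one]
          have e' : QuotientGroup.mk' D.Z1 x * QuotientGroup.mk' D.Z1 ⟨y, D.Q_le hy⟩ =
            QuotientGroup.mk' D.Z1 ⟨y, D.Q_le hy⟩ * QuotientGroup.mk' D.Z1 x := h'.eq
          rw [e']
          group
        rcases D.cls_eq.mp hone.symm with a | a
        · exact D.ne_one (e ▸ a : z = 1)
        · exact D.ne_z (by rw [← one_mul z1]; exact ((e ▸ a : z = (1 : G) * z1)).symm)
      rcases hW with e | e | e | e
      · exact Or.inl (by rw [show x = 1 from Subtype.ext e, map_one])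
      · exact Or.inr (congrArg (QuotientGroup.mk' D.Z1) (Subtype.ext e))
      · exact Or.inl ((QuotientGroup.eq_one_iff _).mpr (D.mem_zp1.mpr (Or.inr e)))
      · refine Or.inr (D.cls_eq.mpr (Or.inr ?_))
        show z = (x : G) * z1
        rw [e, mul_assoc, D.z_comm.eq, ← mul_assoc, D.sq1, one_mul]
    self := by
      intro c _ h
      obtain ⟨c, rfl⟩ := QuotientGroup.mk'_surjective D.Z1 c
      refine D.mem_Qb.mpr (D.self_one c.2 fun x hx => ?_)
      have h' := h (D.cls ⟨x, D.Q_le hx⟩) (D.mem_Qb.mpr hx)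
      have e : D.cls ⟨x, D.Q_le hx⟩ = D.cls (c * ⟨x, D.Q_le hx⟩ * c⁻¹) := by
        simp only [cls, map_mul, map_inv]
        exact (mul_inv_eq_iff_eq_mul.mpr h'.eq).symm
      exact (D.cls_eq.mp e).imp id id }

end DCore

end Cfsg.Agent.Spor.CHZ
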