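import Cfsg.Agent.Lib.Spor.CHZ.Mono
import Mathlib.Algebra.Module.ZMod
import Mathlib.Algebra.BigOperators.Group.Finset.Sigma

/-!
An eight-dimensional orthogonal space with a faithful action of the group, cut by its diagonal subgroup.
-/

set_option autoImplicit false
set_option maxRecDepth 100000
set_option linter.unusedSectionVars false

namespace Cfsg.Agent.Spor.CHZ

open Cfsg.Agent.Spor.SpFour Cfsg.Agent.Small.Unitary

universe w

/-- an action on a quadratic space over two elements -/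
structure Rep (M : Type w) [AddCommGroup M] [Module (ZMod 2) M] where
  ρ : L → M → M
  q : M → ZMod 2
  one : ∀ x, ρ 1 x = x
  mul : ∀ g h x, ρ (g * h) x = ρ g (ρ h x)
  add : ∀ g x y, ρ g (x + y) = ρ g x + ρ g y
  q_act : ∀ g x, q (ρ g x) = q x
  q_zero : q 0 = 0
  biadd : ∀ x y u, q (x + y + u) + q (x + y) + q u = (q (x + u) + q x + q u) + (q (y + u) + q y + q u)
  nondeg : ∀ x, x ≠ 0 → ∃ y, q (x + y) + q x + q y = 1
  card : Nat.card M = 256
  faithful : ∀ g, (∀ x, ρ g x = x) → g = 1

/-- the functionals on the diagonal group: the trivial one, four coordinates, six differences, three sums -/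
def fn (k : Fin 14) (a : A3) : ZMod 3 :=
  ![0, co a 0, co a 1, co a 2, co a 3, co a 0 - co a 1, co a 0 - co a 2, co a 0 - co a 3, co a 1 - co a 2,
    co a 1 - co a 3, co a 2 - co a 3, co a 0 + co a 1, co a 0 + co a 2, co a 0 + co a 3] k

/-- the group ring elements of the projections -/
def pf (k : Fin 14) (a : A3) : ZMod 2 := if k = 0 then 1 else if fn k a = 0 then 0 else 1

/-- convolution -/
def conv (f g : A3 → ZMod 2) (c : A3) : ZMod 2 := ∑ a, f a * g (c - a)

/-- the point mass -/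
def dl (b : A3) (a : A3) : ZMod 2 := if a = b then 1 else 0

theorem pf_ortho : ∀ k k' : Fin 14, ∀ c, conv (pf k) (pf k') c = if k = k' then pf k c else 0 := by
  decide +kernel

theorem pf_sum : ∀ c : A3, ∑ k, pf k c = dl 0 c := by decide +kernel

theorem pf_fixed : ∀ k : Fin 14, ∀ b : A3, fn k b = 0 → ∀ c, conv (dl b) (pf k) c = pf k c := by decide +kernel

theorem fn_surj : ∀ k : Fin 14, k ≠ 0 → ∃ b : A3, fn k b = 1 := by decide +kernel

theorem fn_add : ∀ k : Fin 14, ∀ a b : A3, fn k (a + b) = fn k a + fn k b := by decide +kernel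

theorem fn_zero : ∀ k : Fin 14, fn k 0 = 0 := by decide +kernel

theorem three_smul' : ∀ b : A3, b + b + b = 0 := by decide +kernel

namespace Rep

variable {M : Type w} [AddCommGroup M] [Module (ZMod 2) M] (R : Rep M)

theorem self_add (_R : Rep M) (x : M) : x + x = 0 := by
  rw [← two_nsmul, ← Nat.cast_smul_eq_nsmul (ZMod 2)]
  show (0 : ZMod 2) • x = 0
  rw [zero_smul]

theorem ρ_zero (g : L) : R.ρ g 0 = 0 := by
  have h := R.add g 0 0
  rw [add_zero] at h
  exact left_eq_add.mp h

/-- the action as an additive map -/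
def hom (g : L) : M →+ M where
  toFun := R.ρ g
  map_zero' := R.ρ_zero g
  map_add' := R.add g

theorem ρ_smul (g : L) (c : ZMod 2) (x : M) : R.ρ g (c • x) = c • R.ρ g x := by
  rcases (show ∀ c : ZMod 2, c = 0 ∨ c = 1 by decide) c with rfl | rfl
  · rw [zero_smul, zero_smul, R.ρ_zero]
  · rw [one_smul, one_smul]

theorem ρ_sum {ι : Type*} (g : L) (s : Finset ι) (f : ι → M) : R.ρ g (∑ i ∈ s, f i) = ∑ i ∈ s, R.ρ g (f i) :=
  map_sum (R.hom g) f s

theorem inv_act (g : L) (x : M) : R.ρ g⁻¹ (R.ρ g x) = x := by rw [← R.mul, inv_mul_cancel, R.one]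

theorem act_inv (g : L) (x : M) : R.ρ g (R.ρ g⁻¹ x) = x := by rw [← R.mul, mul_inv_cancel, R.one]

theorem ρ_inj (g : L) : Function.Injective (R.ρ g) := fun x y h => by
  rw [← R.inv_act g x, h, R.inv_act]

/-- a group ring element as an operator -/
def S (f : A3 → ZMod 2) (x : M) : M := ∑ a, f a • R.ρ (dg a) x

theorem S_conv (f g : A3 → ZMod 2) (x : M) : R.S f (R.S g x) = R.S (conv f g) x := by
  simp only [S, R.ρ_sum, R.ρ_smul, Finset.smul_sum, smul_smul, ← R.mul, ← dg_add, conv, Finset.sum_smul]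
  rw [Finset.sum_comm (γ := A3)]
  conv_rhs => rw [Finset.sum_comm (γ := A3)]
  rw [Finset.sum_comm]
  refine Finset.sum_congr rfl fun a _ => ?_
  refine Fintype.sum_equiv (Equiv.addLeft a) _ _ fun b => ?_
  simp only [Equiv.coe_addLeft, add_sub_cancel_left]

theorem S_dl (b : A3) (x : M) : R.S (dl b) x = R.ρ (dg b) x := by
  rw [S, Finset.sum_eq_single b (fun a _ h => by rw [dl, if_neg h, zero_smul]) (fun h => absurd (Finset.mem_univ b) h),
    dl, if_pos rfl, one_smul]

theorem S_congr {f g : A3 → ZMod 2} (h : ∀ a, f a = g a) (x : M) : R.S f x = R.S g x := by rw [funext h]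

theorem S_add (f : A3 → ZMod 2) (x y : M) : R.S f (x + y) = R.S f x + R.S f y := by
  simp only [S, R.add, smul_add, Finset.sum_add_distrib]

theorem S_zero (f : A3 → ZMod 2) : R.S f 0 = 0 := by simp [S, R.ρ_zero]

theorem S_sum {ι : Type*} (f : A3 → ZMod 2) (s : Finset ι) (g : ι → M) : R.S f (∑ i ∈ s, g i) = ∑ i ∈ s, R.S f (g i) :=
  map_sum ({ toFun := R.S f, map_zero' := R.S_zero f, map_add' := R.S_add f } : M →+ M) g s

/-- the pieces -/
def piece (k : Fin 14) : Set M := {x | R.S (pf k) x = x}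

theorem mem_piece {k : Fin 14} {x : M} : x ∈ R.piece k ↔ R.S (pf k) x = x := Iff.rfl

theorem proj_mem (k : Fin 14) (x : M) : R.S (pf k) x ∈ R.piece k := by
  rw [mem_piece, S_conv, R.S_congr (g := pf k) fun c => by rw [pf_ortho, if_pos rfl]]

theorem proj_other {k k' : Fin 14} (h : k ≠ k') {x : M} (hx : x ∈ R.piece k') : R.S (pf k) x = 0 := by
  rw [← hx, S_conv, R.S_congr (g := fun _ => 0) fun c => by rw [pf_ortho, if_neg h]]
  simp [S]

theorem zero_mem (k : Fin 14) : (0 : M) ∈ R.piece k := R.S_zero _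

theorem add_mem {k : Fin 14} {x y : M} (hx : x ∈ R.piece k) (hy : y ∈ R.piece k) : x + y ∈ R.piece k := by
  rw [mem_piece, R.S_add, hx, hy]

theorem sum_proj (x : M) : ∑ k, R.S (pf k) x = x := by
  conv_rhs => rw [← R.one x, ← dg_zero, ← R.S_dl]
  simp only [S, ← pf_sum, Finset.sum_smul]
  exact Finset.sum_comm

/-- the space is the product of its pieces -/
theorem card_pieces [Finite M] : ∏ k, (R.piece k).ncard = 256 := by
  classical
  let f : M → ∀ k, ↥(R.piece k) := fun x k => ⟨R.S (pf k) x, R.proj_mem k x⟩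
  have hf : Function.Bijective f := by
    refine ⟨fun x y h => ?_, fun t => ⟨∑ k, (t k : M), funext fun k => Subtype.ext ?_⟩⟩
    · rw [← R.sum_proj x, ← R.sum_proj y]
      exact Finset.sum_congr rfl fun k _ => congrArg Subtype.val (congrFun h k)
    · show R.S (pf k) (∑ j, (t j : M)) = _
      rw [R.S_sum, Finset.sum_eq_single k (fun j _ hj => R.proj_other hj.symm (t j).2)
        (fun h => absurd (Finset.mem_univ k) h)]
      exact (t k).2
  rw [← R.card, Nat.card_eq_of_bijective f hf, Nat.card_pi]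
  exact Finset.prod_congr rfl fun k _ => (Nat.card_coe_set_eq _).symm

/-- the kernel of the functional fixes the piece -/
theorem fixed {k : Fin 14} {b : A3} (hb : fn k b = 0) {x : M} (hx : x ∈ R.piece k) : R.ρ (dg b) x = x := by
  rw [← hx, ← R.S_dl, S_conv, R.S_congr (pf_fixed k b hb)]

theorem trivial_fixed {x : M} (hx : x ∈ R.piece 0) (b : A3) : R.ρ (dg b) x = x := R.fixed rfl hx

theorem piece_eq_zero {x : M} (hall : ∀ b, R.ρ (dg b) x = x) : x ∈ R.piece 0 := by
  have h27 : (∑ a : A3, pf 0 a) = 1 := by decide +kernel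
  rw [mem_piece]
  simp only [S, hall, ← Finset.sum_smul, h27, one_smul]

/-- an element outside the kernel fixes only zero -/
theorem free {k : Fin 14} (hk : k ≠ 0) {b : A3} (hb : fn k b ≠ 0) {x : M} (hx : x ∈ R.piece k)
    (h : R.ρ (dg b) x = x) : x = 0 := by
  have hb2 : R.ρ (dg (b + b)) x = x := by rw [dg_add, R.mul, h, h]
  have hall : ∀ a, R.ρ (dg a) x = x := by
    intro a
    have hc : fn k a = 0 ∨ fn k a = fn k b ∨ fn k a = fn k (b + b) := by
      rw [fn_add]
      have key : ∀ p r : ZMod 3, r ≠ 0 → p = 0 ∨ p = r ∨ p = r + r := by decide +kernel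
      exact key _ _ hb
    rcases hc with e | e | e
    · exact R.fixed e hx
    · have e' : a = b + (a + (b + b)) := by rw [add_left_comm, ← add_assoc b, three_smul' b, add_zero]
      rw [e', dg_add, R.mul, R.fixed (k := k) ?_ hx, h]
      rw [fn_add, fn_add, e, ← fn_add, ← fn_add, ← add_assoc, three_smul' b, fn_zero]
    · have e' : a = (b + b) + (a + b) := by rw [add_left_comm, three_smul' b, add_zero]
      rw [e', dg_add, R.mul, R.fixed (k := k) ?_ hx, hb2]
      rw [fn_add, e, ← fn_add, three_smul' b, fn_zero]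
  rw [← hx]
  exact R.proj_other hk (R.piece_eq_zero hall)

/-- a piece that is not trivial has at least four elements -/
theorem four_le [Finite M] {k : Fin 14} (hk : k ≠ 0) (h : (R.piece k).ncard ≠ 1) : 4 ≤ (R.piece k).ncard := by
  classical
  obtain ⟨x, hx, hx0⟩ : ∃ x ∈ R.piece k, x ≠ 0 := by
    by_contra hno
    push Not at hno
    exact h (Set.ncard_eq_one.mpr ⟨0, Set.eq_singleton_iff_unique_mem.mpr ⟨R.zero_mem k, hno⟩⟩)
  obtain ⟨b, hb⟩ := fn_surj k hk
  have hb0 : fn k b ≠ 0 := by rw [hb]; decide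
  have hmem : ∀ {y}, y ∈ R.piece k → R.ρ (dg b) y ∈ R.piece k := by
    intro y hy
    rw [mem_piece, ← R.S_dl, S_conv]
    conv_rhs => rw [← hy, S_conv]
    exact R.S_congr (fun c => by
      simp only [conv]
      exact Fintype.sum_equiv (Equiv.subLeft c) _ _ fun a => by
        simp only [Equiv.subLeft_apply, sub_sub_cancel, mul_comm]) y
  obtain ⟨y, hy⟩ : ∃ y, y = R.ρ (dg b) x := ⟨_, rfl⟩
  obtain ⟨u, hu⟩ : ∃ u, u = R.ρ (dg b) y := ⟨_, rfl⟩
  have hy0 : y ≠ 0 := fun e => hx0 (R.ρ_inj _ ((hy.symm.trans e).trans (R.ρ_zero _).symm))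
  have hu0 : u ≠ 0 := fun e => hy0 (R.ρ_inj _ ((hu.symm.trans e).trans (R.ρ_zero _).symm))
  have hxy : x ≠ y := fun e => hx0 (R.free hk hb0 hx (hy.symm.trans e.symm))
  have hyu : y ≠ u := fun e => hy0 (R.free hk hb0 (hy ▸ hmem hx) (hu.symm.trans e.symm))
  have hxu : x ≠ u := fun e => hxy (by
    have h3 : R.ρ (dg b) u = x := by
      rw [hu, hy, ← R.mul, ← R.mul, ← dg_add, ← dg_add, three_smul', dg_zero, R.one]
    exact (h3.symm.trans ((congrArg (R.ρ (dg b)) e.symm).trans hy.symm)))
  have hsub : (({0, x, y, u} : Finset M) : Set M) ⊆ R.piece k := by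
    intro v hv
    simp only [Finset.coe_insert, Finset.coe_singleton, Set.mem_insert_iff, Set.mem_singleton_iff] at hv
    rcases hv with rfl | rfl | rfl | rfl
    exacts [R.zero_mem k, hx, hy ▸ hmem hx, hu ▸ hmem (hy ▸ hmem hx)]
  have h4 := Set.ncard_le_ncard hsub (Set.toFinite _)
  rw [Set.ncard_coe_finset, Finset.card_insert_of_notMem (by simp [Ne.symm hx0, Ne.symm hy0, Ne.symm hu0]),
    Finset.card_insert_of_notMem (by simp [hxy, hxu]), Finset.card_insert_of_notMem (by simp [hyu]),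
    Finset.card_singleton] at h4
  exact h4

/-- an element normalising the diagonal group moves pieces to pieces -/
theorem move_mem {g : L} {σ : A3 → A3} (hσ : Function.Bijective σ) (hg : ∀ a, g * dg a = dg (σ a) * g)
    {k k' : Fin 14} (hk : ∀ a, pf k' (σ a) = pf k a) {x : M} (hx : x ∈ R.piece k) : R.ρ g x ∈ R.piece k' := by
  rw [mem_piece]
  conv_rhs => rw [← hx]
  simp only [S, R.ρ_sum, R.ρ_smul, ← R.mul, hg]
  exact (Fintype.sum_bijective σ hσ _ _ fun a => by rw [hk a]).symm

theorem card_move [Finite M] {g : L} {σ : A3 → A3} (hσ : Function.Bijective σ)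
    (hg : ∀ a, g * dg a = dg (σ a) * g) {k k' : Fin 14} (hk : ∀ a, pf k' (σ a) = pf k a) :
    (R.piece k).ncard ≤ (R.piece k').ncard :=
  Set.ncard_le_ncard_of_injOn (R.ρ g) (fun _ hx => R.move_mem hσ hg hk hx) (R.ρ_inj g).injOn (Set.toFinite _)

theorem swA_invol : ∀ (j : Fin 3) (a : A3), swA j (swA j a) = a := by decide +kernel

theorem card_swap [Finite M] (j : Fin 3) (k k' : Fin 14) (hk : ∀ a, pf k' (swA j a) = pf k a) :
    (R.piece k).ncard = (R.piece k').ncard :=
  le_antisymm (R.card_move (Function.Involutive.bijective (swA_invol j)) (sw_dg j) hk)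
    (R.card_move (Function.Involutive.bijective (swA_invol j)) (sw_dg j) fun a => by rw [← hk, swA_invol])

/-- the two possible shapes -/
theorem cases [Finite M] :
    ((∀ k : Fin 14, 1 ≤ (k : ℕ) → (k : ℕ) ≤ 4 → (R.piece k).ncard = 4) ∧
      ∀ k : Fin 14, ((k : ℕ) = 0 ∨ 5 ≤ (k : ℕ)) → (R.piece k).ncard = 1) ∨
    ((∀ k : Fin 14, ((k : ℕ) = 0 ∨ 11 ≤ (k : ℕ)) → (R.piece k).ncard = 4) ∧
      ∀ k : Fin 14, 1 ≤ (k : ℕ) → (k : ℕ) ≤ 10 → (R.piece k).ncard = 1) := by
  classical
  have hpos : ∀ k, 1 ≤ (R.piece k).ncard := fun k => (Set.ncard_pos (Set.toFinite _)).mpr ⟨0, R.zero_mem k⟩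
  have a12 := R.card_swap 0 1 2 (by decide +kernel)
  have a23 := R.card_swap 1 2 3 (by decide +kernel)
  have a34 := R.card_swap 2 3 4 (by decide +kernel)
  have b56 := R.card_swap 1 5 6 (by decide +kernel)
  have b67 := R.card_swap 2 6 7 (by decide +kernel)
  have b68 := R.card_swap 0 6 8 (by decide +kernel)
  have b79 := R.card_swap 0 7 9 (by decide +kernel)
  have b910 := R.card_swap 1 9 10 (by decide +kernel)
  have c12 := R.card_swap 1 11 12 (by decide +kernel)
  have c23 := R.card_swap 2 12 13 (by decide +kernel)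
  have hprod := R.card_pieces
  simp only [Fin.prod_univ_succ, Fin.prod_univ_zero, mul_one] at hprod
  change (R.piece 0).ncard * ((R.piece 1).ncard * ((R.piece 2).ncard * ((R.piece 3).ncard * ((R.piece 4).ncard *
    ((R.piece 5).ncard * ((R.piece 6).ncard * ((R.piece 7).ncard * ((R.piece 8).ncard * ((R.piece 9).ncard *
    ((R.piece 10).ncard * ((R.piece 11).ncard * ((R.piece 12).ncard * (R.piece 13).ncard)))))))))))) = 256 at hprod
  rw [← a34, ← a23, ← a12, ← b910, ← b79, ← b67, ← b68, ← b56, ← c23, ← c12] at hprod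
  obtain ⟨n0, h0⟩ : ∃ n, n = (R.piece 0).ncard := ⟨_, rfl⟩
  obtain ⟨n1, h1⟩ : ∃ n, n = (R.piece 1).ncard := ⟨_, rfl⟩
  obtain ⟨n2, h2⟩ : ∃ n, n = (R.piece 5).ncard := ⟨_, rfl⟩
  obtain ⟨n3, h3⟩ : ∃ n, n = (R.piece 11).ncard := ⟨_, rfl⟩
  rw [← h0, ← h1, ← h2, ← h3] at hprod
  have hval' : ∀ k : Fin 14, (R.piece k).ncard = ![n0, n1, n1, n1, n1, n2, n2, n2, n2, n2, n2, n3, n3, n3] k := by
    intro k
    fin_cases k
    exacts [h0.symm, h1.symm, a12.symm.trans h1.symm, (a12.trans a23).symm.trans h1.symm,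
      ((a12.trans a23).trans a34).symm.trans h1.symm, h2.symm, b56.symm.trans h2.symm,
      (b56.trans b67).symm.trans h2.symm, (b56.trans b68).symm.trans h2.symm,
      ((b56.trans b67).trans b79).symm.trans h2.symm, (((b56.trans b67).trans b79).trans b910).symm.trans h2.symm,
      h3.symm, c12.symm.trans h3.symm, (c12.trans c23).symm.trans h3.symm]
  have d1 : n1 = 1 ∨ 4 ≤ n1 := by
    by_cases h : n1 = 1
    · exact Or.inl h
    · exact Or.inr (h1 ▸ R.four_le (by decide) (h1 ▸ h))
  have d2 : n2 = 1 ∨ 4 ≤ n2 := by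
    by_cases h : n2 = 1
    · exact Or.inl h
    · exact Or.inr (h2 ▸ R.four_le (by decide) (h2 ▸ h))
  have d3 : n3 = 1 ∨ 4 ≤ n3 := by
    by_cases h : n3 = 1
    · exact Or.inl h
    · exact Or.inr (h3 ▸ R.four_le (by decide) (h3 ▸ h))
  have p0 : 1 ≤ n0 := h0 ▸ hpos 0
  have hval : n0 * n1 ^ 4 * n2 ^ 6 * n3 ^ 3 = 256 := by rw [← hprod]; ring
  have hf2 : n2 = 1 := by
    rcases d2 with h | h
    · exact h
    exfalso
    have : 4 ^ 6 ≤ n2 ^ 6 := Nat.pow_le_pow_left h 6
    have : n2 ^ 6 ∣ 256 := ⟨n0 * n1 ^ 4 * n3 ^ 3, by rw [← hval]; ring⟩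
    have := Nat.le_of_dvd (by norm_num) this
    omega
  subst hf2
  rw [one_pow, mul_one] at hval
  rcases d1 with e1 | g1
  · subst e1
    rw [one_pow, mul_one] at hval
    rcases d3 with e3 | g3
    · -- the diagonal group would act trivially
      exfalso
      subst e3
      have hall : ∀ k : Fin 14, k ≠ 0 → (R.piece k).ncard = 1 := by
        intro k hk
        rw [hval']
        revert hk
        fin_cases k <;> simp
      have htriv : ∀ x, R.ρ (dg cA) x = x := fun x => by
        have hx : x ∈ R.piece 0 := by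
          have h := R.sum_proj x
          rw [Finset.sum_eq_single 0] at h
          · exact h
          · intro k _ hk
            obtain ⟨v, hv⟩ := Set.ncard_eq_one.mp (hall k hk)
            have a := R.zero_mem k
            have b := R.proj_mem k x
            rw [hv, Set.mem_singleton_iff] at a b
            rw [b, ← a]
          · intro h0; exact absurd (Finset.mem_univ _) h0
        exact R.trivial_fixed hx cA
      have h := R.faithful _ htriv
      have := congrArg (fun g => act g ![1, 0, 0, 0] 0) h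
      simp only [act_one, act_dg] at this
      exact absurd this (by decide +kernel)
    · right
      have hf3 : n3 = 4 := by
        have hdvd : n3 ^ 3 ∣ 256 := ⟨n0, by rw [← hval]; ring⟩
        have hle : n3 ≤ 6 := by
          by_contra hh
          have : 7 ^ 3 ≤ n3 ^ 3 := Nat.pow_le_pow_left (by omega) 3
          have := Nat.le_of_dvd (by norm_num) hdvd
          omega
        interval_cases n3 <;> first | rfl | (norm_num at hdvd)
      subst hf3
      have hn0 : n0 = 4 := by norm_num at hval; omega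
      subst hn0
      refine ⟨fun k => ?_, fun k => ?_⟩ <;> rw [hval'] <;> revert k <;> decide +kernel
  · left
    have hdvd : n1 ^ 4 ∣ 256 := ⟨n0 * n3 ^ 3, by rw [← hval]; ring⟩
    have hf1 : n1 = 4 := by
      have : 4 ^ 4 ≤ n1 ^ 4 := Nat.pow_le_pow_left g1 4
      have hle := Nat.le_of_dvd (by norm_num) hdvd
      have : n1 ≤ 4 := by
        by_contra hh
        have : 5 ^ 4 ≤ n1 ^ 4 := Nat.pow_le_pow_left (by omega) 4
        omega
      omega
    subst hf1
    norm_num at hval
    have hn : n0 * n3 ^ 3 = 1 := by linarith [hval]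
    obtain ⟨hn0, hn3⟩ := mul_eq_one.mp hn
    have hf3 : n3 = 1 := (pow_eq_one_iff.mp hn3).resolve_right (by norm_num)
    subst hf3 hn0
    refine ⟨fun k => ?_, fun k => ?_⟩ <;> rw [hval'] <;> revert k <;> decide +kernel

end Rep

end Cfsg.Agent.Spor.CHZ
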