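import Cfsg.Agent.Lib.Spor.CHZ.FThreeModel

/-!
An involution centraliser whose two-core is a four-group times an extraspecial group of order 2^9: the data on
the part fixing one of the three involutions, the passage to conjugates, and the conditions on the centralisers
of the other central involutions.
-/

set_option autoImplicit false
set_option linter.unusedSectionVars false

namespace Cfsg.Agent.Spor.CHZ.FThree

open Cfsg.Agent.Spor.SpFour Cfsg.Agent.Small.Unitary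

universe w

variable {G : Type w} [Group G]

/-- a four-group as a set -/
def four (a b : G) : Set G := {x | x = 1 ∨ x = a ∨ x = b ∨ x = a * b}

/-- the conjugate set -/
def cj (k : G) (P : Set G) : Set G := {x | k⁻¹ * x * k ∈ P}

/-- the centre -/
def InW (z : G) (P : Set G) (x : G) : Prop := ∃ u ∈ P, x = u ∨ x = z * u

/-- the data -/
structure FCore (z v1 v2 : G) where
  Q : Subgroup G
  ν : G → V
  π : G → Equiv.Perm V
  z_ne : z ≠ 1
  z2 : z * z = 1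
  v1_ne : v1 ≠ 1
  v2_ne : v2 ≠ 1
  v12 : v1 ≠ v2
  v1_sq : v1 * v1 = 1
  v2_sq : v2 * v2 = 1
  v_comm : Commute v1 v2
  z_out : z ≠ v1 ∧ z ≠ v2 ∧ z ≠ v1 * v2
  zQ : z ∈ Q
  v1Q : v1 ∈ Q
  v2Q : v2 ∈ Q
  cent : ∀ x ∈ Q, Commute x z
  cent1 : ∀ x ∈ Q, Commute x v1
  cent2 : ∀ x ∈ Q, Commute x v2
  normal : ∀ c, Commute c z → ∀ x ∈ Q, c * x * c⁻¹ ∈ Q
  perm : ∀ c, Commute c z → ∀ x ∈ four v1 v2, c * x * c⁻¹ ∈ four v1 v2
  cyc : ∃ c, Commute c z ∧ c * v1 * c⁻¹ = v2 ∧ c * v2 * c⁻¹ = v1 * v2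
  swap : ∃ h, Commute h z ∧ Commute h v1 ∧ h * v2 * h⁻¹ = v1 * v2
  π_mul : ∀ c d, Commute c z → Commute c v1 → Commute d z → Commute d v1 → π (c * d) = π c * π d
  π_semi : ∀ c, Commute c z → Commute c v1 → Semi (π c)
  π_iff : ∀ c, Commute c z → Commute c v1 → (π c = 1 ↔ c ∈ Q)
  π_lin : ∀ c, Commute c z → Commute c v1 → (Lin (π c) ↔ Commute c v2)
  π_surj : ∀ g : L, ∃ c, Commute c z ∧ Commute c v1 ∧ Commute c v2 ∧ π c = sp g
  comm : ∀ x ∈ Q, ∀ y ∈ Q, x * y * x⁻¹ * y⁻¹ = 1 ∨ x * y * x⁻¹ * y⁻¹ = z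
  ν_mul : ∀ x ∈ Q, ∀ y ∈ Q, ν (x * y) = ν x + ν y
  ν_zero : ∀ x ∈ Q, (ν x = 0 ↔ InW z (four v1 v2) x)
  ν_surj : ∀ v, ∃ x ∈ Q, ν x = v
  ν_sq : ∀ x ∈ Q, (x * x = 1 ↔ herm (ν x) (ν x) = 0)
  ν_comm : ∀ x ∈ Q, ∀ y ∈ Q, (Commute x y ↔ B (ν x) (ν y) = 0)
  ν_act : ∀ c, Commute c z → Commute c v1 → ∀ x ∈ Q, ν (c * x * c⁻¹) = π c (ν x)

/-- the conditions at the conjugates of the involution commuting with it -/
structure FHyp (z : G) (P : Set G) : Prop where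
  cls : ∀ g : G, InW z P (g * z * g⁻¹) → g * z * g⁻¹ = z
  cl : ∀ g u, u ∈ P → u ≠ 1 → Commute (g * z * g⁻¹) z → Commute (g * (z * u) * g⁻¹) z →
    ∀ x, Commute x z → Commute x (g * (z * u) * g⁻¹) → Commute x (g * z * g⁻¹)
  norm : ∀ g u, u ∈ P → u ≠ 1 → Commute (g * z * g⁻¹) z → Commute (g * u * g⁻¹) z →
    ∀ x, Commute x z → Commute x (g * u * g⁻¹) → ∀ y ∈ P, x * (g * y * g⁻¹) * x⁻¹ ∈ cj g P
  meet : ∀ g u, u ∈ P → u ≠ 1 → Commute (g * z * g⁻¹) z → InW z P (g * u * g⁻¹) →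
    ∀ y ∈ P, g * y * g⁻¹ ∈ P

theorem comm_conj {a b : G} (k : G) (h : Commute a b) : Commute (k * a * k⁻¹) (k * b * k⁻¹) :=
  h.map (MulAut.conj k).toMonoidHom

theorem comm_back {a b k : G} (h : Commute a (k * b * k⁻¹)) : Commute (k⁻¹ * a * k) b := by
  have h' := comm_conj k⁻¹ h
  rwa [inv_inv, show k⁻¹ * (k * b * k⁻¹) * k = b by group] at h'

theorem mem_cj {k x : G} {P : Set G} : x ∈ cj k P ↔ k⁻¹ * x * k ∈ P := Iff.rfl

theorem conj_mem_cj {k x : G} {P : Set G} (hx : x ∈ P) : k * x * k⁻¹ ∈ cj k P := by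
  show k⁻¹ * (k * x * k⁻¹) * k ∈ P
  rwa [show k⁻¹ * (k * x * k⁻¹) * k = x by group]

theorem four_conj (k a b : G) : four (k * a * k⁻¹) (k * b * k⁻¹) = cj k (four a b) := by
  ext x
  have key : ∀ u, k⁻¹ * x * k = u ↔ x = k * u * k⁻¹ := fun u =>
    ⟨fun h => by rw [← h]; group, fun h => by rw [h]; group⟩
  show _ ↔ k⁻¹ * x * k ∈ four a b
  simp only [four, Set.mem_ofPred_eq, key]
  rw [show k * 1 * k⁻¹ = 1 by group, show k * (a * b) * k⁻¹ = k * a * k⁻¹ * (k * b * k⁻¹) by group]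

theorem four_finite (a b : G) : (four a b).Finite :=
  (Set.toFinite ({1, a, b, a * b} : Set G)).subset fun x hx => by
    rcases hx with h | h | h | h <;> simp [h]

/-- a map of a four-group into itself is onto -/
theorem four_back {a b g : G} (h : ∀ y ∈ four a b, g * y * g⁻¹ ∈ four a b) :
    ∀ y ∈ four a b, g⁻¹ * y * g ∈ four a b := by
  intro y hy
  haveI : Finite ↥(four a b) := (four_finite a b).to_subtype
  let F : ↥(four a b) → ↥(four a b) := fun x => ⟨g * x * g⁻¹, h x x.2⟩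
  have hF : Function.Injective F := fun x x' e =>
    Subtype.ext (mul_left_cancel (mul_right_cancel (congrArg Subtype.val e)))
  obtain ⟨x, hx⟩ := Finite.surjective_of_injective hF ⟨y, hy⟩
  rw [show g⁻¹ * y * g = x by rw [← (show g * (x : G) * g⁻¹ = y from congrArg Subtype.val hx)]; group]
  exact x.2

theorem InW.cj_iff {z k x : G} {P : Set G} :
    InW (k * z * k⁻¹) (cj k P) x ↔ InW z P (k⁻¹ * x * k) := by
  constructor
  · rintro ⟨u, hu, rfl | rfl⟩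
    · exact ⟨_, hu, Or.inl rfl⟩
    · exact ⟨_, hu, Or.inr (by group)⟩
  · rintro ⟨u, hu, e | e⟩
    · exact ⟨k * u * k⁻¹, conj_mem_cj hu, Or.inl (by rw [← e]; group)⟩
    · refine ⟨k * u * k⁻¹, conj_mem_cj hu, Or.inr ?_⟩
      rw [show x = k * (k⁻¹ * x * k) * k⁻¹ by group, e]
      group

theorem FHyp.conj {z : G} {P : Set G} (H : FHyp z P) (k : G) : FHyp (k * z * k⁻¹) (cj k P) where
  cls g h := by
    have e := H.cls (k⁻¹ * g * k) (by
      have := InW.cj_iff.mp h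
      rwa [show k⁻¹ * g * k * z * (k⁻¹ * g * k)⁻¹ = k⁻¹ * (g * (k * z * k⁻¹) * g⁻¹) * k by group])
    rw [show g * (k * z * k⁻¹) * g⁻¹ = k * (k⁻¹ * g * k * z * (k⁻¹ * g * k)⁻¹) * k⁻¹ by group, e]
  cl g u hu hu1 h1 h2 x hx hxB := by
    obtain ⟨g', hg'⟩ : ∃ g', g' = k⁻¹ * g * k := ⟨_, rfl⟩
    obtain ⟨u', hu'⟩ : ∃ u', u' = k⁻¹ * u * k := ⟨_, rfl⟩
    have e1 : k⁻¹ * (g * (k * z * k⁻¹) * g⁻¹) * k = g' * z * g'⁻¹ := by rw [hg']; group
    have e2 : k⁻¹ * (g * (k * z * k⁻¹ * u) * g⁻¹) * k = g' * (z * u') * g'⁻¹ := by rw [hg', hu']; group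
    have key := H.cl g' u' (hu' ▸ hu) (fun e => hu1 (by rw [show u = k * u' * k⁻¹ by rw [hu']; group, e]; group))
      (e1 ▸ comm_back h1) (e2 ▸ comm_back h2) (k⁻¹ * x * k) (comm_back hx) (by
        have := comm_conj k⁻¹ hxB
        rwa [inv_inv, e2] at this)
    have := comm_conj k key
    rwa [show k * (k⁻¹ * x * k) * k⁻¹ = x by group, ← e1,
      show k * (k⁻¹ * (g * (k * z * k⁻¹) * g⁻¹) * k) * k⁻¹ = g * (k * z * k⁻¹) * g⁻¹ by group] at this
  norm g u hu hu1 h1 h2 x hx hxA y hy := by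
    obtain ⟨g', hg'⟩ : ∃ g', g' = k⁻¹ * g * k := ⟨_, rfl⟩
    obtain ⟨u', hu'⟩ : ∃ u', u' = k⁻¹ * u * k := ⟨_, rfl⟩
    have e1 : k⁻¹ * (g * (k * z * k⁻¹) * g⁻¹) * k = g' * z * g'⁻¹ := by rw [hg']; group
    have e2 : k⁻¹ * (g * u * g⁻¹) * k = g' * u' * g'⁻¹ := by rw [hg', hu']; group
    have key := H.norm g' u' (hu' ▸ hu) (fun e => hu1 (by rw [show u = k * u' * k⁻¹ by rw [hu']; group, e]; group))
      (e1 ▸ comm_back h1) (e2 ▸ comm_back h2) (k⁻¹ * x * k) (comm_back hx) (by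
        have := comm_conj k⁻¹ hxA
        rwa [inv_inv, e2] at this) (k⁻¹ * y * k) hy
    rw [mem_cj, mem_cj]
    rw [mem_cj, hg'] at key
    convert key using 1
    group
  meet g u hu hu1 h1 h2 y hy := by
    obtain ⟨g', hg'⟩ : ∃ g', g' = k⁻¹ * g * k := ⟨_, rfl⟩
    obtain ⟨u', hu'⟩ : ∃ u', u' = k⁻¹ * u * k := ⟨_, rfl⟩
    have e1 : k⁻¹ * (g * (k * z * k⁻¹) * g⁻¹) * k = g' * z * g'⁻¹ := by rw [hg']; group
    have key := H.meet g' u' (hu' ▸ hu) (fun e => hu1 (by rw [show u = k * u' * k⁻¹ by rw [hu']; group, e]; group))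
      (e1 ▸ comm_back h1) (by
        have := InW.cj_iff.mp h2
        rwa [hg', hu', show k⁻¹ * g * k * (k⁻¹ * u * k) * (k⁻¹ * g * k)⁻¹ = k⁻¹ * (g * u * g⁻¹) * k by group])
      (k⁻¹ * y * k) hy
    rw [mem_cj]
    rw [hg'] at key
    convert key using 1
    group

namespace FCore

variable {z v1 v2 : G} (D : FCore z v1 v2)
include D

theorem z_inv : z⁻¹ = z := inv_eq_of_mul_eq_one_right D.z2

/-- the data at a conjugate -/
def conj (k : G) : FCore (k * z * k⁻¹) (k * v1 * k⁻¹) (k * v2 * k⁻¹) where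
  Q := D.Q.map (MulAut.conj k).toMonoidHom
  ν x := D.ν (k⁻¹ * x * k)
  π c := D.π (k⁻¹ * c * k)
  z_ne h := D.z_ne (conj_eq_one_iff.mp h)
  z2 := by rw [show k * z * k⁻¹ * (k * z * k⁻¹) = k * (z * z) * k⁻¹ by group, D.z2]; group
  v1_ne h := D.v1_ne (conj_eq_one_iff.mp h)
  v2_ne h := D.v2_ne (conj_eq_one_iff.mp h)
  v12 h := D.v12 (mul_left_cancel (mul_right_cancel h))
  v1_sq := by rw [show k * v1 * k⁻¹ * (k * v1 * k⁻¹) = k * (v1 * v1) * k⁻¹ by group, D.v1_sq]; group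
  v2_sq := by rw [show k * v2 * k⁻¹ * (k * v2 * k⁻¹) = k * (v2 * v2) * k⁻¹ by group, D.v2_sq]; group
  v_comm := comm_conj k D.v_comm
  z_out := ⟨fun h => D.z_out.1 (mul_left_cancel (mul_right_cancel h)),
    fun h => D.z_out.2.1 (mul_left_cancel (mul_right_cancel h)),
    fun h => D.z_out.2.2 (by
      rw [show k * v1 * k⁻¹ * (k * v2 * k⁻¹) = k * (v1 * v2) * k⁻¹ by group] at h
      exact mul_left_cancel (mul_right_cancel h))⟩
  zQ := ⟨z, D.zQ, rfl⟩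
  v1Q := ⟨v1, D.v1Q, rfl⟩
  v2Q := ⟨v2, D.v2Q, rfl⟩
  cent := by rintro _ ⟨x, hx, rfl⟩; exact comm_conj k (D.cent x hx)
  cent1 := by rintro _ ⟨x, hx, rfl⟩; exact comm_conj k (D.cent1 x hx)
  cent2 := by rintro _ ⟨x, hx, rfl⟩; exact comm_conj k (D.cent2 x hx)
  normal := by
    rintro c hc _ ⟨x, hx, rfl⟩
    refine ⟨k⁻¹ * c * k * x * (k⁻¹ * c * k)⁻¹, D.normal _ (comm_back hc) x hx, ?_⟩
    simp only [MulEquiv.coe_toMonoidHom, MulAut.conj_apply]
    group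
  perm c hc x hx := by
    rw [four_conj, mem_cj] at hx ⊢
    have := D.perm _ (comm_back hc) _ hx
    convert this using 1
    group
  cyc := by
    obtain ⟨c, h1, h2, h3⟩ := D.cyc
    refine ⟨k * c * k⁻¹, comm_conj k h1, ?_, ?_⟩
    · rw [← h2]; group
    · rw [show k * v1 * k⁻¹ * (k * v2 * k⁻¹) = k * (v1 * v2) * k⁻¹ by group, ← h3]; group
  swap := by
    obtain ⟨h, h1, h2, h3⟩ := D.swap
    refine ⟨k * h * k⁻¹, comm_conj k h1, comm_conj k h2, ?_⟩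
    rw [show k * v1 * k⁻¹ * (k * v2 * k⁻¹) = k * (v1 * v2) * k⁻¹ by group, ← h3]; group
  π_mul c d hc hc1 hd hd1 := by
    rw [show k⁻¹ * (c * d) * k = k⁻¹ * c * k * (k⁻¹ * d * k) by group]
    exact D.π_mul _ _ (comm_back hc) (comm_back hc1) (comm_back hd) (comm_back hd1)
  π_semi c hc hc1 := D.π_semi _ (comm_back hc) (comm_back hc1)
  π_iff c hc hc1 := by
    rw [D.π_iff _ (comm_back hc) (comm_back hc1)]
    constructor
    · exact fun h => ⟨_, h, by simp [mul_assoc]⟩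
    · rintro ⟨x, hx, rfl⟩
      simpa [mul_assoc] using hx
  π_lin c hc hc1 := by
    rw [D.π_lin _ (comm_back hc) (comm_back hc1)]
    refine ⟨fun h => ?_, fun h => comm_back h⟩
    have := comm_conj k h
    rwa [show k * (k⁻¹ * c * k) * k⁻¹ = c by group] at this
  π_surj g := by
    obtain ⟨c, h1, h2, h3, h4⟩ := D.π_surj g
    exact ⟨k * c * k⁻¹, comm_conj k h1, comm_conj k h2, comm_conj k h3, by
      rw [← h4]; simp [mul_assoc]⟩
  comm := by
    rintro _ ⟨x, hx, rfl⟩ _ ⟨y, hy, rfl⟩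
    simp only [MulEquiv.coe_toMonoidHom, MulAut.conj_apply]
    rw [show k * x * k⁻¹ * (k * y * k⁻¹) * (k * x * k⁻¹)⁻¹ * (k * y * k⁻¹)⁻¹ =
      k * (x * y * x⁻¹ * y⁻¹) * k⁻¹ by group]
    rcases D.comm x hx y hy with e | e <;> rw [e]
    · left; group
    · right; rfl
  ν_mul := by
    rintro _ ⟨x, hx, rfl⟩ _ ⟨y, hy, rfl⟩
    simpa [mul_assoc] using D.ν_mul x hx y hy
  ν_zero := by
    rintro _ ⟨x, hx, rfl⟩
    rw [four_conj, InW.cj_iff, show k⁻¹ * (MulAut.conj k).toMonoidHom x * k = x by simp [mul_assoc]]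
    exact D.ν_zero x hx
  ν_surj v := by
    obtain ⟨x, hx, h⟩ := D.ν_surj v
    exact ⟨k * x * k⁻¹, ⟨x, hx, rfl⟩, by rw [← h]; simp [mul_assoc]⟩
  ν_sq := by
    rintro _ ⟨x, hx, rfl⟩
    simp only [MulEquiv.coe_toMonoidHom, MulAut.conj_apply]
    rw [show k⁻¹ * (k * x * k⁻¹) * k = x by group,
      show k * x * k⁻¹ * (k * x * k⁻¹) = k * (x * x) * k⁻¹ by group, conj_eq_one_iff]
    exact D.ν_sq x hx
  ν_comm := by
    rintro _ ⟨x, hx, rfl⟩ _ ⟨y, hy, rfl⟩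
    simp only [MulEquiv.coe_toMonoidHom, MulAut.conj_apply]
    rw [show k⁻¹ * (k * x * k⁻¹) * k = x by group, show k⁻¹ * (k * y * k⁻¹) * k = y by group,
      ← D.ν_comm x hx y hy]
    refine ⟨fun h => ?_, fun h => comm_conj k h⟩
    have := comm_conj k⁻¹ h
    rwa [inv_inv, show k⁻¹ * (k * x * k⁻¹) * k = x by group, show k⁻¹ * (k * y * k⁻¹) * k = y by group] at this
  ν_act := by
    rintro c hc hc1 _ ⟨x, hx, rfl⟩
    simp only [MulEquiv.coe_toMonoidHom, MulAut.conj_apply]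
    rw [show k⁻¹ * (c * (k * x * k⁻¹) * c⁻¹) * k = k⁻¹ * c * k * x * (k⁻¹ * c * k)⁻¹ by group,
      show k⁻¹ * (k * x * k⁻¹) * k = x by group]
    exact D.ν_act _ (comm_back hc) (comm_back hc1) x hx

theorem one_mem_four : (1 : G) ∈ four v1 v2 := Or.inl rfl

theorem v1_mem_four : v1 ∈ four v1 v2 := Or.inr (Or.inl rfl)

theorem v2_mem_four : v2 ∈ four v1 v2 := Or.inr (Or.inr (Or.inl rfl))

theorem v3_mem_four : v1 * v2 ∈ four v1 v2 := Or.inr (Or.inr (Or.inr rfl))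

theorem v3_ne : v1 * v2 ≠ 1 := fun h => D.v12 (by
  rw [mul_eq_one_iff_eq_inv.mp h, inv_eq_of_mul_eq_one_right D.v2_sq])

/-- the cases of the four-group -/
theorem four_cases {u : G} (hu : u ∈ four v1 v2) (hu1 : u ≠ 1) : u = v1 ∨ u = v2 ∨ u = v1 * v2 :=
  hu.resolve_left hu1

theorem four_rot : four v2 (v1 * v2) = four v1 v2 := by
  have e : v2 * (v1 * v2) = v1 := by rw [← mul_assoc, ← D.v_comm.eq, mul_assoc, D.v2_sq, mul_one]
  ext x
  simp only [four, Set.mem_ofPred_eq, e]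
  constructor
  · rintro (h | h | h | h) <;> simp [h]
  · rintro (h | h | h | h) <;> simp [h]

theorem four_sub {x y : G} (hx : x ∈ four v1 v2) (hy : y ∈ four v1 v2) : x * y ∈ four v1 v2 := by
  have h1 : v2 * v1 = v1 * v2 := D.v_comm.eq.symm
  have e1 : v1 * (v1 * v2) = v2 := by rw [← mul_assoc, D.v1_sq, one_mul]
  have e2 : v2 * (v1 * v2) = v1 := by rw [← mul_assoc, h1, mul_assoc, D.v2_sq, mul_one]
  have e3 : v1 * v2 * v1 = v2 := by rw [mul_assoc, h1, e1]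
  have e4 : v1 * v2 * v2 = v1 := by rw [mul_assoc, D.v2_sq, mul_one]
  have e5 : v1 * v2 * (v1 * v2) = 1 := by rw [mul_assoc, e2, D.v1_sq]
  rcases hx with rfl | rfl | rfl | rfl <;> rcases hy with rfl | rfl | rfl | rfl <;>
    simp only [four, Set.mem_ofPred_eq, one_mul, mul_one, D.v1_sq, D.v2_sq, h1, e1, e2, e3, e4, e5, true_or, or_true]

theorem four_sq {x : G} (hx : x ∈ four v1 v2) : x * x = 1 := by
  rcases hx with rfl | rfl | rfl | rfl
  · exact one_mul 1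
  · exact D.v1_sq
  · exact D.v2_sq
  · rw [mul_assoc, ← mul_assoc v2, ← D.v_comm.eq, mul_assoc v1 v2, D.v2_sq, mul_one, D.v1_sq]

theorem four_Q {x : G} (hx : x ∈ four v1 v2) : x ∈ D.Q := by
  rcases hx with rfl | rfl | rfl | rfl
  exacts [D.Q.one_mem, D.v1Q, D.v2Q, D.Q.mul_mem D.v1Q D.v2Q]

theorem Q_four {x u : G} (hx : x ∈ D.Q) (hu : u ∈ four v1 v2) : Commute x u := by
  rcases hu with rfl | rfl | rfl | rfl
  exacts [Commute.one_right x, D.cent1 x hx, D.cent2 x hx, (D.cent1 x hx).mul_right (D.cent2 x hx)]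

theorem four_z {u : G} (hu : u ∈ four v1 v2) : Commute u z := D.cent u (D.four_Q hu)

theorem z_not_four : z ∉ four v1 v2 := fun h => by
  rcases h with e | e | e | e
  exacts [D.z_ne e, D.z_out.1 e, D.z_out.2.1 e, D.z_out.2.2 e]

theorem W_mem {x : G} (hx : InW z (four v1 v2) x) : x ∈ D.Q := by
  obtain ⟨u, hu, rfl | rfl⟩ := hx
  exacts [D.four_Q hu, D.Q.mul_mem D.zQ (D.four_Q hu)]

theorem W_comm_Q {x y : G} (hx : InW z (four v1 v2) x) (hy : y ∈ D.Q) : Commute y x := by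
  obtain ⟨u, hu, rfl | rfl⟩ := hx
  exacts [D.Q_four hy hu, (D.cent y hy).mul_right (D.Q_four hy hu)]

theorem W_sq {x : G} (hx : InW z (four v1 v2) x) : x * x = 1 := by
  obtain ⟨u, hu, rfl | rfl⟩ := hx
  · exact D.four_sq hu
  · rw [mul_assoc, ← mul_assoc u, (D.four_z hu).eq, mul_assoc z u, D.four_sq hu, mul_one, D.z2]

theorem W_comm {x c : G} (hx : InW z (four v1 v2) x) (hc : Commute c z) (hc1 : Commute c v1) (hc2 : Commute c v2) :
    Commute c x := by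
  obtain ⟨u, hu, e⟩ := hx
  have : Commute c u := by
    rcases hu with rfl | rfl | rfl | rfl
    exacts [Commute.one_right c, hc1, hc2, hc1.mul_right hc2]
  rcases e with rfl | rfl
  exacts [this, hc.mul_right this]

theorem z_W : InW z (four v1 v2) z := ⟨1, D.one_mem_four, Or.inr (mul_one z).symm⟩

theorem ν_one : D.ν 1 = 0 := (D.ν_zero 1 D.Q.one_mem).mpr ⟨1, D.one_mem_four, Or.inl rfl⟩

theorem ν_z : D.ν z = 0 := (D.ν_zero z D.zQ).mpr D.z_W

theorem ν_inv {x : G} (hx : x ∈ D.Q) : D.ν x⁻¹ = D.ν x :=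
  add_cancel' (by rw [← D.ν_mul _ (D.Q.inv_mem hx) _ hx, inv_mul_cancel, D.ν_one])

theorem ν_eq {x y : G} (hx : x ∈ D.Q) (hy : y ∈ D.Q) (h : D.ν x = D.ν y) : InW z (four v1 v2) (x⁻¹ * y) :=
  (D.ν_zero _ (D.Q.mul_mem (D.Q.inv_mem hx) hy)).mp (by
    rw [D.ν_mul _ (D.Q.inv_mem hx) _ hy, D.ν_inv hx, h, add_self])

theorem π_one : D.π 1 = 1 := (D.π_iff 1 (Commute.one_left z) (Commute.one_left v1)).mpr D.Q.one_mem

theorem π_inv {c : G} (hc : Commute c z) (hc1 : Commute c v1) : D.π c⁻¹ = (D.π c)⁻¹ :=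
  eq_inv_of_mul_eq_one_left (by rw [← D.π_mul _ _ hc.inv_left hc1.inv_left hc hc1, inv_mul_cancel, D.π_one])

theorem π_Q {x : G} (hx : x ∈ D.Q) : D.π x = 1 := (D.π_iff x (D.cent x hx) (D.cent1 x hx)).mpr hx

/-- the data with another of the three involutions in the first place -/
theorem exists_rot {u : G} (hu : u ∈ four v1 v2) (hu1 : u ≠ 1) :
    ∃ w, ∃ D' : FCore z u w, four u w = four v1 v2 ∧ D'.Q = D.Q := by
  obtain ⟨c, hc, hc1, hc2⟩ := D.cyc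
  have hz : c * z * c⁻¹ = z := by rw [hc.eq, mul_inv_cancel_right]
  have key : ∀ {z' a b : G} (h : z' = z) (E : FCore z' a b), ∃ E' : FCore z a b, E'.Q = E.Q := by
    intro z' a b h E; subst h; exact ⟨E, rfl⟩
  have step : ∀ {a b a' b' : G} (E : FCore z a b), a' = c * a * c⁻¹ → b' = c * b * c⁻¹ →
      four a b = four v1 v2 → E.Q = D.Q →
      ∃ E' : FCore z a' b', four a' b' = four v1 v2 ∧ E'.Q = D.Q := by
    intro a b a' b' E ha hb hfour hEQ
    subst ha hb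
    obtain ⟨E', hE'⟩ := key hz (E.conj c)
    refine ⟨E', ?_, ?_⟩
    · rw [four_conj, hfour]
      ext x
      refine ⟨fun h => ?_, fun h => ?_⟩
      · have := D.perm c hc _ h
        rwa [show c * (c⁻¹ * x * c) * c⁻¹ = x by group] at this
      · have := D.perm c⁻¹ hc.inv_left x h
        rwa [inv_inv] at this
    · rw [hE']
      show E.Q.map _ = D.Q
      rw [hEQ]
      ext x
      refine ⟨?_, fun hx => ⟨c⁻¹ * x * c, by simpa using D.normal c⁻¹ hc.inv_left x hx, by simp [mul_assoc]⟩⟩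
      rintro ⟨y, hy, rfl⟩
      exact D.normal c hc y hy
  obtain ⟨E, hE, hQ⟩ := step D hc1.symm hc2.symm rfl rfl
  rcases D.four_cases hu hu1 with h | h | h
  · subst h; exact ⟨v2, D, rfl, rfl⟩
  · subst h; exact ⟨_, E, hE, hQ⟩
  · subst h
    obtain ⟨E', hE', hQ'⟩ := step E (a' := v1 * v2) (b' := c * (v1 * v2) * c⁻¹) hc2.symm rfl hE hQ
    exact ⟨_, E', hE', hQ'⟩

end FCore

end Cfsg.Agent.Spor.CHZ.FThree
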