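import Cfsg.Agent.Lib.Spor.CHZ.FThreeRaw
import Cfsg.Agent.Lib.Spor.CHZ.FThreeData

/-!
From the raw data to the Hermitian data: the quotient by the four-group has the structure studied before, and
the element of order three excludes the split case.
-/

set_option autoImplicit false
set_option maxHeartbeats 800000
set_option linter.unusedSectionVars false

namespace Cfsg.Agent.Spor.CHZ.FThree

open Cfsg.Agent.Spor.SpFour Cfsg.Agent.Small.Unitary
open scoped commutatorElement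

universe w

/-- a normal two-subgroup of the extended group is trivial -/
theorem two_power_Gam {P : Subgroup ↥Gam} (h2 : IsPGroup 2 P) (hn : P.Normal) : P = ⊥ := by
  have hbot : P.comap ι = ⊥ := two_power_L (Two.isPGroup_comap h2) (hn.comap ι)
  refine (Subgroup.eq_bot_iff_forall P).mpr fun f hf => centralizes fun g => ?_
  have hm : f * ι g * f⁻¹ * (ι g)⁻¹ ∈ ι.range := mul_mem (range_normal _ g) (inv_mem ⟨g, rfl⟩)
  obtain ⟨g', hg'⟩ := hm
  have hP : ι g' ∈ P := by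
    rw [hg', show f * ι g * f⁻¹ * (ι g)⁻¹ = f * (ι g * f⁻¹ * (ι g)⁻¹) by group]
    exact P.mul_mem hf (hn.conj_mem _ (P.inv_mem hf) _)
  have : g' = 1 := Subgroup.mem_bot.mp (hbot ▸ (hP : g' ∈ P.comap ι))
  rw [this, map_one] at hg'
  exact mul_inv_eq_iff_eq_mul.mp (mul_inv_eq_one.mp hg'.symm)

/-- no map without fixed points commutes with the split action -/
theorem caseB_no_free {M : Type w} [AddCommGroup M] [Module (ZMod 2) M] [Finite M] (R : Rep M) (hB : R.CaseB)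
    (δ : M →+ M) (hcomm : ∀ g x, δ (R.ρ g x) = R.ρ g (δ x)) (hfree : ∀ x, δ x = x → x = 0) (hinj : Function.Injective δ) :
    False := by
  have hS : ∀ (f : A3 → ZMod 2) x, δ (R.S f x) = R.S f (δ x) := fun f x => by
    rw [Rep.S, Rep.S, map_sum]
    refine Finset.sum_congr rfl fun a _ => ?_
    rcases (show ∀ c : ZMod 2, c = 0 ∨ c = 1 by decide) (f a) with e | e <;> rw [e]
    · rw [zero_smul, zero_smul, map_zero]
    · rw [one_smul, one_smul, hcomm]
  have hσb : Function.Bijective fun a => swA 0 (swA 2 a) :=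
    (Function.Involutive.bijective (Rep.swA_invol 0)).comp (Function.Involutive.bijective (Rep.swA_invol 2))
  obtain ⟨r, hr, hr0, ⟨x, hx, e⟩, huniq⟩ := R.plane_anti hB sw02_sq sw02_dg
    (fun a => (fn_sw02 a).2 1 (by decide)) (fun x hx => R.move_mem hσb sw02_dg (pf_sw02 1) hx)
  have hx' : δ x ∈ R.piece (kW 1) := by rw [Rep.mem_piece, ← hS, show R.S (pf (kW 1)) x = x from hx]
  have hI : R.dI (sw 0 * sw 2) (δ x) = δ r := by
    rw [← e]
    show δ x + R.ρ _ (δ x) = δ (x + R.ρ _ x)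
    rw [map_add, hcomm]
  rcases huniq (δ x) hx' with h | h <;> rw [hI] at h
  · exact hr0 (hinj (h.trans (map_zero δ).symm))
  · exact hr0 (hfree r h)

section

variable {G : Type w} [Group G] {v1 v2 : G} (h11 : v1 * v1 = 1) (h22 : v2 * v2 = 1) (h12 : Commute v1 v2)
include h11 h22 h12

theorem four_closed {a b : G} (ha : a ∈ four v1 v2) (hb : b ∈ four v1 v2) : a * b ∈ four v1 v2 := by
  have e1 : v1 * (v1 * v2) = v2 := by rw [← mul_assoc, h11, one_mul]
  have e2 : v2 * (v1 * v2) = v1 := by rw [← mul_assoc, ← h12.eq, mul_assoc, h22, mul_one]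
  have e3 : v1 * v2 * v1 = v2 := by rw [mul_assoc, ← h12.eq, e1]
  have e4 : v1 * v2 * v2 = v1 := by rw [mul_assoc, h22, mul_one]
  have e5 : v1 * v2 * (v1 * v2) = 1 := by rw [mul_assoc, e2, h11]
  rcases ha with rfl | rfl | rfl | rfl <;> rcases hb with rfl | rfl | rfl | rfl <;>
    simp only [four, Set.mem_ofPred_eq, one_mul, mul_one, h11, h22, h12.eq.symm, e1, e2, e3, e4, e5, true_or, or_true]

theorem four_inv_eq {a : G} (ha : a ∈ four v1 v2) : a⁻¹ = a := inv_eq_of_mul_eq_one_right (by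
  rcases ha with rfl | rfl | rfl | rfl
  · exact one_mul 1
  · exact h11
  · exact h22
  · rw [mul_assoc, ← mul_assoc v2, ← h12.eq, mul_assoc v1 v2 v2, h22, mul_one, h11])

end

theorem four_move_simple {G : Type w} [Group G] {v1 v2 a b : G} (h11 : v1 * v1 = 1) (ha : Commute a v1)
    (hb : Commute b v1) (hav : a * v2 * a⁻¹ = v2 ∨ a * v2 * a⁻¹ = v1 * v2)
    (hbv : b * v2 * b⁻¹ = v2 ∨ b * v2 * b⁻¹ = v1 * v2) : Commute (a * b * a⁻¹ * b⁻¹) v2 := by
  have get : ∀ {d : G}, Commute d v1 → (d * v2 * d⁻¹ = v2 ∨ d * v2 * d⁻¹ = v1 * v2) →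
      ∃ e, (e = 1 ∨ e = v1) ∧ Commute d e ∧ d * v2 * d⁻¹ = e * v2 ∧ d⁻¹ * v2 * d = e * v2 := by
    rintro d hd (h | h)
    · refine ⟨1, Or.inl rfl, Commute.one_right d, by rw [one_mul]; exact h, ?_⟩
      rw [one_mul]
      conv_lhs => rw [← h]
      group
    · refine ⟨v1, Or.inr rfl, hd, h, ?_⟩
      have h' : v2 = v1 * (d * v2 * d⁻¹) := by rw [h, ← mul_assoc, h11, one_mul]
      conv_lhs => rw [h', ← mul_assoc d⁻¹, hd.inv_left.eq]
      group
  obtain ⟨e, he, hae, he1, he2⟩ := get ha hav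
  obtain ⟨f, hf, hbf, hf1, hf2⟩ := get hb hbv
  have hbe : Commute b e := by rcases he with rfl | rfl; exacts [Commute.one_right b, hb]
  have haf : Commute a f := by rcases hf with rfl | rfl; exacts [Commute.one_right a, ha]
  refine mul_inv_eq_iff_eq_mul.mp ?_
  have s1 : a⁻¹ * (f * v2) * a = f * (e * v2) := by
    rw [← mul_assoc a⁻¹, haf.inv_left.eq, show f * a⁻¹ * v2 * a = f * (a⁻¹ * v2 * a) by group, he2]
  have s2 : b * (f * (e * v2)) * b⁻¹ = f * (e * (f * v2)) := by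
    rw [← mul_assoc b f, hbf.eq, mul_assoc f b, ← mul_assoc b e, hbe.eq,
      show f * (e * b * v2) * b⁻¹ = f * (e * (b * v2 * b⁻¹)) by group, hf1]
  have s3 : a * (f * (e * (f * v2))) * a⁻¹ = f * (e * (f * (e * v2))) := by
    rw [← mul_assoc a f, haf.eq, mul_assoc f a, ← mul_assoc a e, hae.eq, mul_assoc e a, ← mul_assoc a f, haf.eq,
      show f * (e * (f * a * v2)) * a⁻¹ = f * (e * (f * (a * v2 * a⁻¹))) by group, he1]
  calc a * b * a⁻¹ * b⁻¹ * v2 * (a * b * a⁻¹ * b⁻¹)⁻¹ = a * (b * (a⁻¹ * (b⁻¹ * v2 * b) * a) * b⁻¹) * a⁻¹ := by group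
    _ = f * (e * (f * (e * v2))) := by rw [hf2, s1, s2, s3]
    _ = v2 := by rcases he with rfl | rfl <;> rcases hf with rfl | rfl <;> simp only [one_mul, mul_one, ← mul_assoc, h11]

variable {G : Type w} [Group G] [Finite G] {z : G} (R : RawF z)

/-- the product over an orbit of the element of order three -/
def RawF.nrm (y : G) : G := y * (R.c * y * R.c⁻¹) * (R.c⁻¹ * y * R.c)

/-- the centre -/
theorem RawF.centre : ∃ v1 v2 : G, v1 ∈ R.Q ∧ v2 ∈ R.Q ∧ (∀ y ∈ R.Q, Commute v1 y) ∧ (∀ y ∈ R.Q, Commute v2 y) ∧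
    v1 ≠ 1 ∧ v2 ≠ 1 ∧ v1 ≠ v2 ∧ z ≠ v1 ∧ z ≠ v2 ∧ z ≠ v1 * v2 ∧ v1 * v1 = 1 ∧ v2 * v2 = 1 ∧
    R.c * v1 * R.c⁻¹ = v2 ∧ R.c * v2 * R.c⁻¹ = v1 * v2 ∧
    ∀ x ∈ R.Q, (∀ y ∈ R.Q, Commute x y) → InW z (four v1 v2) x := by
  classical
  obtain ⟨S, hS⟩ : ∃ S : Set G, S = {x | x ∈ R.Q ∧ ∀ y ∈ R.Q, Commute x y} := ⟨_, rfl⟩
  have hcard : S.ncard = 8 := by
    rw [← Nat.card_coe_set_eq, hS]
    exact R.center_card
  obtain ⟨x0, hx0, hx01, hx0z⟩ : ∃ x ∈ S, x ≠ 1 ∧ x ≠ z := by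
    by_contra hall
    push Not at hall
    have hsub : S ⊆ ({1, z} : Set G) := fun x hx => by
      by_cases h : x = 1
      · exact Or.inl h
      · exact Or.inr (hall x hx h)
    have h2 : ({1, z} : Set G).ncard ≤ 2 := (Set.ncard_insert_le _ _).trans (by rw [Set.ncard_singleton])
    have := Set.ncard_le_ncard hsub (Set.toFinite _)
    omega
  have hconjS : ∀ {d}, Commute d z → ∀ x ∈ S, d * x * d⁻¹ ∈ S := by
    intro d hd x hx
    rw [hS] at hx ⊢
    refine ⟨R.normal d hd x hx.1, fun y hy => ?_⟩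
    have h := comm_conj d (hx.2 (d⁻¹ * y * d) (by simpa using R.normal d⁻¹ hd.inv_left y hy))
    rwa [show d * (d⁻¹ * y * d) * d⁻¹ = y by group] at h
  have hsq : ∀ x ∈ S, x * x = 1 := fun x hx => by rw [hS] at hx; exact R.center_sq x hx.1 hx.2
  have hSQ : ∀ x ∈ S, x ∈ R.Q := fun x hx => by rw [hS] at hx; exact hx.1
  have hScomm : ∀ x ∈ S, ∀ y ∈ R.Q, Commute x y := fun x hx => by rw [hS] at hx; exact hx.2
  have hmulS : ∀ x ∈ S, ∀ y ∈ S, x * y ∈ S := fun x hx y hy => by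
    rw [hS] at hx hy ⊢
    exact ⟨R.Q.mul_mem hx.1 hy.1, fun w hw => (hx.2 w hw).mul_left (hy.2 w hw)⟩
  have hc2 : R.c * R.c = R.c⁻¹ := (inv_eq_of_mul_eq_one_right (by rw [← mul_assoc]; exact R.c3)).symm
  -- move the element into the plane
  obtain ⟨x, hxS, hx1, hxz, hn⟩ : ∃ x ∈ S, x ≠ 1 ∧ x ≠ z ∧ R.nrm x = 1 := by
    have hA := hconjS R.cz x0 hx0
    have hB := hconjS R.cz _ hA
    have e : R.c * (R.c * x0 * R.c⁻¹) * R.c⁻¹ = R.c⁻¹ * x0 * R.c := by
      rw [show R.c * (R.c * x0 * R.c⁻¹) * R.c⁻¹ = R.c * R.c * x0 * (R.c * R.c)⁻¹ by group, hc2, inv_inv]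
    rw [e] at hB
    have hnS : R.nrm x0 ∈ S := hmulS _ (hmulS _ hx0 _ hA) _ hB
    have hfix : Commute R.c (R.nrm x0) := by
      refine mul_inv_eq_iff_eq_mul.mp ?_
      have e2 : R.c * (R.c⁻¹ * x0 * R.c) * R.c⁻¹ = x0 := by group
      rw [RawF.nrm, show R.c * (x0 * (R.c * x0 * R.c⁻¹) * (R.c⁻¹ * x0 * R.c)) * R.c⁻¹ = R.c * x0 * R.c⁻¹ *
        (R.c * (R.c * x0 * R.c⁻¹) * R.c⁻¹) * (R.c * (R.c⁻¹ * x0 * R.c) * R.c⁻¹) by group, e, e2,
        (hScomm x0 hx0 _ (R.Q.mul_mem (hSQ _ hA) (hSQ _ hB))).symm.eq]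
      group
    rcases R.fix _ (hSQ _ hnS) hfix with h | h
    · exact ⟨x0, hx0, hx01, hx0z, h⟩
    refine ⟨z * x0, hmulS _ (hS ▸ ⟨R.zQ, fun y hy => (R.cent y hy).symm⟩) _ hx0, fun h' => ?_, fun h' => ?_, ?_⟩
    · exact hx0z (by rw [← mul_one z, ← h', ← mul_assoc, R.z2, one_mul])
    · exact hx01 (mul_eq_left.mp h')
    · have hzx : Commute z x0 := (R.cent _ (hSQ _ hx0)).symm
      have e1 : R.c * (z * x0) * R.c⁻¹ = z * (R.c * x0 * R.c⁻¹) := by rw [← mul_assoc, R.cz.eq]; group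
      have e2 : R.c⁻¹ * (z * x0) * R.c = z * (R.c⁻¹ * x0 * R.c) := by rw [← mul_assoc, R.cz.inv_left.eq]; group
      rw [RawF.nrm, e1, e2]
      generalize hA' : R.c * x0 * R.c⁻¹ = A at h hA
      generalize hB' : R.c⁻¹ * x0 * R.c = B at h hB
      rw [RawF.nrm, hA', hB'] at h
      have hzA : Commute z A := (R.cent A (hSQ _ hA)).symm
      calc z * x0 * (z * A) * (z * B) = z * x0 * z * (A * z) * B := by group
        _ = z * (x0 * z) * z * (A * B) := by rw [← hzA.eq]; group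
        _ = z * z * (z * (x0 * A * B)) := by
          rw [← hzx.eq, mul_assoc z (z * x0) z, mul_assoc z x0 z, ← hzx.eq]; group
        _ = 1 := by rw [h, R.z2, one_mul]
  have hv2S := hconjS R.cz x hxS
  have hv3 : R.c * (R.c * x * R.c⁻¹) * R.c⁻¹ = x * (R.c * x * R.c⁻¹) := by
    have e : R.c * (R.c * x * R.c⁻¹) * R.c⁻¹ = R.c⁻¹ * x * R.c := by
      rw [show R.c * (R.c * x * R.c⁻¹) * R.c⁻¹ = R.c * R.c * x * (R.c * R.c)⁻¹ by group, hc2, inv_inv]
    rw [e]
    have h := hn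
    rw [RawF.nrm] at h
    rw [← inv_eq_of_mul_eq_one_right h, inv_eq_of_mul_eq_one_right (hsq _ (hmulS _ hxS _ hv2S))]
  refine ⟨x, R.c * x * R.c⁻¹, hSQ _ hxS, hSQ _ hv2S, hScomm _ hxS, hScomm _ hv2S, hx1,
    fun h => hx1 (conj_eq_one_iff.mp h), ?_, Ne.symm hxz, ?_, ?_, hsq _ hxS, hsq _ hv2S, rfl, hv3, ?_⟩
  · intro h
    rcases R.fix x (hSQ _ hxS) (mul_inv_eq_iff_eq_mul.mp h.symm) with e | e
    exacts [hx1 e, hxz e]
  · intro h
    apply hxz
    rw [show x = R.c⁻¹ * (R.c * x * R.c⁻¹) * R.c by group, ← h, mul_assoc, ← R.cz.eq, inv_mul_cancel_left]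
  · intro h
    apply hxz
    have h2 := hv3
    rw [← h] at h2
    rw [show x = R.c⁻¹ * (R.c⁻¹ * (R.c * (R.c * x * R.c⁻¹) * R.c⁻¹) * R.c) * R.c by group, h2,
      mul_assoc R.c⁻¹ z R.c, ← R.cz.eq, inv_mul_cancel_left, mul_assoc, ← R.cz.eq, inv_mul_cancel_left]
  · intro y hy hyc
    obtain ⟨v2, hv2⟩ : ∃ v, v = R.c * x * R.c⁻¹ := ⟨_, rfl⟩
    rw [← hv2] at hv2S hv3 ⊢
    let f : Bool × Bool × Bool → ↥S := fun p =>
      ⟨(if p.1 then z else 1) * ((if p.2.1 then x else 1) * (if p.2.2 then v2 else 1)), by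
        have h1 : (1 : G) ∈ S := hS ▸ ⟨R.Q.one_mem, fun w _ => Commute.one_left w⟩
        have hz' : z ∈ S := hS ▸ ⟨R.zQ, fun y hy => (R.cent y hy).symm⟩
        refine hmulS _ ?_ _ (hmulS _ ?_ _ ?_) <;> split_ifs <;> assumption⟩
    have hinW : ∀ p, InW z (four x v2) (f p : G) := by
      rintro ⟨a, b, d⟩
      cases a <;> cases b <;> cases d <;> simp [f, InW, four]
    have hf : Function.Injective f := by
      have hne : x ≠ v2 := fun h => by
        rcases R.fix x (hSQ _ hxS) (mul_inv_eq_iff_eq_mul.mp ((h.trans hv2).symm)) with e | e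
        exacts [hx1 e, hxz e]
      have h1v : v2 ≠ 1 := hv2 ▸ fun h => hx1 (conj_eq_one_iff.mp h)
      have hxv : x * v2 ≠ 1 := fun h => hne (by
        rw [mul_eq_one_iff_eq_inv.mp h, inv_eq_of_mul_eq_one_right (hsq _ hv2S)])
      have hzv : z ≠ v2 := fun h => hxz (by
        rw [show x = R.c⁻¹ * v2 * R.c by rw [hv2]; group, ← h, mul_assoc, ← R.cz.eq, inv_mul_cancel_left])
      have hzxv : z ≠ x * v2 := fun h => hzv (by
        have h2 : R.c * v2 * R.c⁻¹ = z := hv3.trans h.symm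
        rw [show v2 = R.c⁻¹ * (R.c * v2 * R.c⁻¹) * R.c by group, h2, mul_assoc, ← R.cz.eq, inv_mul_cancel_left])
      have hzf : z ∉ four x v2 := fun h => by
        rcases h with e | e | e | e
        exacts [R.z_ne e, hxz e.symm, hzv e, hzxv e]
      have hxs := hsq _ hxS
      have hvs := hsq _ hv2S
      have hxvc : Commute x v2 := hScomm _ hxS _ (hSQ _ hv2S)
      obtain ⟨g, hg⟩ : ∃ g : Bool → Bool → G, g = fun b d => (if b then x else 1) * (if d then v2 else 1) :=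
        ⟨_, rfl⟩
      have hgf : ∀ b d, g b d ∈ four x v2 := fun b d => by
        rw [hg]; cases b <;> cases d <;> simp [four]
      rintro ⟨a, b, d⟩ ⟨a', b', d'⟩ h
      replace h : (if a then z else 1) * g b d = (if a' then z else 1) * g b' d' := by
        rw [hg]; exact congrArg Subtype.val h
      have hbd : g b d = g b' d' → b = b' ∧ d = d' := fun h' => by
        rw [hg] at h'
        cases b <;> cases b' <;> cases d <;> cases d' <;>
          simp only [Bool.false_eq_true, if_false, if_true, one_mul, mul_one, reduceCtorEq, and_true, true_and,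
            and_false, false_and, mul_eq_left, mul_eq_right, left_eq_mul, right_eq_mul] at h' ⊢ <;>
          first
            | exact hx1 h' | exact hx1 h'.symm | exact h1v h' | exact h1v h'.symm | exact hxv h' | exact hxv h'.symm
            | exact hne h' | exact hne h'.symm
      cases a <;> cases a' <;> simp only [Bool.false_eq_true, if_false, if_true, one_mul] at h
      · obtain ⟨rfl, rfl⟩ := hbd h; rfl
      · refine absurd ?_ hzf
        rw [show z = g b d * (g b' d')⁻¹ by rw [h, mul_inv_cancel_right]]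
        exact four_closed hxs hvs hxvc (hgf _ _)
          ((four_inv_eq hxs hvs hxvc (hgf b' d')).symm ▸ hgf b' d')
      · refine absurd ?_ hzf
        rw [show z = g b' d' * (g b d)⁻¹ by rw [← h, mul_inv_cancel_right]]
        exact four_closed hxs hvs hxvc (hgf _ _)
          ((four_inv_eq hxs hvs hxvc (hgf b d)).symm ▸ hgf b d)
      · obtain ⟨rfl, rfl⟩ := hbd (mul_left_cancel h); rfl
    have hb := (Nat.bijective_iff_injective_and_card f).mpr ⟨hf, by
      rw [Nat.card_coe_set_eq, hcard, Nat.card_prod, Nat.card_prod, Nat.card_eq_fintype_card (α := Bool),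
        Fintype.card_bool]⟩
    obtain ⟨p, hp⟩ := hb.2 ⟨y, hS ▸ ⟨hy, hyc⟩⟩
    have := hinW p
    rwa [show (f p : G) = y from congrArg Subtype.val hp] at this

/-- the data exist -/
theorem RawF.exists_core : ∃ v1 v2, ∃ D : FCore z v1 v2, D.Q = R.Q ∧ R.c * v1 * R.c⁻¹ = v2 ∧
    R.c * v2 * R.c⁻¹ = v1 * v2 ∧ ∀ x ∈ R.Q, (∀ y ∈ R.Q, Commute x y) → InW z (four v1 v2) x := by
  classical
  obtain ⟨v1, v2, h1Q, h2Q, h1c, h2c, h1n, h2n, h12, hz1, hz2, hz3, h11, h22, hc1, hc2, hcen⟩ := R.centre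
  obtain ⟨c, hcdef⟩ : ∃ c, c = R.c := ⟨_, rfl⟩
  rw [← hcdef] at hc1 hc2
  have hcz : Commute c z := hcdef ▸ R.cz
  have hcomm12 : Commute v1 v2 := h1c v2 h2Q
  have e5 : v1 * v2 * (v1 * v2) = 1 := by rw [mul_assoc, ← mul_assoc v2, ← hcomm12.eq, mul_assoc v1 v2 v2, h22, mul_one, h11]
  have hfsq : ∀ {u}, u ∈ four v1 v2 → u * u = 1 := fun hu => by
    rcases hu with rfl | rfl | rfl | rfl
    exacts [one_mul 1, h11, h22, e5]
  have hfQ : ∀ {u}, u ∈ four v1 v2 → u ∈ R.Q := fun hu => by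
    rcases hu with rfl | rfl | rfl | rfl
    exacts [R.Q.one_mem, h1Q, h2Q, R.Q.mul_mem h1Q h2Q]
  have hfc : ∀ {u}, u ∈ four v1 v2 → ∀ y ∈ R.Q, Commute u y := fun hu y hy => by
    rcases hu with rfl | rfl | rfl | rfl
    exacts [Commute.one_left y, h1c y hy, h2c y hy, (h1c y hy).mul_left (h2c y hy)]
  have hzf : z ∉ four v1 v2 := fun h => by
    rcases h with e | e | e | e
    exacts [R.z_ne e, hz1 e, hz2 e, hz3 e]
  have hmul : ∀ {a b}, a ∈ four v1 v2 → b ∈ four v1 v2 → a * b ∈ four v1 v2 := fun ha hb =>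
    four_closed h11 h22 hcomm12 ha hb
  have hc3 : c * (v1 * v2) * c⁻¹ = v1 := by
    rw [show c * (v1 * v2) * c⁻¹ = c * v1 * c⁻¹ * (c * v2 * c⁻¹) by group, hc1, hc2, ← mul_assoc, ← hcomm12.eq,
      mul_assoc, h22, mul_one]
  have hci : ∀ {u}, u ∈ four v1 v2 → c⁻¹ * u * c ∈ four v1 v2 := fun {u} hu => by
    have k : ∀ {a b : G}, c * a * c⁻¹ = b → c⁻¹ * b * c = a := fun h => by rw [← h]; group
    rcases hu with rfl | rfl | rfl | rfl
    · left; group
    · rw [k hc3]; exact Or.inr (Or.inr (Or.inr rfl))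
    · rw [k hc1]; exact Or.inr (Or.inl rfl)
    · rw [k hc2]; exact Or.inr (Or.inr (Or.inl rfl))
  have hcu : ∀ {u}, u ∈ four v1 v2 → c * u * c⁻¹ ∈ four v1 v2 := fun {u} hu => by
    rcases hu with rfl | rfl | rfl | rfl
    · left; group
    · rw [hc1]; exact Or.inr (Or.inr (Or.inl rfl))
    · rw [hc2]; exact Or.inr (Or.inr (Or.inr rfl))
    · rw [hc3]; exact Or.inr (Or.inl rfl)
  -- the element of order three up to the two-core
  have hcase : ∀ d, Commute d z → ∃ x ∈ R.Q, d * c * d⁻¹ = x * c ∨ d * c * d⁻¹ = x * c⁻¹ := by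
    intro d hd
    have hcC : c ∈ Subgroup.centralizer ({z} : Set G) := Subgroup.mem_centralizer_singleton_iff.mpr hcz.eq
    have hdC : d ∈ Subgroup.centralizer ({z} : Set G) := Subgroup.mem_centralizer_singleton_iff.mpr hd.eq
    have hk : R.ψ ⟨c, hcC⟩ = 1 := (R.ψ_ker _).mpr ⟨1, R.Q.one_mem, Or.inr (Or.inl (hcdef.trans (one_mul _).symm))⟩
    obtain ⟨x, hx, h | h | h⟩ := (R.ψ_ker (⟨d, hdC⟩ * ⟨c, hcC⟩ * ⟨d, hdC⟩⁻¹)).mp (by
      rw [map_mul, map_mul, hk, mul_one, map_inv, mul_inv_cancel])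
    · exfalso
      change d * c * d⁻¹ = x at h
      have := R.normal d⁻¹ hd.inv_left x hx
      rw [← h, inv_inv, show d⁻¹ * (d * c * d⁻¹) * d = c by group] at this
      exact R.c_out (hcdef ▸ this)
    · exact ⟨x, hx, Or.inl (hcdef ▸ h)⟩
    · refine ⟨x, hx, Or.inr ?_⟩
      rw [← hcdef] at h
      refine h.trans ?_
      rw [show c * c = c⁻¹ from (inv_eq_of_mul_eq_one_right (by rw [← mul_assoc, hcdef]; exact R.c3)).symm]
  have hperm : ∀ d, Commute d z → ∀ u ∈ four v1 v2, d * u * d⁻¹ ∈ four v1 v2 := by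
    intro d hd u hu
    obtain ⟨w, hwdef⟩ : ∃ w, w = d * u * d⁻¹ := ⟨_, rfl⟩
    rw [← hwdef]
    have hwQ : w ∈ R.Q := hwdef ▸ R.normal d hd u (hfQ hu)
    have hwc : ∀ y ∈ R.Q, Commute w y := fun y hy => by
      have h := comm_conj d (hfc hu (d⁻¹ * y * d) (by simpa using R.normal d⁻¹ hd.inv_left y hy))
      rwa [show d * (d⁻¹ * y * d) * d⁻¹ = y by group, ← hwdef] at h
    have hprod : ∀ {u}, u ∈ four v1 v2 → u * (c * u * c⁻¹) * (c⁻¹ * u * c) = 1 ∧
        u * (c⁻¹ * u * c) * (c * u * c⁻¹) = 1 := fun {u} hu => by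
      have k : ∀ {a b : G}, c * a * c⁻¹ = b → c⁻¹ * b * c = a := fun h => by rw [← h]; group
      have e2 : v2 * (v1 * v2) = v1 := by rw [← mul_assoc, ← hcomm12.eq, mul_assoc, h22, mul_one]
      rcases hu with rfl | e | e | e
      · constructor <;> group
      · subst u; rw [hc1, k hc3]
        exact ⟨e5, by rw [← mul_assoc v1 v1, h11, one_mul, h22]⟩
      · subst u; rw [hc2, k hc1, e2]
        exact ⟨h11, by rw [mul_assoc v2 v1, ← mul_assoc v1 v1, h11, one_mul, h22]⟩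
      · subst u; rw [hc3, k hc2]
        refine ⟨by rw [mul_assoc v1 v2 v1, ← hcomm12.eq, ← mul_assoc v1 v1, h11, one_mul, h22], ?_⟩
        rw [mul_assoc v1 v2 v2, h22, mul_one, h11]
    obtain ⟨hp1, hp2⟩ := hprod hu
    have hone : w * (c * w * c⁻¹) * (c⁻¹ * w * c) = 1 ∨ w * (c⁻¹ * w * c) * (c * w * c⁻¹) = 1 := by
      obtain ⟨x, hx, h | h⟩ := hcase d hd
      · left
        have hcu' : d * (c * u * c⁻¹) * d⁻¹ = c * w * c⁻¹ := by
          rw [show d * (c * u * c⁻¹) * d⁻¹ = d * c * d⁻¹ * (d * u * d⁻¹) * (d * c * d⁻¹)⁻¹ by group, h, ← hwdef,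
            show x * c * w * (x * c)⁻¹ = x * (c * w * c⁻¹) * x⁻¹ by group]
          have hcomm : Commute x (c * w * c⁻¹) := by
            have := comm_conj c (hwc (c⁻¹ * x * c) (by simpa using R.normal c⁻¹ hcz.inv_left x hx))
            rw [show c * (c⁻¹ * x * c) * c⁻¹ = x by group] at this
            exact this.symm
          rw [hcomm.eq, mul_inv_cancel_right]
        have hci' : d * (c⁻¹ * u * c) * d⁻¹ = c⁻¹ * w * c := by
          rw [show d * (c⁻¹ * u * c) * d⁻¹ = (d * c * d⁻¹)⁻¹ * (d * u * d⁻¹) * (d * c * d⁻¹) by group, h, ← hwdef,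
            show (x * c)⁻¹ * w * (x * c) = c⁻¹ * (x⁻¹ * (w * x)) * c by group, (hwc x hx).eq, inv_mul_cancel_left]
        rw [← hcu', ← hci', hwdef, show d * u * d⁻¹ * (d * (c * u * c⁻¹) * d⁻¹) * (d * (c⁻¹ * u * c) * d⁻¹) =
          d * (u * (c * u * c⁻¹) * (c⁻¹ * u * c)) * d⁻¹ by group, hp1]
        group
      · right
        have hcu' : d * (c * u * c⁻¹) * d⁻¹ = c⁻¹ * w * c := by
          rw [show d * (c * u * c⁻¹) * d⁻¹ = d * c * d⁻¹ * (d * u * d⁻¹) * (d * c * d⁻¹)⁻¹ by group, h, ← hwdef,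
            show x * c⁻¹ * w * (x * c⁻¹)⁻¹ = x * (c⁻¹ * w * c) * x⁻¹ by group]
          have hcomm : Commute x (c⁻¹ * w * c) := by
            have := comm_conj c⁻¹ (hwc (c * x * c⁻¹) (R.normal c hcz x hx))
            rw [inv_inv, show c⁻¹ * (c * x * c⁻¹) * c = x by group] at this
            exact this.symm
          rw [hcomm.eq, mul_inv_cancel_right]
        have hci' : d * (c⁻¹ * u * c) * d⁻¹ = c * w * c⁻¹ := by
          rw [show d * (c⁻¹ * u * c) * d⁻¹ = (d * c * d⁻¹)⁻¹ * (d * u * d⁻¹) * (d * c * d⁻¹) by group, h, ← hwdef,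
            show (x * c⁻¹)⁻¹ * w * (x * c⁻¹) = c * (x⁻¹ * (w * x)) * c⁻¹ by group, (hwc x hx).eq, inv_mul_cancel_left]
        rw [← hcu', ← hci', hwdef, show d * u * d⁻¹ * (d * (c * u * c⁻¹) * d⁻¹) * (d * (c⁻¹ * u * c) * d⁻¹) =
          d * (u * (c * u * c⁻¹) * (c⁻¹ * u * c)) * d⁻¹ by group, hp1]
        group
    obtain ⟨u', hu', hw | hw⟩ := hcen w hwQ hwc
    · exact hw ▸ hu'
    exfalso
    apply R.z_ne
    have hzu : ∀ {a}, a ∈ four v1 v2 → Commute z a := fun ha => (R.cent _ (hfQ ha)).symm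
    have hA : c * w * c⁻¹ = z * (c * u' * c⁻¹) := by rw [hw, ← mul_assoc, hcz.eq]; group
    have hB : c⁻¹ * w * c = z * (c⁻¹ * u' * c) := by rw [hw, ← mul_assoc, hcz.inv_left.eq]; group
    have h3 : ∀ {a b e : G}, a ∈ four v1 v2 → b ∈ four v1 v2 → z * a * (z * b) * (z * e) = z * (a * b * e) := by
      intro a b e ha hb
      calc z * a * (z * b) * (z * e) = z * (a * z) * (b * z) * e := by group
        _ = z * (z * a) * (z * b) * e := by rw [← (hzu ha).eq, ← (hzu hb).eq]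
        _ = (z * z) * (a * z) * (b * e) := by group
        _ = z * (a * b * e) := by rw [R.z2, one_mul, ← (hzu ha).eq]; group
    obtain ⟨hq1, hq2⟩ := hprod hu'
    rcases hone with h | h
    · rw [hA, hB, hw, h3 hu' (hcu hu'), hq1, mul_one] at h; exact h
    · rw [hA, hB, hw, h3 hu' (hci hu'), hq2, mul_one] at h; exact h
  -- the inverting element moved to the point stabiliser
  obtain ⟨h, hhz, hh1, hh2⟩ : ∃ h, Commute h z ∧ Commute h v1 ∧ h * v2 * h⁻¹ = v1 * v2 := by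
    obtain ⟨d, hd, x, hx, hdc⟩ := R.inv
    rw [← hcdef] at hdc
    have hne : d * v1 * d⁻¹ ≠ 1 := fun e => h1n (conj_eq_one_iff.mp e)
    have hrule : ∀ {u}, u ∈ four v1 v2 → d * (c * u * c⁻¹) * d⁻¹ = c⁻¹ * (d * u * d⁻¹) * c := fun {u} hu => by
      rw [show d * (c * u * c⁻¹) * d⁻¹ = d * c * d⁻¹ * (d * u * d⁻¹) * (d * c * d⁻¹)⁻¹ by group, hdc,
        show x * c⁻¹ * (d * u * d⁻¹) * (x * c⁻¹)⁻¹ = x * (c⁻¹ * (d * u * d⁻¹) * c) * x⁻¹ by group,
        ((hfc (hci (hperm d hd u hu)) x hx).symm).eq, mul_inv_cancel_right]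
    have k : ∀ {a b : G}, c * a * c⁻¹ = b → c⁻¹ * b * c = a := fun h => by rw [← h]; group
    rcases (hperm d hd v1 (Or.inr (Or.inl rfl))).resolve_left hne with e | e | e
    · refine ⟨d, hd, mul_inv_eq_iff_eq_mul.mp e, ?_⟩
      rw [← hc1, hrule (Or.inr (Or.inl rfl)), e, k hc3, hc1]
    · refine ⟨c⁻¹ * d, hcz.inv_left.mul_left hd, mul_inv_eq_iff_eq_mul.mp ?_, ?_⟩
      · rw [show c⁻¹ * d * v1 * (c⁻¹ * d)⁻¹ = c⁻¹ * (d * v1 * d⁻¹) * c by group, e, k hc1]
      · rw [show c⁻¹ * d * v2 * (c⁻¹ * d)⁻¹ = c⁻¹ * (d * v2 * d⁻¹) * c by group]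
        conv_lhs => rw [← hc1]
        rw [hrule (Or.inr (Or.inl rfl)), e, k hc1, k hc3]
    · refine ⟨c * d, hcz.mul_left hd, mul_inv_eq_iff_eq_mul.mp ?_, ?_⟩
      · rw [show c * d * v1 * (c * d)⁻¹ = c * (d * v1 * d⁻¹) * c⁻¹ by group, e, hc3]
      · rw [show c * d * v2 * (c * d)⁻¹ = c * (d * v2 * d⁻¹) * c⁻¹ by group]
        conv_lhs => rw [← hc1]
        rw [hrule (Or.inr (Or.inl rfl)), e]
        group
  -- the quotient by the four-group
  obtain ⟨H1, hH1⟩ : ∃ H1 : Subgroup G,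
      H1 = Subgroup.centralizer ({z} : Set G) ⊓ Subgroup.centralizer ({v1} : Set G) := ⟨_, rfl⟩
  have hmem1 : ∀ {d}, d ∈ H1 ↔ Commute d z ∧ Commute d v1 := fun {d} => by
    rw [hH1, Subgroup.mem_inf, Subgroup.mem_centralizer_singleton_iff, Subgroup.mem_centralizer_singleton_iff]
    rfl
  have hQ1 : R.Q ≤ H1 := fun x hx => hmem1.mpr ⟨R.cent x hx, (h1c x hx).symm⟩
  let N : Subgroup ↥H1 :=
    { carrier := {x | (x : G) ∈ four v1 v2}
      one_mem' := Or.inl rfl
      mul_mem' := fun {a b} ha hb => by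
        show ((a * b : ↥H1) : G) ∈ four v1 v2
        rw [Subgroup.coe_mul]; exact hmul ha hb
      inv_mem' := fun {a} ha => by
        show ((a⁻¹ : ↥H1) : G) ∈ four v1 v2
        rw [Subgroup.coe_inv, inv_eq_of_mul_eq_one_right (hfsq ha)]; exact ha }
  haveI hNn : N.Normal := ⟨fun n hn d => hperm _ (hmem1.mp d.2).1 _ hn⟩
  let q : ↥H1 →* ↥H1 ⧸ N := QuotientGroup.mk' N
  have hqeq : ∀ {a b : ↥H1}, q a = q b ↔ (a : G)⁻¹ * b ∈ four v1 v2 := fun {a b} => by
    show (QuotientGroup.mk' N a = QuotientGroup.mk' N b) ↔ _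
    rw [QuotientGroup.mk'_apply, QuotientGroup.mk'_apply, QuotientGroup.eq]
    exact Iff.rfl
  have hq1 : ∀ {a : ↥H1}, q a = 1 ↔ (a : G) ∈ four v1 v2 := fun {a} => QuotientGroup.eq_one_iff a
  obtain ⟨zH, hzH⟩ : ∃ zH : ↥H1, (zH : G) = z := ⟨⟨z, hmem1.mpr ⟨Commute.refl z, (h1c z R.zQ).symm⟩⟩, rfl⟩
  obtain ⟨zb, hzb⟩ : ∃ zb, zb = q zH := ⟨_, rfl⟩
  have hallc : ∀ y, Commute y zb := fun y => by
    obtain ⟨d, rfl⟩ := QuotientGroup.mk'_surjective N y
    exact hzb ▸ (show Commute d zH from Subtype.ext (by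
      rw [Subgroup.coe_mul, Subgroup.coe_mul, hzH]; exact (hmem1.mp d.2).1.eq)).map q
  obtain ⟨Qb, hQb⟩ : ∃ Qb : Subgroup (↥H1 ⧸ N), Qb = (R.Q.subgroupOf H1).map q := ⟨_, rfl⟩
  have hmemQb : ∀ {a : ↥H1}, q a ∈ Qb ↔ (a : G) ∈ R.Q := fun {a} => by
    rw [hQb]
    constructor
    · rintro ⟨b, hb, e⟩
      rw [show (a : G) = b * ((b : G)⁻¹ * a) by group]
      exact R.Q.mul_mem hb (hfQ (hqeq.mp e))
    · exact fun h => ⟨a, h, rfl⟩
  let ψ0 : ↥H1 →* ↥Gam := R.ψ.comp (Subgroup.inclusion (hH1 ▸ inf_le_left))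
  have hψ0 : ∀ {a : ↥H1}, ψ0 a = 1 ↔ (a : G) ∈ R.Q := fun {a} => by
    show R.ψ _ = 1 ↔ _
    rw [R.ψ_ker]
    refine ⟨?_, fun h => ⟨a, h, Or.inl rfl⟩⟩
    rintro ⟨x, hx, e⟩
    rw [← hcdef] at e
    rcases e with e | e | e
    · exact (show (a : G) = x from e) ▸ hx
    · exfalso
      have h := (hmem1.mp a.2).2
      have : Commute (x⁻¹ * (a : G)) v1 := (h1c x hx).symm.inv_left.mul_left h
      rw [show (a : G) = x * c from e, inv_mul_cancel_left] at this
      exact h12 (by rw [← hc1, this.eq, mul_inv_cancel_right])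
    · exfalso
      have h := (hmem1.mp a.2).2
      have : Commute (x⁻¹ * (a : G)) v1 := (h1c x hx).symm.inv_left.mul_left h
      rw [show (a : G) = x * (c * c) from e, inv_mul_cancel_left] at this
      have e' : c * c * v1 * (c * c)⁻¹ = v1 := by rw [this.eq, mul_inv_cancel_right]
      rw [show c * c * v1 * (c * c)⁻¹ = c * (c * v1 * c⁻¹) * c⁻¹ by group, hc1, hc2] at e'
      exact h2n (mul_eq_left.mp e')
  let ψb : (↥H1 ⧸ N) →* ↥Gam := QuotientGroup.lift N ψ0 fun a ha => hψ0.mpr (hfQ ha)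
  have hψb : ∀ a, ψb (q a) = ψ0 a := fun a => rfl
  have hsurj : Function.Surjective ψ0 := fun g => by
    obtain ⟨d, hd⟩ := R.ψ_surj g
    have hdz : Commute (d : G) z := Subgroup.mem_centralizer_singleton_iff.mp d.2
    have hcC : c ∈ Subgroup.centralizer ({z} : Set G) := Subgroup.mem_centralizer_singleton_iff.mpr hcz.eq
    have hk : R.ψ ⟨c, hcC⟩ = 1 := (R.ψ_ker _).mpr ⟨1, R.Q.one_mem, Or.inr (Or.inl (hcdef.trans (one_mul _).symm))⟩
    have k : ∀ {a b : G}, c * a * c⁻¹ = b → c⁻¹ * b * c = a := fun h => by rw [← h]; group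
    have hne : (d : G) * v1 * (d : G)⁻¹ ≠ 1 := fun e => h1n (conj_eq_one_iff.mp e)
    rcases (hperm d hdz v1 (Or.inr (Or.inl rfl))).resolve_left hne with e | e | e
    · exact ⟨⟨d, hmem1.mpr ⟨hdz, mul_inv_eq_iff_eq_mul.mp e⟩⟩, hd⟩
    · refine ⟨⟨c⁻¹ * d, hmem1.mpr ⟨hcz.inv_left.mul_left hdz, mul_inv_eq_iff_eq_mul.mp ?_⟩⟩, ?_⟩
      · rw [show c⁻¹ * d * v1 * (c⁻¹ * (d : G))⁻¹ = c⁻¹ * (d * v1 * (d : G)⁻¹) * c by group, e, k hc1]
      · show R.ψ ((⟨c, hcC⟩)⁻¹ * d) = g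
        rw [map_mul, map_inv, hk, inv_one, one_mul, hd]
    · refine ⟨⟨c * d, hmem1.mpr ⟨hcz.mul_left hdz, mul_inv_eq_iff_eq_mul.mp ?_⟩⟩, ?_⟩
      · rw [show c * d * v1 * (c * (d : G))⁻¹ = c * (d * v1 * (d : G)⁻¹) * c⁻¹ by group, e, hc3]
      · show R.ψ (⟨c, hcC⟩ * d) = g
        rw [map_mul, hk, one_mul, hd]
  have hWdec : ∀ {x} (hx : x ∈ R.Q), (∀ y ∈ R.Q, Commute x y) → (q ⟨x, hQ1 hx⟩ = 1 ∨ q ⟨x, hQ1 hx⟩ = zb) := by
    intro x hx hxc
    obtain ⟨u, hu, e | e⟩ := hcen x hx hxc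
    · exact Or.inl (hq1.mpr (show x ∈ four v1 v2 from e ▸ hu))
    · refine Or.inr (hzb ▸ hqeq.mpr ?_)
      show x⁻¹ * (zH : G) ∈ four v1 v2
      rw [hzH, e, mul_inv_rev, mul_assoc, inv_mul_cancel, mul_one, inv_eq_of_mul_eq_one_right (hfsq hu)]
      exact hu
  let X : XCore zb :=
    { Q := Qb
      ψ := ψb.comp (Subgroup.centralizer ({zb} : Set (↥H1 ⧸ N))).subtype
      ψ_surj := fun g => by
        obtain ⟨a, ha⟩ := hsurj g
        exact ⟨⟨q a, Subgroup.mem_centralizer_singleton_iff.mpr (hallc _).eq⟩, ha⟩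
      ψ_ker := fun y => by
        obtain ⟨a, ha⟩ := QuotientGroup.mk'_surjective N (y : ↥H1 ⧸ N)
        rw [MonoidHom.comp_apply, Subgroup.coe_subtype, ← ha]
        show ψb (q a) = 1 ↔ q a ∈ Qb
        rw [hψb, hψ0, hmemQb]
      z1 := fun e => hzf (by
        have := hq1.mp (hzb ▸ e)
        rwa [hzH] at this)
      z2 := by
        rw [hzb, ← map_mul, show zH * zH = 1 from Subtype.ext (by
          rw [Subgroup.coe_mul, hzH, Subgroup.coe_one]; exact R.z2), map_one]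
      cent := fun y _ => hallc y
      normal := fun d _ y hy => by
        obtain ⟨a, rfl⟩ := QuotientGroup.mk'_surjective N d
        obtain ⟨b, rfl⟩ := QuotientGroup.mk'_surjective N y
        show q a * q b * (q a)⁻¹ ∈ Qb
        rw [← map_inv, ← map_mul, ← map_mul]
        exact hmemQb.mpr (R.normal _ (hmem1.mp a.2).1 _ (hmemQb.mp hy))
      zQ := hzb ▸ hmemQb.mpr (hzH ▸ R.zQ)
      card := by
        have h := (q.comp (R.Q.subgroupOf H1).subtype).ker.card_mul_index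
        rw [Subgroup.index_ker, MonoidHom.range_comp, Subgroup.range_subtype, ← hQb,
          Nat.card_congr (Subgroup.subgroupOfEquivOfLe hQ1).toEquiv, R.card] at h
        have hk : Nat.card (q.comp (R.Q.subgroupOf H1).subtype).ker = 4 := by
          have hset : Nat.card ↥(four v1 v2) = 4 := by
            have e : four v1 v2 = (({1, v1, v2, v1 * v2} : Finset G) : Set G) := by ext; simp [four]
            rw [Nat.card_coe_set_eq, e, Set.ncard_coe_finset, Finset.card_insert_of_notMem,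
              Finset.card_insert_of_notMem, Finset.card_insert_of_notMem, Finset.card_singleton]
            · rw [Finset.mem_singleton]; exact fun h => h1n (right_eq_mul.mp h)
            · simp only [Finset.mem_insert, Finset.mem_singleton, not_or]
              exact ⟨h12, fun h => h2n (left_eq_mul.mp h)⟩
            · simp only [Finset.mem_insert, Finset.mem_singleton, not_or]
              exact ⟨Ne.symm h1n, Ne.symm h2n, fun h => h12 (by
                rw [mul_eq_one_iff_eq_inv.mp h.symm, inv_eq_of_mul_eq_one_right h22])⟩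
          rw [← hset]
          refine Nat.card_congr ⟨fun a => ⟨((a : R.Q.subgroupOf H1) : ↥H1), hq1.mp a.2⟩,
            fun u => ⟨⟨⟨u, hQ1 (hfQ u.2)⟩, hfQ u.2⟩, hq1.mpr u.2⟩, fun _ => rfl, fun _ => rfl⟩
        rw [hk] at h
        exact Nat.eq_of_mul_eq_mul_left (by norm_num : 0 < 4) (h.trans (by norm_num))
      comm := by
        intro x hx y hy
        obtain ⟨a, rfl⟩ := QuotientGroup.mk'_surjective N x
        obtain ⟨b, rfl⟩ := QuotientGroup.mk'_surjective N y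
        rcases R.comm _ (hmemQb.mp hx) _ (hmemQb.mp hy) with e | e
        · left
          show q a * q b * (q a)⁻¹ * (q b)⁻¹ = 1
          rw [← map_inv, ← map_inv, ← map_mul, ← map_mul, ← map_mul, show a * b * a⁻¹ * b⁻¹ = 1 from Subtype.ext e,
            map_one]
        · right
          show q a * q b * (q a)⁻¹ * (q b)⁻¹ = zb
          rw [← map_inv, ← map_inv, ← map_mul, ← map_mul, ← map_mul,
            show a * b * a⁻¹ * b⁻¹ = zH from Subtype.ext (e.trans hzH.symm), hzb]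
      sq := by
        intro x hx
        obtain ⟨a, rfl⟩ := QuotientGroup.mk'_surjective N x
        rcases R.sq _ (hmemQb.mp hx) with e | e
        · exact Or.inl (by show q a * q a = 1; rw [← map_mul, show a * a = 1 from Subtype.ext e, map_one])
        · exact Or.inr (by
            show q a * q a = zb
            rw [← map_mul, show a * a = zH from Subtype.ext (e.trans hzH.symm), hzb])
      center := by
        intro x hx hc'
        obtain ⟨a, rfl⟩ := QuotientGroup.mk'_surjective N x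
        have ha := hmemQb.mp hx
        exact hWdec ha fun y hy => by
          have hcom := hc' (q ⟨y, hQ1 hy⟩) (hmemQb.mpr hy)
          have h4 : ((a : G) * y)⁻¹ * (y * a) ∈ four v1 v2 := by
            have h' : q (a * ⟨y, hQ1 hy⟩) = q (⟨y, hQ1 hy⟩ * a) := by rw [map_mul, map_mul]; exact hcom.eq
            exact hqeq.mp h'
          rw [show ((a : G) * y)⁻¹ * (y * a) = y⁻¹ * (a : G)⁻¹ * y⁻¹⁻¹ * (a : G)⁻¹⁻¹ by group] at h4
          rcases R.comm _ (R.Q.inv_mem hy) _ (R.Q.inv_mem ha) with e | e <;> rw [e] at h4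
          · have := mul_inv_eq_iff_eq_mul.mp (mul_inv_eq_one.mp e)
            exact (Commute.inv_inv_iff.mp (this : Commute y⁻¹ (a : G)⁻¹)).symm
          · exact absurd h4 hzf
      self := by
        intro d hd hc'
        obtain ⟨a, rfl⟩ := QuotientGroup.mk'_surjective N d
        let P : Subgroup ↥H1 :=
          { carrier := {b | ∀ x ∈ R.Q, (b : G) * x * (b : G)⁻¹ * x⁻¹ ∈ four v1 v2}
            one_mem' := fun x _ => Or.inl (by simp)
            mul_mem' := fun {p p'} hp hp' x hx => by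
              show ((p * p' : ↥H1) : G) * x * ((p * p' : ↥H1) : G)⁻¹ * x⁻¹ ∈ four v1 v2
              rw [Subgroup.coe_mul, show (p : G) * p' * x * ((p : G) * p')⁻¹ * x⁻¹ =
                (p : G) * ((p' : G) * x * (p' : G)⁻¹ * x⁻¹) * (p : G)⁻¹ * ((p : G) * x * (p : G)⁻¹ * x⁻¹) by group]
              exact hmul (hperm _ (hmem1.mp p.2).1 _ (hp' x hx)) (hp x hx)
            inv_mem' := fun {p} hp x hx => by
              show ((p⁻¹ : ↥H1) : G) * x * ((p⁻¹ : ↥H1) : G)⁻¹ * x⁻¹ ∈ four v1 v2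
              have hx' := hp x hx
              have e : (p : G)⁻¹ * x * (p : G)⁻¹⁻¹ * x⁻¹ =
                  (p : G)⁻¹ * ((p : G) * x * (p : G)⁻¹ * x⁻¹)⁻¹ * (p : G)⁻¹⁻¹ := by group
              rw [Subgroup.coe_inv, e, inv_eq_of_mul_eq_one_right (hfsq hx')]
              exact hperm _ (hmem1.mp p.2).1.inv_left _ hx' }
        have hP2 : IsPGroup 2 P := by
          intro b
          have hb4 : ((b : ↥H1) : G) * b * (((b : ↥H1) : G) * b) ∈ R.Q := by
            have hbz := (hmem1.mp (b : ↥H1).2).1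
            have hb1 := (hmem1.mp (b : ↥H1).2).2
            refine R.self _ ((hbz.mul_left hbz).mul_left (hbz.mul_left hbz)) fun x hx => ?_
            refine mul_inv_eq_iff_eq_mul.mp ?_
            obtain ⟨u, hu, hbx⟩ : ∃ u ∈ four v1 v2, ((b : ↥H1) : G) * x * ((b : ↥H1) : G)⁻¹ = u * x :=
              ⟨_, b.2 x hx, by group⟩
            generalize hB : ((b : ↥H1) : G) = B at hbz hb1 hbx
            obtain ⟨u1, hu1def⟩ : ∃ u1, u1 = B * u * B⁻¹ * u := ⟨_, rfl⟩
            have hu1 : u1 ∈ four v1 v2 := hu1def ▸ hmul (hperm B hbz u hu) hu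
            have hu1c : Commute B u1 := by
              have hne2 : B * v2 * B⁻¹ ≠ v1 := fun e => h12 (by
                rw [show v2 = B⁻¹ * (B * v2 * B⁻¹) * B by group, e, mul_assoc, ← hb1.eq, inv_mul_cancel_left])
              have hB2 : B * v2 * B⁻¹ = v2 ∨ B * v2 * B⁻¹ = v1 * v2 :=
                ((hperm B hbz v2 (Or.inr (Or.inr (Or.inl rfl)))).resolve_left fun e =>
                  h2n (conj_eq_one_iff.mp e)).resolve_left hne2
              have hv : u1 = 1 ∨ u1 = v1 := by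
                rw [hu1def]
                rcases hu with rfl | rfl | rfl | rfl
                · left; group
                · left; rw [hb1.eq, mul_inv_cancel_right, h11]
                · rcases hB2 with e | e <;> rw [e]
                  · exact Or.inl h22
                  · exact Or.inr (by rw [mul_assoc, h22, mul_one])
                · rw [show B * (v1 * v2) * B⁻¹ = B * v1 * B⁻¹ * (B * v2 * B⁻¹) by group, hb1.eq, mul_inv_cancel_right]
                  rcases hB2 with e | e <;> rw [e]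
                  · exact Or.inl e5
                  · exact Or.inr (by rw [mul_assoc, e5, mul_one])
              rcases hv with e | e <;> rw [e]
              exacts [Commute.one_right B, hb1]
            have h2x : B * B * x * (B * B)⁻¹ = u1 * x := by
              calc B * B * x * (B * B)⁻¹ = B * (B * x * B⁻¹) * B⁻¹ := by group
                _ = B * (u * x) * B⁻¹ := by rw [hbx]
                _ = B * u * B⁻¹ * (B * x * B⁻¹) := by group
                _ = u1 * x := by rw [hbx, hu1def]; group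
            calc B * B * (B * B) * x * (B * B * (B * B))⁻¹ = B * B * (B * B * x * (B * B)⁻¹) * (B * B)⁻¹ := by group
              _ = B * B * u1 * (x * (B * B)⁻¹) := by rw [h2x]; group
              _ = u1 * (B * B * x * (B * B)⁻¹) := by rw [(hu1c.mul_left hu1c).eq]; group
              _ = x := by rw [h2x, ← mul_assoc, hfsq hu1, one_mul]
          obtain ⟨k, hk⟩ := (IsPGroup.of_card (n := 11) (by rw [R.card]; norm_num) : IsPGroup 2 R.Q) ⟨_, hb4⟩
          refine ⟨k + 2, Subtype.ext (Subtype.ext ?_)⟩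
          rw [pow_add, show (2 : ℕ) ^ 2 = 4 from rfl, mul_comm, pow_mul, Subgroup.coe_pow, Subgroup.coe_pow,
            Subgroup.coe_pow, Subgroup.coe_pow, Subgroup.coe_one, Subgroup.coe_one,
            show ((b : ↥H1) : G) ^ 4 = ((b : ↥H1) : G) * b * (((b : ↥H1) : G) * b) by
              rw [pow_succ, pow_succ, pow_succ, pow_one, mul_assoc (((b : ↥H1) : G) * b)]]
          exact congrArg Subtype.val hk
        haveI hPn : P.Normal := ⟨fun p hp e x hx => by
          show ((e * p * e⁻¹ : ↥H1) : G) * x * ((e * p * e⁻¹ : ↥H1) : G)⁻¹ * x⁻¹ ∈ four v1 v2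
          have hx' : (e : G)⁻¹ * x * e ∈ R.Q := by simpa using R.normal _ (hmem1.mp e.2).1.inv_left x hx
          have h5 := hperm _ (hmem1.mp e.2).1 _ (hp _ hx')
          rw [Subgroup.coe_mul, Subgroup.coe_mul, Subgroup.coe_inv]
          convert h5 using 1
          group⟩
        have hbot := two_power_Gam (hP2.map ψ0) (Subgroup.Normal.map hPn _ hsurj)
        have ha : a ∈ P := fun x hx => by
          have hcom := hc' (q ⟨x, hQ1 hx⟩) (hmemQb.mpr hx)
          have h4 : q (⟨x, hQ1 hx⟩ * a) = q (a * ⟨x, hQ1 hx⟩) := by rw [map_mul, map_mul]; exact hcom.symm.eq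
          have h5 : ((x * a : G))⁻¹ * (a * x) ∈ four v1 v2 := hqeq.mp h4
          have h6 := hperm _ ((R.cent x hx).mul_left (hmem1.mp a.2).1) _ h5
          rwa [show x * a * ((x * a : G)⁻¹ * (a * x)) * (x * (a : G))⁻¹ = (a : G) * x * (a : G)⁻¹ * x⁻¹ by group] at h6
        exact hmemQb.mpr (hψ0.mp (Subgroup.mem_bot.mp (hbot ▸ (⟨a, ha, rfl⟩ : ψ0 a ∈ P.map ψ0)))) }
  have hXQ : ∀ {a : ↥H1}, q a ∈ X.Q ↔ (a : G) ∈ R.Q := hmemQb
  -- the linear part fixes the element of order three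
  let T : Subgroup ↥H1 :=
    { carrier := {a | ∃ x ∈ R.Q, (a : G) * c * (a : G)⁻¹ = x * c}
      one_mem' := ⟨1, R.Q.one_mem, by simp⟩
      mul_mem' := by
        rintro a b ⟨x, hx, hxa⟩ ⟨y, hy, hyb⟩
        refine ⟨(a : G) * y * (a : G)⁻¹ * x, R.Q.mul_mem (R.normal _ (hmem1.mp a.2).1 y hy) hx, ?_⟩
        rw [Subgroup.coe_mul, show (a : G) * b * c * ((a : G) * b)⁻¹ = (a : G) * ((b : G) * c * (b : G)⁻¹) * (a : G)⁻¹
          by group, hyb, mul_assoc ((a : G) * y * (a : G)⁻¹), ← hxa]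
        group
      inv_mem' := by
        rintro a ⟨x, hx, hxa⟩
        refine ⟨(a : G)⁻¹ * x⁻¹ * a, by simpa using R.normal _ (hmem1.mp a.2).1.inv_left _ (R.Q.inv_mem hx), ?_⟩
        rw [Subgroup.coe_inv,
          show (a : G)⁻¹ * x⁻¹ * a * c = (a : G)⁻¹ * x⁻¹ * ((a : G) * c * (a : G)⁻¹) * a by group, hxa]
        group }
  have hT2 : ∀ a b : ↥H1, a * b * a⁻¹ * b⁻¹ ∈ T := by
    have hsign : ∀ a : ↥H1, a ∈ T ∨ ∃ x ∈ R.Q, (a : G) * c * (a : G)⁻¹ = x * c⁻¹ := fun a => by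
      obtain ⟨x, hx, e | e⟩ := hcase _ (hmem1.mp a.2).1
      exacts [Or.inl ⟨x, hx, e⟩, Or.inr ⟨x, hx, e⟩]
    have hinv : ∀ {a : ↥H1} {x}, x ∈ R.Q → (a : G) * c * (a : G)⁻¹ = x * c⁻¹ →
        ∀ {b : ↥H1} {y}, y ∈ R.Q → (b : G) * c * (b : G)⁻¹ = y * c⁻¹ → a * b ∈ T := by
      intro a x hx hxa b y hy hyb
      refine ⟨(a : G) * y * (a : G)⁻¹ * (c * x⁻¹ * c⁻¹),
        R.Q.mul_mem (R.normal _ (hmem1.mp a.2).1 y hy) (R.normal c hcz _ (R.Q.inv_mem hx)), ?_⟩
      rw [Subgroup.coe_mul, show (a : G) * b * c * ((a : G) * b)⁻¹ = (a : G) * ((b : G) * c * (b : G)⁻¹) * (a : G)⁻¹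
          by group, hyb, show c * x⁻¹ * c⁻¹ = c * (x * c⁻¹ * c)⁻¹ * c⁻¹ by group, ← hxa]
      group
    have hnT : ∀ a : ↥H1, ∀ t ∈ T, a * t * a⁻¹ ∈ T := by
      intro a t ht
      rcases hsign a with h | ⟨x, hx, e⟩
      · exact T.mul_mem (T.mul_mem h ht) (T.inv_mem h)
      · rcases hsign (t * a⁻¹) with h' | ⟨y, hy, e'⟩
        · exfalso
          have hai : a⁻¹ ∈ T := by rw [show a⁻¹ = t⁻¹ * (t * a⁻¹) by group]; exact T.mul_mem (T.inv_mem ht) h'
          have haT := T.inv_mem hai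
          rw [inv_inv] at haT
          obtain ⟨x', hx', e''⟩ := haT
          rw [e] at e''
          apply R.c_out
          rw [← hcdef]
          have h2 : c⁻¹ * c⁻¹ ∈ R.Q := by
            rw [show c⁻¹ * c⁻¹ = x⁻¹ * (x * c⁻¹) * c⁻¹ by group, e'', show x⁻¹ * (x' * c) * c⁻¹ = x⁻¹ * x' by group]
            exact R.Q.mul_mem (R.Q.inv_mem hx) hx'
          have hc' : c⁻¹ * c⁻¹ = c := by
            rw [← mul_inv_rev]
            exact inv_eq_of_mul_eq_one_right (by rw [hcdef]; exact R.c3)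
          rwa [hc'] at h2
        · rw [mul_assoc]; exact hinv hx e hy e'
    intro a b
    rcases hsign a with ha | ⟨x, hx, ea⟩
    · rw [show a * b * a⁻¹ * b⁻¹ = a * (b * a⁻¹ * b⁻¹) by group]
      exact T.mul_mem ha (hnT b _ (T.inv_mem ha))
    · rcases hsign b with hb | ⟨y, hy, eb⟩
      · exact T.mul_mem (hnT a b hb) (T.inv_mem hb)
      · have hab : a * b ∈ T := hinv hx ea hy eb
        have hba : b * a ∈ T := hinv hy eb hx ea
        rw [show a * b * a⁻¹ * b⁻¹ = a * b * (b * a)⁻¹ by group]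
        exact T.mul_mem hab (T.inv_mem hba)
  have hQT : ∀ {a : ↥H1}, (a : G) ∈ R.Q → a ∈ T := fun {a} ha =>
    ⟨(a : G) * (c * (a : G)⁻¹ * c⁻¹), R.Q.mul_mem ha (R.normal c hcz _ (R.Q.inv_mem ha)), by group⟩
  have hLT : ∀ {a : ↥H1}, ψ0 a ∈ ι.range → a ∈ T := by
    intro a ⟨g, hg⟩
    let Mg : Subgroup L :=
      { carrier := {g | ∀ b : ↥H1, ψ0 b = ι g → b ∈ T}
        one_mem' := fun b hb => hQT (hψ0.mp (by rw [hb, map_one]))
        mul_mem' := fun {g g'} hg hg' b hb => by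
          obtain ⟨b', hb'⟩ := hsurj (ι g')
          rw [show b = b * b'⁻¹ * b' by group]
          exact T.mul_mem (hg _ (by rw [map_mul, map_inv, hb, hb', map_mul, mul_inv_cancel_right])) (hg' _ hb')
        inv_mem' := fun {g} hg b hb => by
          rw [← inv_inv b]
          exact T.inv_mem (hg b⁻¹ (by rw [map_inv, hb, map_inv, inv_inv])) }
    suffices htop : Mg = ⊤ from (htop ▸ Subgroup.mem_top g : g ∈ Mg) a hg.symm
    rw [eq_top_iff, ← L_perfect, commutator_def, Subgroup.commutator_le]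
    intro g1 _ g2 _ b hb
    obtain ⟨b1, hb1⟩ := hsurj (ι g1)
    obtain ⟨b2, hb2⟩ := hsurj (ι g2)
    rw [show b = b1 * b2 * b1⁻¹ * b2⁻¹ * ((b1 * b2 * b1⁻¹ * b2⁻¹)⁻¹ * b) by group]
    refine T.mul_mem (hT2 b1 b2) (hQT (hψ0.mp ?_))
    rw [map_mul, map_inv, map_mul, map_mul, map_mul, map_inv, map_inv, hb1, hb2, hb, commutatorElement_def,
      map_mul, map_mul, map_mul, map_inv, map_inv, inv_mul_cancel]
  -- no split case
  have hnB : ¬ X.R.CaseB := by
    intro hB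
    obtain ⟨rp, hrp⟩ : ∃ rp : X.Sp → ↥H1, ∀ v, (rp v : G) ∈ R.Q ∧ X.vec (q (rp v)) = v := by
      refine ⟨fun v => (QuotientGroup.mk'_surjective N (X.rep v)).choose, fun v => ?_⟩
      have he : q (QuotientGroup.mk'_surjective N (X.rep v)).choose = X.rep v :=
        (QuotientGroup.mk'_surjective N (X.rep v)).choose_spec
      exact ⟨hmemQb.mp (he.symm ▸ X.rep_mem v), by rw [he]; exact X.vec_rep v⟩
    let cq : ∀ {x : G}, x ∈ R.Q → ↥H1 := fun {x} hx => ⟨c * x * c⁻¹, hQ1 (R.normal c hcz x hx)⟩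
    have hwell : ∀ {a b : ↥H1} (ha : (a : G) ∈ R.Q) (hb : (b : G) ∈ R.Q), X.vec (q a) = X.vec (q b) →
        X.vec (q (cq ha)) = X.vec (q (cq hb)) := by
      intro a b ha hb e
      have hca : q (cq ha) ∈ X.Q := hXQ.mpr (R.normal c hcz _ ha)
      have hcb : q (cq hb) ∈ X.Q := hXQ.mpr (R.normal c hcz _ hb)
      refine (X.vec_iff hca hcb).mpr ?_
      rcases (X.vec_iff (hXQ.mpr ha) (hXQ.mpr hb)).mp e with h' | h'
      · left
        refine hqeq.mpr ?_
        show (c * (b : G) * c⁻¹)⁻¹ * (c * (a : G) * c⁻¹) ∈ four v1 v2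
        rw [show (c * (b : G) * c⁻¹)⁻¹ * (c * (a : G) * c⁻¹) = c * ((b : G)⁻¹ * a) * c⁻¹ by group]
        exact hcu (hqeq.mp h')
      · right
        rw [hzb, ← map_mul] at h' ⊢
        refine hqeq.mpr ?_
        show (c * (b : G) * c⁻¹)⁻¹ * (((cq ha) * zH : ↥H1) : G) ∈ four v1 v2
        rw [Subgroup.coe_mul, hzH]
        show (c * (b : G) * c⁻¹)⁻¹ * (c * (a : G) * c⁻¹ * z) ∈ four v1 v2
        have h'' := hcu (hqeq.mp h')
        rw [Subgroup.coe_mul, hzH] at h''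
        rw [show (c * (b : G) * c⁻¹)⁻¹ * (c * (a : G) * c⁻¹ * z) = c * ((b : G)⁻¹ * a) * (c⁻¹ * z) by group,
          hcz.inv_left.eq]
        convert h'' using 1
        group
    let δ : X.Sp →+ X.Sp :=
      { toFun := fun v => X.vec (q (cq (hrp v).1))
        map_zero' := by
          refine (hwell (hrp 0).1 (b := 1) R.Q.one_mem (by rw [(hrp 0).2, map_one]; exact X.vec_one.symm)).trans ?_
          rw [show cq (x := ((1 : ↥H1) : G)) R.Q.one_mem = 1 from Subtype.ext (by simp [cq]), map_one]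
          exact X.vec_one
        map_add' := fun u v => by
          have hp : ((rp u * rp v : ↥H1) : G) ∈ R.Q := R.Q.mul_mem (hrp u).1 (hrp v).1
          refine (hwell (hrp (u + v)).1 hp (by
            rw [(hrp (u + v)).2, map_mul, X.vec_mul (hXQ.mpr (hrp u).1) (hXQ.mpr (hrp v).1), (hrp u).2,
              (hrp v).2])).trans ?_
          have hu' : q (cq (hrp u).1) ∈ X.Q := hXQ.mpr (R.normal c hcz _ (hrp u).1)
          have hv' : q (cq (hrp v).1) ∈ X.Q := hXQ.mpr (R.normal c hcz _ (hrp v).1)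
          rw [← X.vec_mul hu' hv', ← map_mul]
          refine congrArg (fun a => X.vec (q a)) (Subtype.ext ?_)
          show c * ((rp u : G) * rp v) * c⁻¹ = c * rp u * c⁻¹ * (c * rp v * c⁻¹)
          group }
    have hδ : ∀ {a : ↥H1} (ha : (a : G) ∈ R.Q), δ (X.vec (q a)) = X.vec (q (cq ha)) := fun {a} ha =>
      hwell (hrp _).1 ha (hrp _).2
    refine caseB_no_free X.R hB δ (fun g v => ?_) (fun v hv => ?_) ?_
    · obtain ⟨d, hd⟩ := hsurj (ι g)
      have himg : X.img (q d) = ι g := by rw [X.img_eq (hallc _)]; exact hd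
      obtain ⟨x, hx, hdx⟩ := hLT ⟨g, hd.symm⟩
      obtain ⟨a, ha, rfl⟩ : ∃ a : ↥H1, (a : G) ∈ R.Q ∧ X.vec (q a) = v := ⟨rp v, hrp v⟩
      rw [← X.act_lin (hallc _) himg, X.act_vec (hallc _) (hXQ.mpr ha), ← X.act_lin (hallc _) himg, hδ ha]
      have hca : q (cq ha) ∈ X.Q := hXQ.mpr (R.normal c hcz _ ha)
      rw [X.act_vec (hallc _) hca]
      have hda : ((d * a * d⁻¹ : ↥H1) : G) ∈ R.Q := R.normal _ (hmem1.mp d.2).1 _ ha
      rw [show q d * q a * (q d)⁻¹ = q (d * a * d⁻¹) by rw [map_mul, map_mul, map_inv], hδ hda]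
      refine (X.vec_iff (hXQ.mpr (R.normal c hcz _ hda)) (X.normal _ (hallc _) _ hca)).mpr ?_
      have key : ((d * cq ha * d⁻¹ : ↥H1) : G) = x * (c * ((d * a * d⁻¹ : ↥H1) : G) * c⁻¹) * x⁻¹ := by
        show (d : G) * (c * (a : G) * c⁻¹) * (d : G)⁻¹ = _
        rw [show (d : G) * (c * (a : G) * c⁻¹) * (d : G)⁻¹ = (d : G) * c * (d : G)⁻¹ *
          ((d : G) * a * (d : G)⁻¹) * ((d : G) * c * (d : G)⁻¹)⁻¹ by group, hdx]
        show _ = x * (c * ((d : G) * a * (d : G)⁻¹) * c⁻¹) * x⁻¹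
        group
      have hk : c * ((d * a * d⁻¹ : ↥H1) : G) * c⁻¹ ∈ R.Q := R.normal c hcz _ hda
      rcases R.comm x hx _ hk with e | e
      · left
        rw [← map_inv, ← map_mul, ← map_mul]
        refine congrArg q (Subtype.ext ?_)
        rw [key, mul_inv_eq_one.mp e]
      · right
        rw [hzb, ← map_inv, ← map_mul, ← map_mul, ← map_mul]
        refine congrArg q (Subtype.ext ?_)
        rw [key, mul_inv_eq_iff_eq_mul.mp e, (R.cent _ hk).symm.eq]
        show _ = ((cq hda : ↥H1) : G) * (zH : G)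
        rw [hzH]
    · obtain ⟨a, ha, rfl⟩ : ∃ a : ↥H1, (a : G) ∈ R.Q ∧ X.vec (q a) = v := ⟨rp v, hrp v⟩
      rw [hδ ha] at hv
      obtain ⟨y, hy⟩ : ∃ y, y = (a : G) := ⟨_, rfl⟩
      have hyQ : y ∈ R.Q := hy ▸ ha
      obtain ⟨w, hw, hwy⟩ : ∃ w, InW z (four v1 v2) w ∧ c * y * c⁻¹ = y * w := by
        refine ⟨y⁻¹ * (c * y * c⁻¹), ?_, by group⟩
        rcases (X.vec_iff (hXQ.mpr (R.normal c hcz _ ha)) (hXQ.mpr ha)).mp hv with h' | h'
        · refine ⟨_, hqeq.mp h', Or.inl ?_⟩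
          rw [hy]
        · rw [hzb, ← map_mul] at h'
          have h'' := hqeq.mp h'
          rw [Subgroup.coe_mul, hzH] at h''
          refine ⟨_, h'', Or.inr ?_⟩
          rw [hy]
          show (a : G)⁻¹ * (c * (a : G) * c⁻¹) = z * ((a : G)⁻¹ * (c * (a : G) * c⁻¹ * z))
          have hzk : Commute (c * (a : G) * c⁻¹) z := R.cent _ (R.normal c hcz _ ha)
          have h3 : Commute ((a : G)⁻¹ * (c * (a : G) * c⁻¹)) z := (R.cent _ ha).inv_left.mul_left hzk
          rw [show z * ((a : G)⁻¹ * (c * (a : G) * c⁻¹ * z)) = z * ((a : G)⁻¹ * (c * (a : G) * c⁻¹) * z) by group,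
            h3.eq, ← mul_assoc z z, R.z2, one_mul]
      have hwQ : ∀ y' ∈ R.Q, Commute w y' := fun y' hy' => by
        obtain ⟨u, hu, rfl | rfl⟩ := hw
        exacts [hfc hu y' hy', (R.cent y' hy').symm.mul_left (hfc hu y' hy')]
      have hwQ' : w ∈ R.Q := by
        obtain ⟨u, hu, rfl | rfl⟩ := hw
        exacts [hfQ hu, R.Q.mul_mem R.zQ (hfQ hu)]
      obtain ⟨w', hw'⟩ : ∃ w', w' = c * w * c⁻¹ := ⟨_, rfl⟩
      have hw'c : ∀ y' ∈ R.Q, Commute w' y' := fun y' hy' => by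
        have := comm_conj c (hwQ (c⁻¹ * y' * c) (by simpa using R.normal c⁻¹ hcz.inv_left y' hy'))
        rwa [show c * (c⁻¹ * y' * c) * c⁻¹ = y' by group, ← hw'] at this
      have e2 : c * (c * y * c⁻¹) * c⁻¹ = y * w * w' := by
        rw [hwy, show c * (y * w) * c⁻¹ = c * y * c⁻¹ * (c * w * c⁻¹) by group, hwy, ← hw']
      obtain ⟨s, hs⟩ : ∃ s, s = y * (y * w) * (y * w * w') := ⟨_, rfl⟩
      have e3 : c * (y * w * w') * c⁻¹ = y := by
        rw [← e2, show c * (c * (c * y * c⁻¹) * c⁻¹) * c⁻¹ = c * c * c * y * (c * c * c)⁻¹ by group, hcdef, R.c3]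
        group
      have hfixs : Commute c s := by
        refine mul_inv_eq_iff_eq_mul.mp ?_
        rw [hs, show c * (y * (y * w) * (y * w * w')) * c⁻¹ = (c * y * c⁻¹) * (c * (y * w) * c⁻¹) *
          (c * (y * w * w') * c⁻¹) by group, e3, ← hwy, e2, hwy]
        have k1 : Commute w y := hwQ y hyQ
        have k2 : Commute w' y := hw'c y hyQ
        have k3 : Commute y (y * w) := (Commute.refl y).mul_right k1.symm
        have k4 : Commute y (y * w * w') := k3.mul_right k2.symm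
        rw [mul_assoc y (y * w), (k3.mul_right k4).eq]
      have hsQ : s ∈ R.Q := hs ▸ R.Q.mul_mem (R.Q.mul_mem hyQ (R.Q.mul_mem hyQ hwQ'))
        (R.Q.mul_mem (R.Q.mul_mem hyQ hwQ') (hw' ▸ R.normal c hcz _ hwQ'))
      have hs' : s = (y * y) * y * (w * w * w') := by
        rw [hs]
        calc y * (y * w) * (y * w * w') = y * y * (w * y) * (w * w') := by group
          _ = _ := by rw [(hwQ y hyQ).eq]; group
      have hsc : ∀ y' ∈ R.Q, Commute s y' := fun y' hy' => by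
        rcases R.fix s hsQ (hcdef ▸ hfixs) with e | e <;> rw [e]
        exacts [Commute.one_left _, (R.cent y' hy').symm]
      have hyc : ∀ y' ∈ R.Q, Commute y y' := fun y' hy' => by
        have h1' : Commute (y * y) y' := by
          rcases R.sq y hyQ with e | e <;> rw [e]
          exacts [Commute.one_left _, (R.cent y' hy').symm]
        have h2' : Commute (w * w * w') y' := ((hwQ y' hy').mul_left (hwQ y' hy')).mul_left (hw'c y' hy')
        have h3' := (h1'.inv_left.mul_left (hsc y' hy')).mul_left h2'.inv_left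
        rwa [show (y * y)⁻¹ * s * (w * w * w')⁻¹ = y by rw [hs']; group] at h3'
      refine (X.vec_eq_zero (hXQ.mpr ha)).mpr ?_
      exact hWdec ha fun y' hy' => hy ▸ hyc y' hy'
    · refine Finite.injective_iff_surjective.mpr fun v => ?_
      obtain ⟨a, ha, rfl⟩ : ∃ a : ↥H1, (a : G) ∈ R.Q ∧ X.vec (q a) = v := ⟨rp v, hrp v⟩
      have hc' : c⁻¹ * (a : G) * c⁻¹⁻¹ ∈ R.Q := R.normal _ hcz.inv_left _ ha
      refine ⟨X.vec (q ⟨_, hQ1 hc'⟩), (hδ (a := ⟨_, hQ1 hc'⟩) hc').trans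
        (congrArg (fun b => X.vec (q b)) (Subtype.ext ?_))⟩
      show c * (c⁻¹ * (a : G) * c⁻¹⁻¹) * c⁻¹ = (a : G)
      group
  obtain ⟨φ, hlin, hq⟩ := X.R.model (X.R.cases.resolve_right hnB)
  obtain ⟨S, ⟨e0, -, he0l⟩, hdet⟩ := X.exists_setup φ hlin hq
  have hSQ : S.Q = X.Q := by
    have h2 : IsPGroup 2 S.Q := IsPGroup.of_card (n := 9) (by rw [S.card_Q]; norm_num)
    have hle : S.Q ≤ X.Q := fun y hy => by
      obtain ⟨a, rfl⟩ := QuotientGroup.mk'_surjective N y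
      have hbot := two_power_Gam (h2.map ψb) (Subgroup.Normal.map
        ⟨fun n hn g => S.normal g (hallc g) n hn⟩ _ (fun g => by
          obtain ⟨a, ha⟩ := hsurj g; exact ⟨q a, ha⟩))
      exact hXQ.mpr (hψ0.mp (Subgroup.mem_bot.mp (hbot ▸ (⟨q a, hy, rfl⟩ : ψb (q a) ∈ S.Q.map ψb))))
    exact Subgroup.eq_of_le_of_card_ge hle (by rw [X.card, S.card_Q])
  let νG : G → V := fun x => if hx : x ∈ H1 then S.ν (q ⟨x, hx⟩) else 0
  let πG : G → Equiv.Perm V := fun x => if hx : x ∈ H1 then S.π (q ⟨x, hx⟩) else 1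
  have hν : ∀ {x} (hx : x ∈ H1), νG x = S.ν (q ⟨x, hx⟩) := fun hx => dif_pos hx
  have hπ : ∀ {x} (hx : x ∈ H1), πG x = S.π (q ⟨x, hx⟩) := fun hx => dif_pos hx
  have hin : ∀ {d}, Commute d z → Commute d v1 → d ∈ H1 := fun hd hd1 => hmem1.mpr ⟨hd, hd1⟩
  have hSQm : ∀ {x} (hx : x ∈ R.Q), q ⟨x, hQ1 hx⟩ ∈ S.Q := fun hx => hSQ ▸ hXQ.mpr hx
  -- linear elements centralise the centre
  have hlin2 : ∀ {d} (hd : d ∈ H1), Lin (S.π (q ⟨d, hd⟩)) → Commute d v2 := by
    intro d hd hl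
    obtain ⟨g, hg⟩ := hdet _ (hallc _) hl
    let Mg : Subgroup L :=
      { carrier := {g | ∀ b : ↥H1, S.π (q b) = sp g → Commute (b : G) v2}
        one_mem' := fun b hb => by
          have hb' : q b ∈ S.Q := (S.π_iff _ (hallc _)).mp (by rw [hb, map_one])
          exact (h2c _ (hXQ.mp (hSQ ▸ hb'))).symm
        mul_mem' := fun {g g'} hg hg' b hb => by
          obtain ⟨y, -, hy⟩ := S.π_surj g'
          obtain ⟨b', rfl⟩ := QuotientGroup.mk'_surjective N y
          have h1' := hg (b * b'⁻¹) (by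
            rw [map_mul, map_inv, S.π_mul _ _ (hallc _) (hallc _), S.π_inv (hallc _), hb, hy, map_mul,
              mul_inv_cancel_right])
          have h2' := h1'.mul_left (hg' b' hy)
          rwa [Subgroup.coe_mul, Subgroup.coe_inv, inv_mul_cancel_right] at h2'
        inv_mem' := fun {g} hg b hb => by
          have h1' := hg b⁻¹ (by rw [map_inv, S.π_inv (hallc _), hb, map_inv, inv_inv])
          rw [Subgroup.coe_inv] at h1'
          exact Commute.inv_left_iff.mp h1' }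
    suffices htop : Mg = ⊤ from (htop ▸ Subgroup.mem_top g : g ∈ Mg) ⟨d, hd⟩ hg
    rw [eq_top_iff, ← L_perfect, commutator_def, Subgroup.commutator_le]
    intro g1 _ g2 _ b hb
    obtain ⟨y1, -, hy1⟩ := S.π_surj g1
    obtain ⟨b1, rfl⟩ := QuotientGroup.mk'_surjective N y1
    obtain ⟨y2, -, hy2⟩ := S.π_surj g2
    obtain ⟨b2, rfl⟩ := QuotientGroup.mk'_surjective N y2
    obtain ⟨k, hk⟩ : ∃ k, k = b1 * b2 * b1⁻¹ * b2⁻¹ := ⟨_, rfl⟩
    have hkπ : S.π (q k) = sp ⁅g1, g2⁆ := by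
      rw [hk, map_mul, map_mul, map_mul, map_inv, map_inv, S.π_mul _ _ (hallc _) (hallc _),
        S.π_mul _ _ (hallc _) (hallc _), S.π_mul _ _ (hallc _) (hallc _), S.π_inv (hallc _), S.π_inv (hallc _), hy1,
        hy2, commutatorElement_def, map_mul, map_mul, map_mul, map_inv, map_inv]
    have hkb : Commute ((k⁻¹ * b : ↥H1) : G) v2 := by
      have hb' : q (k⁻¹ * b) ∈ S.Q := (S.π_iff _ (hallc _)).mp (by
        rw [map_mul, map_inv, S.π_mul _ _ (hallc _) (hallc _), S.π_inv (hallc _), hkπ, hb, inv_mul_cancel])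
      exact (h2c _ (hXQ.mp (hSQ ▸ hb'))).symm
    have hswap : ∀ b : ↥H1, (b : G) * v2 * (b : G)⁻¹ = v2 ∨ (b : G) * v2 * (b : G)⁻¹ = v1 * v2 := fun b =>
      ((hperm _ (hmem1.mp b.2).1 v2 (Or.inr (Or.inr (Or.inl rfl)))).resolve_left fun e =>
        h2n (conj_eq_one_iff.mp e)).resolve_left fun e => h12 (by
          rw [show v2 = (b : G)⁻¹ * ((b : G) * v2 * (b : G)⁻¹) * b by group, e, mul_assoc, ← (hmem1.mp b.2).2.eq,
            inv_mul_cancel_left])
    have hkc : Commute (k : G) v2 := by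
      rw [hk, Subgroup.coe_mul, Subgroup.coe_mul, Subgroup.coe_mul, Subgroup.coe_inv, Subgroup.coe_inv]
      refine four_move_simple h11 (hmem1.mp b1.2).2 (hmem1.mp b2.2).2 (hswap b1) (hswap b2)
    have := hkc.mul_left hkb
    rwa [Subgroup.coe_mul, Subgroup.coe_inv, mul_inv_cancel_left] at this
  have hh : h ∈ H1 := hin hhz hh1
  have hhnl : ¬ Lin (S.π (q ⟨h, hh⟩)) := fun hl => by
    have hc' := hlin2 hh hl
    rw [hc'.eq, mul_inv_cancel_right] at hh2
    exact h1n (right_eq_mul.mp hh2)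
  refine ⟨v1, v2,
    { Q := R.Q
      ν := νG
      π := πG
      z_ne := R.z_ne
      z2 := R.z2
      v1_ne := h1n
      v2_ne := h2n
      v12 := h12
      v1_sq := h11
      v2_sq := h22
      v_comm := hcomm12
      z_out := ⟨hz1, hz2, hz3⟩
      zQ := R.zQ
      v1Q := h1Q
      v2Q := h2Q
      cent := R.cent
      cent1 := fun x hx => (h1c x hx).symm
      cent2 := fun x hx => (h2c x hx).symm
      normal := R.normal
      perm := hperm
      cyc := ⟨c, hcz, hc1, hc2⟩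
      swap := ⟨h, hhz, hh1, hh2⟩
      π_mul := fun d e hd hd1 he he1 => by
        rw [hπ (hin hd hd1), hπ (hin he he1), hπ (H1.mul_mem (hin hd hd1) (hin he he1)),
          ← S.π_mul _ _ (hallc _) (hallc _), ← map_mul]
        rfl
      π_semi := fun d hd hd1 => by rw [hπ (hin hd hd1)]; exact S.π_semi _ (hallc _)
      π_iff := fun d hd hd1 => by
        rw [hπ (hin hd hd1), S.π_iff _ (hallc _), hSQ]
        exact hXQ
      π_lin := fun d hd hd1 => by
        rw [hπ (hin hd hd1)]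
        refine ⟨hlin2 _, fun hd2 => ?_⟩
        by_contra hnl
        have hanti : Anti (S.π (q ⟨d, hin hd hd1⟩)) := (S.π_semi _ (hallc _)).resolve_left hnl
        have hanti' : Anti (S.π (q ⟨h, hh⟩)) := (S.π_semi _ (hallc _)).resolve_left hhnl
        have hl := hanti.mul hanti'
        rw [← S.π_mul _ _ (hallc _) (hallc _), ← map_mul] at hl
        have h3 := hlin2 (H1.mul_mem (hin hd hd1) hh) hl
        have h4 := hd2.inv_left.mul_left h3
        rw [inv_mul_cancel_left] at h4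
        rw [h4.eq, mul_inv_cancel_right] at hh2
        exact h1n (right_eq_mul.mp hh2)
      π_surj := fun g => by
        obtain ⟨y, -, hy⟩ := S.π_surj g
        obtain ⟨⟨d, hd⟩, rfl⟩ := QuotientGroup.mk'_surjective N y
        exact ⟨d, (hmem1.mp hd).1, (hmem1.mp hd).2, hlin2 hd (by rw [hy]; exact sp_lin g), (hπ hd).trans hy⟩
      comm := R.comm
      ν_mul := fun x hx y hy => by
        rw [hν (hQ1 hx), hν (hQ1 hy), hν (hQ1 (R.Q.mul_mem hx hy)), ← S.ν_mul _ (hSQm hx) _ (hSQm hy), ← map_mul]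
        rfl
      ν_zero := fun x hx => by
        rw [hν (hQ1 hx), S.ν_zero _ (hSQm hx)]
        constructor
        · rintro (e | e)
          · exact ⟨x, hq1.mp e, Or.inl rfl⟩
          · rw [hzb] at e
            have h' := hqeq.mp e
            rw [hzH] at h'
            refine ⟨_, h', Or.inr ?_⟩
            show x = z * (x⁻¹ * z)
            rw [(R.cent x hx).inv_left.eq, ← mul_assoc, R.z2, one_mul]
            exact (inv_inv x).symm.trans (by
              have hu := hfsq h'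
              rw [(R.cent x hx).inv_left.eq, show z * x⁻¹ * (z * x⁻¹) = z * (x⁻¹ * z) * x⁻¹ by group,
                (R.cent x hx).inv_left.eq, ← mul_assoc, R.z2, one_mul] at hu
              exact (inv_eq_of_mul_eq_one_right hu))
        · rintro ⟨u, hu, e | e⟩
          · exact Or.inl (hq1.mpr (show x ∈ four v1 v2 from e ▸ hu))
          · refine Or.inr (hzb ▸ hqeq.mpr ?_)
            show x⁻¹ * (zH : G) ∈ four v1 v2
            rw [hzH, e, mul_inv_rev, mul_assoc, inv_mul_cancel, mul_one, inv_eq_of_mul_eq_one_right (hfsq hu)]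
            exact hu
      ν_surj := fun v => by
        obtain ⟨y, hy, hyv⟩ := S.ν_surj v
        obtain ⟨⟨d, hd⟩, rfl⟩ := QuotientGroup.mk'_surjective N y
        exact ⟨d, hXQ.mp (hSQ ▸ hy), (hν hd).trans hyv⟩
      ν_sq := fun x hx => by
        rw [hν (hQ1 hx), ← S.ν_sq _ (hSQm hx), ← map_mul, hq1]
        refine ⟨fun e => Or.inl e, fun h' => ?_⟩
        rcases R.sq x hx with e | e
        · exact e
        · exact absurd (e ▸ (h' : x * x ∈ four v1 v2)) hzf
      ν_comm := fun x hx y hy => by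
        rw [hν (hQ1 hx), hν (hQ1 hy), ← S.ν_comm _ (hSQm hx) _ (hSQm hy)]
        refine ⟨fun e => (show Commute (⟨x, hQ1 hx⟩ : ↥H1) ⟨y, hQ1 hy⟩ from Subtype.ext e.eq).map q, fun e => ?_⟩
        have h' := hqeq.mp (show q (⟨y, hQ1 hy⟩ * ⟨x, hQ1 hx⟩) = q (⟨x, hQ1 hx⟩ * ⟨y, hQ1 hy⟩) by
          rw [map_mul, map_mul]; exact e.symm.eq)
        change (y * x)⁻¹ * (x * y) ∈ four v1 v2 at h'
        rcases R.comm x hx y hy with e' | e'
        · exact mul_inv_eq_iff_eq_mul.mp (mul_inv_eq_one.mp e')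
        · refine absurd ?_ hzf
          rw [show z = (y * x) * ((y * x)⁻¹ * (x * y)) * (y * x)⁻¹ by rw [← e']; group,
            ((hfc h' _ (R.Q.mul_mem hy hx)).symm).eq, mul_inv_cancel_right]
          exact h'
      ν_act := fun d hd hd1 x hx => by
        rw [hν (hQ1 (R.normal d hd x hx)), hν (hQ1 hx), hπ (hin hd hd1), ← S.ν_act _ (hallc _) _ (hSQm hx),
          ← map_inv, ← map_mul, ← map_mul]
        rfl }, rfl, hcdef ▸ hc1, hcdef ▸ hc2, hcen⟩

end Cfsg.Agent.Spor.CHZ.FThree
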