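import Cfsg.Agent.Lib.Spor.CHZ.FThreeShape
import Mathlib.GroupTheory.PGroup

/-!
A conjugate of the involution commuting with it has the same four-group.
-/

set_option autoImplicit false
set_option maxHeartbeats 800000
set_option linter.unusedSectionVars false

namespace Cfsg.Agent.Spor.CHZ.FThree

open Cfsg.Agent.Spor.SpFour Cfsg.Agent.Small.Unitary

universe w

variable {G : Type w} [Group G]

/-- vectors with the same orthogonal over two elements -/
theorem perp_same {a b : V} (ha : a ≠ 0) (hb : b ≠ 0) (h : ∀ x, B x a = 0 → B x b = 0) : a = b := by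
  by_contra hne
  have hd : a + b ≠ 0 := fun e => hne (add_cancel' e)
  obtain ⟨p, hp⟩ := exists_B_ne hb
  have hpa : B p a = 1 := (real_B p a).resolve_left fun e => hp (by rw [B_comm]; exact h p e)
  have hpb : B p b = 1 := (real_B p b).resolve_left fun e => hp (by rw [B_comm]; exact e)
  obtain ⟨y, hy⟩ := exists_B_ne hd
  apply hy
  rw [B_comm, B_add_right]
  rcases real_B y a with e | e
  · rw [e, h y e, add_zero]
  · have h' := h (y + p) (by rw [B_add_left, e, hpa, CharTwo.add_self_eq_zero])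
    rw [B_add_left, hpb, CharTwo.add_eq_zero] at h'
    rw [e, h', CharTwo.add_self_eq_zero]

theorem Lin_of_not_anti {f : Equiv.Perm V} (hf : Semi f) (h : ¬ Lin f) : Anti f := hf.resolve_left h

/-- two commuting sets of moves of a four-group fixing one element -/
theorem four_move {P : Set G} {a x y : G} (hP : ∀ p ∈ P, p = 1 ∨ p = a ∨ p * a ∈ P)
    (hx : ∀ p ∈ P, x * p * x⁻¹ = p ∨ x * p * x⁻¹ = a * p) (hy : ∀ p ∈ P, y * p * y⁻¹ = p ∨ y * p * y⁻¹ = a * p)
    (hxa : Commute x a) (hya : Commute y a) {p : G} (hp : p ∈ P) :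
    Commute (x * y * x⁻¹ * y⁻¹) p := by
  have hx' : x⁻¹ * p * x⁻¹⁻¹ = p ∨ x⁻¹ * p * x⁻¹⁻¹ = a⁻¹ * p := by
    rcases hx p hp with e | e
    · left; conv_lhs => rw [← e]
      group
    · right; conv_lhs => rw [show p = a⁻¹ * (a * p) by group, ← e]
      rw [show x⁻¹ * (a⁻¹ * (x * p * x⁻¹)) * x⁻¹⁻¹ = x⁻¹ * a⁻¹ * (x * p) by group, hxa.inv_inv.eq]
      group
  have hy' : y⁻¹ * p * y⁻¹⁻¹ = p ∨ y⁻¹ * p * y⁻¹⁻¹ = a⁻¹ * p := by
    rcases hy p hp with e | e
    · left; conv_lhs => rw [← e]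
      group
    · right; conv_lhs => rw [show p = a⁻¹ * (a * p) by group, ← e]
      rw [show y⁻¹ * (a⁻¹ * (y * p * y⁻¹)) * y⁻¹⁻¹ = y⁻¹ * a⁻¹ * (y * p) by group, hya.inv_inv.eq]
      group
  obtain ⟨e1, he1, hxp⟩ : ∃ e, Commute a e ∧ x * p * x⁻¹ = e * p ∧ Commute x e ∧ Commute y e := by
    rcases hx p hp with e | e
    · exact ⟨1, Commute.one_right a, by rw [one_mul]; exact e, Commute.one_right x, Commute.one_right y⟩
    · exact ⟨a, Commute.refl a, e, hxa, hya⟩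
  obtain ⟨e2, he2, hyp⟩ : ∃ e, Commute a e ∧ y * p * y⁻¹ = e * p ∧ Commute x e ∧ Commute y e ∧ Commute e1 e := by
    rcases hy p hp with e | e
    · exact ⟨1, Commute.one_right a, by rw [one_mul]; exact e, Commute.one_right x, Commute.one_right y,
        Commute.one_right e1⟩
    · exact ⟨a, Commute.refl a, e, hxa, hya, he1.symm⟩
  obtain ⟨hxp, hxe1, hye1⟩ := hxp
  obtain ⟨hyp, hxe2, hye2, h12⟩ := hyp
  have hxy : x * y * p * (x * y)⁻¹ = y * x * p * (y * x)⁻¹ := by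
    calc x * y * p * (x * y)⁻¹ = x * (y * p * y⁻¹) * x⁻¹ := by group
      _ = x * e2 * (x⁻¹ * (x * p * x⁻¹)) := by rw [hyp]; group
      _ = e2 * (e1 * p) := by rw [hxp, hxe2.eq]; group
      _ = e1 * (e2 * p) := by rw [← mul_assoc, ← mul_assoc, h12.eq]
      _ = y * e1 * (y⁻¹ * (y * p * y⁻¹)) := by rw [hye1.eq, hyp]; group
      _ = y * (x * p * x⁻¹) * y⁻¹ := by rw [hxp]; group
      _ = y * x * p * (y * x)⁻¹ := by group
  refine mul_inv_eq_iff_eq_mul.mp ?_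
  calc x * y * x⁻¹ * y⁻¹ * p * (x * y * x⁻¹ * y⁻¹)⁻¹
      = x * y * ((y * x)⁻¹ * p * (y * x)) * (x * y)⁻¹ := by group
    _ = x * y * ((y * x)⁻¹ * p * (y * x)) * (x * y)⁻¹ := rfl
    _ = y * x * ((y * x)⁻¹ * p * (y * x)) * (y * x)⁻¹ := by
        have hq : (y * x)⁻¹ * p * (y * x) = p ∨ (y * x)⁻¹ * p * (y * x) = a⁻¹ * p ∨
            (y * x)⁻¹ * p * (y * x) = a⁻¹ * (a⁻¹ * p) := by
          rw [show (y * x)⁻¹ * p * (y * x) = x⁻¹ * (y⁻¹ * p * y⁻¹⁻¹) * x⁻¹⁻¹ by group]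
          rcases hy' with e | e <;> rw [e]
          · rcases hx' with e' | e'
            · exact Or.inl e'
            · exact Or.inr (Or.inl e')
          · rw [show x⁻¹ * (a⁻¹ * p) * x⁻¹⁻¹ = x⁻¹ * a⁻¹ * x * (x⁻¹ * p * x⁻¹⁻¹) by group, hxa.inv_inv.eq,
              mul_assoc a⁻¹ x⁻¹ x, inv_mul_cancel, mul_one]
            rcases hx' with e' | e' <;> rw [e']
            · exact Or.inr (Or.inl rfl)
            · exact Or.inr (Or.inr rfl)
        have hca : ∀ w, Commute w a⁻¹ → x * y * (a⁻¹ * p) * (x * y)⁻¹ = a⁻¹ * (x * y * p * (x * y)⁻¹) := fun _ _ => by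
          rw [show x * y * (a⁻¹ * p) * (x * y)⁻¹ = x * y * a⁻¹ * (p * (x * y)⁻¹) by group,
            (hxa.inv_right.mul_left hya.inv_right).eq]
          group
        have hcb : y * x * (a⁻¹ * p) * (y * x)⁻¹ = a⁻¹ * (y * x * p * (y * x)⁻¹) := by
          rw [show y * x * (a⁻¹ * p) * (y * x)⁻¹ = y * x * a⁻¹ * (p * (y * x)⁻¹) by group,
            (hya.inv_right.mul_left hxa.inv_right).eq]
          group
        rcases hq with e | e | e <;> rw [e]
        · exact hxy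
        · rw [hca 1 (Commute.one_left _), hcb, hxy]
        · rw [show x * y * (a⁻¹ * (a⁻¹ * p)) * (x * y)⁻¹ = x * y * a⁻¹ * (x * y)⁻¹ * (x * y * (a⁻¹ * p) * (x * y)⁻¹)
              by group, hca 1 (Commute.one_left _), hxy,
            show y * x * (a⁻¹ * (a⁻¹ * p)) * (y * x)⁻¹ = y * x * a⁻¹ * (y * x)⁻¹ * (y * x * (a⁻¹ * p) * (y * x)⁻¹)
              by group, hcb, (hxa.inv_right.mul_left hya.inv_right).eq, (hya.inv_right.mul_left hxa.inv_right).eq]
          group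
    _ = p := by group

namespace FCore

variable {z v1 v2 : G} [Finite G] (D : FCore z v1 v2)
include D

/-- only the identity fixes the vectors of the elements commuting with a fixed element of the two-core -/
theorem π_one_of_perp {x : G} (hz : Commute x z) (h1 : Commute x v1) {e : V}
    (h : ∀ j ∈ D.Q, B (D.ν j) e = 0 → Commute j x) : D.π x = 1 := by
  refine fix_perpB (D.π_semi x hz h1) (e := e) fun v hv => ?_
  obtain ⟨j, hj, rfl⟩ := D.ν_surj v
  rw [← D.ν_act x hz h1 j hj, (h j hj hv).symm.eq, mul_inv_cancel_right]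

/-- a lift of a fixed vector with the same value commutes -/
theorem commute_of_vecC {x j : G} (hz : Commute x z) (h1 : Commute x v1) (hx2 : Commute x v2) (hj : j ∈ D.Q)
    (h : D.ν j ∈ D.vecC x) : Commute j x := by
  obtain ⟨i, hi, hix, hν⟩ := h
  have hw := D.ν_eq hi hj hν
  have := hix.mul_left (D.W_comm hw hz h1 hx2).symm
  rwa [mul_inv_cancel_left] at this

/-- an element at which every fixed vector is reached: the squares of the centraliser lift -/
theorem sq_lift {x : G} (hz : Commute x z) (h1 : Commute x v1) (h2 : x * x = 1) (hx2 : Commute x v2)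
    (hfull : ∀ v, D.π x v = v → v ∈ D.vecC x) {g : L} (hg : sp g * D.π x = D.π x * sp g) :
    ∃ c, Commute c z ∧ Commute c v1 ∧ Commute c v2 ∧ Commute c x ∧ D.π c = sp (g * g) := by
  obtain ⟨c, hc, hc1, hc2, hcπ⟩ := D.π_surj g
  have hcz : Commute (c * x * c⁻¹) z := (hc.mul_left hz).mul_left hc.inv_left
  have hc1' : Commute (c * x * c⁻¹) v1 := (hc1.mul_left h1).mul_left hc1.inv_left
  have hc2' : Commute (c * x * c⁻¹) v2 := (hc2.mul_left hx2).mul_left hc2.inv_left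
  obtain ⟨r, hr⟩ : ∃ r, r = c * x * c⁻¹ * x := ⟨_, rfl⟩
  have hrQ : r ∈ D.Q := by
    rw [hr]
    refine (D.π_iff _ (hcz.mul_left hz) (hc1'.mul_left h1)).mp ?_
    rw [D.π_mul _ _ hcz hc1' hz h1, D.π_mul _ _ (hc.mul_left hz) (hc1.mul_left h1) hc.inv_left hc1.inv_left,
      D.π_mul _ _ hc hc1 hz h1, D.π_inv hc hc1, hcπ, hg, mul_inv_cancel_right, D.π_sq hz h1 h2]
  have hs := D.π_semi x hz h1
  have hperp : ∀ v, D.π x v = v → B v (D.ν r) = 0 := by
    intro v hv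
    obtain ⟨j, hj, hjv⟩ := D.ν_surj v
    have hu : D.π x (D.π c⁻¹ v) = D.π c⁻¹ v := by
      rw [D.π_inv hc hc1, hcπ, ← Equiv.Perm.mul_apply,
        show D.π x * (sp g)⁻¹ = (sp g)⁻¹ * D.π x by
          rw [eq_inv_mul_iff_mul_eq, ← mul_assoc, hg, mul_inv_cancel_right],
        Equiv.Perm.mul_apply, hv]
    have hjn := D.normal c⁻¹ hc.inv_left j hj
    have hcomm : Commute (c⁻¹ * j * c⁻¹⁻¹) x := D.commute_of_vecC hz h1 hx2 hjn (hfull _ (by
      rw [D.ν_act c⁻¹ hc.inv_left hc1.inv_left j hj, hjv]; exact hu))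
    have h3 := comm_conj c hcomm
    rw [show c * (c⁻¹ * j * c⁻¹⁻¹) * c⁻¹ = j by group] at h3
    have h4 : Commute j r := hr ▸ h3.mul_right (D.commute_of_vecC hz h1 hx2 hj (hfull _ (hjv ▸ hv)))
    rw [← hjv]
    exact (D.ν_comm j hj r hrQ).mp h4
  obtain ⟨φ, hφ⟩ : ∃ φ : V →+ V, ∀ y, φ y = D.π x y + y :=
    ⟨AddMonoidHom.mk' (fun y => D.π x y + y) fun a b => by rw [hs.add]; abel, fun _ => rfl⟩
  have hrange : D.ν r ∈ Set.range fun y => D.π x y + y := by
    have hc' := card_B_perp φ.ker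
    have hker : (φ.ker : Set V) = fixS (D.π x) := Set.ext fun y =>
      ⟨fun h => add_cancel' ((hφ y).symm.trans h), fun h => (hφ y).trans (by
        rw [show D.π x y = y from h, add_self])⟩
    have hk := card_kernel_image hs
    have hsub : (Set.range fun y => D.π x y + y) ⊆ {y | ∀ u ∈ φ.ker, B u y = 0} := by
      rintro _ ⟨y, rfl⟩ u hu
      rw [B_comm]
      exact B_image_fix hs (show u ∈ fixS (D.π x) from hker ▸ hu) y
    have heq := Set.eq_of_subset_of_ncard_le hsub (by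
      rw [← hker, ← Nat.card_coe_set_eq (φ.ker : Set V)] at hk
      change Nat.card ↥φ.ker * _ = _ at hk
      have hpos : 0 < Nat.card ↥φ.ker := Nat.card_pos
      refine le_of_eq (Nat.eq_of_mul_eq_mul_left hpos ?_)
      rw [hc', hk])
    exact heq ▸ (fun u hu => hperp u (hker ▸ hu : u ∈ fixS (D.π x)))
  obtain ⟨y, hy⟩ := hrange
  obtain ⟨j, hj, rfl⟩ := D.ν_surj y
  obtain ⟨hm, hν⟩ := D.moved hz h1 h2 hj
  have hw := D.ν_eq hm hrQ (hν.trans hy)
  obtain ⟨u, hu, hru⟩ : ∃ u, InW z (four v1 v2) u ∧ r = j * x * j⁻¹ * x * u := ⟨_, hw, by group⟩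
  have hux := D.W_comm hu hz h1 hx2
  have hcx : c * x * c⁻¹ = j * x * j⁻¹ * u := by
    have : c * x * c⁻¹ = r * x := by rw [hr, mul_assoc (c * x * c⁻¹), h2, mul_one]
    rw [this, hru, mul_assoc _ u x, ← hux.eq, ← mul_assoc, mul_assoc (j * x * j⁻¹) x x, h2, mul_one]
  obtain ⟨c1, hc1def⟩ : ∃ c1, c1 = j⁻¹ * c := ⟨_, rfl⟩
  have k1 : Commute c1 z := hc1def ▸ (D.cent j hj).inv_left.mul_left hc
  have k2 : Commute c1 v1 := hc1def ▸ (D.cent1 j hj).inv_left.mul_left hc1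
  have k3 : Commute c1 v2 := hc1def ▸ (D.cent2 j hj).inv_left.mul_left hc2
  have hπ : D.π c1 = sp g := by
    rw [hc1def, D.π_mul _ _ (D.cent j hj).inv_left (D.cent1 j hj).inv_left hc hc1, D.π_Q (D.Q.inv_mem hj),
      one_mul, hcπ]
  have hconj : c1 * x * c1⁻¹ = x * u := by
    rw [hc1def, show j⁻¹ * c * x * (j⁻¹ * c)⁻¹ = j⁻¹ * (c * x * c⁻¹) * j by group, hcx,
      show j⁻¹ * (j * x * j⁻¹ * u) * j = x * j⁻¹ * (u * j) by group, ← (D.W_comm_Q hu hj).eq]
    group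
  refine ⟨c1 * c1, k1.mul_left k1, k2.mul_left k2, k3.mul_left k3, mul_inv_eq_iff_eq_mul.mp ?_, by
    rw [D.π_mul _ _ k1 k2 k1 k2, hπ, map_mul]⟩
  calc c1 * c1 * x * (c1 * c1)⁻¹ = c1 * (c1 * x * c1⁻¹) * c1⁻¹ := by group
    _ = c1 * (x * u) * c1⁻¹ := by rw [hconj]
    _ = (c1 * x * c1⁻¹) * (c1 * u * c1⁻¹) := by group
    _ = x := by rw [hconj, (D.W_comm hu k1 k2 k3).eq, mul_inv_cancel_right, mul_assoc, D.W_sq hu, mul_one]

variable (H : FHyp z (four v1 v2)) {g : G} (ht : Commute (g * z * g⁻¹) z)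
  (hbad : ¬ ∀ y ∈ four v1 v2, g * y * g⁻¹ ∈ four v1 v2)
include H ht hbad

theorem t_not_W : ¬ InW z (four v1 v2) (g * z * g⁻¹) := fun h =>
  hbad fun y hy => D.perm g (mul_inv_eq_iff_eq_mul.mp (H.cls g h)) y hy

theorem z_not_W' {u : G} (hu : u ∈ four v1 v2) (hu1 : u ≠ 1) : ¬ InW z (four v1 v2) (g * u * g⁻¹) := fun h =>
  hbad (H.meet g u hu hu1 ht h)

/-- the partner of the conjugate -/
theorem pick : ∃ u ∈ four v1 v2, u ≠ 1 ∧ Commute (g * u * g⁻¹) z ∧ Commute (g * (z * u) * g⁻¹) z ∧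
    (∀ j ∈ D.Q, Commute j (g * (z * u) * g⁻¹) ↔ Commute j (g * z * g⁻¹)) ∧
    (∀ j ∈ D.Q, Commute j (g * z * g⁻¹) → Commute j (g * u * g⁻¹)) ∧
    g * z * g⁻¹ ∉ D.Q ∧ g * (z * u) * g⁻¹ ∉ D.Q := by
  classical
  haveI : Fact (Nat.Prime 2) := ⟨Nat.prime_two⟩
  obtain ⟨t, htdef⟩ : ∃ t, t = g * z * g⁻¹ := ⟨_, rfl⟩
  rw [← htdef] at ht ⊢
  let S : Set G := {a | a ∈ four (g * v1 * g⁻¹) (g * v2 * g⁻¹) ∧ a ≠ 1}
  have hperm : ∀ {c}, Commute c t → ∀ a ∈ S, c * a * c⁻¹ ∈ S := fun {c} hc a ha =>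
    ⟨(D.conj g).perm c (htdef ▸ hc) a ha.1, fun e => ha.2 (conj_eq_one_iff.mp e)⟩
  let P : Subgroup G := D.Q ⊓ Subgroup.centralizer ({t} : Set G)
  have hPt : ∀ {c}, c ∈ P → Commute c t := fun hc => Subgroup.mem_centralizer_singleton_iff.mp hc.2
  letI : MulAction ↥P ↥S :=
    { smul := fun c a => ⟨(c : G) * a * (c : G)⁻¹, hperm (hPt c.2) _ a.2⟩
      one_smul := fun a => Subtype.ext (show ((1 : ↥P) : G) * a * ((1 : ↥P) : G)⁻¹ = a by simp)
      mul_smul := fun c d a => Subtype.ext (show ((c * d : ↥P) : G) * a * ((c * d : ↥P) : G)⁻¹ =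
        (c : G) * ((d : G) * a * (d : G)⁻¹) * (c : G)⁻¹ by rw [Subgroup.coe_mul]; group) }
  have hP : IsPGroup 2 ↥P := by
    intro c
    refine ⟨2, Subtype.ext ?_⟩
    have hnn := D.Q.mul_mem c.2.1 c.2.1
    have h4 : ((c : G) * c) * ((c : G) * c) = 1 := (D.ν_sq _ hnn).mpr (by
      rw [D.ν_mul _ c.2.1 _ c.2.1, add_self, herm_zero_left])
    rw [Subgroup.coe_pow, Subgroup.coe_one, show (2 : ℕ) ^ 2 = 3 + 1 from rfl, pow_succ, pow_succ, pow_succ, pow_one]
    rw [← mul_assoc] at h4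
    exact h4
  have hcard : Nat.card ↥S = 3 := by
    have hS : S = (({g * v1 * g⁻¹, g * v2 * g⁻¹, g * v1 * g⁻¹ * (g * v2 * g⁻¹)} : Finset G) : Set G) := by
      ext a
      simp only [S, four, Set.mem_ofPred_eq, Finset.coe_insert, Finset.coe_singleton, Set.mem_insert_iff,
        Set.mem_singleton_iff]
      refine ⟨fun h => h.1.resolve_left h.2, fun h => ⟨Or.inr h, ?_⟩⟩
      rcases h with rfl | rfl | rfl
      exacts [(D.conj g).v1_ne, (D.conj g).v2_ne, (D.conj g).v3_ne]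
    rw [Nat.card_coe_set_eq, hS, Set.ncard_coe_finset, Finset.card_insert_of_notMem, Finset.card_insert_of_notMem,
      Finset.card_singleton]
    · rw [Finset.mem_singleton]
      exact fun e => (D.conj g).v1_ne (right_eq_mul.mp e)
    · simp only [Finset.mem_insert, Finset.mem_singleton, not_or]
      exact ⟨(D.conj g).v12, fun e => (D.conj g).v2_ne (left_eq_mul.mp e)⟩
  obtain ⟨a, hafix⟩ := hP.nonempty_fixed_point_of_prime_not_dvd_card ↥S (by rw [hcard]; norm_num)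
  obtain ⟨u, hu, hua⟩ : ∃ u ∈ four v1 v2, g * u * g⁻¹ = (a : G) :=
    ⟨g⁻¹ * a * g, by
      have h := a.2.1
      rwa [four_conj, mem_cj] at h, by group⟩
  have hu1 : u ≠ 1 := fun e => a.2.2 (by rw [← hua, e]; group)
  have hBeq : g * (z * u) * g⁻¹ = t * (a : G) := by rw [← hua, htdef]; group
  have hA : ∀ j ∈ D.Q, Commute j t → Commute j (g * u * g⁻¹) := fun j hj hjt => by
    rw [hua]
    have hjP : j ∈ P := ⟨hj, Subgroup.mem_centralizer_singleton_iff.mpr hjt.eq⟩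
    exact mul_inv_eq_iff_eq_mul.mp (congrArg Subtype.val (hafix ⟨j, hjP⟩))
  have hAz : Commute (g * u * g⁻¹) z := (hA z D.zQ ht.symm).symm
  have hBz : Commute (g * (z * u) * g⁻¹) z := by rw [hBeq, ← hua]; exact ht.mul_left hAz
  have hiff : ∀ j ∈ D.Q, Commute j (g * (z * u) * g⁻¹) ↔ Commute j t := fun j hj =>
    ⟨fun h => htdef ▸ H.cl g u hu hu1 (htdef ▸ ht) hBz j (D.cent j hj) h,
      fun h => by rw [hBeq, ← hua]; exact h.mul_right (hA j hj h)⟩
  have ht2 : t * t = 1 := by rw [htdef, show g * z * g⁻¹ * (g * z * g⁻¹) = g * (z * z) * g⁻¹ by group, D.z2]; group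
  have hnW := t_not_W D H (htdef ▸ ht) hbad
  rw [← htdef] at hnW
  refine ⟨u, hu, hu1, hAz, hBz, hiff, hA, fun htQ => ?_, fun hBQ => ?_⟩
  · -- the conjugate in the two-core
    have he : D.ν t ≠ 0 := fun e => hnW ((D.ν_zero t htQ).mp e)
    have ht1 : Commute t v1 := D.cent1 t htQ
    have hB1 : Commute (g * (z * u) * g⁻¹) v1 := ((hiff v1 D.v1Q).mpr ht1.symm).symm
    have hπB := D.π_one_of_perp hBz hB1 (e := D.ν t) fun j hj hv => (hiff j hj).mpr ((D.ν_comm j hj t htQ).mpr hv)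
    have hBQ : g * (z * u) * g⁻¹ ∈ D.Q := (D.π_iff _ hBz hB1).mp hπB
    have he' : D.ν (g * (z * u) * g⁻¹) ≠ 0 := fun e => by
      obtain ⟨y, hy⟩ := exists_B_ne he
      obtain ⟨j, hj, rfl⟩ := D.ν_surj y
      apply hy
      rw [B_comm]
      refine (D.ν_comm j hj t htQ).mp ((hiff j hj).mp ((D.ν_comm j hj _ hBQ).mpr ?_))
      rw [e]; exact B_zero_right _
    have heq := perp_same he he' fun y hy => by
      obtain ⟨j, hj, rfl⟩ := D.ν_surj y
      exact (D.ν_comm j hj _ hBQ).mp ((hiff j hj).mpr ((D.ν_comm j hj t htQ).mpr hy))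
    have hAQ : g * u * g⁻¹ = t * (g * (z * u) * g⁻¹) := by rw [hBeq, ← mul_assoc, ht2, one_mul, hua]
    refine z_not_W' D H (htdef ▸ ht) hbad hu hu1 ?_
    refine (D.ν_zero _ (hAQ ▸ D.Q.mul_mem htQ hBQ)).mp ?_
    rw [hAQ, D.ν_mul t htQ _ hBQ, ← heq, add_self]
  · -- the partner in the two-core
    have htQ : t ∈ D.Q := by
      have ht1 : Commute t v1 := ((hiff v1 D.v1Q).mp (D.cent1 _ hBQ).symm).symm
      refine (D.π_iff t ht ht1).mp (D.π_one_of_perp ht ht1 (e := D.ν (g * (z * u) * g⁻¹)) fun j hj hv => ?_)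
      exact (hiff j hj).mp ((D.ν_comm j hj _ hBQ).mpr hv)
    have he : D.ν t ≠ 0 := fun e => hnW ((D.ν_zero t htQ).mp e)
    have he' : D.ν (g * (z * u) * g⁻¹) ≠ 0 := fun e => by
      obtain ⟨y, hy⟩ := exists_B_ne he
      obtain ⟨j, hj, rfl⟩ := D.ν_surj y
      apply hy
      rw [B_comm]
      refine (D.ν_comm j hj t htQ).mp ((hiff j hj).mp ((D.ν_comm j hj _ hBQ).mpr ?_))
      rw [e]; exact B_zero_right _
    have heq := perp_same he he' fun y hy => by
      obtain ⟨j, hj, rfl⟩ := D.ν_surj y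
      exact (D.ν_comm j hj _ hBQ).mp ((hiff j hj).mpr ((D.ν_comm j hj t htQ).mpr hy))
    have hAQ : g * u * g⁻¹ = t * (g * (z * u) * g⁻¹) := by rw [hBeq, ← mul_assoc, ht2, one_mul, hua]
    refine z_not_W' D H (htdef ▸ ht) hbad hu hu1 ?_
    refine (D.ν_zero _ (hAQ ▸ D.Q.mul_mem htQ hBQ)).mp ?_
    rw [hAQ, D.ν_mul t htQ _ hBQ, ← heq, add_self]

/-- an inner conjugate -/
theorem inner_shape (h1 : Commute (g * z * g⁻¹) v1) (h2 : Commute (g * z * g⁻¹) v2) :
    ∃ j, Commute j z ∧ j * (g * z * g⁻¹) * j⁻¹ = g * z * g⁻¹ * z ∧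
      (∀ y ∈ four v1 v2, j * (g * y * g⁻¹) * j⁻¹ ∈ cj g (four v1 v2)) ∧
      ∀ y ∈ four v1 v2, Commute z (g * y * g⁻¹) := by
  obtain ⟨u, hu, hu1, hAz, hBz, hiff, hA, htQ, hBQ⟩ := D.pick H ht hbad
  obtain ⟨t, htdef⟩ : ∃ t, t = g * z * g⁻¹ := ⟨_, rfl⟩
  obtain ⟨A, hAdef⟩ : ∃ A, A = g * u * g⁻¹ := ⟨_, rfl⟩
  obtain ⟨Bt, hBdef⟩ : ∃ Bt, Bt = g * (z * u) * g⁻¹ := ⟨_, rfl⟩
  have hncl := H.cl g u hu hu1 ht hBz
  have hnA := z_not_W' D H ht hbad hu hu1
  rw [← htdef] at ht h1 h2 hiff hA htQ hncl ⊢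
  rw [← hAdef] at hAz hA hnA
  rw [← hBdef] at hBz hiff hBQ hncl
  have ht2 : t * t = 1 := by rw [htdef, show g * z * g⁻¹ * (g * z * g⁻¹) = g * (z * z) * g⁻¹ by group, D.z2]; group
  have hB2 : Bt * Bt = 1 := by
    rw [hBdef, show g * (z * u) * g⁻¹ * (g * (z * u) * g⁻¹) = g * (z * u * (z * u)) * g⁻¹ by group,
      D.W_sq ⟨u, hu, Or.inr rfl⟩]
    group
  have hBeq : Bt = t * A := by rw [hBdef, htdef, hAdef]; group
  have hAeq : A = t * Bt := by rw [hBeq, ← mul_assoc, ht2, one_mul]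
  have htA : Commute t A := by
    rw [htdef, hAdef]; exact comm_conj g (D.four_z hu).symm
  have hteq : t = Bt * A := by
    have hAA : A * A = 1 := by
      rw [hAdef, show g * u * g⁻¹ * (g * u * g⁻¹) = g * (u * u) * g⁻¹ by group, D.four_sq hu]; group
    rw [hBeq, mul_assoc, hAA, mul_one]
  have hB1 : Commute Bt v1 := ((hiff v1 D.v1Q).mpr h1.symm).symm
  have hBv : Commute Bt v2 := ((hiff v2 D.v2Q).mpr h2.symm).symm
  have hA1 : Commute A v1 := hAeq ▸ h1.mul_left hB1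
  have hAv : Commute A v2 := hAeq ▸ h2.mul_left hBv
  have hlt := D.inner_lin ht h1 ht2 h2
  have hlB := D.inner_lin hBz hB1 hB2 hBv
  have hnt : D.π t ≠ 1 := fun e => htQ ((D.π_iff t ht h1).mp e)
  have hnB : D.π Bt ≠ 1 := fun e => hBQ ((D.π_iff _ hBz hB1).mp e)
  have hvec : ∀ v, v ∈ D.vecC t ↔ v ∈ D.vecC Bt := fun v =>
    ⟨fun ⟨j, hj, hjt, e⟩ => ⟨j, hj, (hiff j hj).mpr hjt, e⟩, fun ⟨j, hj, hjt, e⟩ => ⟨j, hj, (hiff j hj).mp hjt, e⟩⟩
  have hAfin : D.π t = D.π Bt → A ∈ D.Q ∧ D.ν A ≠ 0 := by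
    intro e
    have hAQ : A ∈ D.Q := by
      refine (D.π_iff A hAz hA1).mp ?_
      rw [hAeq, D.π_mul _ _ ht h1 hBz hB1, e, D.π_sq hBz hB1 hB2]
    exact ⟨hAQ, fun e0 => hnA ((D.ν_zero A hAQ).mp e0)⟩
  -- an element of the two-core commuting with the partner commutes with the third
  have hBA : ∀ j ∈ D.Q, Commute j Bt → Commute j A := fun j hj hjB => hA j hj ((hiff j hj).mp hjB)
  have hlift : (∀ v, D.π Bt v = v → v ∈ D.vecC Bt) → ∀ g' : L, sp g' * D.π Bt = D.π Bt * sp g' →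
      sp (g' * g') * D.π t = D.π t * sp (g' * g') ∧
      (A ∈ D.Q → sp (g' * g') (D.ν A) = D.ν A) := by
    intro hfull g' hg'
    obtain ⟨c, hc, hc1, hc2, hcB, hcπ⟩ := D.sq_lift hBz hB1 hB2 hBv hfull hg'
    have hct : Commute c t := hncl c hc hcB
    have hcA : Commute c A := hAeq ▸ hct.mul_right hcB
    refine ⟨?_, fun hAQ => ?_⟩
    · rw [← hcπ, ← D.π_mul _ _ hc hc1 ht h1, ← D.π_mul _ _ ht h1 hc hc1, hct.eq]
    · rw [← hcπ, ← D.ν_act c hc hc1 A hAQ, hcA.eq, mul_inv_cancel_right]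
  have hAmem : A ∈ D.Q → D.π Bt (D.ν A) = D.ν A := fun hAQ =>
    D.vecC_fixed hBz hB1 ⟨A, hAQ, by rw [hBeq]; exact htA.symm.mul_right (Commute.refl A), rfl⟩
  rcases hlB.invol_cases (D.π_sq hBz hB1 hB2) hnB with ⟨hB16, -⟩ | ⟨q, hq0, hq, hqf⟩
  · exfalso
    have hfullB : ∀ v, D.π Bt v = v → v ∈ D.vecC Bt := fun v => D.full_of_sixteen hBz hB1 hB2 hBv hB16 hnB
    rcases hlt.invol_cases (D.π_sq ht h1 ht2) hnt with ⟨ht16, -⟩ | ⟨p, hp0, hp, hpf⟩
    · have hfix : fixS (D.π t) = fixS (D.π Bt) := Set.ext fun v =>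
        ⟨fun hv => D.vecC_fixed hBz hB1 ((hvec v).mp (D.full_of_sixteen ht h1 ht2 h2 ht16 hnt hv)),
          fun hv => D.vecC_fixed ht h1 ((hvec v).mpr (hfullB v hv))⟩
      obtain ⟨g', hg', hmove, huniq⟩ := two_type hlB (D.π_sq hBz hB1 hB2) hB16
      obtain ⟨hgt, hgA⟩ := hlift hfullB g' hg'
      obtain ⟨hAQ, he⟩ := hAfin (huniq _ hlt hfix hgt)
      exact he (hmove _ (hAmem hAQ) (hgA hAQ))
    · -- too many vectors
      have hsub : (D.vecC t : Set V) ⊆ fixS (D.π Bt) := fun v hv => D.vecC_fixed hBz hB1 ((hvec v).mp hv)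
      have hhalf : ∀ {a b}, D.π t a = a → D.π t b = b → a ∉ D.vecC t → b ∉ D.vecC t → a + b ∈ D.vecC t := by
        intro a b ha hb hna hnb
        obtain ⟨i, hi, hia, hix⟩ := D.half_of_tv ht h1 ht2 h2 hp0 hp hpf ha
        obtain ⟨j, hj, hjb, hjx⟩ := D.half_of_tv ht h1 ht2 h2 hp0 hp hpf hb
        have hi' := hix.resolve_left fun e => hna ⟨i, hi, mul_inv_eq_iff_eq_mul.mp e, hia⟩
        have hj' := hjx.resolve_left fun e => hnb ⟨j, hj, mul_inv_eq_iff_eq_mul.mp e, hjb⟩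
        refine ⟨i * j, D.Q.mul_mem hi hj, mul_inv_eq_iff_eq_mul.mp ?_, by rw [D.ν_mul i hi j hj, hia, hjb]⟩
        rw [show i * j * t * (i * j)⁻¹ = i * (j * t * j⁻¹) * i⁻¹ by group, hj', ← mul_assoc i, (D.cent i hi).eq,
          mul_assoc z i t, mul_assoc z (i * t), hi', ← mul_assoc, D.z2, one_mul]
      have h32 : 64 ≤ 2 * (fixS (D.π Bt)).ncard := by
        obtain ⟨y, hy⟩ := exists_herm_val hp0 1
        have h64 := card_hyper hy
        rw [show {y | herm p y = 0} = fixS (D.π t) from Set.ext fun v => (tv_fix hp0 hpf).symm] at h64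
        have hS := Set.ncard_le_ncard hsub
        by_cases hall : fixS (D.π t) ⊆ D.vecC t
        · have := Set.ncard_le_ncard hall; omega
        obtain ⟨a, ha, hna⟩ := Set.not_subset.mp hall
        have hcov : fixS (D.π t) ⊆ (D.vecC t : Set V) ∪ (fun v => v + a) '' (D.vecC t : Set V) := by
          intro b hb
          by_cases hb' : b ∈ D.vecC t
          · exact Or.inl hb'
          · exact Or.inr ⟨b + a, hhalf hb ha hb' hna, by show b + a + a = b; rw [add_assoc, add_self, add_zero]⟩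
        have h1' := (Set.ncard_le_ncard hcov).trans (Set.ncard_union_le _ _)
        have h2' : ((fun v => v + a) '' (D.vecC t : Set V)).ncard ≤ (D.vecC t : Set V).ncard := Set.ncard_image_le
        omega
      omega
  · have hfixB : ∀ {v}, D.π Bt v = v ↔ herm q v = 0 := fun {v} => tv_fix hq0 hqf
    have hhalfB : ∀ {a b}, D.π Bt a = a → D.π Bt b = b → a ∉ D.vecC Bt → b ∉ D.vecC Bt → a + b ∈ D.vecC Bt := by
      intro a b ha hb hna hnb
      obtain ⟨i, hi, hia, hix⟩ := D.half_of_tv hBz hB1 hB2 hBv hq0 hq hqf ha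
      obtain ⟨j, hj, hjb, hjx⟩ := D.half_of_tv hBz hB1 hB2 hBv hq0 hq hqf hb
      have hi' := hix.resolve_left fun e => hna ⟨i, hi, mul_inv_eq_iff_eq_mul.mp e, hia⟩
      have hj' := hjx.resolve_left fun e => hnb ⟨j, hj, mul_inv_eq_iff_eq_mul.mp e, hjb⟩
      refine ⟨i * j, D.Q.mul_mem hi hj, mul_inv_eq_iff_eq_mul.mp ?_, by rw [D.ν_mul i hi j hj, hia, hjb]⟩
      rw [show i * j * Bt * (i * j)⁻¹ = i * (j * Bt * j⁻¹) * i⁻¹ by group, hj', ← mul_assoc i, (D.cent i hi).eq,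
        mul_assoc z i Bt, mul_assoc z (i * Bt), hi', ← mul_assoc, D.z2, one_mul]
    -- a multiple of each vector commutes
    have hmult : ∀ v, herm q v = 0 → ∃ c : F4, c ≠ 0 ∧ c • v ∈ D.vecC Bt := by
      intro v hv
      by_contra hall
      push Not at hall
      have ha : D.π Bt v = v := hfixB.mpr hv
      have hb : D.π Bt (F4.w • v) = F4.w • v := hfixB.mpr (by rw [herm_smul_right, hv, mul_zero])
      refine hall F4.v (by decide +kernel) ?_
      rw [show F4.v • v = v + F4.w • v by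
        conv_rhs => arg 1; rw [← one_smul F4 v]
        rw [← add_smul]
        congr 1]
      exact hhalfB ha hb (fun h => hall 1 one_ne_zero (by rwa [one_smul])) (hall F4.w (by decide +kernel))
    have hτ : D.π t = D.π Bt := by
      rcases hlt.invol_cases (D.π_sq ht h1 ht2) hnt with ⟨ht16, -⟩ | ⟨p, hp0, hp, hpf⟩
      · exfalso
        have hsub : ∀ v, herm q v = 0 → v ∈ fixS (D.π t) := fun v hv => by
          obtain ⟨c, hc, hcv⟩ := hmult v hv
          have := D.vecC_fixed ht h1 ((hvec _).mpr hcv)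
          rw [hlt.smul] at this
          exact smul_right_injective V hc this
        obtain ⟨y, hy⟩ := exists_herm_val hq0 1
        have h64 := card_hyper hy
        have := Set.ncard_le_ncard (s := {y | herm q y = 0}) (t := fixS (D.π t)) hsub
        omega
      · obtain ⟨c, hc⟩ := point_eq hq0 (u := p) fun v hv => by
          obtain ⟨c, hc, hcv⟩ := hmult v hv
          have := (tv_fix hp0 hpf).mp (D.vecC_fixed ht h1 ((hvec _).mpr hcv))
          rw [herm_smul_right, mul_eq_zero] at this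
          exact this.resolve_left hc
        have hc0 : c ≠ 0 := fun e => hp0 (by rw [hc, e, zero_smul])
        exact Equiv.ext fun v => by rw [hpf, hqf, hc, herm_smul_inv q c hc0]
    obtain ⟨hAQ, he⟩ := hAfin hτ
    by_cases hfullB : ∀ v, D.π Bt v = v → v ∈ D.vecC Bt
    · exfalso
      obtain ⟨g', hg', hmove⟩ := tv_type hq0 hq hqf
      obtain ⟨hgt, hgA⟩ := hlift hfullB g' hg'
      obtain ⟨c, hc⟩ := point_eq hq0 (u := D.ν A) fun v hv => by
        have hB' : ∀ {w}, herm q w = 0 → B w (D.ν A) = 0 := fun {w} hw => by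
          obtain ⟨j, hj, hjB, e⟩ := hfullB w (hfixB.mpr hw)
          rw [← e]
          exact (D.ν_comm j hj A hAQ).mp (hBA j hj hjB)
        have e1 := hB' hv
        have e2 := hB' (w := F4.w • v) (by rw [herm_smul_right, hv, mul_zero])
        rw [B_eq, herm_smul_left] at e2
        rw [B_eq] at e1
        have key : ∀ a : F4, a + star a = 0 → star F4.w * a + star (star F4.w * a) = 0 → star a = 0 := by
          decide +kernel
        rw [← star_herm]
        exact key _ e1 e2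
      exact he (by rw [hc, hmove c (by rw [← hc]; exact hgA hAQ), zero_smul])
    push Not at hfullB
    obtain ⟨v, hv, hnv⟩ := hfullB
    obtain ⟨j, hj, hjv, hjB⟩ := D.half_of_tv hBz hB1 hB2 hBv hq0 hq hqf hv
    have hjB' : j * Bt * j⁻¹ = z * Bt :=
      hjB.resolve_left fun e => hnv ⟨j, hj, mul_inv_eq_iff_eq_mul.mp e, hjv⟩
    have hjA : Commute j A := by
      refine mul_inv_eq_iff_eq_mul.mp ?_
      rcases D.comm j hj A hAQ with e | e
      · exact mul_inv_eq_one.mp e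
      exfalso
      refine hnv ⟨j, hj, (hiff j hj).mpr (mul_inv_eq_iff_eq_mul.mp ?_), hjv⟩
      rw [hteq, show j * (Bt * A) * j⁻¹ = (j * Bt * j⁻¹) * (j * A * j⁻¹) by group, hjB',
        mul_inv_eq_iff_eq_mul.mp e, mul_assoc z, ← mul_assoc Bt, hBz.eq, mul_assoc z, ← mul_assoc,
        D.z2, one_mul]
    have hjt : j * t * j⁻¹ = t * z := by
      rw [hteq, show j * (Bt * A) * j⁻¹ = (j * Bt * j⁻¹) * (j * A * j⁻¹) by group, hjB', hjA.eq,
        mul_inv_cancel_right, mul_assoc, ← hteq, ht.eq]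
    have hnorm : ∀ y ∈ four v1 v2, j * (g * y * g⁻¹) * j⁻¹ ∈ cj g (four v1 v2) :=
      H.norm g u hu hu1 (htdef ▸ ht) (hAdef ▸ hAz) j (D.cent j hj) (hAdef ▸ hjA)
    refine ⟨j, D.cent j hj, hjt, hnorm, fun y hy => ?_⟩
    have hmap : ∀ y' ∈ four (g * v1 * g⁻¹) (g * v2 * g⁻¹), j * y' * j⁻¹ ∈ four (g * v1 * g⁻¹) (g * v2 * g⁻¹) := by
      rw [four_conj]
      intro y' hy'
      have := hnorm (g⁻¹ * y' * g) hy'
      rwa [show g * (g⁻¹ * y' * g) * g⁻¹ = y' by group] at this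
    have hy' : j⁻¹ * (g * y * g⁻¹) * j ∈ four (g * v1 * g⁻¹) (g * v2 * g⁻¹) :=
      four_back hmap _ (by rw [four_conj]; exact conj_mem_cj hy)
    rw [four_conj] at hy'
    have hty : ∀ {y}, y ∈ four v1 v2 → Commute t (g * y * g⁻¹) := fun hy =>
      htdef ▸ comm_conj g (D.four_z hy).symm
    have h3 := comm_conj j (hty (mem_cj.mp hy'))
    rw [show j * (g * (g⁻¹ * (j⁻¹ * (g * y * g⁻¹) * j) * g) * g⁻¹) * j⁻¹ = g * y * g⁻¹ by group, hjt] at h3
    have := (hty hy).mul_left h3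
    rwa [← mul_assoc, ht2, one_mul] at this

/-- an inner conjugate does not occur -/
theorem inner_false (h1 : Commute (g * z * g⁻¹) v1) (h2 : Commute (g * z * g⁻¹) v2) : False := by
  obtain ⟨j0, hj0z, hj0t, hj0n, hcz⟩ := D.inner_shape H ht hbad h1 h2
  have hfour := four_conj g v1 v2
  have hback : g⁻¹ * (g * z * g⁻¹) * g⁻¹⁻¹ = z := by group
  have hbad' : ¬ ∀ y ∈ four (g * v1 * g⁻¹) (g * v2 * g⁻¹),
      g⁻¹ * y * g⁻¹⁻¹ ∈ four (g * v1 * g⁻¹) (g * v2 * g⁻¹) := by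
    intro h
    rw [hfour] at h
    refine hbad fun y hy => ?_
    have hb : ∀ u ∈ four v1 v2, g⁻¹ * u * g⁻¹⁻¹ ∈ four v1 v2 := fun u hu => by
      have := h (g * u * g⁻¹) (conj_mem_cj hu)
      rw [mem_cj] at this
      convert this using 1
      group
    have := four_back hb y hy
    rwa [inv_inv] at this
  obtain ⟨j1, hj1t, hj1z, -, -⟩ := (D.conj g).inner_shape (hfour ▸ H.conj g) (g := g⁻¹)
    (by rw [hback]; exact ht.symm) hbad'
    (by rw [hback]; exact hcz v1 D.v1_mem_four) (by rw [hback]; exact hcz v2 D.v2_mem_four)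
  rw [hback] at hj1z
  obtain ⟨m, hm⟩ : ∃ m, m = j1 * j0 := ⟨_, rfl⟩
  have hmt : m * (g * z * g⁻¹) * m⁻¹ = z := by
    rw [hm, show j1 * j0 * (g * z * g⁻¹) * (j1 * j0)⁻¹ = j1 * (j0 * (g * z * g⁻¹) * j0⁻¹) * j1⁻¹ by group, hj0t,
      show j1 * (g * z * g⁻¹ * z) * j1⁻¹ = j1 * (g * z * g⁻¹) * j1⁻¹ * (j1 * z * j1⁻¹) by group, hj1z, hj1t.eq,
      mul_inv_cancel_right, ← ht.eq, ← mul_assoc,
      show g * z * g⁻¹ * (g * z * g⁻¹) = g * (z * z) * g⁻¹ by group, D.z2]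
    group
  have hkz : Commute (m * g) z := by
    refine mul_inv_eq_iff_eq_mul.mp ?_
    rw [show m * g * z * (m * g)⁻¹ = m * (g * z * g⁻¹) * m⁻¹ by group, hmt]
  have hmn : ∀ y ∈ four (g * v1 * g⁻¹) (g * v2 * g⁻¹), m * y * m⁻¹ ∈ four (g * v1 * g⁻¹) (g * v2 * g⁻¹) := by
    intro y hy
    rw [hm, show j1 * j0 * y * (j1 * j0)⁻¹ = j1 * (j0 * y * j0⁻¹) * j1⁻¹ by group]
    refine (D.conj g).perm j1 hj1t _ ?_
    rw [hfour] at hy ⊢
    have := hj0n (g⁻¹ * y * g) hy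
    rwa [show g * (g⁻¹ * y * g) * g⁻¹ = y by group] at this
  refine hbad fun y hy => ?_
  have h := four_back hmn (g * y * g⁻¹) (by rw [hfour]; exact conj_mem_cj hy)
  rw [hfour, mem_cj] at h
  have := D.perm (m * g) hkz _ h
  rwa [show m * g * (g⁻¹ * (m⁻¹ * (g * y * g⁻¹) * m) * g) * (m * g)⁻¹ = g * y * g⁻¹ by group] at this

/-- an outer conjugate does not occur -/
theorem outer_false (h1 : Commute (g * z * g⁻¹) v1) (h2 : ¬ Commute (g * z * g⁻¹) v2) : False := by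
  obtain ⟨u, hu, hu1, hAz, hBz, hiff, hA, htQ, hBQ⟩ := D.pick H ht hbad
  obtain ⟨t, htdef⟩ : ∃ t, t = g * z * g⁻¹ := ⟨_, rfl⟩
  obtain ⟨A, hAdef⟩ : ∃ A, A = g * u * g⁻¹ := ⟨_, rfl⟩
  obtain ⟨Bt, hBdef⟩ : ∃ Bt, Bt = g * (z * u) * g⁻¹ := ⟨_, rfl⟩
  have hnA := z_not_W' D H ht hbad hu hu1
  rw [← htdef] at h1 h2 hiff hA htQ
  rw [← hAdef] at hAz hA hnA
  rw [← hBdef] at hBz hiff
  have htz : Commute t z := htdef ▸ ht
  have ht2 : t * t = 1 := by rw [htdef, show g * z * g⁻¹ * (g * z * g⁻¹) = g * (z * z) * g⁻¹ by group, D.z2]; group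
  have hA2 : A * A = 1 := by
    rw [hAdef, show g * u * g⁻¹ * (g * u * g⁻¹) = g * (u * u) * g⁻¹ by group, D.four_sq hu]; group
  have hBeq : Bt = t * A := by rw [hBdef, htdef, hAdef]; group
  have hAeq : A = t * Bt := by rw [hBeq, ← mul_assoc, ht2, one_mul]
  have hB1 : Commute Bt v1 := ((hiff v1 D.v1Q).mpr h1.symm).symm
  have hA1 : Commute A v1 := hAeq ▸ h1.mul_left hB1
  have hBv : ¬ Commute Bt v2 := fun h => h2 ((hiff v2 D.v2Q).mp h.symm).symm
  have hat : Anti (D.π t) := (D.π_semi t htz h1).resolve_left fun h => h2 ((D.π_lin t htz h1).mp h)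
  have haB : Anti (D.π Bt) := (D.π_semi Bt hBz hB1).resolve_left fun h => hBv ((D.π_lin Bt hBz hB1).mp h)
  have hlA : Lin (D.π A) := by rw [hAeq, D.π_mul _ _ htz h1 hBz hB1]; exact hat.mul haB
  have hAv : Commute A v2 := (D.π_lin A hAz hA1).mp hlA
  have h64 : 64 ≤ (fixS (D.π A)).ncard := anti_large hat (D.π_sq htz h1 ht2) hlA fun r hr hq => by
    obtain ⟨-, hrange⟩ := hat.fix_range (D.π_sq htz h1 ht2)
    obtain ⟨j, hj, hjt, e⟩ := D.range_sing htz h1 ht2 (r := r) (hrange.symm ▸ hr) hq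
    rw [← e]
    exact D.vecC_fixed hAz hA1 ⟨j, hj, hA j hj hjt, rfl⟩
  -- the commuting part is not isotropic
  have hbig : 32 ≤ (D.vecC A : Set V).ncard := by
    by_cases hAQ : A ∈ D.Q
    · have hsub : (perpB (D.ν A) : Set V) ⊆ D.vecC A := fun v hv => by
        obtain ⟨j, hj, rfl⟩ := D.ν_surj v
        exact ⟨j, hj, (D.ν_comm j hj A hAQ).mpr hv, rfl⟩
      have := Set.ncard_le_ncard hsub
      have := card_perpB (D.ν A)
      omega
    · rcases hlA.invol_cases (D.π_sq hAz hA1 hA2) (fun e => hAQ ((D.π_iff A hAz hA1).mp e)) with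
        ⟨h16, -⟩ | ⟨p, hp0, hp, hpf⟩
      · omega
      by_cases hall : fixS (D.π A) ⊆ D.vecC A
      · have := Set.ncard_le_ncard hall; omega
      obtain ⟨a, ha, hna⟩ := Set.not_subset.mp hall
      have hcov : fixS (D.π A) ⊆ (D.vecC A : Set V) ∪ (fun v => v + a) '' (D.vecC A : Set V) := by
        intro b hb
        by_cases hb' : b ∈ D.vecC A
        · exact Or.inl hb'
        refine Or.inr ⟨b + a, ?_, by show b + a + a = b; rw [add_assoc, add_self, add_zero]⟩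
        obtain ⟨i, hi, hia, hix⟩ := D.half_of_tv hAz hA1 hA2 hAv hp0 hp hpf hb
        obtain ⟨j, hj, hjb, hjx⟩ := D.half_of_tv hAz hA1 hA2 hAv hp0 hp hpf ha
        have hi' := hix.resolve_left fun e => hb' ⟨i, hi, mul_inv_eq_iff_eq_mul.mp e, hia⟩
        have hj' := hjx.resolve_left fun e => hna ⟨j, hj, mul_inv_eq_iff_eq_mul.mp e, hjb⟩
        refine ⟨i * j, D.Q.mul_mem hi hj, mul_inv_eq_iff_eq_mul.mp ?_, by rw [D.ν_mul i hi j hj, hia, hjb]⟩
        rw [show i * j * A * (i * j)⁻¹ = i * (j * A * j⁻¹) * i⁻¹ by group, hj', ← mul_assoc i, (D.cent i hi).eq,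
          mul_assoc z i A, mul_assoc z (i * A), hi', ← mul_assoc, D.z2, one_mul]
      have h1' := (Set.ncard_le_ncard hcov).trans (Set.ncard_union_le _ _)
      have h2' : ((fun v => v + a) '' (D.vecC A : Set V)).ncard ≤ (D.vecC A : Set V).ncard := Set.ncard_image_le
      omega
  obtain ⟨x, hx, hxA, y, hy, hyA, hxy⟩ : ∃ x ∈ D.Q, Commute x A ∧ ∃ y ∈ D.Q, Commute y A ∧ ¬ Commute x y := by
    by_contra hall
    push Not at hall
    have := B_isotropic_le (D.vecC A) fun a ha b hb => by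
      obtain ⟨x, hx, hxA, rfl⟩ := ha
      obtain ⟨y, hy, hyA, rfl⟩ := hb
      exact (D.ν_comm x hx y hy).mp (hall x hx hxA y hy hyA)
    rw [← Nat.card_coe_set_eq] at hbig
    change 32 ≤ Nat.card ↥(D.vecC A) at hbig
    omega
  have hxyz : x * y * x⁻¹ * y⁻¹ = z :=
    (D.comm x hx y hy).resolve_left fun e => hxy (mul_inv_eq_iff_eq_mul.mp (mul_inv_eq_one.mp e))
  have hcz : ∀ w ∈ four v1 v2, Commute z (g * w * g⁻¹) := by
    intro w hw
    rw [← hxyz]
    have hmove : ∀ {x}, Commute x z → Commute x A → ∀ p ∈ cj g (four v1 v2),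
        x * p * x⁻¹ = p ∨ x * p * x⁻¹ = A * p := by
      intro x hxz hxA p hp
      obtain ⟨p', hp', rfl⟩ : ∃ p' ∈ four v1 v2, p = g * p' * g⁻¹ := ⟨_, hp, by group⟩
      obtain ⟨q, hq, hq'⟩ : ∃ q ∈ four v1 v2, x * (g * p' * g⁻¹) * x⁻¹ = g * q * g⁻¹ :=
        ⟨_, mem_cj.mp (H.norm g u hu hu1 ht (hAdef ▸ hAz) x hxz (hAdef ▸ hxA) p' hp'), by group⟩
      rw [hq', hAdef, show g * u * g⁻¹ * (g * p' * g⁻¹) = g * (u * p') * g⁻¹ by group]
      by_cases h : q = p'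
      · exact Or.inl (by rw [h])
      refine Or.inr ?_
      have hq1 : q = 1 → p' = 1 := fun e => by
        rw [e, show g * 1 * g⁻¹ = 1 by group] at hq'
        exact conj_eq_one_iff.mp (conj_eq_one_iff.mp hq')
      have hp1 : p' = 1 → q = 1 := fun e => by
        rw [e, show x * (g * 1 * g⁻¹) * x⁻¹ = 1 by group] at hq'
        exact conj_eq_one_iff.mp hq'.symm
      have hqu : q = u → p' = u := fun e => by
        rw [e, ← hAdef] at hq'
        have e2 := hq'.trans (show A = x * A * x⁻¹ by rw [hxA.eq, mul_inv_cancel_right])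
        rw [hAdef] at e2
        exact mul_left_cancel (mul_right_cancel (mul_left_cancel (mul_right_cancel e2)))
      have hpu : p' = u → q = u := fun e => by
        rw [e, ← hAdef, hxA.eq, mul_inv_cancel_right, hAdef] at hq'
        exact (mul_left_cancel (mul_right_cancel hq')).symm
      congr 2
      have hup := D.four_sub hu hp'
      by_contra hne
      -- five different elements of the four-group
      have n0 : p' ≠ 1 := fun e => h ((hp1 e).trans e.symm)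
      have n1 : q ≠ 1 := fun e => h (e.trans (hq1 e).symm)
      have n2 : p' ≠ u := fun e => h ((hpu e).trans e.symm)
      have n3 : q ≠ u := fun e => h (e.trans (hqu e).symm)
      have n4 : u * p' ≠ 1 := fun e => n2 (by
        rw [← one_mul p', ← D.four_sq hu, mul_assoc, e, mul_one])
      have n5 : u * p' ≠ u := fun e => n0 (mul_eq_left.mp e)
      have n6 : u * p' ≠ p' := fun e => hu1 (mul_eq_right.mp e)
      rcases D.four_cases hu hu1 with a | a | a <;> rcases D.four_cases hp' n0 with b | b | b <;>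
        rcases D.four_cases hq n1 with c | c | c <;> rcases D.four_cases hup n4 with d | d | d <;>
        first
          | exact n2 (b.trans a.symm) | exact n3 (c.trans a.symm) | exact h (c.trans b.symm)
          | exact n5 (d.trans a.symm) | exact n6 (d.trans b.symm) | exact hne (c.trans d.symm)
    refine four_move (P := cj g (four v1 v2)) (a := A) (fun p hp => Or.inr (Or.inr ?_))
      (hmove (D.cent x hx) hxA) (hmove (D.cent y hy) hyA) hxA hyA (conj_mem_cj hw)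
    rw [hAdef, mem_cj, show g⁻¹ * (p * (g * u * g⁻¹)) * g = g⁻¹ * p * g * u by group]
    exact D.four_sub hp hu
  -- from the other side the involution is inner
  have hfour := four_conj g v1 v2
  have hback : g⁻¹ * (g * z * g⁻¹) * g⁻¹⁻¹ = z := by group
  refine (D.conj g).inner_false (hfour ▸ H.conj g) (g := g⁻¹) (by rw [hback]; exact ht.symm) (fun h => ?_)
    (by rw [hback]; exact hcz v1 D.v1_mem_four) (by rw [hback]; exact hcz v2 D.v2_mem_four)
  rw [hfour] at h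
  refine hbad fun w hw => ?_
  have hb : ∀ u ∈ four v1 v2, g⁻¹ * u * g⁻¹⁻¹ ∈ four v1 v2 := fun u hu => by
    have := h (g * u * g⁻¹) (conj_mem_cj hu)
    rw [mem_cj] at this
    convert this using 1
    group
  have := four_back hb w hw
  rwa [inv_inv] at this

end FCore

/-- the theorem -/
theorem FCore.good [Finite G] {z v1 v2 : G} (D : FCore z v1 v2) (H : FHyp z (four v1 v2)) (g : G)
    (ht : Commute (g * z * g⁻¹) z) : ∀ y ∈ four v1 v2, g * y * g⁻¹ ∈ four v1 v2 := by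
  by_contra hbad
  obtain ⟨t, htdef⟩ : ∃ t, t = g * z * g⁻¹ := ⟨_, rfl⟩
  have ht2 : t * t = 1 := by rw [htdef, show g * z * g⁻¹ * (g * z * g⁻¹) = g * (z * z) * g⁻¹ by group, D.z2]; group
  obtain ⟨u, hu, hu1, htu⟩ : ∃ u ∈ four v1 v2, u ≠ 1 ∧ Commute t u := by
    have hp := D.perm t (htdef ▸ ht)
    have htt : ∀ y, t * (t * y * t⁻¹) * t⁻¹ = y := fun y => by
      calc t * (t * y * t⁻¹) * t⁻¹ = t * t * y * (t * t)⁻¹ := by group
        _ = y := by rw [ht2, inv_one, mul_one, one_mul]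
    have hne : ∀ {y}, y ≠ 1 → t * y * t⁻¹ ≠ 1 := fun hy e => hy (conj_eq_one_iff.mp e)
    rcases D.four_cases (hp v1 D.v1_mem_four) (hne D.v1_ne) with e | e | e
    · exact ⟨v1, D.v1_mem_four, D.v1_ne, mul_inv_eq_iff_eq_mul.mp e⟩
    · refine ⟨v1 * v2, D.v3_mem_four, D.v3_ne, mul_inv_eq_iff_eq_mul.mp ?_⟩
      have e2 : t * v2 * t⁻¹ = v1 := by rw [← e, htt]
      rw [show t * (v1 * v2) * t⁻¹ = t * v1 * t⁻¹ * (t * v2 * t⁻¹) by group, e, e2, D.v_comm.eq]
    · refine ⟨v2, D.v2_mem_four, D.v2_ne, mul_inv_eq_iff_eq_mul.mp ?_⟩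
      have e2 : t * (v1 * v2) * t⁻¹ = v1 := by rw [← e, htt]
      rw [show t * v2 * t⁻¹ = (t * v1 * t⁻¹)⁻¹ * (t * (v1 * v2) * t⁻¹) by group, e, e2,
        inv_eq_of_mul_eq_one_right (D.four_sq D.v3_mem_four), mul_assoc, ← D.v_comm.eq, ← mul_assoc, D.v1_sq, one_mul]
  obtain ⟨w, D', hfour, -⟩ := D.exists_rot hu hu1
  rw [← hfour] at hbad
  have H' : FHyp z (four u w) := hfour.symm ▸ H
  by_cases hw : Commute (g * z * g⁻¹) w
  · exact D'.inner_false H' ht hbad (htdef ▸ htu) hw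
  · exact D'.outer_false H' ht hbad (htdef ▸ htu) hw

end Cfsg.Agent.Spor.CHZ.FThree
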