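import Cfsg.Agent.Lib.Spor.CHZ.Dihedral
import Cfsg.Agent.Lib.Char.ZStar

/-!
An involution without further conjugate in its centraliser: the group is the centraliser times the odd core.
-/

set_option autoImplicit false

namespace Cfsg.Agent.Spor.CHZ

variable {G : Type*} [Group G] [Finite G] {z : G}

theorem sup_eq_top_of_isolated (hz : orderOf z = 2)
    (hiso : ∀ g : G, Commute z (g * z * g⁻¹) → g * z * g⁻¹ = z) :
    Subgroup.centralizer ({z} : Set G) ⊔ Cfsg.oddCore G = ⊤ := by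
  refine eq_top_iff.mpr fun g _ => ?_
  have z2 : z * z = 1 := by rw [← pow_two, ← hz, pow_orderOf_eq_one]
  have zi : z⁻¹ = z := inv_eq_of_mul_eq_one_right z2
  obtain ⟨y, hy⟩ : ∃ y, y = g * z * g⁻¹ := ⟨_, rfl⟩
  have y2 : y * y = 1 := by rw [hy, show g * z * g⁻¹ * (g * z * g⁻¹) = g * (z * z) * g⁻¹ by group, z2]; group
  have ho : z * y ∈ Cfsg.oddCore G := by
    have h := Char.zStar_isolated ⟨hz, hiso⟩ g
    have h' := (Cfsg.pPrimeCore_normal 2 G).conj_mem _ h 1
    have e : z * g * z⁻¹ * g⁻¹ = z * y := by rw [hy, zi]; group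
    rw [← e]
    exact h
  have hodd : Odd (orderOf (z * y)) := by
    refine Odd.of_dvd_nat (Char.card_oddCore_odd G) ?_
    rw [← Subgroup.orderOf_mk _ ho]
    exact orderOf_dvd_natCard _
  obtain ⟨k, hk⟩ := hodd
  have hh : (z * y) ^ k * z * ((z * y) ^ k)⁻¹ = y := by
    have hm : (z * y) ^ (2 * k) = (z * y)⁻¹ := by
      refine eq_inv_of_mul_eq_one_left ?_
      rw [← pow_succ, ← hk, pow_orderOf_eq_one]
    rw [dih_conj z2 y2, hm, mul_inv_rev, zi, inv_eq_of_mul_eq_one_right y2, mul_assoc, z2, mul_one]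
  rw [show g = (z * y) ^ k * (((z * y) ^ k)⁻¹ * g) by group]
  refine Subgroup.mul_mem _ (Subgroup.mem_sup_right (Subgroup.pow_mem _ ho k)) (Subgroup.mem_sup_left ?_)
  rw [Subgroup.mem_centralizer_singleton_iff]
  have e : g * z = y * g := by rw [hy]; group
  generalize (z * y) ^ k = h at hh
  calc h⁻¹ * g * z = h⁻¹ * (g * z) := by group
    _ = h⁻¹ * (h * z * h⁻¹ * g) := by rw [e, hh]
    _ = z * (h⁻¹ * g) := by group

end Cfsg.Agent.Spor.CHZ
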