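import Cfsg.Agent.Lib.Spor.CHZ.FThreeBuild
import Cfsg.Agent.Lib.Spor.CHZ.FThreeFusion
import Cfsg.Agent.Lib.Spor.CHZ.Isolated
import Cfsg.Agent.Lib.Classical.Frame.Grp
import Cfsg.Agent.Lib.Fusion.Cores

/-!
The fusion of the central involution: the four-groups inside the centre of the two-core, and the involutions whose
centralisers are the local centraliser times an odd core.
-/

set_option autoImplicit false
set_option linter.unusedSectionVars false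

namespace Cfsg.Agent.Spor.CHZ.FThree

open Cfsg.Agent.Spor.SpFour Cfsg.Agent.Small.Unitary

universe w

variable {G : Type w} [Group G]

/-- the involution has no further conjugate under the centraliser of the other one commuting with it -/
def Split (z w : G) : Prop := ∀ x, Commute x w → Commute z (x * z * x⁻¹) → x * z * x⁻¹ = z

theorem Split.move {z w e : G} (h : Split z w) (he : Commute e z) : Split z (e * w * e⁻¹) := by
  intro x hx hz
  have e1 : e⁻¹ * z * e = z := by rw [mul_assoc, ← he.eq, inv_mul_cancel_left]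
  have e2 : e * z * e⁻¹ = z := by rw [he.eq, mul_inv_cancel_right]
  have h' := h (e⁻¹ * x * e) (comm_back hx) (by
    have := comm_conj e⁻¹ hz
    rw [inv_inv, e1] at this
    rwa [show e⁻¹ * x * e * z * (e⁻¹ * x * e)⁻¹ = e⁻¹ * (x * (e * z * e⁻¹) * x⁻¹) * e by group, e2])
  rw [show x * z * x⁻¹ = e * (e⁻¹ * x * e * (e⁻¹ * z * e) * (e⁻¹ * x * e)⁻¹) * e⁻¹ by group, e1, h', e2]

/-- the odd core of the centraliser -/
theorem split_core [Finite G] {z w : G} (hz1 : z ≠ 1) (hz2 : z * z = 1) (hw : Commute z w) (hs : Split z w) :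
    ∃ O : Subgroup G, Odd (Nat.card O) ∧ (∀ n ∈ O, Commute n w) ∧
      (∀ x, Commute x w → ∀ n ∈ O, x * n * x⁻¹ ∈ O) ∧ ∀ x, Commute x w → x * z * x⁻¹ * z⁻¹ ∈ O := by
  obtain ⟨C, hC⟩ : ∃ C : Subgroup G, C = Subgroup.centralizer ({w} : Set G) := ⟨_, rfl⟩
  have hm : ∀ {x}, x ∈ C ↔ Commute x w := fun {x} => by rw [hC, Subgroup.mem_centralizer_singleton_iff]; rfl
  let zC : ↥C := ⟨z, hm.mpr hw⟩
  have hiso : Cfsg.IsIsolatedInvolution zC := by
    refine ⟨orderOf_eq_prime (Subtype.ext (by rw [pow_two]; exact hz2)) fun e => hz1 (congrArg Subtype.val e),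
      fun g hg => ?_⟩
    exact Subtype.ext (hs g.1 (hm.mp g.2) (congrArg Subtype.val hg))
  refine ⟨(Cfsg.oddCore ↥C).map C.subtype, ?_, ?_, ?_, ?_⟩
  · rw [Nat.card_congr (Subgroup.equivMapOfInjective _ _ C.subtype_injective).symm.toEquiv]
    exact Char.card_oddCore_odd _
  · rintro _ ⟨y, -, rfl⟩
    exact hm.mp y.2
  · rintro x hx _ ⟨y, hy, rfl⟩
    exact ⟨⟨x, hm.mpr hx⟩ * y * ⟨x, hm.mpr hx⟩⁻¹, (Cfsg.pPrimeCore_normal 2 ↥C).conj_mem y hy _, rfl⟩
  · intro x hx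
    refine ⟨(zC * ⟨x, hm.mpr hx⟩ * zC⁻¹ * (⟨x, hm.mpr hx⟩ : ↥C)⁻¹)⁻¹,
      inv_mem (Char.zStar_isolated hiso ⟨x, hm.mpr hx⟩), ?_⟩
    show (z * x * z⁻¹ * x⁻¹)⁻¹ = _
    group

/-- the data in the centraliser -/
structure FData (z v1 v2 : G) where
  R : RawF z
  D : FCore z v1 v2
  eQ : D.Q = R.Q
  c1 : R.c * v1 * R.c⁻¹ = v2
  c2 : R.c * v2 * R.c⁻¹ = v1 * v2
  cen : ∀ x ∈ D.Q, (∀ y ∈ D.Q, Commute x y) → InW z (four v1 v2) x

namespace FData

variable [Finite G] {z v1 v2 : G} (F : FData z v1 v2)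
include F

theorem c3 : F.R.c * (v1 * v2) * F.R.c⁻¹ = v1 := by
  rw [show F.R.c * (v1 * v2) * F.R.c⁻¹ = F.R.c * v1 * F.R.c⁻¹ * (F.R.c * v2 * F.R.c⁻¹) by group, F.c1, F.c2,
    ← mul_assoc, ← F.D.v_comm.eq, mul_assoc, F.D.v2_sq, mul_one]

theorem card_Q : Nat.card F.D.Q = 2048 := by rw [F.eQ]; exact F.R.card

theorem self_mem {d : G} (hd : Commute d z) (h : ∀ x ∈ F.D.Q, Commute d x) : d ∈ F.D.Q :=
  F.eQ ▸ F.R.self d hd fun x hx => h x (F.eQ ▸ hx)

/-- an element of the centre of the two-core -/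
theorem central {d : G} (hd : Commute d z) (h : ∀ x ∈ F.D.Q, Commute d x) : InW z (four v1 v2) d :=
  F.cen d (F.self_mem hd h) h

/-- moving an involution of the four-group to the first one -/
theorem rot_v1 {u : G} (hu : u ∈ four v1 v2) (hu1 : u ≠ 1) :
    ∃ e, Commute e z ∧ e * u * e⁻¹ = v1 ∧ (e = 1 ∨ e = F.R.c ∨ e = F.R.c⁻¹) := by
  rcases F.D.four_cases hu hu1 with h | h | h <;> rw [h]
  · exact ⟨1, Commute.one_left z, by group, Or.inl rfl⟩
  · refine ⟨F.R.c⁻¹, F.R.cz.inv_left, ?_, Or.inr (Or.inr rfl)⟩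
    calc F.R.c⁻¹ * v2 * F.R.c⁻¹⁻¹ = F.R.c⁻¹ * (F.R.c * v1 * F.R.c⁻¹) * F.R.c⁻¹⁻¹ := by rw [F.c1]
      _ = v1 := by group
  · exact ⟨F.R.c, F.R.cz, F.c3, Or.inr (Or.inl rfl)⟩

/-- the centraliser is three cosets -/
theorem cosets {d : G} (hd : Commute d z) :
    ∃ e, (e = 1 ∨ e = F.R.c ∨ e = F.R.c⁻¹) ∧ Commute (e * d) z ∧ Commute (e * d) v1 := by
  obtain ⟨e, hez, he, he'⟩ := F.rot_v1 (F.D.perm d hd v1 F.D.v1_mem_four)
    fun h => F.D.v1_ne (conj_eq_one_iff.mp h)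
  refine ⟨e, he', hez.mul_left hd, mul_inv_eq_iff_eq_mul.mp ?_⟩
  rw [show e * d * v1 * (e * d)⁻¹ = e * (d * v1 * d⁻¹) * e⁻¹ by group, he]

/-- the order of the centraliser -/
theorem card_cent (S : Subgroup G) (hS : ∀ x, x ∈ S ↔ Commute x z ∧ Commute x v1) :
    Nat.card (Subgroup.centralizer ({z} : Set G)) = 3 * Nat.card S := by
  have hm : ∀ {x}, x ∈ Subgroup.centralizer ({z} : Set G) ↔ Commute x z := fun {x} =>
    Subgroup.mem_centralizer_singleton_iff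
  let k : Fin 3 → G := ![1, F.R.c, F.R.c⁻¹]
  have hk : ∀ i, Commute (k i) z := fun i => by
    fin_cases i <;> [exact Commute.one_left z; exact F.R.cz; exact F.R.cz.inv_left]
  let f : Fin 3 × ↥S → ↥(Subgroup.centralizer ({z} : Set G)) := fun p =>
    ⟨k p.1 * p.2, hm.mpr ((hk p.1).mul_left ((hS p.2).mp p.2.2).1)⟩
  have hval : ∀ {p : Fin 3 × ↥S}, ((f p : G) * v1 * (f p : G)⁻¹) = k p.1 * v1 * (k p.1)⁻¹ := fun {p} => by
    show k p.1 * (p.2 : G) * v1 * (k p.1 * (p.2 : G))⁻¹ = _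
    rw [mul_assoc (k p.1) (p.2 : G), ((hS p.2).mp p.2.2).2.eq]
    group
  have e0 : k 0 * v1 * (k 0)⁻¹ = v1 := by show (1 : G) * v1 * (1 : G)⁻¹ = v1; group
  have e1 : k 1 * v1 * (k 1)⁻¹ = v2 := F.c1
  have e2 : k 2 * v1 * (k 2)⁻¹ = v1 * v2 := by
    show F.R.c⁻¹ * v1 * F.R.c⁻¹⁻¹ = v1 * v2
    calc F.R.c⁻¹ * v1 * F.R.c⁻¹⁻¹ = F.R.c⁻¹ * (F.R.c * (v1 * v2) * F.R.c⁻¹) * F.R.c⁻¹⁻¹ := by rw [F.c3]
      _ = v1 * v2 := by group
  have h13 : v1 ≠ v1 * v2 := fun e => F.D.v2_ne (mul_eq_left.mp e.symm)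
  have h23 : v2 ≠ v1 * v2 := fun e => F.D.v1_ne (mul_eq_right.mp e.symm)
  have hf : Function.Bijective f := by
    refine ⟨fun p p' h => ?_, fun x => ?_⟩
    · have hkk : k p.1 * v1 * (k p.1)⁻¹ = k p'.1 * v1 * (k p'.1)⁻¹ := by rw [← hval, ← hval, h]
      have hi : p.1 = p'.1 := by
        revert hkk
        generalize p.1 = i
        generalize p'.1 = j
        intro hkk
        fin_cases i <;> fin_cases j <;> first
          | rfl
          | exact absurd (e0.symm.trans (hkk.trans e1)) F.D.v12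
          | exact absurd (e1.symm.trans (hkk.trans e0)) (Ne.symm F.D.v12)
          | exact absurd (e0.symm.trans (hkk.trans e2)) h13
          | exact absurd (e2.symm.trans (hkk.trans e0)) (Ne.symm h13)
          | exact absurd (e1.symm.trans (hkk.trans e2)) h23
          | exact absurd (e2.symm.trans (hkk.trans e1)) (Ne.symm h23)
      have h' : k p.1 * (p.2 : G) = k p'.1 * (p'.2 : G) := congrArg Subtype.val h
      rw [hi, mul_left_cancel_iff] at h'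
      exact Prod.ext hi (Subtype.ext h')
    · obtain ⟨e, he, hez, he1⟩ := F.cosets (hm.mp x.2)
      rcases he with rfl | rfl | rfl
      · exact ⟨(0, ⟨_, (hS _).mpr ⟨hez, he1⟩⟩), Subtype.ext (by show (1 : G) * (1 * (x : G)) = x; group)⟩
      · exact ⟨(2, ⟨_, (hS _).mpr ⟨hez, he1⟩⟩), Subtype.ext (by show F.R.c⁻¹ * (F.R.c * (x : G)) = x; group)⟩
      · exact ⟨(1, ⟨_, (hS _).mpr ⟨hez, he1⟩⟩), Subtype.ext (by show F.R.c * (F.R.c⁻¹ * (x : G)) = x; group)⟩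
  rw [← Nat.card_eq_of_bijective f hf, Nat.card_prod, Nat.card_eq_fintype_card (α := Fin 3), Fintype.card_fin]

theorem mem_Q_of_ker {d : G} (hd : Commute d z) (hd1 : Commute d v1)
    (h : F.R.ψ ⟨d, Subgroup.mem_centralizer_singleton_iff.mpr hd.eq⟩ = 1) : d ∈ F.D.Q := by
  rw [F.eQ]
  obtain ⟨x, hx, e⟩ := (F.R.ψ_ker _).mp h
  have hx1 : Commute x v1 := F.D.cent1 x (F.eQ ▸ hx)
  rcases e with e | e | e
  · exact (show d = x from e) ▸ hx
  · exfalso
    have := hx1.inv_left.mul_left hd1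
    rw [show d = x * F.R.c from e, inv_mul_cancel_left] at this
    exact F.D.v12 (by rw [← F.c1, this.eq, mul_inv_cancel_right])
  · exfalso
    have := hx1.inv_left.mul_left hd1
    rw [show d = x * (F.R.c * F.R.c) from e, inv_mul_cancel_left] at this
    have e' : F.R.c * F.R.c * v1 * (F.R.c * F.R.c)⁻¹ = v1 := by rw [this.eq, mul_inv_cancel_right]
    rw [show F.R.c * F.R.c * v1 * (F.R.c * F.R.c)⁻¹ = F.R.c * (F.R.c * v1 * F.R.c⁻¹) * F.R.c⁻¹ by group, F.c1,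
      F.c2] at e'
    exact F.D.v2_ne (mul_eq_left.mp e')

theorem ψ_surj1 (f : ↥Gam) : ∃ d, ∃ hd : Commute d z, Commute d v1 ∧
    F.R.ψ ⟨d, Subgroup.mem_centralizer_singleton_iff.mpr hd.eq⟩ = f := by
  obtain ⟨d, hd⟩ := F.R.ψ_surj f
  have hdz : Commute (d : G) z := Subgroup.mem_centralizer_singleton_iff.mp d.2
  obtain ⟨e, he, hez, he1⟩ := F.cosets hdz
  refine ⟨_, hez, he1, ?_⟩
  have hec : Commute e z := by
    rcases he with rfl | rfl | rfl
    exacts [Commute.one_left z, F.R.cz, F.R.cz.inv_left]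
  have hk : F.R.ψ ⟨e, Subgroup.mem_centralizer_singleton_iff.mpr hec.eq⟩ = 1 := by
    refine (F.R.ψ_ker _).mpr ⟨1, F.R.Q.one_mem, ?_⟩
    rcases he with rfl | rfl | rfl
    · exact Or.inl rfl
    · exact Or.inr (Or.inl (one_mul _).symm)
    · refine Or.inr (Or.inr ?_)
      show F.R.c⁻¹ = 1 * (F.R.c * F.R.c)
      rw [one_mul]
      exact inv_eq_of_mul_eq_one_right (by rw [← mul_assoc]; exact F.R.c3)
  rw [← hd, show (⟨e * d, Subgroup.mem_centralizer_singleton_iff.mpr hez.eq⟩ :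
    ↥(Subgroup.centralizer ({z} : Set G))) = ⟨e, Subgroup.mem_centralizer_singleton_iff.mpr hec.eq⟩ * d from rfl,
    map_mul, hk, one_mul]

/-- a two-subgroup normalised by the centraliser of the first involution is in the two-core -/
theorem two_le {P : Subgroup G} (hP : IsPGroup 2 P) (hPz : ∀ x ∈ P, Commute x z) (hP1 : ∀ x ∈ P, Commute x v1)
    (hn : ∀ d, Commute d z → Commute d v1 → ∀ x ∈ P, d * x * d⁻¹ ∈ P) : P ≤ F.D.Q := by
  intro x hx
  refine F.mem_Q_of_ker (hPz x hx) (hP1 x hx) ?_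
  obtain ⟨P', hP'⟩ : ∃ P' : Subgroup ↥Gam,
      P' = (P.subgroupOf (Subgroup.centralizer ({z} : Set G))).map F.R.ψ := ⟨_, rfl⟩
  have hn' : P'.Normal := ⟨fun f hf g => by
    rw [hP'] at hf ⊢
    obtain ⟨a, ha, rfl⟩ := hf
    obtain ⟨d, hd, hd1, rfl⟩ := F.ψ_surj1 g
    refine ⟨⟨d, Subgroup.mem_centralizer_singleton_iff.mpr hd.eq⟩ * a *
      (⟨d, Subgroup.mem_centralizer_singleton_iff.mpr hd.eq⟩ : ↥(Subgroup.centralizer ({z} : Set G)))⁻¹,
      hn d hd hd1 _ ha, ?_⟩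
    rw [map_mul, map_mul, map_inv]⟩
  have hbot : P' = ⊥ := two_power_Gam (hP' ▸ (hP.comap_of_injective _ Subtype.val_injective).map _) hn'
  exact Subgroup.mem_bot.mp (hbot ▸ hP' ▸ (⟨⟨x, _⟩, hx, rfl⟩ :
    F.R.ψ ⟨x, Subgroup.mem_centralizer_singleton_iff.mpr (hPz x hx).eq⟩ ∈
      (P.subgroupOf (Subgroup.centralizer ({z} : Set G))).map F.R.ψ))

/-- the involution is a commutator -/
theorem exists_comm : ∃ x ∈ F.D.Q, ∃ y ∈ F.D.Q, x * y * x⁻¹ * y⁻¹ = z := by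
  by_contra hall
  push Not at hall
  have hc : ∀ x ∈ F.D.Q, InW z (four v1 v2) x := fun x hx => F.cen x hx fun y hy =>
    mul_inv_eq_iff_eq_mul.mp (mul_inv_eq_one.mp ((F.D.comm x hx y hy).resolve_right (hall x hx y hy)))
  obtain ⟨y, hy, hyv⟩ := F.D.ν_surj v0
  exact v0_ok.1 (hyv.symm.trans ((F.D.ν_zero y hy).mpr (hc y hy)))

/-- no other element of the centre is conjugate to the involution -/
theorem cls {g : G} (h : InW z (four v1 v2) (g * z * g⁻¹)) : g * z * g⁻¹ = z := by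
  by_contra hne
  obtain ⟨u, hu, e⟩ := h
  have hu1 : u ≠ 1 := by
    rintro rfl
    rcases e with e | e
    · exact F.D.z_ne (conj_eq_one_iff.mp e)
    · exact hne (e.trans (mul_one z))
  obtain ⟨k, hk, hku, -⟩ := F.rot_v1 hu hu1
  obtain ⟨g', hg'⟩ : ∃ g', g' = k * g := ⟨_, rfl⟩
  have hkz : k * z * k⁻¹ = z := by rw [hk.eq, mul_inv_cancel_right]
  obtain ⟨w, hwdef⟩ : ∃ w, w = g' * z * g'⁻¹ := ⟨_, rfl⟩
  have hw : w = v1 ∨ w = z * v1 := by
    rw [hwdef, hg', show k * g * z * (k * g)⁻¹ = k * (g * z * g⁻¹) * k⁻¹ by group]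
    rcases e with e | e <;> rw [e]
    · exact Or.inl hku
    · right; rw [show k * (z * u) * k⁻¹ = k * z * k⁻¹ * (k * u * k⁻¹) by group, hku, hkz]
  have hwne : w ≠ z := by
    rcases hw with e' | e' <;> rw [e']
    · exact Ne.symm F.D.z_out.1
    · exact fun e'' => F.D.v1_ne (mul_eq_left.mp e'')
  have hcw : ∀ {x}, Commute x z → (Commute x w ↔ Commute x v1) := fun {x} hx => by
    rcases hw with e' | e' <;> rw [e']
    · refine ⟨fun h' => ?_, fun h' => hx.mul_right h'⟩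
      have := hx.mul_right h'
      rwa [← mul_assoc, F.D.z2, one_mul] at this
  have hwz : Commute w z := by
    rcases hw with e' | e' <;> rw [e']
    · exact F.D.cent v1 F.D.v1Q
    · exact F.D.cent _ (F.D.Q.mul_mem F.D.zQ F.D.v1Q)
  obtain ⟨K, hK⟩ : ∃ K : Subgroup G, K = Subgroup.centralizer ({w} : Set G) := ⟨_, rfl⟩
  obtain ⟨S, hS⟩ : ∃ S : Subgroup G,
      S = Subgroup.centralizer ({z} : Set G) ⊓ Subgroup.centralizer ({v1} : Set G) := ⟨_, rfl⟩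
  have hSm : ∀ x, x ∈ S ↔ Commute x z ∧ Commute x v1 := fun x => by
    rw [hS, Subgroup.mem_inf, Subgroup.mem_centralizer_singleton_iff, Subgroup.mem_centralizer_singleton_iff]; rfl
  have hKm : ∀ {x}, x ∈ K ↔ Commute x w := fun {x} => by rw [hK, Subgroup.mem_centralizer_singleton_iff]; rfl
  have hSK : S ≤ K := fun x hx => hKm.mpr ((hcw ((hSm x).mp hx).1).mpr ((hSm x).mp hx).2)
  obtain ⟨T, hT⟩ : ∃ T : Subgroup G, T = F.D.Q.map (MulAut.conj g').toMonoidHom := ⟨_, rfl⟩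
  have hTm : ∀ {x}, x ∈ T ↔ g'⁻¹ * x * g' ∈ F.D.Q := fun {x} => by
    rw [hT]
    refine ⟨?_, fun h => ⟨_, h, by simp [mul_assoc]⟩⟩
    rintro ⟨y, hy, rfl⟩
    simpa [mul_assoc] using hy
  have hTn : ∀ x, Commute x w → ∀ y ∈ T, x * y * x⁻¹ ∈ T := fun x hx y hy => by
    rw [hTm] at hy ⊢
    have h1 : Commute (g'⁻¹ * x * g') z := comm_back (hwdef ▸ hx)
    have := F.D.normal _ h1 _ hy
    rwa [show g'⁻¹ * x * g' * (g'⁻¹ * y * g') * (g'⁻¹ * x * g')⁻¹ = g'⁻¹ * (x * y * x⁻¹) * g' by group] at this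
  have hTK : T ≤ K := fun x hx => hKm.mpr (by
    have h' := comm_conj g' (F.D.cent _ (hTm.mp hx))
    rwa [show g' * (g'⁻¹ * x * g') * g'⁻¹ = x by group, ← hwdef] at h')
  have hTcard : Nat.card T = 2048 := by
    rw [hT, Subgroup.card_map_of_injective (MulAut.conj g').injective, F.card_Q]
  haveI hTnorm : (T.subgroupOf K).Normal := ⟨fun n hn x => hTn x (hKm.mp x.2) n hn⟩
  have hdvd := Cfsg.Agent.Fusion.card_sup_dvd (T.subgroupOf K) (S.subgroupOf K)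
  rw [Nat.card_congr (Subgroup.subgroupOfEquivOfLe hTK).toEquiv, Nat.card_congr (Subgroup.subgroupOfEquivOfLe hSK).toEquiv,
    hTcard] at hdvd
  have hKcard : Nat.card K = 3 * Nat.card S := by
    rw [← F.card_cent S hSm, hK, hwdef]
    refine (Nat.card_congr (Equiv.ofBijective (fun x : ↥(Subgroup.centralizer ({z} : Set G)) =>
      (⟨g' * x * g'⁻¹, Subgroup.mem_centralizer_singleton_iff.mpr (comm_conj g'
        (Subgroup.mem_centralizer_singleton_iff.mp x.2 : Commute (x : G) z)).eq⟩ :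
          ↥(Subgroup.centralizer ({g' * z * g'⁻¹} : Set G)))) ⟨fun a b h => ?_, fun y => ?_⟩)).symm
    · exact Subtype.ext (mul_left_cancel (mul_right_cancel (congrArg Subtype.val h)))
    · refine ⟨⟨g'⁻¹ * y * g', Subgroup.mem_centralizer_singleton_iff.mpr
        (comm_back (Subgroup.mem_centralizer_singleton_iff.mp y.2 : Commute (y : G) _)).eq⟩, Subtype.ext ?_⟩
      show g' * (g'⁻¹ * (y : G) * g') * g'⁻¹ = y
      group
  have hle : (T.subgroupOf K) ⊔ (S.subgroupOf K) = S.subgroupOf K := by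
    refine (Subgroup.eq_of_le_of_card_ge le_sup_right (Nat.le_of_dvd Nat.card_pos ?_)).symm
    rw [Nat.card_congr (Subgroup.subgroupOfEquivOfLe hSK).toEquiv]
    have h3 : Nat.card ↥((T.subgroupOf K) ⊔ (S.subgroupOf K)) ∣ 3 * Nat.card S :=
      hKcard ▸ Subgroup.card_subgroup_dvd_card _
    rw [sup_comm] at hdvd
    have := Nat.dvd_gcd hdvd h3
    rwa [mul_comm 3 (Nat.card S), Nat.gcd_mul_left, show Nat.gcd 2048 3 = 1 by norm_num, mul_one] at this
  have hTS : T ≤ S := fun x hx =>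
    (hle ▸ (Subgroup.mem_sup_left (show (⟨x, hTK hx⟩ : ↥K) ∈ T.subgroupOf K from hx)) :
      (⟨x, hTK hx⟩ : ↥K) ∈ S.subgroupOf K)
  have hTQ : T ≤ F.D.Q := F.two_le (IsPGroup.of_card (n := 11) (by rw [hTcard]; norm_num))
    (fun x hx => ((hSm x).mp (hTS hx)).1) (fun x hx => ((hSm x).mp (hTS hx)).2)
    fun d hd hd1 x hx => hTn d ((hcw hd).mpr hd1) x hx
  have hTeq : T = F.D.Q := Subgroup.eq_of_le_of_card_ge hTQ (by rw [hTcard, F.card_Q])
  obtain ⟨x, hx, y, hy, hxy⟩ := F.exists_comm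
  have hin : ∀ {a}, a ∈ F.D.Q → g' * a * g'⁻¹ ∈ F.D.Q := fun {a} ha => hTeq ▸ hTm.mpr (by
    rwa [show g'⁻¹ * (g' * a * g'⁻¹) * g' = a by group])
  have hwQ : w = 1 ∨ w = z := by
    rcases F.D.comm _ (hin hx) _ (hin hy) with e' | e' <;>
      rw [show g' * x * g'⁻¹ * (g' * y * g'⁻¹) * (g' * x * g'⁻¹)⁻¹ * (g' * y * g'⁻¹)⁻¹ =
        g' * (x * y * x⁻¹ * y⁻¹) * g'⁻¹ by group, hxy, ← hwdef] at e'
    exacts [Or.inl e', Or.inr e']
  rcases hwQ with e' | e'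
  · rw [hwdef] at e'
    exact F.D.z_ne (conj_eq_one_iff.mp e')
  · exact hwne e'

/-- no involution of the four-group is conjugate to the involution -/
theorem not_conj_four {g u : G} (hu : u ∈ four v1 v2) : g * u * g⁻¹ ≠ z := fun e => F.D.z_not_four (by
  have hz : g⁻¹ * z * g⁻¹⁻¹ = z := F.cls ⟨u, hu, Or.inl (by rw [← e]; group)⟩
  rw [show z = g⁻¹ * z * g⁻¹⁻¹ from hz.symm, ← e]
  rwa [show g⁻¹ * (g * u * g⁻¹) * g⁻¹⁻¹ = u by group])

/-- the element is centralised by the conjugate of the involution -/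
theorem split_comm {w : G} (hw2 : w * w = 1) (hw : Commute z w) (hs : Split z w) {g : G}
    (ht : Commute (g * z * g⁻¹) z) (hA : Commute (g * w * g⁻¹) z) {x : G} (hx : Commute x z)
    (hxA : Commute x (g * w * g⁻¹)) : Commute x (g * z * g⁻¹) := by
  obtain ⟨O, hodd, hOw, hOn, hOc⟩ := split_core F.D.z_ne F.D.z2 hw hs
  obtain ⟨A, hAdef⟩ : ∃ A, A = g * w * g⁻¹ := ⟨_, rfl⟩
  obtain ⟨t, htdef⟩ : ∃ t, t = g * z * g⁻¹ := ⟨_, rfl⟩
  obtain ⟨n, hn⟩ : ∃ n, n = x * t * x⁻¹ * t⁻¹ := ⟨_, rfl⟩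
  rw [← hAdef] at hA hxA
  rw [← htdef] at ht ⊢
  have hA2 : A * A = 1 := by
    rw [hAdef, show g * w * g⁻¹ * (g * w * g⁻¹) = g * (w * w) * g⁻¹ by group, hw2]; group
  have hfr : ∀ {y}, Commute y A → Commute (g⁻¹ * y * g) w := fun hy => comm_back (hAdef ▸ hy)
  have hnO : g⁻¹ * n * g ∈ O := by
    rw [hn, htdef, show g⁻¹ * (x * (g * z * g⁻¹) * x⁻¹ * (g * z * g⁻¹)⁻¹) * g =
      g⁻¹ * x * g * z * (g⁻¹ * x * g)⁻¹ * z⁻¹ by group]
    exact hOc _ (hfr hxA)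
  have hnz : Commute n z := hn ▸ (((hx.mul_left ht).mul_left hx.inv_left).mul_left ht.inv_left)
  have hnA : Commute n A := by
    have := comm_conj g (hOw _ hnO)
    rwa [show g * (g⁻¹ * n * g) * g⁻¹ = n by group, ← hAdef] at this
  have hnodd : Odd (orderOf n) := by
    rw [show orderOf n = orderOf (g⁻¹ * n * g) from by
      rw [show g⁻¹ * n * g = MulAut.conj g⁻¹ n by simp [mul_assoc]]
      exact (MulEquiv.orderOf_eq (MulAut.conj g⁻¹) n).symm]
    exact Odd.of_dvd_nat hodd (Subgroup.orderOf_dvd_natCard O hnO)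
  -- the part of the two-core commuting with the conjugate
  have hC : ∀ j ∈ F.D.Q, Commute j A → Commute n j := by
    intro j hj hjA
    refine mul_inv_eq_iff_eq_mul.mp (mul_inv_eq_one.mp ?_)
    obtain ⟨o, ho⟩ : ∃ o, o = n * j * n⁻¹ * j⁻¹ := ⟨_, rfl⟩
    rw [← ho]
    have hoQ : o ∈ F.D.Q := ho ▸ F.D.Q.mul_mem (F.D.normal n hnz j hj) (F.D.Q.inv_mem hj)
    have hoO : g⁻¹ * o * g ∈ O := by
      rw [ho, show g⁻¹ * (n * j * n⁻¹ * j⁻¹) * g =
        g⁻¹ * n * g * (g⁻¹ * j * g * (g⁻¹ * n * g)⁻¹ * (g⁻¹ * j * g)⁻¹) by group]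
      exact O.mul_mem hnO (hOn _ (hfr hjA) _ (O.inv_mem hnO))
    have h1 : orderOf o ∣ Nat.card O := by
      rw [show orderOf o = orderOf (g⁻¹ * o * g) from by
        rw [show g⁻¹ * o * g = MulAut.conj g⁻¹ o by simp [mul_assoc]]
        exact (MulEquiv.orderOf_eq (MulAut.conj g⁻¹) o).symm]
      exact Subgroup.orderOf_dvd_natCard O hoO
    have h2 : orderOf o ∣ 2048 := F.card_Q ▸ Subgroup.orderOf_dvd_natCard F.D.Q hoQ
    refine orderOf_eq_one_iff.mp (Nat.eq_one_of_dvd_coprimes ?_ h1 h2)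
    exact Nat.Coprime.pow_right 11 (Nat.coprime_two_right.mpr hodd)
  -- a fixed involution of the four-group
  obtain ⟨u, hu, hu1, hAu⟩ : ∃ u ∈ four v1 v2, u ≠ 1 ∧ Commute A u := by
    have hAi : A⁻¹ = A := inv_eq_of_mul_eq_one_right hA2
    have back : ∀ {a b : G}, A * a * A⁻¹ = b → A * b * A⁻¹ = a := fun {a b} h => by
      rw [← h, show A * (A * a * A⁻¹) * A⁻¹ = A * A * a * (A * A)⁻¹ by group, hA2]; group
    rcases F.D.four_cases (F.D.perm A hA v1 F.D.v1_mem_four) (fun h => F.D.v1_ne (conj_eq_one_iff.mp h)) with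
      e | e | e
    · exact ⟨v1, F.D.v1_mem_four, F.D.v1_ne, mul_inv_eq_iff_eq_mul.mp e⟩
    · refine ⟨v1 * v2, F.D.v3_mem_four, F.D.v3_ne, mul_inv_eq_iff_eq_mul.mp ?_⟩
      rw [show A * (v1 * v2) * A⁻¹ = A * v1 * A⁻¹ * (A * v2 * A⁻¹) by group, e, back e, ← F.D.v_comm.eq]
    · refine ⟨v2, F.D.v2_mem_four, F.D.v2_ne, mul_inv_eq_iff_eq_mul.mp ?_⟩
      have e' := back e
      rw [show A * (v1 * v2) * A⁻¹ = A * v1 * A⁻¹ * (A * v2 * A⁻¹) by group, e] at e'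
      calc A * v2 * A⁻¹ = (v1 * v2)⁻¹ * (v1 * v2 * (A * v2 * A⁻¹)) := by group
        _ = v2 := by
          rw [e', inv_eq_of_mul_eq_one_right (F.D.four_sq F.D.v3_mem_four), F.D.v_comm.eq, mul_assoc,
            F.D.v1_sq, mul_one]
  obtain ⟨u', D', hfour, hQ'⟩ := F.D.exists_rot hu hu1
  have hnu : Commute n u := hC u (F.D.four_Q hu) hAu.symm
  have hnu' : Commute n u' := by
    have hmem : u' ∈ four v1 v2 := hfour ▸ D'.v2_mem_four
    have hstep : ∀ {m}, Commute m z → Commute m u → m * u' * m⁻¹ = u' ∨ m * u' * m⁻¹ = u * u' := by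
      intro m hm hmu
      rcases D'.four_cases (D'.perm m hm u' D'.v2_mem_four) (fun h => D'.v2_ne (conj_eq_one_iff.mp h)) with
        e | e | e
      · exfalso
        apply D'.v12
        rw [show u' = m⁻¹ * (m * u' * m⁻¹) * m by group, e, mul_assoc, ← hmu.eq, inv_mul_cancel_left]
      · exact Or.inl e
      · exact Or.inr e
    obtain ⟨k, hk⟩ := hnodd
    have hroot : n ^ (k + 1) * n ^ (k + 1) = n := by
      rw [← pow_add, show k + 1 + (k + 1) = 2 * k + 1 + 1 by omega, pow_succ, ← hk, pow_orderOf_eq_one, one_mul]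
    refine mul_inv_eq_iff_eq_mul.mp ?_
    rw [← hroot, show n ^ (k + 1) * n ^ (k + 1) * u' * (n ^ (k + 1) * n ^ (k + 1))⁻¹ =
      n ^ (k + 1) * (n ^ (k + 1) * u' * (n ^ (k + 1))⁻¹) * (n ^ (k + 1))⁻¹ by group]
    rcases hstep (hnz.pow_left (k + 1)) (hnu.pow_left (k + 1)) with e | e <;> rw [e]
    · exact e
    · rw [show n ^ (k + 1) * (u * u') * (n ^ (k + 1))⁻¹ =
        n ^ (k + 1) * u * (n ^ (k + 1))⁻¹ * (n ^ (k + 1) * u' * (n ^ (k + 1))⁻¹) by group, e,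
        (hnu.pow_left (k + 1)).eq, mul_inv_cancel_right, ← mul_assoc, D'.v1_sq, one_mul]
  have h1 : n = 1 := FCore.odd_fix D' hA hAu hA2 hnz hnu hnu' hnodd hnA fun j hj hjA => hC j (hQ' ▸ hj) hjA
  rw [h1] at hn
  exact mul_inv_eq_iff_eq_mul.mp (mul_inv_eq_one.mp hn.symm)

/-- a conjugate commuting with the two-core -/
theorem eq_of_central {g : G} (ht : Commute (g * z * g⁻¹) z) (h : ∀ q ∈ F.D.Q, Commute (g * z * g⁻¹) q) :
    g * z * g⁻¹ = z := F.cls (F.central ht h)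

theorem split_all {u : G} (hu : u ∈ four v1 v2) (hu1 : u ≠ 1) :
    (Split z v1 → Split z u) ∧ (Split z (z * v1) → Split z (z * u)) := by
  obtain ⟨e, he, heu, -⟩ := F.rot_v1 hu hu1
  have key : u = e⁻¹ * v1 * e⁻¹⁻¹ := by rw [← heu]; group
  have key2 : z * u = e⁻¹ * (z * v1) * e⁻¹⁻¹ := by
    rw [show e⁻¹ * (z * v1) * e⁻¹⁻¹ = e⁻¹ * z * e * (e⁻¹ * v1 * e⁻¹⁻¹) by group, ← key, mul_assoc e⁻¹, ← he.eq,
      inv_mul_cancel_left]
  exact ⟨fun h => key ▸ h.move he.inv_left, fun h => key2 ▸ h.move he.inv_left⟩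

theorem zu_sq {u : G} (hu : u ∈ four v1 v2) : z * u * (z * u) = 1 := F.D.W_sq ⟨u, hu, Or.inr rfl⟩

theorem cl_of_split (hd : Split z (z * v1)) : ∀ g u, u ∈ four v1 v2 → u ≠ 1 → Commute (g * z * g⁻¹) z →
    Commute (g * (z * u) * g⁻¹) z → ∀ x, Commute x z → Commute x (g * (z * u) * g⁻¹) →
    Commute x (g * z * g⁻¹) := fun _ u hu hu1 h1 h2 _ hx hxB =>
  F.split_comm (F.zu_sq hu) ((F.D.cent _ (F.D.Q.mul_mem F.D.zQ (F.D.four_Q hu))).symm)
    ((F.split_all hu hu1).2 hd) h1 h2 hx hxB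

/-- both split -/
theorem hyp_split (hv : Split z v1) (hd : Split z (z * v1)) : FHyp z (four v1 v2) where
  cls _ h := F.cls h
  cl := F.cl_of_split hd
  norm g u hu hu1 h1 h2 x hx hxA y hy := by
    have hxt := F.split_comm (F.D.four_sq hu) (F.D.four_z hu).symm ((F.split_all hu hu1).1 hv) h1 h2 hx hxA
    rw [mem_cj, show g⁻¹ * (x * (g * y * g⁻¹) * x⁻¹) * g = g⁻¹ * x * g * y * (g⁻¹ * x * g)⁻¹ by group]
    exact F.D.perm _ (comm_back hxt) y hy
  meet g u hu hu1 h1 h2 y hy := by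
    have hA : Commute (g * u * g⁻¹) z := F.D.cent _ (F.D.W_mem h2)
    have ht := F.eq_of_central h1 fun q hq => (F.split_comm (F.D.four_sq hu) (F.D.four_z hu).symm
      ((F.split_all hu hu1).1 hv) h1 hA (F.D.cent q hq) (F.D.W_comm_Q h2 hq)).symm
    exact F.D.perm g (mul_inv_eq_iff_eq_mul.mp ht) y hy

theorem isolated (hv : Split z v1) (hd : Split z (z * v1)) (g : G) (hg : Commute z (g * z * g⁻¹)) :
    g * z * g⁻¹ = z := by
  have hP := F.D.good (F.hyp_split hv hd) g hg.symm v1 F.D.v1_mem_four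
  have hW : InW z (four v1 v2) (g * v1 * g⁻¹) := ⟨_, hP, Or.inl rfl⟩
  exact F.eq_of_central hg.symm fun q hq => (F.split_comm F.D.v1_sq (F.D.four_z F.D.v1_mem_four).symm hv hg.symm
    (F.D.four_z hP) (F.D.cent q hq) (F.D.W_comm_Q hW hq)).symm

/-- a four-group normalised by the local centraliser -/
theorem four_in_W {w a : G} (hw : w = v1 ∨ w = z * v1) (ha2 : a * a = 1) (haw : Commute a w)
    (hn : ∀ d, Commute d z → Commute d v1 → d * a * d⁻¹ = a ∨ d * a * d⁻¹ = w * a) : InW z (four v1 v2) a := by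
  have hwW : InW z (four v1 v2) w := by
    rcases hw with e | e <;> rw [e]
    exacts [⟨v1, F.D.v1_mem_four, Or.inl rfl⟩, ⟨v1, F.D.v1_mem_four, Or.inr rfl⟩]
  have hw2 := F.D.W_sq hwW
  have hwd : ∀ {d}, Commute d z → Commute d v1 → Commute d w := fun hd hd1 => by
    rcases hw with rfl | rfl
    exacts [hd1, hd.mul_right hd1]
  have haz : Commute a z := by
    obtain ⟨x, hx, y, hy, hxy⟩ := F.exists_comm
    have h := four_move_simple (v2 := a) hw2 (hwd (F.D.cent x hx) (F.D.cent1 x hx))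
      (hwd (F.D.cent y hy) (F.D.cent1 y hy)) (hn x (F.D.cent x hx) (F.D.cent1 x hx))
      (hn y (F.D.cent y hy) (F.D.cent1 y hy))
    rw [hxy] at h
    exact h.symm
  have ha1 : Commute a v1 := by
    rcases hw with rfl | rfl
    · exact haw
    · have := haz.mul_right haw
      rwa [← mul_assoc, F.D.z2, one_mul] at this
  let P : Subgroup G :=
    { carrier := four w a
      one_mem' := Or.inl rfl
      mul_mem' := fun hp hq => four_closed hw2 ha2 haw.symm hp hq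
      inv_mem' := fun {p} hp => (four_inv_eq hw2 ha2 haw.symm hp).symm ▸ hp }
  have hP : IsPGroup 2 P := fun p => ⟨1, by
    rw [pow_one, pow_two]
    exact Subtype.ext (by
      have := four_inv_eq hw2 ha2 haw.symm p.2
      calc (p : G) * p = (p : G)⁻¹ * p := by rw [this]
        _ = 1 := inv_mul_cancel _)⟩
  have hcomm : ∀ p ∈ P, Commute p z ∧ Commute p v1 := by
    have hwz : Commute w z := F.D.cent w (F.D.W_mem hwW)
    have hw1 : Commute w v1 := F.D.cent1 w (F.D.W_mem hwW)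
    rintro p (rfl | rfl | rfl | rfl)
    exacts [⟨Commute.one_left z, Commute.one_left v1⟩, ⟨hwz, hw1⟩, ⟨haz, ha1⟩,
      ⟨hwz.mul_left haz, hw1.mul_left ha1⟩]
  have haQ : a ∈ F.D.Q := F.two_le hP (fun p hp => (hcomm p hp).1) (fun p hp => (hcomm p hp).2)
    (fun d hd hd1 p hp => by
      have hwf : d * w * d⁻¹ = w := by rw [(hwd hd hd1).eq, mul_inv_cancel_right]
      have haP : d * a * d⁻¹ ∈ P := by
        rcases hn d hd hd1 with e | e <;> rw [e]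
        exacts [Or.inr (Or.inr (Or.inl rfl)), Or.inr (Or.inr (Or.inr rfl))]
      rcases hp with rfl | rfl | rfl | rfl
      · rw [mul_one, mul_inv_cancel]; exact P.one_mem
      · rw [hwf]; exact Or.inr (Or.inl rfl)
      · exact haP
      · rw [show d * (w * a) * d⁻¹ = d * w * d⁻¹ * (d * a * d⁻¹) by group, hwf]
        exact P.mul_mem (Or.inr (Or.inl rfl)) haP) (Or.inr (Or.inr (Or.inl rfl)))
  refine F.cen a haQ fun y hy => ?_
  rcases hn y (F.D.cent y hy) (F.D.cent1 y hy) with e | e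
  · exact (mul_inv_eq_iff_eq_mul.mp e : Commute y a).symm
  · exfalso
    have h := F.D.comm y hy a haQ
    rw [e, mul_inv_cancel_right] at h
    rcases hw with rfl | rfl <;> rcases h with h | h
    · exact F.D.v1_ne h
    · exact F.D.z_out.1 h.symm
    · exact F.D.z_out.1 ((mul_eq_one_iff_eq_inv.mp h).trans (inv_eq_of_mul_eq_one_right F.D.v1_sq))
    · exact F.D.v1_ne (mul_eq_left.mp h)

/-- none for the other involutions -/
theorem no_four {a : G} (ha2 : a * a = 1) (haw : Commute a (z * v1)) (hn1 : a ≠ 1) (hnz : a ≠ z)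
    (hnw : a ≠ z * v1) (hnv : a ≠ v1)
    (hn : ∀ d, Commute d z → Commute d v1 → d * a * d⁻¹ = a ∨ d * a * d⁻¹ = z * v1 * a) : False := by
  obtain ⟨p, hp, he⟩ := F.four_in_W (Or.inr rfl) ha2 haw hn
  obtain ⟨h, hhz, hh1, hh2⟩ := F.D.swap
  have hh3 : h * (v1 * v2) * h⁻¹ = v2 := by
    rw [show h * (v1 * v2) * h⁻¹ = h * v1 * h⁻¹ * (h * v2 * h⁻¹) by group, hh1.eq, mul_inv_cancel_right, hh2,
      ← mul_assoc, F.D.v1_sq, one_mul]
  obtain ⟨e, hhe, he1, hae⟩ : ∃ e, Commute h e ∧ Commute v1 e ∧ a = e * p := by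
    rcases he with e | e
    · exact ⟨1, Commute.one_right h, Commute.one_right v1, by rw [one_mul]; exact e⟩
    · exact ⟨z, hhz, F.D.four_z F.D.v1_mem_four, e⟩
  have hp1 : p ≠ 1 := fun e' => by
    rcases he with e | e
    · exact hn1 (e.trans e')
    · exact hnz (by rw [e, e', mul_one])
  have hp2 : h * p * h⁻¹ = v1 * p := by
    rcases F.D.four_cases hp hp1 with hq | hq | hq
    · exfalso
      rw [hq] at he
      exact he.elim hnv hnw
    · rw [hq, hh2]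
    · rw [hq, hh3, ← mul_assoc, F.D.v1_sq, one_mul]
  have hconj : h * a * h⁻¹ = e * (v1 * p) := by
    rw [hae, show h * (e * p) * h⁻¹ = h * e * h⁻¹ * (h * p * h⁻¹) by group, hhe.eq, mul_inv_cancel_right, hp2]
  rcases hn h hhz hh1 with e' | e' <;> rw [hconj, hae] at e'
  · exact F.D.v1_ne (mul_eq_right.mp (mul_left_cancel e'))
  · rw [← mul_assoc e v1 p, ← he1.eq, mul_assoc v1 e p] at e'
    exact F.D.z_ne (mul_eq_right.mp (mul_right_cancel e').symm)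

/-- the elements normalising the four-group -/
def NP : Subgroup G := (fun _ : FData z v1 v2 =>
  { carrier := {x | ∀ y ∈ four v1 v2, x * y * x⁻¹ ∈ four v1 v2}
    one_mem' := fun y hy => by simpa using hy
    mul_mem' := fun {a b} ha hb y hy => by
      rw [show a * b * y * (a * b)⁻¹ = a * (b * y * b⁻¹) * a⁻¹ by group]
      exact ha _ (hb y hy)
    inv_mem' := fun {a} ha y hy => by rw [inv_inv]; exact four_back ha y hy }) F

theorem mem_NP {x : G} : x ∈ F.NP ↔ ∀ y ∈ four v1 v2, x * y * x⁻¹ ∈ four v1 v2 := Iff.rfl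

theorem cent_le_NP {x : G} (hx : Commute x z) : x ∈ F.NP := F.D.perm x hx

section

variable (hM : ∀ x, Commute x v1 → x ∈ F.NP) (hd : Split z (z * v1))
include hM

theorem cent_u {u x : G} (hu : u ∈ four v1 v2) (hu1 : u ≠ 1) (hx : Commute x u) : x ∈ F.NP := by
  obtain ⟨e, he, heu, -⟩ := F.rot_v1 hu hu1
  have := hM (e * x * e⁻¹) (heu ▸ comm_conj e hx)
  rw [show x = e⁻¹ * (e * x * e⁻¹) * e by group]
  exact F.NP.mul_mem (F.NP.mul_mem (F.cent_le_NP he.inv_left) this) (F.cent_le_NP he)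

/-- the two kinds of involutions are not conjugate -/
theorem d_not_v {g u p : G} (hu : u ∈ four v1 v2) (hu1 : u ≠ 1) (hp : p ∈ four v1 v2) (hp1 : p ≠ 1) :
    g * u * g⁻¹ ≠ z * p := by
  intro e
  obtain ⟨a, ha, hau, -⟩ := F.rot_v1 hu hu1
  obtain ⟨b, hb, hbp, -⟩ := F.rot_v1 hp hp1
  obtain ⟨k, hk⟩ : ∃ k, k = b * g * a⁻¹ := ⟨_, rfl⟩
  have hk1 : k * v1 * k⁻¹ = z * v1 := by
    rw [hk, ← hau, show b * g * a⁻¹ * (a * u * a⁻¹) * (b * g * a⁻¹)⁻¹ = b * (g * u * g⁻¹) * b⁻¹ by group, e,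
      show b * (z * p) * b⁻¹ = b * z * b⁻¹ * (b * p * b⁻¹) by group, hb.eq, mul_inv_cancel_right, hau, hbp]
  refine F.no_four (a := k * v2 * k⁻¹) ?_ (hk1 ▸ comm_conj k F.D.v_comm.symm)
    (fun h => F.D.v2_ne (conj_eq_one_iff.mp h)) (F.not_conj_four F.D.v2_mem_four)
    (fun h => F.D.v12 (mul_left_cancel (mul_right_cancel (hk1.trans h.symm))))
    (fun h => ?_) fun d hdz hd1 => ?_
  · rw [show k * v2 * k⁻¹ * (k * v2 * k⁻¹) = k * (v2 * v2) * k⁻¹ by group, F.D.v2_sq]; group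
  · exact F.not_conj_four (g := k) F.D.v3_mem_four (by
      rw [show k * (v1 * v2) * k⁻¹ = k * v1 * k⁻¹ * (k * v2 * k⁻¹) by group, hk1, h, mul_assoc, F.D.v1_sq, mul_one])
  · have hc : Commute (k⁻¹ * d * k) v1 := comm_back (hk1 ▸ hdz.mul_right hd1)
    have e' : d * (k * v2 * k⁻¹) * d⁻¹ = k * (k⁻¹ * d * k * v2 * (k⁻¹ * d * k)⁻¹) * k⁻¹ := by group
    rcases F.D.four_cases (hM _ hc v2 F.D.v2_mem_four) (fun h => F.D.v2_ne (conj_eq_one_iff.mp h)) with
      h | h | h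
    · exfalso
      apply F.D.v12
      rw [show v2 = (k⁻¹ * d * k)⁻¹ * (k⁻¹ * d * k * v2 * (k⁻¹ * d * k)⁻¹) * (k⁻¹ * d * k) by group, h,
        mul_assoc, ← hc.eq, inv_mul_cancel_left]
    · left; rw [e', h]
    · right; rw [e', h, ← hk1]; group

theorem hyp_four (hd : Split z (z * v1)) : FHyp z (four v1 v2) where
  cls _ h := F.cls h
  cl := F.cl_of_split hd
  norm g u hu hu1 h1 h2 x hx hxA y hy := by
    rw [mem_cj, show g⁻¹ * (x * (g * y * g⁻¹) * x⁻¹) * g = g⁻¹ * x * g * y * (g⁻¹ * x * g)⁻¹ by group]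
    exact F.cent_u hM hu hu1 (comm_back hxA) y hy
  meet g u hu hu1 h1 h2 := by
    obtain ⟨p, hp, e⟩ := h2
    have hp1 : p ≠ 1 := by
      rintro rfl
      rcases e with e | e
      exacts [hu1 (conj_eq_one_iff.mp e), F.not_conj_four hu (e.trans (mul_one z))]
    have e' : g * u * g⁻¹ = p := e.resolve_right (F.d_not_v hM hu hu1 hp hp1)
    obtain ⟨a, ha, hau, -⟩ := F.rot_v1 hu hu1
    obtain ⟨b, hb, hbp, -⟩ := F.rot_v1 hp hp1
    have hk : b * g * a⁻¹ ∈ F.NP := hM _ (mul_inv_eq_iff_eq_mul.mp (by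
      rw [← hau, show b * g * a⁻¹ * (a * u * a⁻¹) * (b * g * a⁻¹)⁻¹ = b * (g * u * g⁻¹) * b⁻¹ by group, e', hbp,
        hau]))
    have hg : g ∈ F.NP := by
      rw [show g = b⁻¹ * (b * g * a⁻¹) * a by group]
      exact F.NP.mul_mem (F.NP.mul_mem (F.cent_le_NP hb.inv_left) hk) (F.cent_le_NP ha)
    exact hg

include hd

theorem good_NP {g : G} (hg : Commute (g * z * g⁻¹) z) : g ∈ F.NP := F.D.good (F.hyp_four hM hd) g hg

/-- the centralisers of the other involutions -/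
theorem cent_d {p x : G} (hp : p ∈ four v1 v2) (hp1 : p ≠ 1) (hx : Commute x (z * p)) : x ∈ F.NP := by
  have hsd := (F.split_all hp hp1).2 hd
  have hzd : Commute z (z * p) := (F.D.cent _ (F.D.Q.mul_mem F.D.zQ (F.D.four_Q hp))).symm
  obtain ⟨O, hodd, hOw, hOn, hOc⟩ := split_core F.D.z_ne F.D.z2 hzd hsd
  have hvd : ∀ {u}, u ∈ four v1 v2 → Commute u (z * p) := fun hu =>
    (F.D.four_z hu).mul_right (F.D.Q_four (F.D.four_Q hu) hp)
  have hO : O ≤ F.NP := Classical.Frame.le_of_four hodd F.D.v1_sq F.D.v2_sq F.D.v_comm.eq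
    (hOn v1 (hvd F.D.v1_mem_four)) (hOn v2 (hvd F.D.v2_mem_four))
    (fun y _ h => hM y (show Commute y v1 from h.symm))
    (fun y _ h => F.cent_u hM F.D.v2_mem_four F.D.v2_ne (show Commute y v2 from h.symm))
    (fun y _ h => F.cent_u hM F.D.v3_mem_four F.D.v3_ne (show Commute y (v1 * v2) from h.symm))
  obtain ⟨n, hn⟩ : ∃ n, n = x * z * x⁻¹ * z⁻¹ := ⟨_, rfl⟩
  have hnO : n ∈ O := hn ▸ hOc x hx
  obtain ⟨k, hk⟩ := Classical.Frame.exists_root hodd hnO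
  have hzn : z * n * z⁻¹ = n⁻¹ := by
    rw [hn, F.D.z_inv, show (x * z * x⁻¹ * z)⁻¹ = z⁻¹ * (x * z⁻¹ * x⁻¹) by group, F.D.z_inv,
      show z * (x * z * x⁻¹ * z) * z = z * (x * z * x⁻¹) * (z * z) by group, F.D.z2, mul_one]
  have hzy : z * n ^ k * z⁻¹ = (n ^ k)⁻¹ := by rw [← conj_pow, hzn, inv_pow]
  have hy : Commute ((n ^ k)⁻¹ * x) z := by
    refine mul_inv_eq_iff_eq_mul.mp ?_
    calc (n ^ k)⁻¹ * x * z * ((n ^ k)⁻¹ * x)⁻¹ = (n ^ k)⁻¹ * (x * z * x⁻¹ * z⁻¹) * (z * n ^ k * z⁻¹) * z := by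
          group
      _ = (n ^ k)⁻¹ * (n ^ k * n ^ k) * (n ^ k)⁻¹ * z := by rw [hzy, ← hn, hk]
      _ = z := by group
  rw [show x = n ^ k * ((n ^ k)⁻¹ * x) by group]
  exact F.NP.mul_mem (hO (O.pow_mem hnO k)) (F.cent_le_NP hy)

/-- involutions of the normaliser move into the centraliser -/
theorem into_cent {t : G} (ht : t ∈ F.NP) (ht2 : t * t = 1) : ∃ m ∈ F.NP, Commute (m * t * m⁻¹) z := by
  haveI : Fact (Nat.Prime 2) := ⟨Nat.prime_two⟩
  obtain ⟨C, hC⟩ : ∃ C : Subgroup G, C = Subgroup.centralizer ({z} : Set G) := ⟨_, rfl⟩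
  have hCm : ∀ {x}, x ∈ C ↔ Commute x z := fun {x} => by rw [hC, Subgroup.mem_centralizer_singleton_iff]; rfl
  obtain ⟨S0⟩ : Nonempty (Sylow 2 ↥C) := inferInstance
  obtain ⟨S, hS⟩ : ∃ S : Subgroup G, S = (S0 : Subgroup ↥C).map C.subtype := ⟨_, rfl⟩
  have hS2 : IsPGroup 2 S := hS ▸ S0.2.map _
  have hSC : S ≤ C := hS ▸ Subgroup.map_subtype_le _
  have hQS : F.D.Q ≤ S := fun q hq => by
    have hn : (F.D.Q.subgroupOf C).Normal := ⟨fun n hn x => F.D.normal x (hCm.mp x.2) n hn⟩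
    have h2 : IsPGroup 2 (F.D.Q.subgroupOf C) :=
      (IsPGroup.of_card (n := 11) (by rw [F.card_Q]; norm_num) : IsPGroup 2 F.D.Q).comap_of_injective _
        Subtype.val_injective
    have hle : F.D.Q.subgroupOf C ≤ (S0 : Subgroup ↥C) :=
      (Cfsg.Agent.Fusion.le_pCore (hn := hn) h2).trans (Cfsg.Agent.Fusion.pCore_le_sylow S0)
    exact hS ▸ ⟨⟨q, hCm.mpr (F.D.cent q hq)⟩, hle hq, rfl⟩
  obtain ⟨T, hT⟩ := hS2.exists_le_sylow
  have hST : (T : Subgroup G) = S := by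
    by_contra hne
    haveI : Group.IsNilpotent (T : Subgroup G) := T.2.isNilpotent
    have hlt : S.subgroupOf T < ⊤ := lt_top_iff_ne_top.mpr fun h => hne
      (le_antisymm (Subgroup.subgroupOf_eq_top.mp h) hT)
    obtain ⟨n, hnN, hnS⟩ := SetLike.exists_of_lt (normalizerCondition_of_isNilpotent _ hlt)
    rw [Subgroup.mem_normalizer_iff] at hnN
    have hnS' : ∀ s ∈ S, (n : G) * s * (n : G)⁻¹ ∈ S := fun s hs => (hnN ⟨s, hT hs⟩).mp hs
    have hzS : z ∈ S := hQS F.D.zQ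
    have hzc : ∀ s ∈ S, Commute ((n : G) * z * (n : G)⁻¹) s := fun s hs => by
      have this : (n : G)⁻¹ * s * n ∈ S := (hnN ((n : ↥(T : Subgroup G))⁻¹ * ⟨s, hT hs⟩ * n)).mpr (by
        show (n : G) * ((n : G)⁻¹ * s * n) * (n : G)⁻¹ ∈ S
        rwa [show (n : G) * ((n : G)⁻¹ * s * n) * (n : G)⁻¹ = s by group])
      have h2 := comm_conj (n : G) (hCm.mp (hSC this)).symm
      rwa [show (n : G) * ((n : G)⁻¹ * s * n) * (n : G)⁻¹ = s by group] at h2
    have hnz : Commute (n : G) z := mul_inv_eq_iff_eq_mul.mp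
      (F.eq_of_central (hzc z hzS) fun q hq => hzc q (hQS hq))
    apply hnS
    -- the larger two-group lies in the centraliser
    obtain ⟨U, hU⟩ : ∃ U : Subgroup ↥C, U = ((T : Subgroup G) ⊓ C).subgroupOf C := ⟨_, rfl⟩
    have hU2 : IsPGroup 2 U := hU ▸ ((T.2).to_le inf_le_left).comap_of_injective _ Subtype.val_injective
    have hle : (S0 : Subgroup ↥C) ≤ U := fun s hs => hU ▸ ⟨hT (hS ▸ ⟨s, hs, rfl⟩), s.2⟩
    have hUS : U = (S0 : Subgroup ↥C) := S0.3 hU2 hle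
    have hmem : (⟨(n : G), hCm.mpr hnz⟩ : ↥C) ∈ U := hU ▸ ⟨n.2, hCm.mpr hnz⟩
    rw [hUS] at hmem
    exact hS ▸ ⟨_, hmem, rfl⟩
  have hle : (T : Subgroup G) ≤ F.NP := hST ▸ fun s hs => F.cent_le_NP (hCm.mp (hSC hs))
  have hz2 : IsPGroup 2 (Subgroup.zpowers (⟨t, ht⟩ : ↥F.NP)) := by
    rintro ⟨_, j, rfl⟩
    refine ⟨1, Subtype.ext ?_⟩
    show ((⟨t, ht⟩ : ↥F.NP) ^ j) ^ (2 ^ 1) = 1
    rw [pow_one, ← zpow_natCast, ← zpow_mul, mul_comm, zpow_mul, zpow_natCast,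
      show (⟨t, ht⟩ : ↥F.NP) ^ 2 = 1 from Subtype.ext (by rw [pow_two]; exact ht2), one_zpow]
  obtain ⟨P, hP⟩ := hz2.exists_le_sylow
  obtain ⟨m, hm⟩ := MulAction.exists_smul_eq ↥F.NP P (T.subtype hle)
  refine ⟨m, m.2, ?_⟩
  have h : m * ⟨t, ht⟩ * m⁻¹ ∈ (T.subtype hle : Subgroup ↥F.NP) := by
    rw [← hm]
    exact ⟨⟨t, ht⟩, hP (Subgroup.mem_zpowers _), rfl⟩
  exact hCm.mp (hSC (hST ▸ h))

theorem beta {g : G} (hg : g * z * g⁻¹ ∈ F.NP) : g ∈ F.NP := by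
  obtain ⟨m, hm, hmz⟩ := F.into_cent hM hd hg (by
    rw [show g * z * g⁻¹ * (g * z * g⁻¹) = g * (z * z) * g⁻¹ by group, F.D.z2]; group)
  have := F.good_NP hM hd (g := m * g) (by
    rwa [show m * g * z * (m * g)⁻¹ = m * (g * z * g⁻¹) * m⁻¹ by group])
  exact (Subgroup.mul_mem_cancel_left _ hm).mp this

theorem alpha {g : G} (hg : g * v1 * g⁻¹ ∈ F.NP) : g ∈ F.NP := by
  obtain ⟨m, hm, hmz⟩ := F.into_cent hM hd hg (by
    rw [show g * v1 * g⁻¹ * (g * v1 * g⁻¹) = g * (v1 * v1) * g⁻¹ by group, F.D.v1_sq]; group)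
  rw [show m * (g * v1 * g⁻¹) * m⁻¹ = m * g * v1 * (m * g)⁻¹ by group] at hmz
  obtain ⟨k, hk⟩ : ∃ k, k = m * g := ⟨_, rfl⟩
  rw [← hk] at hmz
  have h1 : k⁻¹ * z * k⁻¹⁻¹ ∈ F.NP := by
    refine hM _ ?_
    rw [inv_inv]
    exact comm_back hmz.symm
  have := F.NP.inv_mem (F.beta hM hd h1)
  rw [inv_inv, hk] at this
  exact (Subgroup.mul_mem_cancel_left _ hm).mp this

/-- the four-group is normal -/
theorem NP_top (g : G) : g ∈ F.NP := by
  obtain ⟨y, hy⟩ : ∃ y, y = g * v1 * g⁻¹ := ⟨_, rfl⟩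
  have y2 : y * y = 1 := by
    rw [hy, show g * v1 * g⁻¹ * (g * v1 * g⁻¹) = g * (v1 * v1) * g⁻¹ by group, F.D.v1_sq]; group
  suffices hyN : y ∈ F.NP from F.alpha hM hd (hy ▸ hyN)
  have z2 := F.D.z2
  have hzN : z ∈ F.NP := F.cent_le_NP (Commute.refl z)
  obtain ⟨d, hdd⟩ : ∃ d, d = z * y := ⟨_, rfl⟩
  have hconj : ∀ i : ℕ, d ^ i * z * (d ^ i)⁻¹ = d ^ (2 * i) * z := fun i => hdd ▸ dih_conj z2 y2 i
  have hy' : y = z * d := by rw [hdd, ← mul_assoc, z2, one_mul]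
  obtain ⟨n, hn⟩ : ∃ n, n = orderOf d := ⟨_, rfl⟩
  have hn0 : 0 < n := hn ▸ orderOf_pos d
  -- odd order: the involutions are conjugate
  rcases Nat.even_or_odd' n with ⟨m, hm | hm⟩
  swap
  · exfalso
    have h1 : d ^ (2 * (m + 1)) = d := by
      rw [show 2 * (m + 1) = 2 * m + 1 + 1 by omega, pow_succ, ← hm, hn, pow_orderOf_eq_one, one_mul]
    have e := hconj (m + 1)
    rw [h1] at e
    have e2 : d * z = z * y * z := by rw [hdd]
    rw [e2, hy] at e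
    refine F.not_conj_four (g := (d ^ (m + 1))⁻¹ * z * g) F.D.v1_mem_four ?_
    calc (d ^ (m + 1))⁻¹ * z * g * v1 * ((d ^ (m + 1))⁻¹ * z * g)⁻¹
        = (d ^ (m + 1))⁻¹ * (z * (g * v1 * g⁻¹) * z⁻¹) * d ^ (m + 1) := by group
      _ = z := by rw [F.D.z_inv, ← e]; group
  -- even order
  have hm0 : 0 < m := by omega
  have humem : d ^ m ∈ F.NP := by
    refine F.cent_le_NP (mul_inv_eq_iff_eq_mul.mp ?_)
    rw [hconj, ← hm, hn, pow_orderOf_eq_one, one_mul]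
  have descend : ∀ j, 0 < j → d ^ j ∈ F.NP → ∃ a, Odd a ∧ d ^ a ∈ F.NP ∧ ∃ b, j = 2 ^ b * a := by
    intro j
    induction j using Nat.strong_induction_on with
    | _ j ih =>
      intro hj0 hj
      rcases Nat.even_or_odd' j with ⟨i, hi | hi⟩
      · have hz' : d ^ i * z * (d ^ i)⁻¹ ∈ F.NP := by
          rw [hconj, ← hi]; exact F.NP.mul_mem hj hzN
        obtain ⟨a, ha, haN, b, hb⟩ := ih i (by omega) (by omega) (F.beta hM hd hz')
        exact ⟨a, ha, haN, b + 1, by rw [hi, hb, pow_succ]; ring⟩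
      · exact ⟨j, ⟨i, hi⟩, hj, 0, by simp⟩
  obtain ⟨a, ⟨i, hi⟩, haN, b, hb⟩ := descend m hm0 humem
  have hy'N : z * d ^ a ∈ F.NP := F.NP.mul_mem hzN haN
  have hconjy : z * d ^ a = (d ^ i)⁻¹ * y * d ^ i := by
    have e := hconj i
    rw [hy']
    have e3 : (d ^ i)⁻¹ * z = z * d ^ i := by
      have h4 : z = d ^ i * z * d ^ i := by
        calc z = (d ^ i)⁻¹ * (d ^ i * z * (d ^ i)⁻¹) * d ^ i := by group
          _ = (d ^ i)⁻¹ * (d ^ (2 * i) * z) * d ^ i := by rw [e]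
          _ = d ^ i * z * d ^ i := by rw [two_mul, pow_add]; group
      conv_lhs => rw [h4]
      group
    calc z * d ^ a = z * d ^ i * d * d ^ i := by
          rw [hi, show 2 * i + 1 = i + 1 + i by omega, pow_add, pow_succ, ← mul_assoc, ← mul_assoc]
      _ = (d ^ i)⁻¹ * (z * d) * d ^ i := by rw [← e3]; group
  have hk : (d ^ i)⁻¹ * g * v1 * ((d ^ i)⁻¹ * g)⁻¹ = z * d ^ a := by rw [hconjy, hy]; group
  have hP : z * d ^ a ∈ four v1 v2 := by
    rw [← hk]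
    exact F.alpha hM hd (hk ▸ hy'N) v1 F.D.v1_mem_four
  have hsq : d ^ (2 * a) = 1 := by
    have hW : InW z (four v1 v2) (d ^ a) := ⟨_, hP, Or.inr (by rw [← mul_assoc, z2, one_mul])⟩
    rw [two_mul, pow_add, F.D.W_sq hW]
  have hdvd : n ∣ 2 * a := hn ▸ orderOf_dvd_of_pow_eq_one hsq
  have ham : a = m := by
    have h1 : 2 * m ∣ 2 * a := hm ▸ hdvd
    have h2 : m ∣ a := Nat.dvd_of_mul_dvd_mul_left (by norm_num) h1
    exact Nat.dvd_antisymm ⟨2 ^ b, by rw [hb, mul_comm]⟩ h2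
  subst ham
  have hp1 : z * d ^ a ≠ 1 := fun e => by
    rw [← hk] at e
    exact F.D.v1_ne (conj_eq_one_iff.mp e)
  refine F.cent_d hM hd hP hp1 ?_
  rw [← mul_assoc, z2, one_mul]
  -- the power of order two is central in the dihedral group
  refine mul_inv_eq_iff_eq_mul.mp (show y * d ^ a * y⁻¹ = d ^ a from ?_)
  have e5 : z * d ^ a * z⁻¹ = d ^ a := by
    have e := hconj a
    rw [hsq, one_mul] at e
    rw [← mul_inv_eq_iff_eq_mul.mp e, mul_inv_cancel_right]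
  rw [hy', show z * d * d ^ a * (z * d)⁻¹ = z * (d * d ^ a * d⁻¹) * z⁻¹ by group,
    (Commute.self_pow d a).eq, mul_inv_cancel_right, e5]

end

end FData

end Cfsg.Agent.Spor.CHZ.FThree
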