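import Cfsg.Agent.Lib.Spor.CHZ.Bounds

/-!
Orbits on singular vectors and invariant subgroups at a singular vector.
-/

set_option autoImplicit false
set_option maxRecDepth 100000
set_option maxHeartbeats 1000000
set_option linter.unusedSectionVars false

namespace Cfsg.Agent.Spor.CHZ

open Cfsg.Agent.Spor.SpFour Cfsg.Agent.Small.Unitary Cfsg.Agent.Spor.UnitaryTrans

/-- the transvection at an isotropic vector -/
noncomputable def tvL (u : V) (hu : herm u u = 0) : L := tv hstar u hu

theorem sp_tvL (u : V) (hu : herm u u = 0) (x : V) : sp (tvL u hu) x = x + herm u x • u := act_tv hstar u hu x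

/-- the elements act transitively on singular vectors -/
theorem exists_move {u v : V} (hu0 : u ≠ 0) (hu : herm u u = 0) (hv0 : v ≠ 0) (hv : herm v v = 0) :
    ∃ g : L, sp g u = v := by
  obtain ⟨e, f, P⟩ := exists_pair (n := 4) hstar F4.card_sq (i := (0 : Fin 4)) (j := 1) (by decide)
  have h : ∀ w : V, w ≠ 0 → herm w w = 0 → Moves (⊤ : Subgroup L) Finset.univ w e := fun w hw0 hw =>
    moves_to_e (hstar := hstar) F4.card_sq (fun _ _ _ _ => Subgroup.mem_top _) P (Finset.mem_univ _)
      (Finset.mem_univ _) (k := (2 : Fin 4)) (by decide) hw0 hw (fun m hm => absurd (Finset.mem_univ m) hm)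
  obtain ⟨g, -, -, hg⟩ := (h u hu0 hu).comp (h v hv0 hv).symm
  exact ⟨g, hg⟩

theorem card_singular : {v : V | v ≠ 0 ∧ herm v v = 0}.ncard = 135 := by
  have h : (Finset.univ.filter fun v : V => v ≠ 0 ∧ herm v v = 0).card = 135 := by decide +kernel
  rw [← h, ← Set.ncard_coe_finset]
  simp

/-- a chosen singular vector -/
def v0 : V := ![1, 1, 0, 0]

theorem v0_ok : v0 ≠ 0 ∧ herm v0 v0 = 0 := by decide +kernel

/-- the centres used -/
def centres : List V :=
  [![1, 1, 0, 0], ![0, 0, 1, 1], ![0, 0, 1, F4.w], ![0, 0, 1, F4.v],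
   ![1, 1, 1, 1], ![1, 1, 1, F4.w], ![1, 1, 1, F4.v],
   ![F4.w, F4.w, 1, 1], ![F4.w, F4.w, 1, F4.w], ![F4.w, F4.w, 1, F4.v],
   ![F4.v, F4.v, 1, 1], ![F4.v, F4.v, 1, F4.w], ![F4.v, F4.v, 1, F4.v]]

theorem centres_ok : centres.all (fun u => decide (herm u u = 0 ∧ herm u v0 = 0)) = true := by decide +kernel

/-- the change made by the transvection -/
def delta (u x : V) : V := herm u x • u

/-- what a check finds -/
def reach1 (x : V) : Bool :=
  !decide (B v0 x = 0) || decide (x = 0) || decide (x = v0) || decide (herm v0 x = 0) ||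
    centres.any fun u => decide (herm v0 (delta u x) = 0 ∧ delta u x ≠ 0 ∧ delta u x ≠ v0)

/-- what a check finds inside the perpendicular space -/
def reach2 (x : V) : Bool :=
  !decide (herm v0 x = 0) || decide (x = 0) || decide (x = v0) ||
    decide (x = F4.w • v0 ∨ x + v0 = F4.w • v0) || centres.any fun u => centres.any fun u' =>
      decide (delta u x + delta u' x = F4.w • v0 ∨ delta u x + delta u' x + v0 = F4.w • v0)

theorem reach1_ok : ∀ x : V, reach1 x = true := by decide +kernel

theorem reach2_ok : ∀ x : V, reach2 x = true := by decide +kernel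

theorem reach_v0 (S : AddSubgroup V) (hv : v0 ∈ S)
    (hinv : ∀ g : L, sp g v0 = v0 → ∀ y ∈ S, sp g y ∈ S) {x : V} (hx : x ∈ S) (hB : B v0 x = 0) (h0 : x ≠ 0)
    (h1 : x ≠ v0) : F4.w • v0 ∈ S := by
  have hd : ∀ u ∈ centres, ∀ y ∈ S, delta u y ∈ S := by
    intro u hu y hy
    have hc := List.all_eq_true.mp centres_ok u hu
    rw [decide_eq_true_eq] at hc
    have h := S.add_mem (hinv (tvL u hc.1) (by rw [sp_tvL, hc.2, zero_smul, add_zero]) y hy) hy
    rwa [sp_tvL, add_comm, ← add_assoc, add_self, zero_add] at h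
  suffices key : ∀ y ∈ S, herm v0 y = 0 → y ≠ 0 → y ≠ v0 → F4.w • v0 ∈ S by
    have h := reach1_ok x
    simp only [reach1, Bool.or_eq_true, Bool.not_eq_true', decide_eq_false_iff_not, decide_eq_true_eq,
      List.any_eq_true] at h
    rcases h with (((h | h) | h) | h) | ⟨u, hu, h⟩
    · exact absurd hB h
    · exact absurd h h0
    · exact absurd h h1
    · exact key x hx h h0 h1
    · exact key _ (hd u hu x hx) h.1 h.2.1 h.2.2
  intro y hy hy' hy0 hy1
  have h := reach2_ok y
  simp only [reach2, Bool.or_eq_true, Bool.not_eq_true', decide_eq_false_iff_not, decide_eq_true_eq,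
    List.any_eq_true] at h
  rcases h with (((h | h) | h) | h) | ⟨u, hu, u', hu', h⟩
  · exact absurd hy' h
  · exact absurd h hy0
  · exact absurd h hy1
  · rcases h with e | e
    · exact e ▸ hy
    · exact e ▸ S.add_mem hy hv
  · rcases h with e | e
    · exact e ▸ S.add_mem (hd u hu y hy) (hd u' hu' y hy)
    · exact e ▸ S.add_mem (S.add_mem (hd u hu y hy) (hd u' hu' y hy)) hv

/-- a subgroup invariant under the stabiliser of a singular vector contains its multiples -/
theorem reach {v : V} (hv0 : v ≠ 0) (hvv : herm v v = 0) (S : AddSubgroup V) (hv : v ∈ S)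
    (hinv : ∀ g : L, sp g v = v → ∀ y ∈ S, sp g y ∈ S) {x : V} (hx : x ∈ S) (hB : B v x = 0) (h0 : x ≠ 0)
    (h1 : x ≠ v) : F4.w • v ∈ S := by
  obtain ⟨a, ha⟩ := exists_move hv0 hvv v0_ok.1 v0_ok.2
  have hs := Or.inl (sp_lin a) (b := Anti (sp a))
  let φ : V →+ V := AddMonoidHom.mk' (sp a) (sp_lin a).add
  have hmem : ∀ {y}, y ∈ S.map φ ↔ sp a⁻¹ y ∈ S := by
    intro y
    constructor
    · rintro ⟨w, hw, rfl⟩
      rw [map_inv, Equiv.Perm.inv_def]
      simpa [φ] using hw
    · intro h
      exact ⟨_, h, by simp [φ, map_inv]⟩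
  have := reach_v0 (S.map φ) ⟨v, hv, ha⟩ (fun g hg y hy => ?_) (x := sp a x) ⟨x, hx, rfl⟩
    (by rw [← ha, Semi.B hs]; exact hB) (fun e => h0 ((sp a).injective (e.trans (Semi.zero hs).symm)))
    (fun e => h1 ((sp a).injective (e.trans ha.symm)))
  · rw [hmem, ← ha, ← (sp_lin a).smul, map_inv, Equiv.Perm.inv_def, Equiv.symm_apply_apply] at this
    exact this
  · rw [hmem] at hy ⊢
    have h := hinv (a⁻¹ * g * a) ?_ _ hy
    · simpa [map_mul, map_inv] using h
    · rw [map_mul, map_mul, Equiv.Perm.mul_apply, Equiv.Perm.mul_apply, ha, hg, map_inv, ← ha]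
      simp

/-- a vector orthogonal to the orthogonal of another is a multiple over two elements -/
theorem B_perp_perp {u w : V} (h : ∀ y, B w y = 0 → B u y = 0) : u = 0 ∨ u = w := by
  by_cases hw : w = 0
  · left
    by_contra hu
    obtain ⟨y, hy⟩ := exists_B_ne hu
    exact hy (h y (by rw [hw, B_comm, B_zero_right]))
  obtain ⟨y0, hy0⟩ := exists_B_ne hw
  have hreal : ∀ a b : V, B a b = 0 ∨ B a b = 1 := fun a b => F4_fixed _ (by rw [B_eq, star_add, star_star, add_comm])
  have hy1 : B w y0 = 1 := (hreal w y0).resolve_left hy0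
  rcases hreal u y0 with e | e
  · left
    by_contra hu
    obtain ⟨y, hy⟩ := exists_B_ne hu
    rcases hreal w y with ey | ey
    · exact hy (h y ey)
    · have := h (y + y0) (by rw [B_add_right, ey, hy1, CharTwo.add_self_eq_zero])
      rw [B_add_right, e, add_zero] at this
      exact hy this
  · right
    by_contra hu
    obtain ⟨y, hy⟩ := exists_B_ne (fun e' => hu (add_cancel' e'))
    rw [B_add_left] at hy
    rcases hreal w y with ey | ey
    · exact hy (by rw [h y ey, ey, add_zero])
    · have := h (y + y0) (by rw [B_add_right, ey, hy1, CharTwo.add_self_eq_zero])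
      rw [B_add_right, e] at this
      exact hy (by rw [CharTwo.add_eq_zero.mp this, ey, CharTwo.add_self_eq_zero])

/-- a vector orthogonal to a hyperplane is a multiple of its pole -/
theorem herm_perp_perp {u w : V} (hw : w ≠ 0) (h : ∀ y, herm w y = 0 → herm u y = 0) : ∃ c : F4, u = c • w := by
  obtain ⟨y0, hy0⟩ := exists_herm_val hw 1
  refine ⟨star (herm u y0), ?_⟩
  by_contra hu
  obtain ⟨y, hy⟩ := exists_herm_ne (fun e => hu (add_cancel' e))
  refine hy ?_
  rw [herm_add_left, herm_smul_left, star_star]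
  have := h (y + herm w y • y0) (by rw [herm_add_right, herm_smul_right, hy0, mul_one, CharTwo.add_self_eq_zero])
  rw [herm_add_right, herm_smul_right] at this
  linear_combination this

end Cfsg.Agent.Spor.CHZ
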