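import Cfsg.Agent.Lib.Spor.CHZ.Two
import Cfsg.Agent.Lib.Spor.CHZ.Orbit
import Cfsg.Agent.S0814

/-!
The group of the Hermitian space with the field automorphism adjoined: it is the automorphism group of the
simple group of order 25920.
-/

set_option autoImplicit false
set_option maxRecDepth 100000
set_option linter.unusedSectionVars false

namespace Cfsg.Agent.Spor.CHZ

open Cfsg.Agent.Spor.SpFour Cfsg.Agent.Small.Unitary

/-- the field automorphism on the space -/
def frP : Equiv.Perm V :=
  ⟨fun v k => star (v k), fun v k => star (v k), fun v => funext fun k => star_star _,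
    fun v => funext fun k => star_star _⟩

theorem frP_apply (v : V) (k : Fin 4) : frP v k = star (v k) := rfl

theorem frP_anti : Anti frP := by
  refine ⟨fun x y => funext fun k => star_add _ _, fun c x => funext fun k => ?_, fun x y => ?_⟩
  · show star ((c • x) k) = star c * star (x k)
    rw [Pi.smul_apply, smul_eq_mul, star_mul, mul_comm]
  · simp only [herm, dotProduct, Pi.star_apply, frP_apply, star_sum]
    exact Finset.sum_congr rfl fun k _ => by rw [star_star, star_mul, star_star, mul_comm]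

theorem frP_sq : frP * frP = 1 := Equiv.ext fun v => funext fun k => star_star _

theorem frP_inv : frP⁻¹ = frP := inv_eq_of_mul_eq_one_right frP_sq

theorem map_star_eq (A : Matrix (Fin 4) (Fin 4) F4) :
    A.map star = (starRingEnd F4).mapMatrix A := rfl

/-- the field automorphism on the group -/
def frL (g : L) : L :=
  mkSU hstar (g.1.1.map star) (by
    have h : g.1.1.conjTranspose * g.1.1 = 1 := (mem_SU_iff hstar _).mp g.2
    have e : (g.1.1.map star).conjTranspose = g.1.1.conjTranspose.map star := by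
      ext r c
      rfl
    rw [e, map_star_eq, map_star_eq, ← map_mul, h, map_one]) (by
    rw [map_star_eq, ← RingHom.map_det, g.1.2, map_one])

theorem sp_frL (g : L) : sp (frL g) = frP * sp g * frP := by
  refine Equiv.ext fun v => funext fun k => ?_
  show ((g.1.1.map star).mulVec v) k = star ((g.1.1.mulVec fun m => star (v m)) k)
  simp only [Matrix.mulVec, dotProduct, Matrix.map_apply, star_sum]
  exact Finset.sum_congr rfl fun m _ => by rw [star_mul, star_star, mul_comm]

theorem frP_mul_sp (g : L) : frP * sp g = sp (frL g) * frP := by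
  rw [sp_frL, mul_assoc _ frP frP, frP_sq, mul_one]

/-- the extended group -/
def Gam : Subgroup (Equiv.Perm V) where
  carrier := {f | ∃ g, f = sp g ∨ f = sp g * frP}
  one_mem' := ⟨1, Or.inl (map_one sp).symm⟩
  mul_mem' := by
    rintro _ _ ⟨g, rfl | rfl⟩ ⟨h, rfl | rfl⟩
    · exact ⟨g * h, Or.inl (map_mul sp g h).symm⟩
    · exact ⟨g * h, Or.inr (by rw [map_mul, mul_assoc])⟩
    · exact ⟨g * frL h, Or.inr (by rw [map_mul, mul_assoc, frP_mul_sp, mul_assoc])⟩
    · exact ⟨g * frL h, Or.inl (by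
        rw [map_mul, mul_assoc (sp g), ← mul_assoc frP, frP_mul_sp, mul_assoc _ frP, frP_sq, mul_one])⟩
  inv_mem' := by
    rintro _ ⟨g, rfl | rfl⟩
    · exact ⟨g⁻¹, Or.inl (map_inv sp g).symm⟩
    · exact ⟨frL g⁻¹, Or.inr (by rw [mul_inv_rev, frP_inv, ← map_inv, frP_mul_sp])⟩

theorem Gam.semi (f : ↥Gam) : Semi (f : Equiv.Perm V) := by
  obtain ⟨g, h | h⟩ := f.2 <;> rw [h]
  · exact Or.inl (sp_lin g)
  · exact Or.inr ⟨fun x y => by simp [frP_anti.add, (sp_lin g).add], fun c x => by
      simp [frP_anti.smul, (sp_lin g).smul], fun x y => by simp [frP_anti.herm, (sp_lin g).herm]⟩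

/-- the linear part -/
def ι : L →* ↥Gam := sp.codRestrict Gam fun g => ⟨g, Or.inl rfl⟩

theorem ι_val (g : L) : (ι g : Equiv.Perm V) = sp g := rfl

theorem ι_inj : Function.Injective ι := fun a b h => sp_inj (congrArg Subtype.val h)

/-- the field automorphism as an element -/
def fr : ↥Gam := ⟨frP, 1, Or.inr (by rw [map_one, one_mul])⟩

theorem fr_ι (g : L) : fr * ι g = ι (frL g) * fr := Subtype.ext (frP_mul_sp g)

theorem fr_sq : fr * fr = 1 := Subtype.ext frP_sq

theorem Anti.sp_ne {f : Equiv.Perm V} (hf : Anti f) (g : L) : f ≠ sp g := fun e => hf.not_lin (e ▸ sp_lin g)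

theorem mem_range_ι {f : ↥Gam} : f ∈ ι.range ↔ Lin (f : Equiv.Perm V) := by
  constructor
  · rintro ⟨g, rfl⟩; exact sp_lin g
  · intro hl
    obtain ⟨g, h | h⟩ := f.2
    · exact ⟨g, Subtype.ext h.symm⟩
    · refine absurd ?_ frP_anti.not_lin
      rw [show frP = (sp g)⁻¹ * (sp g * frP) by group, ← map_inv, ← h]
      exact (sp_lin _).mul hl

theorem Gam.cases (f : ↥Gam) : f ∈ ι.range ∨ ∃ g, f = ι g * fr := by
  obtain ⟨g, h | h⟩ := f.2
  · exact Or.inl ⟨g, Subtype.ext h.symm⟩
  · exact Or.inr ⟨g, Subtype.ext h⟩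

theorem mul_mem_range {f h : ↥Gam} : f * h ∈ ι.range ↔ (f ∈ ι.range ↔ h ∈ ι.range) := by
  rw [mem_range_ι, mem_range_ι, mem_range_ι]
  show Lin ((f : Equiv.Perm V) * (h : Equiv.Perm V)) ↔ _
  exact ⟨fun hl => by
    rcases Gam.semi f with a | a <;> rcases Gam.semi h with b | b
    · exact iff_of_true a b
    · exact absurd (show Lin (h : Equiv.Perm V) by
        have := a.inv.mul hl; rwa [inv_mul_cancel_left] at this) b.not_lin
    · exact absurd (show Lin (f : Equiv.Perm V) by
        have := hl.mul b.inv; rwa [mul_inv_cancel_right] at this) a.not_lin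
    · exact iff_of_false a.not_lin b.not_lin, fun hiff => by
    rcases Gam.semi f with a | a <;> rcases Gam.semi h with b | b
    · exact a.mul b
    · exact absurd (hiff.mp a) b.not_lin
    · exact absurd (hiff.mpr b) a.not_lin
    · exact a.mul b⟩

theorem range_normal (f : ↥Gam) (g : L) : f * ι g * f⁻¹ ∈ ι.range := by
  rw [mul_mem_range, mul_mem_range, inv_mem_iff]
  simp

theorem sq_mem_range (f : ↥Gam) : f * f ∈ ι.range := mul_mem_range.mpr Iff.rfl

theorem card_L : Nat.card L = 25920 := (Classical.UFourTwo.card_su (F := F4) hF).1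

theorem card_Gam : Nat.card ↥Gam = 51840 := by
  have hb : Function.Bijective (fun p : L × Bool => if p.2 then ι p.1 * fr else ι p.1) := by
    have hne : ∀ g g', ι g ≠ ι g' * fr := fun g g' e => by
      have h := mem_range_ι.mp ⟨g, e⟩
      exact frP_anti.not_lin (by
        have := (sp_lin g').inv.mul h
        rwa [show ((ι g' * fr : ↥Gam) : Equiv.Perm V) = sp g' * frP from rfl, inv_mul_cancel_left] at this)
    refine ⟨?_, fun f => ?_⟩
    · rintro ⟨g, a⟩ ⟨g', b⟩ h
      cases a <;> cases b <;> simp only [Bool.false_eq_true, if_false, if_true] at h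
      · rw [ι_inj h]
      · exact absurd h (hne _ _)
      · exact absurd h.symm (hne _ _)
      · rw [ι_inj (mul_right_cancel h)]
    · rcases Gam.cases f with ⟨g, hg⟩ | ⟨g, hg⟩
      · exact ⟨(g, false), hg⟩
      · exact ⟨(g, true), hg.symm⟩
  rw [← Nat.card_eq_of_bijective _ hb, Nat.card_prod, card_L, Nat.card_eq_fintype_card (α := Bool),
    Fintype.card_bool]

theorem exists_isotropic_mem : ∀ v : V, v ≠ 0 → ∃ a : V, a ≠ 0 ∧ herm a a = 0 ∧ herm a v ≠ 0 := by
  decide +kernel

/-- nothing outside centralises the linear part -/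
theorem centralizes {f : ↥Gam} (h : ∀ g : L, f * ι g = ι g * f) : f = 1 := by
  have hcen : ∀ g₀ : L, (∀ g, g₀ * g = g * g₀) → g₀ = 1 := fun g₀ hg => by
    have := (Subgroup.eq_bot_of_card_eq _ (Classical.UFourTwo.card_su (F := F4) hF).2)
    have hm : g₀ ∈ Subgroup.center L := Subgroup.mem_center_iff.mpr fun g => (hg g).symm
    rw [this] at hm
    exact hm
  rcases Gam.cases f with ⟨g, rfl⟩ | ⟨g, hf⟩
  · rw [hcen g fun g' => ι_inj (by rw [map_mul, map_mul, h]), map_one]
  exfalso
  have hanti : Anti (f : Equiv.Perm V) := (Gam.semi f).resolve_left fun hl => by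
    obtain ⟨g', e⟩ := mem_range_ι.mpr hl
    exact frP_anti.not_lin (by
      have := (sp_lin g).inv.mul hl
      rwa [hf, show ((ι g * fr : ↥Gam) : Equiv.Perm V) = sp g * frP from rfl, inv_mul_cancel_left] at this)
  have hff : f * f = 1 := by
    obtain ⟨g', e⟩ := sq_mem_range f
    rw [← e, hcen g' (fun a => ι_inj (by
      rw [map_mul, map_mul, e, mul_assoc, h a, ← mul_assoc, h a, mul_assoc])), map_one]
  have hcomm : ∀ a x, (f : Equiv.Perm V) (sp a x) = sp a ((f : Equiv.Perm V) x) := fun a x =>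
    congrArg (fun e : ↥Gam => (e : Equiv.Perm V) x) (h a)
  have h2 : ∀ x, (f : Equiv.Perm V) ((f : Equiv.Perm V) x) = x := fun x =>
    congrArg (fun e : ↥Gam => (e : Equiv.Perm V) x) hff
  obtain ⟨x, hx0, hx⟩ : ∃ x, x ≠ 0 ∧ (f : Equiv.Perm V) x = x := by
    obtain ⟨v, hv⟩ : ∃ v : V, v ≠ 0 := ⟨v0, v0_ok.1⟩
    by_cases e : (f : Equiv.Perm V) v = v
    · exact ⟨v, hv, e⟩
    · exact ⟨v + (f : Equiv.Perm V) v, fun h0 => e (add_cancel' h0).symm, by
        rw [hanti.add, h2, add_comm]⟩
  obtain ⟨u, hu0, huu, hux⟩ := exists_isotropic_mem x hx0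
  have hfix : (f : Equiv.Perm V) (herm u x • u) = herm u x • u := by
    have e := hcomm (tvL u huu) x
    rw [hx, sp_tvL, hanti.add, hx] at e
    exact add_left_cancel e
  obtain ⟨p, hp⟩ : ∃ p, p = herm u x • u := ⟨_, rfl⟩
  rw [← hp] at hfix
  have hp0 : p ≠ 0 := hp ▸ smul_ne_zero hux hu0
  have hpp : herm p p = 0 := by rw [hp, herm_smul_left, herm_smul_right, huu, mul_zero, mul_zero]
  have hw : F4.w ≠ 0 := by decide
  obtain ⟨a, ha⟩ := exists_move hp0 hpp (smul_ne_zero hw hp0) (by rw [q_smul _ hw]; exact hpp)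
  have e := hcomm a p
  rw [ha, hfix, ha, hanti.smul, hfix] at e
  exact (show star F4.w ≠ F4.w by decide +kernel) (smul_left_injective F4 hp0 e)

/-- the automorphism group -/
theorem exists_autIso {F : Type*} [Field F] [Fintype F] (hF3 : Fintype.card F = 3) :
    Nonempty (MulAut (Cfsg.PSp 2 F) ≃* ↥Gam) := by
  classical
  obtain ⟨u⟩ := Classical.UFourTwo.exists_iso (F := F4) (K := F) hF hF3
  have hcen : Subgroup.center L = ⊥ := Subgroup.eq_bot_of_card_eq _ (Classical.UFourTwo.card_su (F := F4) hF).2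
  let θ : L ≃* Cfsg.PSp 2 F :=
    (((QuotientGroup.quotientMulEquivOfEq hcen).trans QuotientGroup.quotientBot).symm).trans u
  let rg : L ≃* ↥ι.range := MonoidHom.ofInjective ι_inj
  haveI : ι.range.Normal := ⟨fun x hx f => by obtain ⟨g, rfl⟩ := hx; exact range_normal f g⟩
  let A : ↥Gam →* MulAut L := (MulAut.congr rg.symm).toMonoidHom.comp MulAut.conjNormal
  let A' : ↥Gam →* MulAut (Cfsg.PSp 2 F) := (MulAut.congr θ).toMonoidHom.comp A
  have hinj : Function.Injective A' := by
    refine (injective_iff_map_eq_one A').mpr fun f hf => centralizes fun g => ?_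
    have h1 : MulAut.conjNormal (H := ι.range) f = 1 := by
      rw [MonoidHom.comp_apply, MulEquiv.coe_toMonoidHom, MulEquiv.map_eq_one_iff, MonoidHom.comp_apply,
        MulEquiv.coe_toMonoidHom, MulEquiv.map_eq_one_iff] at hf
      exact hf
    have h2 := congrArg (fun φ : MulAut ↥ι.range => (φ ⟨ι g, g, rfl⟩ : ↥Gam)) h1
    simp only [MulAut.conjNormal_apply, MulAut.one_apply] at h2
    exact mul_inv_eq_iff_eq_mul.mp h2
  have hcard : Nat.card (MulAut (Cfsg.PSp 2 F)) = Nat.card ↥Gam := by
    haveI : Fact (Nat.Prime 3) := ⟨Nat.prime_three⟩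
    rw [Cfsg.Agent.S0814.result (F := F) 3 1 le_rfl (by simpa using hF3) 2 le_rfl (fun _ => by norm_num),
      ← Nat.card_congr θ.toEquiv, card_L, card_Gam]
    norm_num
  haveI : Finite (MulAut (Cfsg.PSp 2 F)) := Nat.finite_of_card_ne_zero (by rw [hcard, card_Gam]; norm_num)
  exact ⟨(MulEquiv.ofBijective A' ((Nat.bijective_iff_injective_and_card A').mpr ⟨hinj, hcard.symm⟩)).symm⟩

end Cfsg.Agent.Spor.CHZ
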