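import Cfsg.Agent.Lib.Spor.CHZ.FThreeHyp
import Cfsg.Agent.Lib.Spor.CHZ.Gam
import Cfsg.Agent.S1696
import Cfsg.Agent.S1714

/-!
The centraliser of a second involution in the centre of the two-core: its quotient by the involution has a
centraliser of the shape treated before, so it is an odd extension of the local centraliser, or has a central
four-group, or is a cover of the Fischer group on 22 letters.
-/

set_option autoImplicit false
set_option linter.unusedSectionVars false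
set_option maxHeartbeats 1600000

namespace Cfsg.Agent.Spor.CHZ.FThree

open Cfsg.Agent.Spor.SpFour Cfsg.Agent.Small.Unitary

universe w u v

/-- the conclusion of the statement about one dimension less -/
def Local22 (K : Type v) [Field K] [Fintype K] (F : Type u) [Field F] [Fintype F] : Prop :=
  ∀ (X : Type w) [Group X] [Finite X] (z : X), orderOf z = 2 →
    ∀ (A E : Subgroup ↥(Subgroup.centralizer ({z} : Set X))),
    Cfsg.IsInternalDirectProduct A E (Cfsg.pCore 2 ↥(Subgroup.centralizer ({z} : Set X))) → Nat.card ↥A = 2 →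
    Cfsg.IsExtraspecial 2 ↥E → Nat.card ↥E = 2 ^ 9 →
    ∀ zc : ↥(Subgroup.centralizer ({z} : Set X)), (zc : X) = z →
    ⁅(Cfsg.pCore 2 ↥(Subgroup.centralizer ({z} : Set X))), (Cfsg.pCore 2 ↥(Subgroup.centralizer ({z} : Set X)))⁆ =
      Subgroup.zpowers zc →
    Subgroup.centralizer ((Cfsg.pCore 2 ↥(Subgroup.centralizer ({z} : Set X))) :
      Set ↥(Subgroup.centralizer ({z} : Set X))) ≤ Cfsg.pCore 2 ↥(Subgroup.centralizer ({z} : Set X)) →
    ∀ [(Cfsg.pCore 2 ↥(Subgroup.centralizer ({z} : Set X))).Normal],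
    ((↥(Subgroup.centralizer ({z} : Set X)) ⧸ Cfsg.pCore 2 ↥(Subgroup.centralizer ({z} : Set X))) ≃*
      MulAut (Cfsg.PSp 2 F)) →
    Subgroup.centralizer ({z} : Set X) ⊔ Cfsg.oddCore X = ⊤ ∨
      (∃ z₁ : X, orderOf z₁ = 2 ∧ z₁ ∉ Subgroup.zpowers z ∧
        (∃ h₁ : z₁ ∈ Subgroup.centralizer ({z} : Set X), (⟨z₁, h₁⟩ : ↥(Subgroup.centralizer ({z} : Set X))) ∈
            Cfsg.pCore 2 ↥(Subgroup.centralizer ({z} : Set X)) ∧
          ∀ j ∈ Cfsg.pCore 2 ↥(Subgroup.centralizer ({z} : Set X)), j * ⟨z₁, h₁⟩ = ⟨z₁, h₁⟩ * j) ∧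
        (Subgroup.zpowers z₁).Normal ∧
        ∃ (G₀ : Subgroup X) (hz₁ : z₁ ∈ G₀), G₀.index = 2 ∧
          ∃ hn : ((Subgroup.zpowers z₁).subgroupOf G₀).Normal,
            Nonempty ((↥G₀ ⧸ (Subgroup.zpowers z₁).subgroupOf G₀) ≃* Cfsg.PSU 6 K 2)) ∨
      Cfsg.Spor.IsoFi22 X

theorem mem_zp_two {X : Type w} [Group X] {a : X} (ha : a * a = 1) {x : X} :
    x ∈ Subgroup.zpowers a ↔ x = 1 ∨ x = a := by
  refine ⟨fun h => ?_, ?_⟩
  · obtain ⟨k, rfl⟩ := Subgroup.mem_zpowers_iff.mp h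
    rcases Int.even_or_odd' k with ⟨j, rfl | rfl⟩
    · left; rw [zpow_mul, zpow_two, ha, one_zpow]
    · right; rw [zpow_add, zpow_mul, zpow_two, ha, one_zpow, one_mul, zpow_one]
  · rintro (rfl | rfl)
    exacts [one_mem _, Subgroup.mem_zpowers _]

/-- the second case: a four-group normal in the centraliser -/
structure FourCase {G : Type w} [Group G] (z w : G) (T : Type v) [Group T] where
  a : G
  sq : a * a = 1
  comm : Commute a w
  ne : a ≠ 1 ∧ a ≠ z ∧ a ≠ w ∧ a ≠ w * z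
  norm : ∀ x, Commute x w → x * a * x⁻¹ = a ∨ x * a * x⁻¹ = w * a
  P : Subgroup G
  P_le : ∀ x ∈ P, Commute x w
  wP : w ∈ P
  aP : a ∈ P
  P_norm : ∀ x, Commute x w → ∀ p ∈ P, x * p * x⁻¹ ∈ P
  index : Nat.card ↥(Subgroup.centralizer ({w} : Set G)) = 2 * Nat.card ↥P
  φ : ↥P →* T
  φ_surj : Function.Surjective φ
  φ_ker : ∀ p : ↥P, φ p = 1 ↔ (p : G) ∈ four w a

namespace FData

variable {G : Type w} [Group G] [Finite G] {z v1 v2 : G} (F : FData z v1 v2)
include F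

theorem local_cases {w : G} (hw : w = v1 ∨ w = z * v1) {K : Type v} [Field K] [Fintype K] {F3 : Type u} [Field F3]
    [Fintype F3] (hF3 : Fintype.card F3 = 3) (h22 : Local22.{w} K F3) :
    Split z w ∨ Cfsg.Spor.IsoFi23 G ∨ Nonempty (FourCase z w (Cfsg.PSU 6 K 2)) := by
  classical
  haveI : Fact (Nat.Prime 2) := ⟨Nat.prime_two⟩
  have hv1W : InW z (four v1 v2) v1 := ⟨v1, F.D.v1_mem_four, Or.inl rfl⟩
  have hwW : InW z (four v1 v2) w := by
    rcases hw with e | e <;> rw [e]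
    exacts [hv1W, ⟨v1, F.D.v1_mem_four, Or.inr rfl⟩]
  have hwQ : w ∈ F.D.Q := F.D.W_mem hwW
  have hw2 : w * w = 1 := F.D.W_sq hwW
  have hwz : Commute w z := F.D.cent w hwQ
  have hwQc : ∀ q ∈ F.D.Q, Commute q w := fun q hq => F.D.W_comm_Q hwW hq
  have hw1 : w ≠ 1 := by
    rcases hw with e | e <;> rw [e]
    · exact F.D.v1_ne
    · exact fun e' => F.D.z_out.1 (eq_inv_of_mul_eq_one_left e' |>.trans (inv_eq_of_mul_eq_one_right F.D.v1_sq))
  have hwnz : w ≠ z := by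
    rcases hw with e | e <;> rw [e]
    · exact Ne.symm F.D.z_out.1
    · exact fun e' => F.D.v1_ne (mul_eq_left.mp e')
  have hcw : ∀ {x}, Commute x z → (Commute x w ↔ Commute x v1) := fun {x} hx => by
    rcases hw with e | e <;> rw [e]
    refine ⟨fun h' => ?_, fun h' => hx.mul_right h'⟩
    have := hx.mul_right h'
    rwa [← mul_assoc, F.D.z2, one_mul] at this
  -- the quotient
  obtain ⟨C, hC⟩ : ∃ C : Subgroup G, C = Subgroup.centralizer ({w} : Set G) := ⟨_, rfl⟩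
  have hCm : ∀ {x}, x ∈ C ↔ Commute x w := fun {x} => by rw [hC, Subgroup.mem_centralizer_singleton_iff]; rfl
  haveI hN : ((Subgroup.zpowers w).subgroupOf C).Normal := ⟨fun n hn x => by
    rcases (mem_zp_two hw2).mp hn with e | e
    · refine (mem_zp_two hw2).mpr (Or.inl ?_)
      show (x : G) * n * (x : G)⁻¹ = 1
      rw [show (n : G) = 1 from e]; group
    · refine (mem_zp_two hw2).mpr (Or.inr ?_)
      show (x : G) * n * (x : G)⁻¹ = w
      rw [show (n : G) = w from e, (hCm.mp x.2).eq, mul_inv_cancel_right]⟩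
  let π := QuotientGroup.mk' ((Subgroup.zpowers w).subgroupOf C)
  have hπ : ∀ {x y : ↥C}, π x = π y ↔ ((x : G) = y ∨ (x : G) = w * y) := fun {x y} => by
    rw [show π x = π y ↔ x⁻¹ * y ∈ (Subgroup.zpowers w).subgroupOf C from QuotientGroup.eq, Subgroup.mem_subgroupOf,
      mem_zp_two hw2, Subgroup.coe_mul, Subgroup.coe_inv]
    refine or_congr inv_mul_eq_one ⟨fun h => ?_, fun h => ?_⟩
    · rw [show (y : G) = (x : G) * w by rw [← h, mul_inv_cancel_left], (hCm.mp x.2).eq, ← mul_assoc, hw2, one_mul]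
    · rw [h, mul_inv_rev, inv_eq_of_mul_eq_one_right hw2, mul_assoc, ← (hCm.mp y.2).eq, inv_mul_cancel_left]
  have hπ1 : ∀ {x : ↥C}, π x = 1 ↔ ((x : G) = 1 ∨ (x : G) = w) := fun {x} => by
    rw [← map_one π, hπ, Subgroup.coe_one, mul_one]
  let zC : ↥C := ⟨z, hCm.mpr hwz.symm⟩
  obtain ⟨zb, hzb⟩ : ∃ zb, zb = π zC := ⟨_, rfl⟩
  have hz2' : zb * zb = 1 := by
    rw [hzb, ← map_mul, show zC * zC = 1 from Subtype.ext F.D.z2, map_one]
  have hzb1 : zb ≠ 1 := fun e => by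
    rw [hzb, hπ1] at e
    rcases e with e | e
    exacts [F.D.z_ne e, hwnz e.symm]
  have hzo : orderOf zb = 2 := orderOf_eq_prime (by rw [pow_two]; exact hz2') hzb1
  -- its centraliser of the involution
  obtain ⟨H, hH⟩ : ∃ H : Subgroup G,
      H = Subgroup.centralizer ({z} : Set G) ⊓ Subgroup.centralizer ({v1} : Set G) := ⟨_, rfl⟩
  have hHm : ∀ {x}, x ∈ H ↔ Commute x z ∧ Commute x v1 := fun {x} => by
    rw [hH, Subgroup.mem_inf, Subgroup.mem_centralizer_singleton_iff, Subgroup.mem_centralizer_singleton_iff]; rfl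
  have hHC : H ≤ C := fun x hx => hCm.mpr ((hcw (hHm.mp hx).1).mpr (hHm.mp hx).2)
  obtain ⟨S, hS⟩ : ∃ S : Subgroup (↥C ⧸ (Subgroup.zpowers w).subgroupOf C),
      S = Subgroup.centralizer ({zb} : Set (↥C ⧸ (Subgroup.zpowers w).subgroupOf C)) := ⟨_, rfl⟩
  subst hS
  let φ : ↥H →* ↥(Subgroup.centralizer ({zb} : Set (↥C ⧸ (Subgroup.zpowers w).subgroupOf C))) :=
    (π.comp (Subgroup.inclusion hHC)).codRestrict _ fun x => by
      rw [Subgroup.mem_centralizer_singleton_iff, hzb, MonoidHom.comp_apply, ← map_mul, ← map_mul]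
      exact congrArg π (Subtype.ext (hHm.mp x.2).1.eq)
  have hφval : ∀ x : ↥H, ((φ x : ↥(Subgroup.centralizer ({zb} : Set (↥C ⧸ (Subgroup.zpowers w).subgroupOf C)))) :
      ↥C ⧸ (Subgroup.zpowers w).subgroupOf C) = π (Subgroup.inclusion hHC x) := fun _ => rfl
  have hφeq : ∀ {x y : ↥H}, φ x = φ y ↔ ((x : G) = y ∨ (x : G) = w * y) := fun {x y} => by
    rw [← Subtype.coe_inj, hφval, hφval, hπ]; rfl
  have hφ1 : ∀ {x : ↥H}, φ x = 1 ↔ ((x : G) = 1 ∨ (x : G) = w) := fun {x} => by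
    rw [← map_one φ, hφeq, Subgroup.coe_one, mul_one]
  have hφs : Function.Surjective φ := by
    intro y
    obtain ⟨x, hx⟩ := QuotientGroup.mk'_surjective _ (y : ↥C ⧸ (Subgroup.zpowers w).subgroupOf C)
    have hy := Subgroup.mem_centralizer_singleton_iff.mp y.2
    rw [← hx, hzb, ← map_mul, ← map_mul, hπ] at hy
    have hxz : Commute (x : G) z := by
      rcases hy with e | e
      · exact e
      · exfalso
        change (x : G) * z = w * (z * x) at e
        have hc := F.cls (g := (x : G)) (by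
          rw [show (x : G) * z * (x : G)⁻¹ = w * z by rw [e]; group]
          rcases hw with h | h <;> rw [h]
          · exact ⟨v1, F.D.v1_mem_four, Or.inr (F.D.four_z F.D.v1_mem_four).eq⟩
          · refine ⟨v1, F.D.v1_mem_four, Or.inl ?_⟩
            rw [mul_assoc, (F.D.four_z F.D.v1_mem_four).eq, ← mul_assoc, F.D.z2, one_mul])
        rw [show (x : G) * z * (x : G)⁻¹ = w * z by rw [e]; group] at hc
        exact hw1 (mul_eq_right.mp hc)
    exact ⟨⟨x, hHm.mpr ⟨hxz, (hcw hxz).mp (hCm.mp x.2)⟩⟩, Subtype.ext hx⟩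
  obtain ⟨QH, hQH⟩ : ∃ QH : Subgroup ↥H, QH = F.D.Q.subgroupOf H := ⟨_, rfl⟩
  have hQHm : ∀ {x : ↥H}, x ∈ QH ↔ (x : G) ∈ F.D.Q := fun {x} => by rw [hQH, Subgroup.mem_subgroupOf]
  have hQle : F.D.Q ≤ H := fun q hq => hHm.mpr ⟨F.D.cent q hq, F.D.cent1 q hq⟩
  haveI hQHn : QH.Normal := ⟨fun q hq x => hQHm.mpr (F.D.normal x (hHm.mp x.2).1 q (hQHm.mp hq))⟩
  have hQH2 : IsPGroup 2 QH := hQH ▸
    (IsPGroup.of_card (n := 11) (by rw [F.card_Q]; norm_num) : IsPGroup 2 F.D.Q).comap_of_injective _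
      Subtype.val_injective
  obtain ⟨O, hO⟩ : ∃ O, O = Cfsg.pCore 2 ↥(Subgroup.centralizer ({zb} : Set (↥C ⧸ (Subgroup.zpowers w).subgroupOf C))) :=
    ⟨_, rfl⟩
  haveI hOn : O.Normal := hO ▸ Cfsg.pCore_normal 2 _
  have hOle : QH.map φ ≤ O := hO ▸ Cfsg.Agent.Fusion.le_pCore (hn := hQHn.map φ hφs) (hQH2.map φ)
  have hOge : O.comap φ ≤ QH := by
    have h2 : IsPGroup 2 (O.comap φ) := fun x => by
      obtain ⟨k, hk⟩ := (hO ▸ Cfsg.Agent.Fusion.isPGroup_pCore 2 _ : IsPGroup 2 O) ⟨φ x, x.2⟩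
      refine ⟨k + 1, Subtype.ext ?_⟩
      have hk' : φ ((x : ↥H) ^ (2 ^ k)) = 1 := by rw [map_pow]; exact congrArg Subtype.val hk
      rw [pow_succ, pow_mul, Subgroup.coe_pow, Subgroup.coe_pow, pow_two, Subgroup.coe_one]
      refine Subtype.ext ?_
      rw [Subgroup.coe_mul, Subgroup.coe_one]
      rcases hφ1.mp hk' with e | e <;> rw [e]
      exacts [one_mul 1, hw2]
    have hle : (O.comap φ).map H.subtype ≤ F.D.Q := F.two_le (h2.map _)
      (fun x hx => (hHm.mp (Subgroup.map_subtype_le _ hx)).1) (fun x hx => (hHm.mp (Subgroup.map_subtype_le _ hx)).2)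
      fun d hd hd1 x hx => by
        obtain ⟨y, hy, rfl⟩ := hx
        exact ⟨⟨d, hHm.mpr ⟨hd, hd1⟩⟩ * y * ⟨d, hHm.mpr ⟨hd, hd1⟩⟩⁻¹, (hOn.comap φ).conj_mem y hy _, rfl⟩
    exact fun x hx => hQHm.mpr (hle ⟨x, hx, rfl⟩)
  have hOmem : ∀ {x : ↥H}, φ x ∈ O ↔ (x : G) ∈ F.D.Q := fun {x} =>
    ⟨fun h => hQHm.mp (hOge h), fun h => hOle ⟨x, hQHm.mpr h, rfl⟩⟩
  have hOsurj : ∀ {y}, y ∈ O → ∃ q : ↥H, (q : G) ∈ F.D.Q ∧ φ q = y := fun {y} hy => by
    obtain ⟨x, rfl⟩ := hφs y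
    exact ⟨x, hOmem.mp hy, rfl⟩
  -- the two factors
  let zH : ↥H := ⟨z, hQle F.D.zQ⟩
  let vH : ↥H := ⟨v2, hQle F.D.v2Q⟩
  have hvv : φ vH * φ vH = 1 := by rw [← map_mul, show vH * vH = 1 from Subtype.ext F.D.v2_sq, map_one]
  obtain ⟨A, hA⟩ : ∃ A, A = Subgroup.zpowers (φ vH) := ⟨_, rfl⟩
  have hvne : φ vH ≠ 1 := fun e => by
    rcases hφ1.mp e with e | e
    · exact F.D.v2_ne e
    · rcases hw with h | h <;> rw [h] at e
      · exact F.D.v12 e.symm
      · have e' : v2 = z * v1 := e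
        exact F.D.z_not_four (by
          rw [show z = v2 * v1 by rw [e', mul_assoc, F.D.v1_sq, mul_one]]
          exact F.D.four_sub F.D.v2_mem_four F.D.v1_mem_four)
  have hAcard : Nat.card ↥A = 2 := by
    rw [hA, Nat.card_zpowers]
    exact orderOf_eq_prime (by rw [pow_two]; exact hvv) hvne
  have hEQ : F.R.E ≤ F.D.Q := F.eQ.symm ▸ F.R.E_le
  have hEH : F.R.E ≤ H := hEQ.trans hQle
  have hEcen : ∀ {e}, e ∈ F.R.E → (∀ q ∈ F.D.Q, Commute e q) → e = 1 ∨ e = z := fun {e} he h =>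
    F.R.E_center e he fun q hq => h q (F.eQ.symm ▸ hq)
  let fE : ↥F.R.E →* ↥(Subgroup.centralizer ({zb} : Set (↥C ⧸ (Subgroup.zpowers w).subgroupOf C))) :=
    φ.comp (Subgroup.inclusion hEH)
  have hfE : Function.Injective fE := (injective_iff_map_eq_one fE).mpr fun e he => by
    rcases hφ1.mp he with h | h
    · exact Subtype.ext h
    · exfalso
      rcases hEcen e.2 (fun q hq => (show (e : G) = w from h).symm ▸ (hwQc q hq).symm) with h' | h'
      · exact hw1 ((show (e : G) = w from h).symm.trans h')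
      · exact hwnz ((show (e : G) = w from h).symm.trans h')
  have hExs : Cfsg.IsExtraspecial 2 ↥fE.range := xs_equiv (MonoidHom.ofInjective hfE) F.R.E_xs
  have hEc : Nat.card ↥fE.range = 2 ^ 9 := by
    rw [← Nat.card_congr (MonoidHom.ofInjective hfE).toEquiv, F.R.E_card]; norm_num
  have hzE : z ∈ F.R.E := by
    obtain ⟨e, he, he1⟩ : ∃ e : ↥F.R.E, e ∈ Subgroup.center ↥F.R.E ∧ e ≠ 1 := by
      by_contra hall
      push Not at hall
      have hbot : Subgroup.center ↥F.R.E = ⊥ := (Subgroup.eq_bot_iff_forall _).mpr hall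
      have := F.R.E_xs.2
      rw [hbot, Subgroup.card_bot] at this
      omega
    rcases hEcen e.2 (fun q hq => by
      obtain ⟨f, hf, hfq⟩ := F.R.E_dec q (F.eQ ▸ hq)
      have h1 : Commute (q * f⁻¹) (e : G) := hfq e (F.eQ ▸ hEQ e.2)
      have h2 : Commute f (e : G) := congrArg Subtype.val (Subgroup.mem_center_iff.mp he ⟨f, hf⟩)
      have h3 := h1.mul_left h2
      rw [inv_mul_cancel_right] at h3
      exact h3.symm) with h | h
    · exact absurd (Subtype.ext h) he1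
    · have h4 : (e : G) ∈ F.R.E := e.2
      rwa [h] at h4
  have hdec : ∀ {q : ↥H}, (q : G) ∈ F.D.Q → φ q ∈ A ⊔ fE.range := fun {q} hq => by
    obtain ⟨f, hf, hfq⟩ := F.R.E_dec q (F.eQ ▸ hq)
    obtain ⟨uH, hu⟩ : ∃ uH : ↥H, uH = q * (⟨f, hEH hf⟩ : ↥H)⁻¹ := ⟨_, rfl⟩
    have huW : InW z (four v1 v2) (uH : G) := by
      rw [hu]
      exact F.cen _ (F.D.Q.mul_mem hq (F.D.Q.inv_mem (hEQ hf))) fun y hy => hfq y (F.eQ ▸ hy)
    rw [show q = uH * (⟨f, hEH hf⟩ : ↥H) by rw [hu, inv_mul_cancel_right], map_mul]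
    refine Subgroup.mul_mem _ ?_ (Subgroup.mem_sup_right ⟨⟨f, hf⟩, rfl⟩)
    have hzm : φ zH ∈ A ⊔ fE.range := Subgroup.mem_sup_right ⟨⟨z, hzE⟩, rfl⟩
    have hvm : φ vH ∈ A ⊔ fE.range := Subgroup.mem_sup_left (hA ▸ Subgroup.mem_zpowers _)
    have h1m : φ ⟨v1, hQle F.D.v1Q⟩ ∈ A ⊔ fE.range := by
      rcases hw with h | h
      · rw [hφ1.mpr (Or.inr h.symm)]; exact one_mem _
      · rw [show φ ⟨v1, hQle F.D.v1Q⟩ = φ zH from hφeq.mpr (Or.inr (by
          show v1 = w * z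
          rw [h, mul_assoc, (F.D.four_z F.D.v1_mem_four).eq, ← mul_assoc, F.D.z2, one_mul]))]
        exact hzm
    obtain ⟨p, hp, he⟩ := huW
    have hpm : φ ⟨p, hQle (F.D.four_Q hp)⟩ ∈ A ⊔ fE.range := by
      by_cases hp1 : p = 1
      · rw [show φ ⟨p, hQle (F.D.four_Q hp)⟩ = 1 from hφ1.mpr (Or.inl hp1)]
        exact one_mem _
      rcases F.D.four_cases hp hp1 with e | e | e
      · rw [show (⟨p, hQle (F.D.four_Q hp)⟩ : ↥H) = ⟨v1, hQle F.D.v1Q⟩ from Subtype.ext e]; exact h1m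
      · rw [show (⟨p, hQle (F.D.four_Q hp)⟩ : ↥H) = vH from Subtype.ext e]; exact hvm
      · rw [show (⟨p, hQle (F.D.four_Q hp)⟩ : ↥H) = ⟨v1, hQle F.D.v1Q⟩ * vH from Subtype.ext e, map_mul]
        exact Subgroup.mul_mem _ h1m hvm
    rcases he with e | e
    · rw [show uH = ⟨p, hQle (F.D.four_Q hp)⟩ from Subtype.ext e]; exact hpm
    · rw [show uH = zH * ⟨p, hQle (F.D.four_Q hp)⟩ from Subtype.ext e, map_mul]
      exact Subgroup.mul_mem _ hzm hpm
  have hprod : Cfsg.IsInternalDirectProduct A fE.range O := by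
    refine ⟨hA ▸ Subgroup.zpowers_le.mpr (hOmem.mpr F.D.v2Q), ?_, ?_, ?_, le_antisymm (sup_le ?_ ?_) fun y hy => ?_⟩
    · rintro _ ⟨e, rfl⟩
      exact hOmem.mpr (hEQ e.2)
    · rintro a ha _ ⟨e, rfl⟩
      rw [hA] at ha
      rcases (mem_zp_two hvv).mp ha with h | h <;> rw [h]
      · rw [one_mul, mul_one]
      · show φ vH * φ (Subgroup.inclusion hEH e) = φ (Subgroup.inclusion hEH e) * φ vH
        rw [← map_mul, ← map_mul]
        exact congrArg φ (Subtype.ext (F.D.cent2 _ (hEQ e.2)).symm.eq)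
    · refine (Subgroup.eq_bot_iff_forall _).mpr fun a ha => ?_
      obtain ⟨ha1, e, he⟩ := ha
      rw [hA] at ha1
      rcases (mem_zp_two hvv).mp ha1 with h | h
      · exact h
      exfalso
      have h' : (e : G) = v2 ∨ (e : G) = w * v2 :=
        (hφeq (x := Subgroup.inclusion hEH e) (y := vH)).mp (he.trans h)
      have hcen : ∀ q ∈ F.D.Q, Commute (e : G) q := fun q hq => by
        rcases h' with h'' | h'' <;> rw [h'']
        exacts [(F.D.cent2 q hq).symm, ((hwQc q hq).mul_right (F.D.cent2 q hq)).symm]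
      have hev : (e : G) ≠ 1 ∧ (e : G) ≠ z := by
        rcases h' with h'' | h'' <;> rw [h'']
        · exact ⟨F.D.v2_ne, Ne.symm F.D.z_out.2.1⟩
        · rcases hw with hw' | hw' <;> rw [hw']
          · exact ⟨F.D.v3_ne, Ne.symm F.D.z_out.2.2⟩
          · rw [mul_assoc]
            refine ⟨fun e' => F.D.z_out.2.2 ?_, fun e' => F.D.v3_ne (mul_eq_left.mp e')⟩
            rw [mul_eq_one_iff_eq_inv.mp e', inv_eq_of_mul_eq_one_right (F.D.four_sq F.D.v3_mem_four)]
      exact (hEcen e.2 hcen).elim hev.1 hev.2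
    · rw [hA]; exact Subgroup.zpowers_le.mpr (hOmem.mpr F.D.v2Q)
    · rintro _ ⟨e, rfl⟩; exact hOmem.mpr (hEQ e.2)
    · obtain ⟨q, hq, rfl⟩ := hOsurj hy
      exact hdec hq
  -- derived subgroup and centraliser
  have hzc : ((φ zH : ↥(Subgroup.centralizer ({zb} : Set (↥C ⧸ (Subgroup.zpowers w).subgroupOf C)))) :
      ↥C ⧸ (Subgroup.zpowers w).subgroupOf C) = zb := by rw [hφval, hzb]; rfl
  have hJ' : ⁅O, O⁆ = Subgroup.zpowers (φ zH) := by
    refine le_antisymm (Subgroup.commutator_le.mpr fun a ha b hb => ?_) (Subgroup.zpowers_le.mpr ?_)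
    · obtain ⟨p, hp, rfl⟩ := hOsurj ha
      obtain ⟨q, hq, rfl⟩ := hOsurj hb
      rw [commutatorElement_def, ← map_inv, ← map_inv, ← map_mul, ← map_mul, ← map_mul]
      rcases F.D.comm _ hp _ hq with e | e
      · rw [show p * q * p⁻¹ * q⁻¹ = 1 from Subtype.ext e, map_one]; exact one_mem _
      · rw [show p * q * p⁻¹ * q⁻¹ = zH from Subtype.ext e]; exact Subgroup.mem_zpowers _
    · obtain ⟨x, hx, y, hy, hxy⟩ := F.exists_comm
      have h := Subgroup.commutator_mem_commutator (hOmem (x := ⟨x, hQle hx⟩) |>.mpr hx)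
        (hOmem (x := ⟨y, hQle hy⟩) |>.mpr hy)
      rw [commutatorElement_def, ← map_inv, ← map_inv, ← map_mul, ← map_mul, ← map_mul] at h
      rwa [show (⟨x, hQle hx⟩ : ↥H) * ⟨y, hQle hy⟩ * (⟨x, hQle hx⟩)⁻¹ * (⟨y, hQle hy⟩)⁻¹ = zH from
        Subtype.ext hxy] at h
  have hCJ : Subgroup.centralizer (O : Set ↥(Subgroup.centralizer ({zb} : Set (↥C ⧸ (Subgroup.zpowers w).subgroupOf C)))) ≤ O := by
    intro y hy
    obtain ⟨x, rfl⟩ := hφs y
    refine hOmem.mpr ?_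
    let P : Subgroup G :=
      { carrier := {d | Commute d z ∧ Commute d v1 ∧ ∀ q ∈ F.D.Q, d * q * d⁻¹ = q ∨ d * q * d⁻¹ = w * q}
        one_mem' := ⟨Commute.one_left z, Commute.one_left v1, fun q _ => Or.inl (by group)⟩
        mul_mem' := fun {a b} ha hb => ⟨ha.1.mul_left hb.1, ha.2.1.mul_left hb.2.1, fun q hq => by
          have haw : Commute a w := (hcw ha.1).mpr ha.2.1
          have e0 : a * b * q * (a * b)⁻¹ = a * (b * q * b⁻¹) * a⁻¹ := by group
          have e1 : a * (w * q) * a⁻¹ = w * (a * q * a⁻¹) := by rw [← mul_assoc, haw.eq]; group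
          rw [e0]
          rcases hb.2.2 q hq with e | e <;> rcases ha.2.2 q hq with e' | e' <;> rw [e]
          · exact Or.inl e'
          · exact Or.inr e'
          · exact Or.inr (by rw [e1, e'])
          · exact Or.inl (by rw [e1, e', ← mul_assoc, hw2, one_mul])⟩
        inv_mem' := fun {a} ha => ⟨ha.1.inv_left, ha.2.1.inv_left, fun q hq => by
          have haw : Commute a w := (hcw ha.1).mpr ha.2.1
          rcases ha.2.2 q hq with e | e
          · left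
            calc a⁻¹ * q * a⁻¹⁻¹ = a⁻¹ * (a * q * a⁻¹) * a⁻¹⁻¹ := by rw [e]
              _ = q := by group
          · right
            calc a⁻¹ * q * a⁻¹⁻¹ = a⁻¹ * (w * (a * q * a⁻¹)) * a⁻¹⁻¹ := by rw [e, ← mul_assoc w w, hw2, one_mul]
              _ = a⁻¹ * w * a * q := by group
              _ = w * q := by rw [mul_assoc a⁻¹ w a, ← haw.eq, inv_mul_cancel_left]⟩ }
    have hP2 : IsPGroup 2 P := fun d => by
      have hsq : (d : G) * d ∈ F.D.Q := F.self_mem (d.2.1.mul_left d.2.1) fun q hq => by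
        refine mul_inv_eq_iff_eq_mul.mp ?_
        have haw : Commute (d : G) w := (hcw d.2.1).mpr d.2.2.1
        rw [show (d : G) * d * q * ((d : G) * d)⁻¹ = d * (d * q * (d : G)⁻¹) * (d : G)⁻¹ by group]
        rcases d.2.2.2 q hq with e | e <;> rw [e]
        · exact e
        · rw [← mul_assoc (d : G) w q, haw.eq, mul_assoc w, mul_assoc w, e, ← mul_assoc, hw2, one_mul]
      obtain ⟨k, hk⟩ := (IsPGroup.of_card (n := 11) (by rw [F.card_Q]; norm_num) : IsPGroup 2 F.D.Q) ⟨_, hsq⟩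
      refine ⟨k + 1, Subtype.ext ?_⟩
      rw [pow_succ', pow_mul, Subgroup.coe_pow, Subgroup.coe_pow, pow_two, Subgroup.coe_one]
      exact congrArg Subtype.val hk
    refine F.two_le hP2 (fun d hd => hd.1) (fun d hd => hd.2.1) (fun e he he1 d hd =>
      ⟨(he.mul_left hd.1).mul_left he.inv_left, (he1.mul_left hd.2.1).mul_left he1.inv_left, fun q hq => ?_⟩)
      ⟨(hHm.mp x.2).1, (hHm.mp x.2).2, fun q hq => ?_⟩
    · have hew : Commute e w := (hcw he).mpr he1
      obtain ⟨q', hq', hqq⟩ : ∃ q' ∈ F.D.Q, q = e * q' * e⁻¹ :=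
        ⟨e⁻¹ * q * e, by simpa using F.D.normal e⁻¹ he.inv_left q hq, by group⟩
      rw [hqq, show e * d * e⁻¹ * (e * q' * e⁻¹) * (e * d * e⁻¹)⁻¹ = e * (d * q' * d⁻¹) * e⁻¹ by group]
      rcases hd.2.2 q' hq' with h | h <;> rw [h]
      · exact Or.inl rfl
      · right; rw [← mul_assoc e w, hew.eq]; group
    · have h := Subgroup.mem_centralizer_iff.mp hy (φ ⟨q, hQle hq⟩) (hOmem.mpr hq)
      rw [← map_mul, ← map_mul, hφeq] at h
      change q * (x : G) = (x : G) * q ∨ q * (x : G) = w * ((x : G) * q) at h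
      rcases h with h | h
      · left; rw [← h, mul_inv_cancel_right]
      · right
        rw [show (x : G) * q = w * (q * (x : G)) by rw [h, ← mul_assoc, hw2, one_mul]]
        group
  -- the isomorphism of the quotient
  obtain ⟨va⟩ := exists_autIso (F := F3) hF3
  let ψ1 : ↥H →* ↥Gam := F.R.ψ.comp (Subgroup.inclusion (fun x hx =>
    Subgroup.mem_centralizer_singleton_iff.mpr (hHm.mp hx).1.eq))
  have hψs : Function.Surjective ψ1 := fun f => by
    obtain ⟨d, hd, hd1, h⟩ := F.ψ_surj1 f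
    exact ⟨⟨d, hHm.mpr ⟨hd, hd1⟩⟩, h⟩
  have hψk : ψ1.ker = QH := by
    ext x
    rw [MonoidHom.mem_ker, hQHm]
    refine ⟨fun h => F.mem_Q_of_ker (hHm.mp x.2).1 (hHm.mp x.2).2 h, fun h => ?_⟩
    exact (F.R.ψ_ker _).mpr ⟨x, F.eQ ▸ h, Or.inl rfl⟩
  have hφk : ((QuotientGroup.mk' O).comp φ).ker = QH := by
    ext x
    rw [MonoidHom.mem_ker, hQHm, MonoidHom.comp_apply, QuotientGroup.mk'_apply, QuotientGroup.eq_one_iff, hOmem]
  let eH : (↥(Subgroup.centralizer ({zb} : Set (↥C ⧸ (Subgroup.zpowers w).subgroupOf C))) ⧸ O) ≃*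
      MulAut (Cfsg.PSp 2 F3) :=
    ((QuotientGroup.quotientKerEquivOfSurjective ((QuotientGroup.mk' O).comp φ)
      ((QuotientGroup.mk'_surjective O).comp hφs)).symm.trans
      ((QuotientGroup.quotientMulEquivOfEq (hφk.trans hψk.symm)).trans
        (QuotientGroup.quotientKerEquivOfSurjective ψ1 hψs))).trans va.symm
  subst hO
  rcases h22 (↥C ⧸ (Subgroup.zpowers w).subgroupOf C) zb hzo A fE.range hprod hAcard hExs hEc (φ zH) hzc hJ' hCJ eH
    with hsplit | hfour | hFi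
  · -- split
    left
    intro x hx hxt
    have hxC : x ∈ C := hCm.mpr hx
    haveI : (Cfsg.oddCore (↥C ⧸ (Subgroup.zpowers w).subgroupOf C)).Normal := Cfsg.pPrimeCore_normal 2 _
    obtain ⟨s, hs, o, ho, hso⟩ := Subgroup.mem_sup_of_normal_right.mp
      (hsplit ▸ Subgroup.mem_top (π ⟨x, hxC⟩) : π ⟨x, hxC⟩ ∈ _)
    have hsz : Commute s zb := Subgroup.mem_centralizer_singleton_iff.mp hs
    have ho' : π ⟨x, hxC⟩ * zb * (π ⟨x, hxC⟩)⁻¹ * zb⁻¹ ∈ Cfsg.oddCore (↥C ⧸ (Subgroup.zpowers w).subgroupOf C) := by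
      rw [← hso, show s * o * zb * (s * o)⁻¹ * zb⁻¹ = s * o * s⁻¹ * (s * zb * s⁻¹ * (s * o⁻¹ * s⁻¹) * zb⁻¹) by group,
        hsz.eq, mul_inv_cancel_right]
      exact Subgroup.mul_mem _ (Subgroup.Normal.conj_mem inferInstance o ho s)
        (Subgroup.Normal.conj_mem inferInstance _ (Subgroup.Normal.conj_mem inferInstance _ (inv_mem ho) s) zb)
    obtain ⟨k, hk⟩ : ∃ k, k = π ⟨x, hxC⟩ * zb * (π ⟨x, hxC⟩)⁻¹ * zb⁻¹ := ⟨_, rfl⟩
    rw [← hk] at ho'
    have hk2 : k * k = 1 := by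
      have hzi : zb⁻¹ = zb := inv_eq_of_mul_eq_one_right hz2'
      have hc : Commute zb (π ⟨x, hxC⟩ * zb * (π ⟨x, hxC⟩)⁻¹) := by
        rw [hzb, ← map_inv, ← map_mul, ← map_mul]
        exact (show Commute zC (⟨x, hxC⟩ * zC * (⟨x, hxC⟩)⁻¹) from Subtype.ext hxt.eq).map π
      rw [hk, hzi]
      calc π ⟨x, hxC⟩ * zb * (π ⟨x, hxC⟩)⁻¹ * zb * (π ⟨x, hxC⟩ * zb * (π ⟨x, hxC⟩)⁻¹ * zb)
          = π ⟨x, hxC⟩ * zb * (π ⟨x, hxC⟩)⁻¹ * (zb * (π ⟨x, hxC⟩ * zb * (π ⟨x, hxC⟩)⁻¹)) * zb := by group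
        _ = π ⟨x, hxC⟩ * (zb * zb) * (π ⟨x, hxC⟩)⁻¹ * (zb * zb) := by rw [hc.eq]; group
        _ = 1 := by rw [hz2']; group
    have hk1 : k = 1 := by
      have h1 : orderOf k ∣ 2 := orderOf_dvd_of_pow_eq_one (by rw [pow_two]; exact hk2)
      have h2 := Subgroup.orderOf_dvd_natCard _ ho'
      exact orderOf_eq_one_iff.mp (Nat.eq_one_of_dvd_coprimes
        (Nat.coprime_two_left.mpr (Char.card_oddCore_odd _)) h1 h2)
    rw [hk, mul_inv_eq_one, hzb, ← map_inv, ← map_mul, ← map_mul, hπ] at hk1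
    rcases hk1 with e | e
    · exact e
    · refine F.cls (g := x) ?_
      change x * z * x⁻¹ = w * z at e
      rw [e]
      rcases hw with h | h <;> rw [h]
      · exact ⟨v1, F.D.v1_mem_four, Or.inr (F.D.four_z F.D.v1_mem_four).eq⟩
      · exact ⟨v1, F.D.v1_mem_four, Or.inl (by
          rw [mul_assoc, (F.D.four_z F.D.v1_mem_four).eq, ← mul_assoc, F.D.z2, one_mul])⟩
  · -- the four-group
    right; right
    obtain ⟨z1, hz1o, hz1n, ⟨h1, hz1O, hz1c⟩, hz1N, G0, hz1G, hidx, hn0, ⟨e0⟩⟩ := hfour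
    have hz11 : z1 * z1 = 1 := by rw [← pow_two, ← hz1o, pow_orderOf_eq_one]
    obtain ⟨aH, haQ, haφ⟩ := hOsurj hz1O
    have haπ : π (Subgroup.inclusion hHC aH) = z1 := by rw [← hφval, haφ]
    have hacen : ∀ q ∈ F.D.Q, Commute (aH : G) q := fun q hq => by
      have h := hz1c (φ ⟨q, hQle hq⟩) (hOmem.mpr hq)
      rw [← haφ, ← map_mul, ← map_mul, hφeq] at h
      change q * (aH : G) = (aH : G) * q ∨ q * (aH : G) = w * ((aH : G) * q) at h
      rcases h with h | h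
      · exact h.symm
      · exfalso
        have h' := F.D.comm q hq (aH : G) haQ
        rw [show q * (aH : G) * q⁻¹ * (aH : G)⁻¹ = w by rw [h]; group] at h'
        exact h'.elim hw1 hwnz
    have haW : InW z (four v1 v2) (aH : G) := F.cen _ haQ hacen
    have hane : (aH : G) ≠ 1 ∧ (aH : G) ≠ z ∧ (aH : G) ≠ w ∧ (aH : G) ≠ w * z := by
      have hne : ∀ {y : ↥C}, π y = 1 ∨ π y = zb → (aH : G) ≠ (y : G) := fun {y} hy e => by
        apply hz1n
        rw [← haπ, show Subgroup.inclusion hHC aH = y from Subtype.ext e]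
        rcases hy with h | h <;> rw [h]
        exacts [one_mem _, Subgroup.mem_zpowers _]
      exact ⟨hne (y := 1) (Or.inl (map_one π)), hne (y := zC) (Or.inr hzb.symm),
        hne (y := ⟨w, hCm.mpr (Commute.refl w)⟩) (Or.inl (hπ1.mpr (Or.inr rfl))),
        hne (y := ⟨w, hCm.mpr (Commute.refl w)⟩ * zC) (Or.inr (by
          rw [map_mul, hπ1.mpr (Or.inr rfl : _ ∨ ((⟨w, hCm.mpr (Commute.refl w)⟩ : ↥C) : G) = w), one_mul, hzb]))⟩
    obtain ⟨P, hP⟩ : ∃ P : Subgroup G, P = (G0.comap π).map C.subtype := ⟨_, rfl⟩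
    have hPm : ∀ {x}, x ∈ P ↔ ∃ hx : x ∈ C, π ⟨x, hx⟩ ∈ G0 := fun {x} => by
      rw [hP]
      exact ⟨fun ⟨y, hy, e⟩ => e ▸ ⟨y.2, hy⟩, fun ⟨hx, h⟩ => ⟨⟨x, hx⟩, h, rfl⟩⟩
    haveI hG0n : G0.Normal := Subgroup.normal_of_index_eq_two hidx
    let p0 : ↥P →* ↥G0 := MonoidHom.mk' (fun x => ⟨π ⟨x, (hPm.mp x.2).1⟩, (hPm.mp x.2).2⟩) fun a b =>
      Subtype.ext (map_mul π ⟨(a : G), (hPm.mp a.2).1⟩ ⟨(b : G), (hPm.mp b.2).1⟩)
    haveI := hn0
    refine ⟨{
      a := (aH : G)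
      sq := F.D.W_sq haW
      comm := (hwQc _ haQ)
      ne := hane
      norm := fun x hx => ?_
      P := P
      P_le := fun x hx => hCm.mp (hPm.mp hx).1
      wP := hPm.mpr ⟨hCm.mpr (Commute.refl w), by rw [hπ1.mpr (Or.inr rfl)]; exact one_mem _⟩
      aP := hPm.mpr ⟨hHC aH.2, by
        rw [show (⟨(aH : G), hHC aH.2⟩ : ↥C) = Subgroup.inclusion hHC aH from rfl, haπ]; exact hz1G⟩
      P_norm := fun x hx p hp => by
        obtain ⟨hpC, hp0⟩ := hPm.mp hp
        refine hPm.mpr ⟨C.mul_mem (C.mul_mem (hCm.mpr hx) hpC) (C.inv_mem (hCm.mpr hx)), ?_⟩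
        have := hG0n.conj_mem _ hp0 (π ⟨x, hCm.mpr hx⟩)
        rwa [← map_inv, ← map_mul, ← map_mul] at this
      index := ?_
      φ := e0.toMonoidHom.comp ((QuotientGroup.mk' _).comp p0)
      φ_surj := e0.surjective.comp ((QuotientGroup.mk'_surjective _).comp fun y => ?_)
      φ_ker := fun p => ?_ }⟩
    · have hxC : x ∈ C := hCm.mpr hx
      have hc : π ⟨x, hxC⟩ * z1 * (π ⟨x, hxC⟩)⁻¹ = z1 := by
        rcases (mem_zp_two hz11).mp (hz1N.conj_mem z1 (Subgroup.mem_zpowers _) (π ⟨x, hxC⟩)) with e | e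
        · exfalso
          rw [conj_eq_one_iff.mp e, orderOf_one] at hz1o
          omega
        · exact e
      rw [← haπ, ← map_inv, ← map_mul, ← map_mul, hπ] at hc
      exact hc
    · rw [hP, Subgroup.card_map_of_injective C.subtype_injective, ← hC]
      have h1 := (G0.comap π).index_mul_card
      rw [Subgroup.index_comap_of_surjective _ (QuotientGroup.mk'_surjective _), hidx] at h1
      exact h1.symm
    · obtain ⟨c, hc⟩ := QuotientGroup.mk'_surjective _ (y : ↥C ⧸ (Subgroup.zpowers w).subgroupOf C)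
      exact ⟨⟨c, hPm.mpr ⟨c.2, by rw [show π ⟨(c : G), c.2⟩ = y from hc]; exact y.2⟩⟩, Subtype.ext hc⟩
    · rw [MonoidHom.comp_apply, MulEquiv.coe_toMonoidHom, MulEquiv.map_eq_one_iff, MonoidHom.comp_apply,
        QuotientGroup.mk'_apply, QuotientGroup.eq_one_iff, Subgroup.mem_subgroupOf, mem_zp_two hz11]
      show π ⟨(p : G), _⟩ = 1 ∨ π ⟨(p : G), _⟩ = z1 ↔ _
      rw [hπ1, ← haπ, hπ]
      show ((p : G) = 1 ∨ (p : G) = w) ∨ ((p : G) = aH ∨ (p : G) = w * aH) ↔ _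
      exact or_assoc
  · -- the sporadic cover
    right; left
    obtain ⟨e22⟩ := hFi
    haveI hsimple : IsSimpleGroup (↥C ⧸ (Subgroup.zpowers w).subgroupOf C) :=
      haveI := (Cfsg.Agent.S1696.result).1
      haveI : Nontrivial (↥C ⧸ (Subgroup.zpowers w).subgroupOf C) := ⟨⟨zb, 1, hzb1⟩⟩
      MulEquiv.isSimpleGroup e22
    obtain ⟨x, hx, y, hy, hxy⟩ := F.exists_comm
    have hcomm_ne : commutator (↥C ⧸ (Subgroup.zpowers w).subgroupOf C) ≠ ⊥ := fun hb => by
      apply hzb1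
      have h := Subgroup.commutator_mem_commutator (Subgroup.mem_top (π ⟨x, hHC (hQle hx)⟩))
        (Subgroup.mem_top (π ⟨y, hHC (hQle hy)⟩))
      rw [← commutator_def, hb, Subgroup.mem_bot, commutatorElement_def, ← map_inv, ← map_inv, ← map_mul,
        ← map_mul, ← map_mul] at h
      rw [hzb, ← h]
      exact congrArg π (Subtype.ext hxy.symm)
    have htop : commutator (↥C ⧸ (Subgroup.zpowers w).subgroupOf C) = ⊤ :=
      ((inferInstance : (commutator (↥C ⧸ (Subgroup.zpowers w).subgroupOf C)).Normal).eq_bot_or_eq_top).resolve_left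
        hcomm_ne
    have hzC' : zC ∈ commutator ↥C := by
      have h := Subgroup.commutator_mem_commutator (Subgroup.mem_top (⟨x, hHC (hQle hx)⟩ : ↥C))
        (Subgroup.mem_top (⟨y, hHC (hQle hy)⟩ : ↥C))
      rw [← commutator_def, commutatorElement_def] at h
      rwa [show zC = (⟨x, hHC (hQle hx)⟩ : ↥C) * ⟨y, hHC (hQle hy)⟩ * (⟨x, hHC (hQle hx)⟩)⁻¹ *
        (⟨y, hHC (hQle hy)⟩)⁻¹ from Subtype.ext hxy.symm]
    obtain ⟨h, hhz, hh1, hh2⟩ := F.D.swap
    have hhC : h ∈ C := hCm.mpr ((hcw hhz).mpr hh1)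
    have hv1C : (⟨v1, hHC (hQle F.D.v1Q)⟩ : ↥C) ∈ commutator ↥C := by
      have h' := Subgroup.commutator_mem_commutator (Subgroup.mem_top (⟨h, hhC⟩ : ↥C))
        (Subgroup.mem_top (⟨v2, hHC (hQle F.D.v2Q)⟩ : ↥C))
      rw [← commutator_def, commutatorElement_def] at h'
      rwa [show (⟨v1, hHC (hQle F.D.v1Q)⟩ : ↥C) = (⟨h, hhC⟩ : ↥C) * ⟨v2, hHC (hQle F.D.v2Q)⟩ * (⟨h, hhC⟩)⁻¹ *
        (⟨v2, hHC (hQle F.D.v2Q)⟩)⁻¹ from Subtype.ext (by
          show v1 = h * v2 * h⁻¹ * v2⁻¹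
          rw [hh2, mul_inv_cancel_right])]
    have hperf : commutator ↥C = ⊤ := by
      have hNle : (Subgroup.zpowers w).subgroupOf C ≤ commutator ↥C := fun n hn => by
        rcases (mem_zp_two hw2).mp hn with e | e
        · rw [show n = 1 from Subtype.ext e]; exact one_mem _
        · rcases hw with h' | h'
          · rw [show n = ⟨v1, hHC (hQle F.D.v1Q)⟩ from Subtype.ext (e.trans h')]; exact hv1C
          · rw [show n = zC * ⟨v1, hHC (hQle F.D.v1Q)⟩ from Subtype.ext (e.trans h')]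
            exact Subgroup.mul_mem _ hzC' hv1C
      refine eq_top_iff.mpr fun d _ => ?_
      have hd : π d ∈ (commutator ↥C).map π := by
        rw [commutator_def, Subgroup.map_commutator,
          Subgroup.map_top_of_surjective _ (QuotientGroup.mk'_surjective _), ← commutator_def, htop]
        exact Subgroup.mem_top _
      obtain ⟨d', hd', e⟩ := hd
      rw [show d = d' * (d'⁻¹ * d) by group]
      exact Subgroup.mul_mem _ hd' (hNle (QuotientGroup.eq.mp e))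
    have hcenle : Subgroup.center ↥C = (Subgroup.zpowers w).subgroupOf C := by
      refine le_antisymm (fun d hd => ?_) fun d hd => Subgroup.mem_center_iff.mpr fun g => Subtype.ext ?_
      · have h' : π d ∈ Subgroup.center (↥C ⧸ (Subgroup.zpowers w).subgroupOf C) :=
          Subgroup.mem_center_iff.mpr fun g => by
            obtain ⟨g', rfl⟩ := QuotientGroup.mk'_surjective _ g
            rw [← map_mul, ← map_mul, Subgroup.mem_center_iff.mp hd g']
        rcases (inferInstance : (Subgroup.center (↥C ⧸ (Subgroup.zpowers w).subgroupOf C)).Normal).eq_bot_or_eq_top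
          with hb | hb
        · rw [hb, Subgroup.mem_bot] at h'
          exact (QuotientGroup.eq_one_iff d).mp h'
        · exfalso
          apply hcomm_ne
          rw [commutator_def, eq_bot_iff, Subgroup.commutator_le]
          intro a _ b _
          rw [Subgroup.mem_bot, commutatorElement_eq_one_iff_mul_comm]
          exact (Subgroup.mem_center_iff.mp (hb ▸ Subgroup.mem_top b) a)
      · rcases (mem_zp_two hw2).mp hd with e | e
        · show (g : G) * d = d * g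
          rw [show (d : G) = 1 from e, one_mul, mul_one]
        · show (g : G) * d = d * g
          rw [show (d : G) = w from e]
          exact (hCm.mp g.2).eq
    subst hC
    haveI hsimp2 : IsSimpleGroup (↥(Subgroup.centralizer ({w} : Set G)) ⧸
        Subgroup.center ↥(Subgroup.centralizer ({w} : Set G))) :=
      haveI : Nontrivial (↥(Subgroup.centralizer ({w} : Set G)) ⧸
          Subgroup.center ↥(Subgroup.centralizer ({w} : Set G))) :=
        (QuotientGroup.quotientMulEquivOfEq hcenle).toEquiv.nontrivial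
      MulEquiv.isSimpleGroup (QuotientGroup.quotientMulEquivOfEq hcenle)
    refine Cfsg.Agent.S1714.result w (orderOf_eq_prime (by rw [pow_two]; exact hw2) hw1)
      ⟨⟨hperf⟩, hsimp2⟩ ⟨e22⟩ ⟨F.R.c, ?_, ?_⟩
    · rw [Subgroup.mem_centralizer_singleton_iff]
      refine (hwQc _ ?_).eq
      exact F.D.normal _ F.R.cz _ hwQ
    · have hcz : F.R.c * z * F.R.c⁻¹ = z := by rw [F.R.cz.eq, mul_inv_cancel_right]
      rcases hw with h' | h' <;> rw [h']
      · rw [F.c1]; exact Ne.symm F.D.v12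
      · rw [show F.R.c * (z * v1) * F.R.c⁻¹ = F.R.c * z * F.R.c⁻¹ * (F.R.c * v1 * F.R.c⁻¹) by group, hcz, F.c1]
        exact fun e => F.D.v12 (mul_left_cancel e).symm

end FData

end Cfsg.Agent.Spor.CHZ.FThree
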