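import Cfsg.Agent.Lib.Spor.CHZ.Orbit
import Cfsg.Agent.Lib.Spor.CHZ.Perp

/-!
The Hermitian space as a quadratic space over two elements: sizes of orthogonal subgroups.
-/

set_option autoImplicit false
set_option linter.unusedSectionVars false

namespace Cfsg.Agent.Spor.CHZ

open Cfsg.Agent.Spor.SpFour Cfsg.Agent.Small.Unitary

theorem real_B (x y : V) : B x y = 0 ∨ B x y = 1 :=
  F4_fixed _ (by rw [B_eq, star_add, star_star, add_comm])

/-- the orthogonal subgroup over two elements has the complementary order -/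
theorem card_B_perp (S : AddSubgroup V) : Nat.card S * {y : V | ∀ x ∈ S, B x y = 0}.ncard = 256 := by
  classical
  letI : Module (ZMod 2) V := AddCommGroup.zmodModule fun v => by rw [two_nsmul]; exact add_self v
  let q : V → ZMod 2 := fun x => if herm x x = 0 then 0 else 1
  have hb : ∀ x y, (q (x + y) + q x + q y = 0 ↔ B x y = 0) := by
    intro x y
    have h := q_add x y
    simp only [q]
    rcases q_cases x with a | a <;> rcases q_cases y with b | b <;> rcases real_B x y with c | c <;>
      rw [a, b, c] at h <;> rw [a, b, c, h] <;> decide +kernel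
  let R : Rep V :=
    { ρ := fun g => sp g
      q := q
      one := fun x => by rw [map_one]; rfl
      mul := fun g h x => by rw [map_mul]; rfl
      add := fun g => (sp_lin g).add
      q_act := fun g x => by show q (sp g x) = q x; simp only [q, (sp_lin g).herm]
      q_zero := by simp [q, herm_zero_left]
      biadd := fun x y u => by
        have e : B (x + y) u = B x u + B y u := B_add_left x y u
        have key : ∀ a b c : ZMod 2, ∀ a' b' c' : F4, (a = 0 ↔ a' = 0) → (b = 0 ↔ b' = 0) → (c = 0 ↔ c' = 0) →
            (b' = 0 ∨ b' = 1) → (c' = 0 ∨ c' = 1) → a' = b' + c' → a = b + c := by decide +kernel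
        exact key _ _ _ _ _ _ (hb _ _) (hb _ _) (hb _ _) (real_B _ _) (real_B _ _) e
      nondeg := fun x hx => by
        obtain ⟨y, hy⟩ := exists_B_ne hx
        exact ⟨y, ((show ∀ a : ZMod 2, a = 0 ∨ a = 1 by decide) _).resolve_left fun h => hy ((hb x y).mp h)⟩
      card := card_V
      faithful := fun g hg => sp_inj (Equiv.ext fun x => by rw [hg x, map_one]; rfl) }
  have h := R.card_perp S
  rw [← h]
  congr 1
  show {y : V | ∀ x ∈ S, B x y = 0}.ncard = Nat.card ↥(R.perp S)
  rw [← Nat.card_coe_set_eq]
  exact Nat.card_congr (Equiv.setCongr (Set.ext fun y =>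
    ⟨fun hy x hx => (hb x y).mpr (hy x hx), fun hy x hx => (hb x y).mp (hy x hx)⟩))

/-- a totally isotropic subgroup -/
theorem B_isotropic_le (S : AddSubgroup V) (h : ∀ x ∈ S, ∀ y ∈ S, B x y = 0) : Nat.card S ≤ 16 := by
  have hc := card_B_perp S
  have hle : (S : Set V).ncard ≤ {y : V | ∀ x ∈ S, B x y = 0}.ncard :=
    Set.ncard_le_ncard fun y hy x hx => h x hx y hy
  rw [← Nat.card_coe_set_eq, show Nat.card ↥(S : Set V) = Nat.card S from rfl] at hle
  nlinarith

/-- sixteen isotropic vectors are their own orthogonal -/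
theorem B_self_perp (S : AddSubgroup V) (h : ∀ x ∈ S, ∀ y ∈ S, B x y = 0) (h16 : 16 ≤ Nat.card S) {y : V}
    (hy : ∀ x ∈ S, B x y = 0) : y ∈ S := by
  have hc := card_B_perp S
  have e : (S : Set V) = {y : V | ∀ x ∈ S, B x y = 0} := Set.eq_of_subset_of_ncard_le
    (fun y hy x hx => h x hx y hy) (by
      rw [← Nat.card_coe_set_eq (S : Set V), show Nat.card ↥(S : Set V) = Nat.card S from rfl]
      nlinarith)
  exact (show y ∈ (S : Set V) from e ▸ hy)

end Cfsg.Agent.Spor.CHZ
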