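import Cfsg.Agent.Lib.Spor.CHZ.Orbit

/-!
A linear involution with totally isotropic fixed space is the product of the transvections at two standard
orthogonal points in suitable coordinates.
-/

set_option autoImplicit false
set_option maxRecDepth 100000
set_option maxHeartbeats 1000000
set_option linter.unusedSectionVars false

namespace Cfsg.Agent.Spor.CHZ

open Cfsg.Agent.Spor.SpFour Cfsg.Agent.Small.Unitary Cfsg.Agent.Spor.UnitaryTrans

/-- the second point -/
def w0 : V := ![0, 0, 1, 1]

theorem w0_ok : herm w0 w0 = 0 ∧ herm v0 w0 = 0 ∧ w0 ≠ 0 := by decide +kernel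

/-- words in the centres carrying the point to the standard one -/
def toW0 (q : V) : Bool :=
  !decide (herm q q = 0 ∧ herm v0 q = 0 ∧ q ≠ 0 ∧ q ≠ v0 ∧ q ≠ F4.w • v0 ∧ q ≠ F4.v • v0) ||
    [F4.i, F4.w, F4.v].any (fun c => decide (q = c • w0)) ||
    centres.any (fun u => [F4.i, F4.w, F4.v].any fun c => decide (q + delta u q = c • w0)) ||
    centres.any (fun u => centres.any fun u' => [F4.i, F4.w, F4.v].any fun c =>
      decide (q + delta u q + delta u' (q + delta u q) = c • w0))

theorem toW0_ok : ∀ q : V, toW0 q = true := by decide +kernel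

theorem exists_frame0 {q : V} (hqq : herm q q = 0) (hq : herm v0 q = 0) (hne : ∀ c : F4, q ≠ c • v0) :
    ∃ g : L, sp g v0 = v0 ∧ ∃ c : F4, c ≠ 0 ∧ sp g w0 = c • q := by
  have hu : ∀ u ∈ centres, ∃ g : L, sp g v0 = v0 ∧ ∀ x, sp g x = x + delta u x := fun u hu => by
    have hc := List.all_eq_true.mp centres_ok u hu
    rw [decide_eq_true_eq] at hc
    exact ⟨tvL u hc.1, by rw [sp_tvL, hc.2, zero_smul, add_zero], fun x => sp_tvL u hc.1 x⟩
  suffices h : ∃ g : L, sp g v0 = v0 ∧ ∃ c : F4, c ≠ 0 ∧ sp g q = c • w0 by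
    obtain ⟨g, hg, c, hc, hgq⟩ := h
    refine ⟨g⁻¹, ?_, c⁻¹, inv_ne_zero hc, ?_⟩
    · conv_lhs => rw [← hg]
      rw [map_inv]; simp
    · rw [← (sp g).apply_eq_iff_eq, (sp_lin g).smul, hgq, smul_smul, inv_mul_cancel₀ hc, one_smul, map_inv]
      simp
  have hi : ∀ c ∈ [F4.i, F4.w, F4.v], c ≠ 0 := by decide +kernel
  have h := toW0_ok q
  simp only [toW0, Bool.or_eq_true, Bool.not_eq_true', decide_eq_false_iff_not, decide_eq_true_eq,
    List.any_eq_true] at h
  rcases h with ((h | ⟨c, hc, e⟩) | ⟨u, hu', c, hc, e⟩) | ⟨u, hu', u', hu'', c, hc, e⟩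
  · refine absurd ⟨hqq, hq, fun e => hne 0 (by rw [zero_smul]; exact e), fun e => hne 1 (by rw [one_smul]; exact e),
      hne _, hne _⟩ h
  · exact ⟨1, by simp, c, hi c hc, by simpa using e⟩
  · obtain ⟨g, hg, hgx⟩ := hu u hu'
    exact ⟨g, hg, c, hi c hc, by rw [hgx]; exact e⟩
  · obtain ⟨g, hg, hgx⟩ := hu u hu'
    obtain ⟨g', hg', hgx'⟩ := hu u' hu''
    exact ⟨g' * g, by rw [map_mul, Equiv.Perm.mul_apply, hg, hg'], c, hi c hc,
      by rw [map_mul, Equiv.Perm.mul_apply, hgx, hgx']; exact e⟩

theorem card_hyper {p x : V} (hpx : herm p x = 1) : 64 ≤ {y | herm p y = 0}.ncard := by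
  have hc : Nat.card V ≤ Nat.card ↥{y | herm p y = 0} * Nat.card F4 := by
    rw [← Nat.card_prod]
    refine Nat.card_le_card_of_injective (fun y : V => ((⟨y + herm p y • x, by
      show herm p _ = 0
      rw [herm_add_right, herm_smul_right, hpx, mul_one, CharTwo.add_self_eq_zero]⟩ :
        {y | herm p y = 0}), herm p y)) ?_
    intro y y' e
    simp only [Prod.mk.injEq, Subtype.mk.injEq] at e
    rw [e.2] at e
    exact add_right_cancel e.1
  rw [card_V, Nat.card_coe_set_eq, Nat.card_eq_fintype_card, F4.card] at hc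
  omega

/-- the standard involution -/
def tau0 (x : V) : V := x + herm v0 x • v0 + herm w0 x • w0

theorem exists_frame {f : Equiv.Perm V} (hf : Lin f) (h2 : f * f = 1) (h16 : (fixS f).ncard = 16) :
    ∃ a : L, ∀ x, f (sp a x) = sp a (tau0 x) := by
  have hs : Semi f := Or.inl hf
  have adj : ∀ y x, herm (f y + y) x = herm y (f x + x) := fun y x => by
    rw [herm_add_left, herm_add_right]
    conv_lhs => arg 1; rw [← hf.herm]
    rw [← Equiv.Perm.mul_apply, h2, Equiv.Perm.one_apply]
  have hnz : ∃ x, herm (f x + x) x ≠ 0 := by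
    by_contra hall
    push Not at hall
    have hrange : ∀ y, f y + y = 0 := by
      intro y
      by_contra hy
      obtain ⟨x, hx⟩ := exists_herm_val hy F4.w
      have h := hall (y + x)
      rw [hf.add, show f y + f x + (y + x) = (f y + y) + (f x + x) by abel] at h
      rw [herm_add_left, herm_add_right (f y + y), herm_add_right (f x + x), hall y, hall x, zero_add, add_zero,
        hx, adj, ← star_herm, hx] at h
      exact absurd h (by decide +kernel)
    have : fixS f = Set.univ := Set.eq_univ_of_forall fun y => add_cancel' (hrange y)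
    rw [this, Set.ncard_univ, card_V] at h16
    omega
  obtain ⟨x, hx⟩ := hnz
  obtain ⟨p, hp⟩ : ∃ p, p = f x + x := ⟨_, rfl⟩
  have hfp : f p = p := hp ▸ image_fixed hs h2 x
  have hpp : herm p p = 0 := hp ▸ hf.herm_image_fix (hp ▸ hfp) x
  have hpx : herm p x = 1 := by
    refine (F4_fixed _ ?_).resolve_left (hp ▸ hx)
    rw [star_herm, hp]
    exact (adj x x).symm
  have hp0 : p ≠ 0 := fun e => by rw [e, herm_zero_left] at hpx; exact zero_ne_one hpx
  obtain ⟨k, hk⟩ : ∃ k, k = f * sp (tvL p hpp) := ⟨_, rfl⟩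
  have hkx : ∀ y, k y = f y + herm p y • p := fun y => by
    rw [hk, Equiv.Perm.mul_apply, sp_tvL, hf.add, hf.smul, hfp]
  have hkl : Lin k := hk ▸ hf.mul (sp_lin _)
  have hk2 : k * k = 1 := Equiv.ext fun y => by
    rw [Equiv.Perm.mul_apply, hkx, hkx, hf.add, hf.smul, hfp, herm_add_right, herm_smul_right, hpp, mul_zero,
      add_zero, ← Equiv.Perm.mul_apply, h2]
    have e : herm p (f y) = herm p y := by conv_lhs => arg 1; rw [← hfp]
                                           exact hf.herm p y
    rw [e, Equiv.Perm.one_apply, add_assoc, ← add_smul, CharTwo.add_self_eq_zero, zero_smul, add_zero]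
  have hkp : k p = p := by rw [hkx, hfp, hpp, zero_smul, add_zero]
  have hkfix : k x = x := by rw [hkx, hpx, one_smul, hp, ← add_assoc, add_self, zero_add]
  have hk1 : k ≠ 1 := by
    intro e
    have hsub : {y | herm p y = 0} ⊆ fixS f := fun y hy => by
      have := hkx y
      rw [e, Equiv.Perm.one_apply, show herm p y = 0 from hy, zero_smul, add_zero] at this
      exact this.symm
    have hc := card_hyper hpx
    have := Set.ncard_le_ncard hsub
    omega
  rcases hkl.invol_cases hk2 hk1 with ⟨hk16, -⟩ | ⟨q, hq0, hqq, hkq⟩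
  · exfalso
    have hfk : ∀ y, f y = y → k y = y := fun y hy => by
      have h0 : herm p y = 0 := hp ▸ hf.herm_image_fix hy x
      rw [hkx, hy, h0, zero_smul, add_zero]
    have hsub : fixS f ∪ {x} ⊆ fixS k := by
      rintro y (hy | rfl)
      exacts [hfk y hy, hkfix]
    have hxf : x ∉ fixS f := fun e => hp0 (by rw [hp, show f x = x from e, add_self])
    have := Set.ncard_le_ncard hsub
    rw [Set.ncard_union_eq (Set.disjoint_singleton_right.mpr hxf), Set.ncard_singleton, h16, hk16] at this
    omega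
  · have hpq : herm q p = 0 := by
      have := hkq p
      rw [hkp, left_eq_add, smul_eq_zero] at this
      exact this.resolve_right hq0
    have hne : ∀ c : F4, q ≠ c • p := fun c e => by
      rcases eq_or_ne c 0 with rfl | hc
      · exact hq0 (by rw [e, zero_smul])
      have hsub : {y | herm p y = 0} ⊆ fixS f := fun y hy => by
        have := hkx y
        rw [hkq, e, herm_smul_left, show herm p y = 0 from hy, mul_zero, zero_smul, zero_smul, add_zero,
          add_zero] at this
        exact this.symm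
      have hc := card_hyper hpx
      have := Set.ncard_le_ncard hsub
      omega
    obtain ⟨a, ha⟩ := exists_move v0_ok.1 v0_ok.2 hp0 hpp
    have hq' : ∀ c : F4, sp a⁻¹ q ≠ c • v0 := fun c e => hne c (by
      rw [← ha, ← (sp_lin a).smul, ← e, map_inv]; simp)
    obtain ⟨g, hg, c, hc, hgw⟩ := exists_frame0 (q := sp a⁻¹ q)
      (by rw [(sp_lin _).herm]; exact hqq) (by
        rw [← (sp_lin a).herm, ha, map_inv]
        simp only [Equiv.Perm.inv_def, Equiv.apply_symm_apply]
        rw [← star_herm, hpq, star_zero]) hq'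
    refine ⟨a * g, fun y => ?_⟩
    have e1 : sp (a * g) v0 = p := by rw [map_mul, Equiv.Perm.mul_apply, hg, ha]
    have e2 : sp (a * g) w0 = c • q := by
      rw [map_mul, Equiv.Perm.mul_apply, hgw, (sp_lin a).smul, map_inv]; simp
    have e3 : ∀ u, herm u y = herm (sp (a * g) u) (sp (a * g) y) := fun u => ((sp_lin _).herm _ _).symm
    rw [tau0, (sp_lin _).add, (sp_lin _).add, (sp_lin _).smul, (sp_lin _).smul, e3 v0, e3 w0, e1, e2,
      herm_smul_left, smul_smul]
    generalize sp (a * g) y = Y
    have hcc : ∀ c : F4, c ≠ 0 → star c * c = 1 := by decide +kernel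
    rw [show star c * herm q Y * c = herm q Y by rw [mul_right_comm, hcc c hc, one_mul]]
    have := hkq Y
    rw [hkx] at this
    rw [add_right_comm, ← this, add_assoc, ← add_smul, CharTwo.add_self_eq_zero, zero_smul, add_zero]

/-! ### the standard involution -/

/-- a diagonal element of order three -/
def rot (x : V) : V := ![F4.w * x 0, F4.w * x 1, F4.v * x 2, F4.v * x 3]

/-- the exchange of the two points -/
def swp (x : V) : V := ![x 2, x 3, x 0, x 1]

/-- as elements -/
def rotL : L := mkSU hstar (Matrix.diagonal ![F4.w, F4.w, F4.v, F4.v]) (by decide +kernel) (by decide +kernel)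

/-- as elements -/
def swpL : L := mkSU hstar (!![0, 0, 1, 0; 0, 0, 0, 1; 1, 0, 0, 0; 0, 1, 0, 0]) (by decide +kernel) (by decide +kernel)

theorem sp_rot : ∀ x : V, sp rotL x = rot x := by decide +kernel

theorem sp_swp : ∀ x : V, sp swpL x = swp x := by decide +kernel

theorem rot_comm : ∀ x : V, rot (tau0 x) = tau0 (rot x) := by decide +kernel

theorem swp_comm : ∀ x : V, swp (tau0 x) = tau0 (swp x) := by decide +kernel

/-- a list of the combinations of the two points -/
def line0 : List V :=
  [F4.o, F4.i, F4.w, F4.v].flatMap fun a => [F4.o, F4.i, F4.w, F4.v].map fun b => a • v0 + b • w0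

theorem line0_ok : ∀ x : V, tau0 x = x → x ∈ line0 := by decide +kernel

theorem rot_moves : ∀ w ∈ line0, rot w = w → w = 0 := by decide +kernel

/-- partners of the fixed vectors -/
def pre0 (w : V) : List V :=
  [F4.o, F4.i, F4.w, F4.v].flatMap fun a => ([F4.o, F4.i, F4.w, F4.v].map fun b =>
    (![a, 0, b, 0] : V)).filter fun y => decide (tau0 y + y = w)

theorem no_plane : ∀ w1 ∈ line0, ∀ w2 ∈ line0, ∀ y ∈ pre0 w1, w1 ≠ 0 → w2 ≠ 0 → w1 ≠ w2 →
    B y w2 ≠ 0 → (rot w1 ∈ [w1, w2, w1 + w2] ∧ rot w2 ∈ [w1, w2, w1 + w2] ∧ swp w1 ∈ [w1, w2, w1 + w2] ∧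
      swp w2 ∈ [w1, w2, w1 + w2]) → False := by decide +kernel

theorem pre0_ok : ∀ w ∈ line0, pre0 w ≠ [] := by decide +kernel

end Cfsg.Agent.Spor.CHZ
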