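import Cfsg.Agent.Lib.Spor.CHZ.Invol
import Cfsg.Agent.Lib.Spor.CHZ.TwoTv
import Cfsg.Agent.Lib.Spor.CHZ.HermPerp

/-!
Lemmas on the Hermitian space used for the centraliser with a centre of order eight: linear involutions, the
vectors they fix, and the elements of order three commuting with them.
-/

set_option autoImplicit false
set_option maxRecDepth 100000
set_option maxHeartbeats 800000
set_option linter.unusedSectionVars false

namespace Cfsg.Agent.Spor.CHZ.FThree

open Cfsg.Agent.Spor.SpFour Cfsg.Agent.Small.Unitary Cfsg.Agent.Spor.UnitaryTrans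

/-- the vectors orthogonal to one -/
def perpB (e : V) : AddSubgroup V where
  carrier := {x | B x e = 0}
  zero_mem' := by show B 0 e = 0; rw [B_comm]; exact B_zero_right e
  add_mem' := fun {a b} ha hb => by show B (a + b) e = 0; rw [B_add_left, ha, hb, add_zero]
  neg_mem' := fun {a} ha => by rw [neg_eq']; exact ha

theorem mem_perpB {e x : V} : x ∈ perpB e ↔ B x e = 0 := Iff.rfl

theorem card_perpB (e : V) : 128 ≤ (perpB e : Set V).ncard := by
  have h := card_B_perp (AddSubgroup.zmultiples e)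
  have hle : Nat.card (AddSubgroup.zmultiples e) ≤ 2 := by
    rw [Nat.card_zmultiples]
    exact addOrderOf_le_of_nsmul_eq_zero (by norm_num) (by rw [two_nsmul, add_self])
  have heq : {y : V | ∀ x ∈ AddSubgroup.zmultiples e, B x y = 0} = (perpB e : Set V) := by
    ext y
    refine ⟨fun h => ?_, fun h x hx => ?_⟩
    · show B y e = 0
      rw [B_comm]; exact h e (AddSubgroup.mem_zmultiples e)
    · obtain ⟨k, rfl⟩ := AddSubgroup.mem_zmultiples_iff.mp hx
      have h' : B e y = 0 := by rw [B_comm]; exact h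
      rcases Int.even_or_odd' k with ⟨j, rfl | rfl⟩
      · rw [mul_comm, mul_zsmul, two_zsmul, add_self, zsmul_zero, B_comm]; exact B_zero_right y
      · rw [add_zsmul, mul_comm, mul_zsmul, two_zsmul, add_self, zsmul_zero, one_zsmul, zero_add]; exact h'
  rw [heq] at h
  nlinarith

/-- only the identity fixes a hyperplane over two elements -/
theorem fix_perpB {f : Equiv.Perm V} (hf : Semi f) {e : V} (h : ∀ x, B x e = 0 → f x = x) : f = 1 := by
  by_contra hne
  have h1 : (perpB e : Set V).ncard ≤ (fixS f).ncard := Set.ncard_le_ncard fun x hx => h x hx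
  have h2 := card_perpB e
  rcases hf with hl | ha
  · have := hl.card_fix hne; omega
  · have := ha.card_fix; omega

theorem B_e0 : ∀ e : V, (∀ x : V, herm x x = 0 → B x e = 0) → e = 0 := by decide +kernel

/-- the fixed singular vectors of an anti-linear involution -/
def sing (f : Equiv.Perm V) : Set V := {r | f r = r ∧ herm r r = 0}

theorem card_sing {f : Equiv.Perm V} (hf : Anti f) (h2 : f * f = 1) : 8 ≤ (sing f).ncard := by
  have hs : Semi f := Or.inr hf
  obtain ⟨h16, hr⟩ := hf.fix_range h2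
  by_cases hall : ∀ r, f r = r → herm r r = 0
  · rw [show sing f = fixS f from Set.ext fun r => ⟨fun h => h.1, fun h => ⟨h, hall r h⟩⟩, h16]; norm_num
  push Not at hall
  obtain ⟨r1, hr1, hq1⟩ := hall
  have hB : ∀ {a b}, f a = a → f b = b → B a b = 0 := fun {a b} ha hb => by
    obtain ⟨x, hx⟩ := (show a ∈ Set.range fun x => f x + x from hr ▸ ha)
    rw [← hx]; exact B_image_fix hs hb x
  have hcov : fixS f ⊆ sing f ∪ (fun r => r + r1) '' sing f := by
    intro r hfr
    rcases q_cases r with h | h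
    · exact Or.inl ⟨hfr, h⟩
    · refine Or.inr ⟨r + r1, ⟨by rw [hs.add, show f r = r from hfr, hr1], ?_⟩, ?_⟩
      · rw [q_add, h, (q_cases r1).resolve_left hq1, hB hfr hr1, add_zero, CharTwo.add_self_eq_zero]
      · show r + r1 + r1 = r
        rw [add_assoc, add_self, add_zero]
  have h := (Set.ncard_le_ncard hcov).trans (Set.ncard_union_le _ _)
  have h' : ((fun r => r + r1) '' sing f).ncard ≤ (sing f).ncard := Set.ncard_image_le
  omega

/-- linear maps fixing the singular fixed vectors of an anti-linear involution fix a lot -/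
theorem anti_large {f g : Equiv.Perm V} (hf : Anti f) (h2 : f * f = 1) (hg : Lin g)
    (hfix : ∀ r, f r = r → herm r r = 0 → g r = r) : 64 ≤ (fixS g).ncard := by
  have h8 := card_sing hf h2
  have hc : (sing f).ncard * (sing f).ncard ≤ (fixS g).ncard := by
    rw [← Nat.card_coe_set_eq, ← Nat.card_prod, ← Nat.card_coe_set_eq (fixS g)]
    refine Nat.card_le_card_of_injective (fun p : ↥(sing f) × ↥(sing f) => (⟨(p.1 : V) + F4.w • (p.2 : V), by
      show g _ = _
      rw [hg.add, hg.smul, hfix _ p.1.2.1 p.1.2.2, hfix _ p.2.2.1 p.2.2.2]⟩ : ↥(fixS g))) ?_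
    rintro ⟨a, b⟩ ⟨a', b'⟩ e
    have e2 := swap_sum (congrArg Subtype.val e)
    rw [← smul_add] at e2
    have hb : (b : V) + b' = 0 := by
      by_contra hne
      have h1 : f ((b : V) + b') = (b : V) + b' := by rw [hf.add, b.2.1, b'.2.1]
      have h3 : f (F4.w • ((b : V) + b')) = F4.w • ((b : V) + b') := by rw [← e2, hf.add, a.2.1, a'.2.1]
      exact absurd (hf.fix_meet h1 h3 hne) (by decide +kernel)
    have hb' : b = b' := Subtype.ext (add_cancel' hb)
    rw [hb, smul_zero] at e2
    exact Prod.ext (Subtype.ext (add_cancel' e2)) hb'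
  nlinarith

theorem gen_v0 : ∀ v : V, herm v0 v = 0 →
    ∃ a : V, herm v0 a = 0 ∧ herm a a = 0 ∧ herm (v + a) (v + a) = 0 := by decide +kernel

/-- singular vectors generate the orthogonal of a singular one -/
theorem gen_perp {p : V} (hp0 : p ≠ 0) (hp : herm p p = 0) {v : V} (hv : herm p v = 0) :
    ∃ a : V, herm p a = 0 ∧ herm a a = 0 ∧ herm (v + a) (v + a) = 0 := by
  obtain ⟨g, hg⟩ := exists_move v0_ok.1 v0_ok.2 hp0 hp
  obtain ⟨a, h1, h2, h3⟩ := gen_v0 (sp g⁻¹ v) (by
    rw [← (sp_lin g).herm, hg, map_inv]; simpa using hv)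
  refine ⟨sp g a, by rw [← hg, (sp_lin g).herm]; exact h1, by rw [(sp_lin g).herm]; exact h2, ?_⟩
  rw [show v + sp g a = sp g (sp g⁻¹ v + a) by rw [(sp_lin g).add, map_inv]; simp, (sp_lin g).herm]
  exact h3

/-- the map of a transvection determines its point -/
theorem tv_fix {u : V} (hu : u ≠ 0) {f : Equiv.Perm V} (hf : ∀ x, f x = x + herm u x • u) {x : V} :
    f x = x ↔ herm u x = 0 := by
  rw [hf, add_eq_left, smul_eq_zero]
  exact or_iff_left hu

theorem herm_smul_inv : ∀ (u : V) (c : F4), c ≠ 0 → ∀ x : V, herm (c • u) x • (c • u) = herm u x • u := by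
  intro u c hc x
  rw [herm_smul_left, smul_smul]
  have h : ∀ c a : F4, c ≠ 0 → star c * a * c = a := by decide +kernel
  rw [h c _ hc]

/-- the points orthogonal to the same vectors -/
theorem point_eq {p u : V} (hp : p ≠ 0) (h : ∀ x, herm p x = 0 → herm u x = 0) : ∃ c : F4, u = c • p := by
  obtain ⟨w, hw⟩ := exists_herm_val hp 1
  refine ⟨star (herm u w), ?_⟩
  have key : ∀ x, herm u x = herm u w * herm p x := fun x => by
    have h' := h (x + herm p x • w) (by
      rw [herm_add_right, herm_smul_right, hw, mul_one, CharTwo.add_self_eq_zero])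
    rw [herm_add_right, herm_smul_right, CharTwo.add_eq_zero] at h'
    rw [h', mul_comm]
  by_contra hne
  have hd : u + star (herm u w) • p ≠ 0 := fun e => hne (add_cancel' e)
  obtain ⟨x, hx⟩ := exists_herm_ne hd
  rw [herm_add_left, herm_smul_left, star_star, ← key, CharTwo.add_self_eq_zero] at hx
  exact hx rfl

/-- the standard elements: the element of order three moves the fixed vectors -/
theorem rot_v0 : rot v0 = F4.w • v0 := by decide +kernel

theorem rot_sq : ∀ x : V, rot (rot (rot (rot x))) = rot x := by decide +kernel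

theorem tv_rot : ∀ x : V, rot x + herm v0 (rot x) • v0 = rot (x + herm v0 x • v0) := by decide +kernel

/-- at an involution fixing sixteen vectors a square commuting with it moves every nonzero fixed one, and only
that involution commutes with all the squares -/
theorem two_type {f : Equiv.Perm V} (hf : Lin f) (h2 : f * f = 1) (h16 : (fixS f).ncard = 16) :
    ∃ g : L, sp g * f = f * sp g ∧ (∀ x, f x = x → sp (g * g) x = x → x = 0) ∧
      ∀ σ : Equiv.Perm V, Lin σ → fixS σ = fixS f → sp (g * g) * σ = σ * sp (g * g) → σ = f := by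
  obtain ⟨a, ha⟩ := exists_frame hf h2 h16
  refine ⟨a * (rotL * rotL) * a⁻¹, ?_, ?_, ?_⟩
  all_goals
    have hgx : ∀ y, sp (a * (rotL * rotL) * a⁻¹) (sp a y) = sp a (rot (rot y)) := fun y => by
      simp [map_mul, map_inv, sp_rot]
    have hg2 : ∀ y, sp (a * (rotL * rotL) * a⁻¹ * (a * (rotL * rotL) * a⁻¹)) (sp a y) = sp a (rot y) := fun y => by
      rw [map_mul, Equiv.Perm.mul_apply, hgx, hgx, rot_sq]
    have hsurj : ∀ x, ∃ y, sp a y = x := (sp a).surjective
  · refine Equiv.ext fun x => ?_
    obtain ⟨y, rfl⟩ := hsurj x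
    rw [Equiv.Perm.mul_apply, Equiv.Perm.mul_apply, ha, hgx, hgx, ha, rot_comm, rot_comm]
  · intro x hx hx2
    obtain ⟨y, rfl⟩ := hsurj x
    rw [ha] at hx
    rw [hg2] at hx2
    rw [rot_moves y (line0_ok y ((sp a).injective hx)) ((sp a).injective hx2), Semi.zero (Or.inl (sp_lin a))]
  · intro σ hσ hfix hc
    obtain ⟨s, hs⟩ : ∃ s : Equiv.Perm V, s = (sp a)⁻¹ * σ * sp a := ⟨_, rfl⟩
    have hsx : ∀ y, σ (sp a y) = sp a (s y) := fun y => by rw [hs]; simp
    have hsl : Lin s := hs ▸ ((sp_lin a).inv.mul hσ).mul (sp_lin a)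
    have hsfix : ∀ y, s y = y ↔ tau0 y = y := fun y => by
      have h : σ (sp a y) = sp a y ↔ f (sp a y) = sp a y := Set.ext_iff.mp hfix (sp a y)
      rw [hsx, ha, EmbeddingLike.apply_eq_iff_eq, EmbeddingLike.apply_eq_iff_eq] at h
      exact h
    have hrot : ∀ y, s (rot y) = rot (s y) := fun y => by
      have h := congrArg (fun p : Equiv.Perm V => p (sp a y)) hc
      simp only [Equiv.Perm.mul_apply, hsx, hg2] at h
      exact ((sp a).injective h).symm
    obtain ⟨e0, he0⟩ : ∃ e : V, e = ![1, 0, 0, 0] := ⟨_, rfl⟩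
    obtain ⟨e2, he2⟩ : ∃ e : V, e = ![0, 0, 1, 0] := ⟨_, rfl⟩
    have hv : s v0 = v0 := (hsfix v0).mpr (by decide +kernel)
    have hw : s w0 = w0 := (hsfix w0).mpr (by decide +kernel)
    have k0 : ∀ x : V, rot x = F4.w • x → herm x v0 = 1 → herm x x = 1 → x = ![1, 0, 0, 0] ∨ x = ![0, 1, 0, 0] := by
      decide +kernel
    have k2 : ∀ x : V, rot x = F4.v • x → herm x w0 = 1 → herm x x = 1 → x = ![0, 0, 1, 0] ∨ x = ![0, 0, 0, 1] := by
      decide +kernel
    have h0 : s e0 = ![0, 1, 0, 0] := by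
      refine (k0 (s e0) ?_ ?_ ?_).resolve_left fun e => ?_
      · rw [← hrot, show rot e0 = F4.w • e0 by subst he0; decide +kernel, hsl.smul]
      · conv_lhs => rw [← hv]
        rw [hsl.herm]; subst he0; decide +kernel
      · rw [hsl.herm]; subst he0; decide +kernel
      · have := (hsfix e0).mp (e.trans he0.symm)
        subst he0; revert this; decide +kernel
    have h2' : s e2 = ![0, 0, 0, 1] := by
      refine (k2 (s e2) ?_ ?_ ?_).resolve_left fun e => ?_
      · rw [← hrot, show rot e2 = F4.v • e2 by subst he2; decide +kernel, hsl.smul]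
      · conv_lhs => rw [← hw]
        rw [hsl.herm]; subst he2; decide +kernel
      · rw [hsl.herm]; subst he2; decide +kernel
      · have := (hsfix e2).mp (e.trans he2.symm)
        subst he2; revert this; decide +kernel
    have hdec : ∀ y : V, y = y 1 • v0 + (y 0 + y 1) • ![1, 0, 0, 0] + y 3 • w0 + (y 2 + y 3) • ![0, 0, 1, 0] := by
      decide +kernel
    have hval : ∀ y : V, tau0 y =
        y 1 • v0 + (y 0 + y 1) • ![0, 1, 0, 0] + y 3 • w0 + (y 2 + y 3) • ![0, 0, 0, 1] := by
      decide +kernel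
    refine Equiv.ext fun x => ?_
    obtain ⟨y, rfl⟩ := hsurj x
    rw [hsx, ha]
    congr 1
    rw [hval y]
    conv_lhs => rw [hdec y]
    rw [hsl.add, hsl.add, hsl.add, hsl.smul, hsl.smul, hsl.smul, hsl.smul, hv, hw, ← he0, ← he2, h0, h2']

/-- at a transvection a square commuting with it moves the nonzero multiples of its point -/
theorem tv_type {u : V} (hu0 : u ≠ 0) (hu : herm u u = 0) {f : Equiv.Perm V} (hf : ∀ x, f x = x + herm u x • u) :
    ∃ g : L, sp g * f = f * sp g ∧ ∀ c : F4, sp (g * g) (c • u) = c • u → c = 0 := by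
  obtain ⟨a, ha⟩ := exists_move v0_ok.1 v0_ok.2 hu0 hu
  have hgx : ∀ y, sp (a * (rotL * rotL) * a⁻¹) (sp a y) = sp a (rot (rot y)) := fun y => by
    simp [map_mul, map_inv, sp_rot]
  have hfx : ∀ y, f (sp a y) = sp a (y + herm v0 y • v0) := fun y => by
    rw [hf, (sp_lin a).add, (sp_lin a).smul, ← ha, (sp_lin a).herm]
  refine ⟨a * (rotL * rotL) * a⁻¹, Equiv.ext fun x => ?_, fun c hc => ?_⟩
  · obtain ⟨y, rfl⟩ := (sp a).surjective x
    rw [Equiv.Perm.mul_apply, Equiv.Perm.mul_apply, hfx, hgx, hgx, hfx]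
    congr 1
    rw [← tv_rot, ← tv_rot]
  · rw [← ha, ← (sp_lin a).smul, map_mul, Equiv.Perm.mul_apply, hgx, hgx, rot_sq] at hc
    have key : ∀ c : F4, rot (c • v0) = c • v0 → c = 0 := by decide +kernel
    exact key c ((sp a).injective hc)

end Cfsg.Agent.Spor.CHZ.FThree
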