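import Cfsg.Agent.Lib.Spor.CHZ.MainA
import Cfsg.Agent.Lib.Spor.CHZ.CaseB

/-!
The extraspecial centraliser with quotient the unitary group: either the known group or the odd core.
-/

set_option autoImplicit false
set_option linter.unusedSectionVars false

namespace Cfsg.Agent.Spor.CHZ

open Cfsg.Agent.Spor.SpFour Cfsg.Agent.Small.Unitary

universe w

variable {G : Type w} [Group G] [Finite G] {z : G}

theorem setup_or_caseB (K : Core z) : (∃ S : Setup z, Full S) ∨ K.toRep.CaseB := by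
  rcases K.toRep.cases with hA | hB
  · obtain ⟨φ, hlin, hq⟩ := K.toRep.model hA
    obtain ⟨S, hS, -⟩ := K.exists_setup φ hlin hq
    exact Or.inl ⟨S, hS⟩
  · exact Or.inr hB

theorem main_core (K : Core z) (hz : orderOf z = 2) {F : Type*} [Field F] [Fintype F] (hF : Fintype.card F = 4) :
    Nonempty (G ≃* Cfsg.PSU 6 F 2) ∨ Subgroup.centralizer ({z} : Set G) ⊔ Cfsg.oddCore G = ⊤ := by
  by_cases h : ∀ g : G, (K.conj g).toRep.CaseB
  · refine Or.inr (sup_eq_top_of_isolated hz fun g hc => ?_)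
    by_contra hne
    refine Core.no_commuting_conjugate (z₀ := z) (fun x hx => ?_) (IsConj.refl z) (isConj_iff.mpr ⟨g, rfl⟩) hc.symm hne
    obtain ⟨a, rfl⟩ := isConj_iff.mp hx
    exact ⟨K.conj a, h a⟩
  push Not at h
  obtain ⟨g, hg⟩ := h
  obtain ⟨S, hS⟩ := (setup_or_caseB (K.conj g)).resolve_right hg
  have key : ∀ {x : G} (S : Setup x), Full S → x = z →
      Nonempty (G ≃* Cfsg.PSU 6 F 2) ∨ Subgroup.centralizer ({z} : Set G) ⊔ Cfsg.oddCore G = ⊤ := by
    intro x T hT e
    subst e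
    exact main_setup hT hz hF
  exact key (S.conj g⁻¹) (hS.conj g⁻¹) (by group)

end Cfsg.Agent.Spor.CHZ
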