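import Cfsg.Agent.Lib.Spor.CHZ.OrbitB

/-!
A fixed plane and three planes: no large totally singular subgroup is invariant under the stabiliser of one of its
vectors.
-/

set_option autoImplicit false
set_option linter.unusedSectionVars false

namespace Cfsg.Agent.Spor.CHZ.Rep

open Cfsg.Agent.Spor.SpFour Cfsg.Agent.Small.Unitary

universe w

set_option synthInstance.maxSize 2000 in
theorem five_key : ∀ m < 9, ∀ l < 9, 4 ≤ 2 ^ m → 2 ^ m ≤ 16 → 2 ≤ 2 ^ l → 2 ^ l ≤ 4 → 2 ^ m % 5 = 2 ^ l % 5 →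
    2 ^ m = 4 ∧ 2 ^ l = 4 := by decide

variable {M : Type w} [AddCommGroup M] [Module (ZMod 2) M] [Finite M] (R : Rep M)

/-- the fixed plane and three planes -/
def CaseB : Prop :=
  (∀ k : Fin 14, ((k : ℕ) = 0 ∨ 11 ≤ (k : ℕ)) → (R.piece k).ncard = 4) ∧
    ∀ k : Fin 14, 1 ≤ (k : ℕ) → (k : ℕ) ≤ 10 → (R.piece k).ncard = 1

variable (hB : R.CaseB)
include hB

theorem U_exists : ∃ u ∈ R.piece 0, u ≠ 0 := by
  by_contra hall
  push Not at hall
  have h4 := hB.1 0 (Or.inl rfl)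
  rw [show R.piece 0 = {0} from Set.eq_singleton_iff_unique_mem.mpr ⟨R.zero_mem _, hall⟩,
    Set.ncard_singleton] at h4
  omega

/-- the fixed plane is no part of the complement of the vectors fixed by a map fixing it -/
theorem U_not_perp (F : AddSubgroup M) (hU : ∀ u ∈ R.piece 0, u ∈ F) : ∃ u ∈ R.piece 0, u ∉ R.perp F := by
  obtain ⟨u, hu, hu0⟩ := R.U_exists hB
  obtain ⟨v, hv, hb⟩ := R.U_nondeg hB hu hu0
  refine ⟨u, hu, fun h => ?_⟩
  have h' := h v (hU v hv)
  rw [R.b_comm] at h'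
  exact one_ne_zero (hb.symm.trans h')

theorem isotropic_U {E : AddSubgroup M} (hiso : ∀ x ∈ E, ∀ y ∈ E, R.b x y = 0) {u u' : M} (hu : u ∈ R.piece 0)
    (hu' : u' ∈ R.piece 0) (huE : u ∈ E) (hu0 : u ≠ 0) (hperp : R.b u u' = 0) : u' = 0 ∨ u' = u := by
  classical
  by_contra hne
  push Not at hne
  obtain ⟨v, hv, hb⟩ := R.U_nondeg hB hu hu0
  have hsub : (({0, u, u', u + u'} : Finset M) : Set M) ⊆ R.piece 0 := by
    intro x hx
    simp only [Finset.coe_insert, Finset.coe_singleton, Set.mem_insert_iff, Set.mem_singleton_iff] at hx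
    rcases hx with rfl | rfl | rfl | rfl
    exacts [R.zero_mem _, hu, hu', R.add_mem hu hu']
  have hne' : u + u' ≠ 0 := fun e => hne.2 (by
    calc u' = u + (u + u') := by rw [← add_assoc, R.self_add, zero_add]
      _ = u := by rw [e, add_zero])
  have h4 : (({0, u, u', u + u'} : Finset M) : Set M).ncard = 4 := by
    rw [Set.ncard_coe_finset, Finset.card_insert_of_notMem (by simp [Ne.symm hu0, Ne.symm hne.1, Ne.symm hne']),
      Finset.card_insert_of_notMem (by simp [Ne.symm hne.2, hne.1]),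
      Finset.card_insert_of_notMem (by simp [hu0]), Finset.card_singleton]
  rw [← Set.eq_of_subset_of_ncard_le hsub (by rw [h4, hB.1 0 (Or.inl rfl)]) (Set.toFinite _)] at hv
  simp only [Finset.coe_insert, Finset.coe_singleton, Set.mem_insert_iff, Set.mem_singleton_iff] at hv
  rcases hv with rfl | rfl | rfl | rfl
  · exact zero_ne_one ((R.b_zero_right u).symm.trans hb)
  · exact zero_ne_one ((R.b_self _).symm.trans hb)
  · exact zero_ne_one (hperp.symm.trans hb)
  · rw [R.b_add_right, R.b_self, hperp, add_zero] at hb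
    exact zero_ne_one hb

/-- no large totally singular subgroup is invariant under the stabiliser of one of its vectors -/
theorem no_large (E : AddSubgroup M) (hq : ∀ x ∈ E, R.q x = 0) (h8 : 8 ≤ Nat.card E) {v : M} (hv : v ∈ E)
    (hv0 : v ≠ 0) (hstab : ∀ g, R.ρ g v = v → ∀ x ∈ E, R.ρ g x ∈ E) : False := by
  classical
  have hiso : ∀ x ∈ E, ∀ y ∈ E, R.b x y = 0 := fun x hx y hy => by
    rw [b, hq x hx, hq y hy, hq _ (E.add_mem hx hy), add_zero, add_zero]
  have h16 := R.isotropic_le hiso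
  -- the part outside the fixed plane
  let wp : M →+ M := AddMonoidHom.mk' R.wpart R.wpart_add
  obtain ⟨EW, hEW⟩ : ∃ EW : AddSubgroup M, EW = E.map wp := ⟨_, rfl⟩
  have hker : Nat.card (wp.comp E.subtype).ker ≤ 2 := by
    by_cases hall : ∀ x : (wp.comp E.subtype).ker, x = 0
    · rw [(Nat.card_eq_one_iff_unique).mpr ⟨⟨fun a c => (hall a).trans (hall c).symm⟩, ⟨0⟩⟩]
      norm_num
    push Not at hall
    obtain ⟨a, ha⟩ := hall
    have hU : ∀ x : (wp.comp E.subtype).ker, ((x : E) : M) ∈ R.piece 0 := fun x =>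
      R.wpart_eq_zero.mp (show wp ((x : E) : M) = 0 from x.2)
    have ha0 : ((a : E) : M) ≠ 0 := fun e => ha (Subtype.ext (Subtype.ext e))
    have hinj : Function.Injective (fun x : (wp.comp E.subtype).ker => decide (((x : E) : M) = 0)) := by
      intro x y e
      simp only [decide_eq_decide] at e
      refine Subtype.ext (Subtype.ext ?_)
      rcases R.isotropic_U hB hiso (hU a) (hU x) a.1.2 ha0 (hiso _ a.1.2 _ x.1.2) with hx | hx <;>
        rcases R.isotropic_U hB hiso (hU a) (hU y) a.1.2 ha0 (hiso _ a.1.2 _ y.1.2) with hy | hy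
      · rw [hx, hy]
      · exact absurd (e.mp hx) (by rw [hy]; exact ha0)
      · exact absurd (e.mpr hy) (by rw [hx]; exact ha0)
      · rw [hx, hy]
    have := Nat.card_le_card_of_injective _ hinj
    rwa [Nat.card_eq_fintype_card (α := Bool), Fintype.card_bool] at this
  have hprod : Nat.card (wp.comp E.subtype).ker * Nat.card EW = Nat.card E := by
    have h := (wp.comp E.subtype).ker.card_mul_index
    rwa [AddSubgroup.index_ker, AddMonoidHom.range_comp, AddSubgroup.range_subtype, ← hEW] at h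
  have h4 : 4 ≤ Nat.card EW := by nlinarith
  have hW : ∀ y ∈ EW, R.S (pf 0) y = 0 := by
    rw [hEW]
    rintro _ ⟨x, -, rfl⟩
    exact R.wpart_proj x
  -- a vector and an element of order five
  obtain ⟨w, hw, hw0, g, hg, hgv, hgw⟩ : ∃ w ∈ EW, w ≠ 0 ∧ ∃ g, orderOf g = 5 ∧ R.ρ g v = v ∧ R.ρ g w = w := by
    by_cases hvU : v ∈ R.piece 0
    · obtain ⟨⟨w, hw⟩, hw0⟩ : ∃ x : EW, x ≠ 0 := by
        haveI : Nontrivial EW := Finite.one_lt_card_iff_nontrivial.mp (by omega)
        exact exists_ne 0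
      have hw0' : w ≠ 0 := fun e => hw0 (Subtype.ext e)
      obtain ⟨g, hg, hgw⟩ := R.five_stab hB (v := w) (fun hU => hw0' (by rw [← hW w hw]; exact hU.symm))
      exact ⟨w, hw, hw0', g, hg, R.fixed_u hB g hvU, hgw⟩
    · obtain ⟨g, hg, hgv⟩ := R.five_stab hB hvU
      exact ⟨R.wpart v, hEW ▸ AddSubgroup.mem_map_of_mem wp hv, fun e => hvU (R.wpart_eq_zero.mp e), g, hg, hgv,
        by rw [← R.wpart_act hB, hgv]⟩
  have hclosed : ∀ y ∈ EW, R.ρ g y ∈ EW := by
    rw [hEW]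
    rintro _ ⟨x, hx, rfl⟩
    exact ⟨R.ρ g x, hstab g hgv x hx, R.wpart_act hB g x⟩
  have hmod := R.five_count (hg ▸ pow_orderOf_eq_one g) (EW : Set M) hclosed
  obtain ⟨hfix, hpair⟩ := R.five_fix hB hg
  let Fx : AddSubgroup M :=
    { carrier := {x | x ∈ EW ∧ R.ρ g x = x}
      zero_mem' := ⟨EW.zero_mem, R.ρ_zero g⟩
      add_mem' := fun {a c} ha hc => ⟨EW.add_mem ha.1 hc.1, by rw [R.add, ha.2, hc.2]⟩
      neg_mem' := fun {a} ha => by
        rw [show -a = a from neg_eq_of_add_eq_zero_left (R.self_add a)]; exact ha }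
  have hsub : (Fx : Set M) ⊆ {x | R.S (pf 0) x = 0 ∧ R.ρ g x = x} := fun x hx => ⟨hW x hx.1, hx.2⟩
  have hFle : Nat.card Fx ≤ 4 := by
    rw [show Nat.card Fx = (Fx : Set M).ncard from Nat.card_coe_set_eq _, ← hfix]
    exact Set.ncard_le_ncard hsub
  have hF2 : 2 ≤ Nat.card Fx := by
    haveI : Nontrivial Fx := ⟨⟨w, hw, hgw⟩, 0, fun e => hw0 (congrArg Subtype.val e)⟩
    exact Finite.one_lt_card
  have hm : Nat.card EW % 5 = Nat.card Fx % 5 := by
    rw [show Nat.card EW = (EW : Set M).ncard from Nat.card_coe_set_eq _,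
      show Nat.card Fx = (Fx : Set M).ncard from Nat.card_coe_set_eq _]
    exact hmod
  obtain ⟨m, hm8, hmE⟩ : ∃ m, m ≤ 8 ∧ Nat.card EW = 2 ^ m := by
    obtain ⟨m, hm8, hmE⟩ := (Nat.dvd_prime_pow Nat.prime_two).mp (show Nat.card EW ∣ 2 ^ 8 by
      rw [show (2 : ℕ) ^ 8 = Nat.card M by rw [R.card]; norm_num]
      exact AddSubgroup.card_addSubgroup_dvd_card EW)
    exact ⟨m, hm8, hmE⟩
  have hEW16 : Nat.card EW ≤ 16 := by
    have := Nat.card_pos (α := (wp.comp E.subtype).ker)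
    nlinarith
  obtain ⟨l, hl8, hlF⟩ := (Nat.dvd_prime_pow Nat.prime_two).mp (show Nat.card Fx ∣ 2 ^ 8 by
    rw [show (2 : ℕ) ^ 8 = Nat.card M by rw [R.card]; norm_num]
    exact AddSubgroup.card_addSubgroup_dvd_card Fx)
  have h44 : Nat.card EW = 4 ∧ Nat.card Fx = 4 := by
    have key := five_key
    rw [hmE, hlF]
    exact key m (by omega) l (by omega) (hmE ▸ h4) (hmE ▸ hEW16) (hlF ▸ hF2) (hlF ▸ hFle) (by rw [← hmE, ← hlF]; exact hm)
  obtain ⟨y, hy0, hyg, hwy⟩ := hpair w (hW w hw) hgw hw0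
  have hyE : y ∈ EW := by
    have heq : (Fx : Set M) = {x | R.S (pf 0) x = 0 ∧ R.ρ g x = x} := Set.eq_of_subset_of_ncard_le hsub (by
      rw [hfix, ← h44.2]; exact (Nat.card_coe_set_eq _).le) (Set.toFinite _)
    have : y ∈ (Fx : Set M) := by rw [heq]; exact ⟨hy0, hyg⟩
    exact this.1
  rw [hEW] at hw hyE
  obtain ⟨e, he, hew⟩ := hw
  obtain ⟨f, hf, hfy⟩ := hyE
  have hk2 : Nat.card (wp.comp E.subtype).ker ≠ 1 := fun h1 => by rw [h1, one_mul, h44.1] at hprod; omega
  obtain ⟨a, ha⟩ : ∃ a : (wp.comp E.subtype).ker, a ≠ 0 := by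
    by_contra hall
    push Not at hall
    exact hk2 ((Nat.card_eq_one_iff_unique).mpr ⟨⟨fun p r => (hall p).trans (hall r).symm⟩, ⟨0⟩⟩)
  have haU : ((a : E) : M) ∈ R.piece 0 := R.wpart_eq_zero.mp (show wp ((a : E) : M) = 0 from a.2)
  have ha0 : ((a : E) : M) ≠ 0 := fun h => ha (Subtype.ext (Subtype.ext h))
  have hUpart : ∀ x ∈ E, R.S (pf 0) x = 0 ∨ R.S (pf 0) x = a := fun x hx =>
    R.isotropic_U hB hiso haU (R.proj_mem 0 x) a.1.2 ha0 (by rw [← R.b_left_U hB haU]; exact hiso _ a.1.2 _ hx)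
  have h0 := hiso e he f hf
  rw [R.wpart_b hB, show R.wpart e = w from hew, show R.wpart f = y from hfy, hwy] at h0
  have h1 : R.b (R.S (pf 0) e) (R.S (pf 0) f) = 0 := by
    rcases hUpart e he with p | p <;> rcases hUpart f hf with r | r <;> rw [p, r]
    exacts [R.b_zero_left _, R.b_zero_left _, R.b_zero_right _, R.b_self _]
  rw [h1, zero_add] at h0
  exact one_ne_zero h0

end Cfsg.Agent.Spor.CHZ.Rep
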