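import Cfsg.Agent.Lib.Spor.CHZ.XCore
import Cfsg.Agent.Lib.Spor.CHZ.NoLarge

/-!
A fixed plane and three planes, with the automorphism group as quotient: the involution has no other conjugate
in its centraliser.
-/

set_option autoImplicit false
set_option linter.unusedSectionVars false
set_option maxHeartbeats 1600000

namespace Cfsg.Agent.Spor.CHZ

open Cfsg.Agent.Spor.SpFour Cfsg.Agent.Small.Unitary

universe w

namespace Rep

variable {M : Type w} [AddCommGroup M] [Module (ZMod 2) M] [Finite M] (R : Rep M) (hB : R.CaseB)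
include hB

/-- only the fixed plane is fixed -/
theorem mem_U_of_fixed {v : M} (h : ∀ g, R.ρ g v = v) : v ∈ R.piece 0 := by
  have hz : ∀ j : Fin 3, R.S (pf (kW j)) v = 0 := by
    intro j
    obtain ⟨a, ha, -⟩ := kW_dual j
    refine R.free (kW_ne j) (b := a) (by rw [ha]; decide) (R.proj_mem _ v) ?_
    rw [← R.S_dl, R.S_conv]
    calc R.S (conv (dl a) (pf (kW j))) v = ∑ b, conv (dl a) (pf (kW j)) b • v := by simp only [S, h]
      _ = R.S (pf (kW j)) (R.ρ (dg a) v) := by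
          rw [← R.S_dl, R.S_conv]
          simp only [S, h]
          rw [show conv (dl a) (pf (kW j)) = conv (pf (kW j)) (dl a) from funext fun b => ?_]
          simp only [conv]
          exact Fintype.sum_equiv (Equiv.subLeft b) _ _ fun c => by simp [mul_comm]
      _ = R.S (pf (kW j)) v := by rw [h]
  show R.S (pf 0) v = v
  conv_rhs => rw [← R.split_sum hB v]
  simp [hz]

/-- the two standard involutions differ on their commutators -/
theorem std_one_moves : ∃ s ∈ (R.dI (sw 0 * sw 2)).range, R.q s ≠ 0 := by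
  have hσb : Function.Bijective fun a => swA 0 (swA 2 a) :=
    (Function.Involutive.bijective (swA_invol 0)).comp (Function.Involutive.bijective (swA_invol 2))
  obtain ⟨r1, hr1, hr10, ⟨y1, -, e1⟩, -⟩ := R.plane_anti hB sw02_sq sw02_dg
    (fun a => (fn_sw02 a).2 1 (by decide)) (fun x hx => R.move_mem hσb sw02_dg (pf_sw02 1) hx)
  exact ⟨r1, ⟨y1, e1⟩, by rw [R.q_plane hB hr1 hr10]; exact one_ne_zero⟩

/-- distinct nonzero vectors of the fixed plane are not orthogonal -/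
theorem U_pair {u u' : M} (hu : u ∈ R.piece 0) (hu' : u' ∈ R.piece 0) (hu0 : u ≠ 0) (hu'0 : u' ≠ 0)
    (hne : u' ≠ u) : R.b u u' ≠ 0 := by
  intro h
  have hmul : ∀ x ∈ AddSubgroup.zmultiples u, x = 0 ∨ x = u := by
    intro x hx
    obtain ⟨k, rfl⟩ := AddSubgroup.mem_zmultiples_iff.mp hx
    rcases Int.even_or_odd' k with ⟨j, rfl | rfl⟩
    · left; rw [mul_comm, mul_zsmul, two_zsmul, R.self_add, zsmul_zero]
    · right; rw [add_zsmul, mul_comm, mul_zsmul, two_zsmul, R.self_add, zsmul_zero, one_zsmul, zero_add]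
  rcases R.isotropic_U hB (E := AddSubgroup.zmultiples u) (fun x hx y hy => by
    rcases hmul x hx with rfl | rfl
    · exact R.b_zero_left y
    · rcases hmul y hy with rfl | rfl
      exacts [R.b_zero_right _, R.b_self _]) hu hu' (AddSubgroup.mem_zmultiples u) hu0 h with e | e
  exacts [hu'0 e, hne e]

end Rep

namespace XCore

variable {G : Type w} [Group G] [Finite G]

/-- a commuting second involution is not in the subgroup of the first -/
theorem not_mem {z t : G} (X : XCore z) (hB : X.R.CaseB) (T : XCore t) (hne : t ≠ z) : t ∉ X.Q := by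
  classical
  intro htQ
  have htz : Commute t z := X.cent t htQ
  have hv0 : X.vec t ≠ 0 := fun e => by
    rcases (X.vec_eq_zero htQ).mp e with h | h
    exacts [T.z1 h, hne h]
  obtain ⟨E0, hE0⟩ : ∃ E0 : Subgroup G, E0 = X.Q ⊓ Subgroup.centralizer ({t} : Set G) := ⟨_, rfl⟩
  have hE0c : E0 ≤ Subgroup.centralizer ({t} : Set G) := hE0 ▸ inf_le_right
  have hE0Q : E0 ≤ X.Q := hE0 ▸ inf_le_left
  have hmemE0 : ∀ {y}, y ∈ X.Q → Commute y t → y ∈ E0 := fun hy hc =>
    hE0 ▸ ⟨hy, Subgroup.mem_centralizer_singleton_iff.mpr hc.eq⟩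
  have hcard0 : Nat.card E0 = 256 := hE0 ▸ X.card_cent_mem htQ T.z1 hne
  have hD : E0 ⊓ T.Q = X.Q ⊓ T.Q :=
    le_antisymm (inf_le_inf_right _ hE0Q) fun x hx => ⟨hmemE0 hx.1 (T.cent x hx.2), hx.2⟩
  have hcomm_t : ∀ {y}, y ∈ E0 → Commute y t := fun hy =>
    Subgroup.mem_centralizer_singleton_iff.mp (hE0c hy)
  by_cases hz : z ∈ T.Q
  · -- the meet is large
    obtain ⟨F0, hF0⟩ : ∃ F0 : Subgroup G, F0 = T.Q ⊓ Subgroup.centralizer ({z} : Set G) := ⟨_, rfl⟩
    have hF0c : F0 ≤ Subgroup.centralizer ({z} : Set G) := hF0 ▸ inf_le_right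
    have hcard1 : Nat.card F0 = 256 := hF0 ▸ T.card_cent_mem hz X.z1 hne.symm
    have hD1 : F0 ⊓ X.Q = X.Q ⊓ T.Q := by
      rw [hF0]
      exact le_antisymm (fun x hx => ⟨hx.2, hx.1.1⟩) fun x hx =>
        ⟨⟨hx.2, Subgroup.mem_centralizer_singleton_iff.mpr (X.cent x hx.1).eq⟩, hx.1⟩
    have hel : Nat.card (X.image F0 hF0c) ≤ 16 := by
      refine Two.elementary_le' (X.isPGroup_image (T.isPGroup_Q.to_le (hF0 ▸ inf_le_left))) fun x hx => ?_
      obtain ⟨c, hc, rfl⟩ := X.mem_image.mp hx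
      have hcz : Commute c z := Subgroup.mem_centralizer_singleton_iff.mp (hF0c hc)
      rw [← X.img_mul hcz hcz]
      refine X.img_Q ?_
      rcases T.sq c ((hF0 ▸ inf_le_left : F0 ≤ T.Q) hc) with e | e <;> rw [e]
      exacts [X.Q.one_mem, htQ]
    have hprod := X.card_image F0 hF0c
    rw [hD1, hcard1] at hprod
    have hdis : ∀ {a : G}, a = 1 ∨ a = z → a = 1 ∨ a = t → a = 1 := fun {a} h h' => by
      rcases h with h | h
      · exact h
      · exact h'.resolve_right fun e => hne (e.symm.trans h)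
    have hsing : ∀ x ∈ X.Q ⊓ T.Q, x * x = 1 := fun x hx => hdis (X.sq x hx.1) (T.sq x hx.2)
    have hDK : X.Q ⊓ T.Q ≤ X.Q := inf_le_left
    have hE := X.card_vecS_of_mem hDK ⟨X.zQ, hz⟩
    refine X.R.no_large hB (X.vecS _ hDK) (fun v hv => ?_) (by nlinarith)
      (X.mem_vecS.mpr ⟨t, ⟨htQ, T.zQ⟩, rfl⟩) hv0 fun g hg v hv => ?_
    · obtain ⟨x, hx, rfl⟩ := X.mem_vecS.mp hv
      exact (X.sq_vec hx.1).mpr (hsing x hx)
    · obtain ⟨x, hx, rfl⟩ := X.mem_vecS.mp hv
      obtain ⟨c, hcz, hcg⟩ := X.img_surj (ι g)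
      rw [← X.act_lin hcz hcg, X.act_vec hcz htQ] at hg
      obtain ⟨c', hc'z, hc't, hc'img⟩ : ∃ c', Commute c' z ∧ c' * t * c'⁻¹ = t ∧ X.img c' = X.img c := by
        rcases (X.vec_iff (X.normal c hcz t htQ) htQ).mp hg with e | e
        · exact ⟨c, hcz, e.symm, rfl⟩
        · obtain ⟨y, hy, hyt⟩ : ∃ y ∈ X.Q, ¬ Commute t y := by
            by_contra hall
            push Not at hall
            rcases X.center t htQ hall with h | h
            exacts [T.z1 h, hne h]
          have hyt' : y * t * y⁻¹ = t * z :=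
            (X.conj_cases hy htQ).resolve_left fun h => hyt (mul_inv_eq_iff_eq_mul.mp h).symm
          refine ⟨y * c, (X.cent y hy).mul_left hcz, ?_, by rw [X.img_mul (X.cent y hy) hcz, X.img_Q hy, one_mul]⟩
          have e' : c * t * c⁻¹ = t * z := by
            conv_rhs => rw [e, mul_assoc, X.z2, mul_one]
          calc y * c * t * (y * c)⁻¹ = y * (c * t * c⁻¹) * y⁻¹ := by group
            _ = y * t * y⁻¹ * (y * z * y⁻¹) := by rw [e']; group
            _ = t := by rw [hyt', (X.cent y hy).eq, mul_inv_cancel_right, mul_assoc, X.z2, mul_one]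
      rw [← X.act_lin hc'z (hc'img.trans hcg), X.act_vec hc'z hx.1]
      exact X.mem_vecS.mpr ⟨_, ⟨X.normal c' hc'z x hx.1, T.normal c' (mul_inv_eq_iff_eq_mul.mp hc't) x hx.2⟩, rfl⟩
  · -- the meet is central and small
    obtain ⟨H, hH⟩ : ∃ H, H = X.R.perp (AddSubgroup.zmultiples (X.vec t)) := ⟨_, rfl⟩
    obtain ⟨hHcard, hHpre⟩ := X.cent_half htQ T.z1 hne
    rw [← hH] at hHcard hHpre
    have hP2 : Nat.card (X.R.perp H) = 2 := by
      have h := X.R.card_perp H
      rw [hHcard] at h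
      omega
    have hDle : ∀ d ∈ X.Q ⊓ T.Q, d = 1 ∨ d = t := by
      intro d hd
      have hcomm : ∀ y ∈ E0, Commute y d := fun y hy => by
        rcases X.comm y (hE0Q hy) d hd.1 with e | e
        · exact mul_inv_eq_iff_eq_mul.mp (mul_inv_eq_one.mp e)
        · exact absurd (e ▸ T.Q.mul_mem (T.normal y (hcomm_t hy) d hd.2) (T.Q.inv_mem hd.2)) hz
      have hperp : ∀ {x}, x ∈ X.Q → (∀ y ∈ E0, Commute y x) → X.vec x ∈ X.R.perp H := fun {x} hx hxc h hh => by
        obtain ⟨y, hy, rfl⟩ := X.vec_surj h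
        exact (X.b_zero hy hx).mpr (hxc y (hmemE0 hy ((hHpre y hy).mpr hh)))
      have hdv : X.vec d = 0 ∨ X.vec d = X.vec t := by
        by_contra hh
        push Not at hh
        have h3 : 3 ≤ (X.R.perp H : Set X.Sp).ncard := by
          refine le_trans ?_ (Set.ncard_le_ncard (s := (({0, X.vec t, X.vec d} : Finset X.Sp) : Set X.Sp)) ?_)
          · rw [Set.ncard_coe_finset, Finset.card_insert_of_notMem (by simp [Ne.symm hv0, Ne.symm hh.1]),
              Finset.card_insert_of_notMem (by simp [Ne.symm hh.2]), Finset.card_singleton]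
          · intro v hv
            simp only [Finset.coe_insert, Finset.coe_singleton, Set.mem_insert_iff, Set.mem_singleton_iff] at hv
            rcases hv with rfl | rfl | rfl
            exacts [AddSubgroup.zero_mem _, hperp htQ fun y hy => hcomm_t hy, hperp hd.1 hcomm]
        rw [← Nat.card_coe_set_eq] at h3
        exact absurd (hP2 ▸ h3) (by norm_num)
      rcases hdv with e | e
      · exact ((X.vec_eq_zero hd.1).mp e).imp id fun e' => absurd (e' ▸ hd.2) hz
      · rcases (X.vec_iff hd.1 htQ).mp e with e' | e'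
        · exact Or.inr e'.symm
        · refine absurd ?_ hz
          rw [show z = d⁻¹ * t by rw [e']; group]
          exact T.Q.mul_mem (T.Q.inv_mem hd.2) T.zQ
    have hprod := T.card_image E0 hE0c
    rw [hD, hcard0, show X.Q ⊓ T.Q = Subgroup.zpowers t from le_antisymm (fun d hd => by
      rcases hDle d hd with rfl | rfl
      exacts [one_mem _, Subgroup.mem_zpowers _]) (Subgroup.zpowers_le.mpr ⟨htQ, T.zQ⟩), T.card_zpowers] at hprod
    obtain ⟨P, hP⟩ : ∃ P, P = T.image E0 hE0c := ⟨_, rfl⟩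
    have hP128 : Nat.card P = 128 := by rw [hP]; omega
    have hPp : IsPGroup 2 P := hP ▸ T.isPGroup_image (X.isPGroup_Q.to_le hE0Q)
    have hPl : 64 ≤ Nat.card (P.comap ι) := by
      have := Two.card_le_two P
      omega
    have hzt : Commute z t := htz.symm
    have hjP : T.img z ∈ P := hP ▸ T.mem_image.mpr ⟨z, hmemE0 X.zQ hzt, rfl⟩
    have hsqP : ∀ p ∈ P, p * p = 1 ∨ p * p = T.img z := fun p hp => by
      obtain ⟨a, ha, rfl⟩ := T.mem_image.mp (hP ▸ hp)
      rw [← T.img_mul (hcomm_t ha) (hcomm_t ha)]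
      rcases X.sq a (hE0Q ha) with e | e <;> rw [e]
      exacts [Or.inl T.img_one, Or.inr rfl]
    by_cases hj : T.img z ∈ ι.range
    · obtain ⟨j0, hj0⟩ := hj
      have h32 := (Two.large_two (Two.isPGroup_comap hPp) (i := j0) (show ι j0 ∈ P from hj0 ▸ hjP) (fun p hp =>
        (hsqP _ hp).imp (fun e => ι_inj (by rw [map_mul, e, map_one]))
          fun e => ι_inj (by rw [map_mul, e, hj0])) (by omega)).1
      omega
    · have h16 := Two.elementary_le (Two.isPGroup_comap hPp) fun p hp => by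
        rcases hsqP _ hp with e | e
        · exact ι_inj (by rw [map_mul, e, map_one])
        · exact absurd ⟨p * p, by rw [map_mul, e]⟩ hj
      omega

/-- the theorem -/
theorem no_commuting_conjugate {z₀ : G} (hall : ∀ x, IsConj z₀ x → ∃ X : XCore x, X.R.CaseB) {z t : G}
    (hz₀ : IsConj z₀ z) (ht₀ : IsConj z₀ t) (htz : Commute t z) (hne : t ≠ z) : False := by
  classical
  -- no conjugate in the subgroup of another
  have noQ : ∀ {x y : G} (X : XCore x), X.R.CaseB → IsConj z₀ y → y ∈ X.Q → y = x := by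
    intro x y X hX hy hyQ
    by_contra hyx
    obtain ⟨Y, -⟩ := hall y hy
    exact X.not_mem hX Y hyx hyQ
  have moved : ∀ {x y : G} (X : XCore x), IsConj z₀ y → ∀ hyx : Commute y x, IsConj z₀ (x * y) → ∀ {u : G}, u ∈ X.Q →
      X.vec u ∈ (X.dA y hyx).range → IsConj z₀ (u * y) := by
    intro x y X hy hyx hxy u hu hr
    obtain ⟨v, hv⟩ := hr
    obtain ⟨c, hc, rfl⟩ := X.vec_surj v
    change X.vec c + X.act y (X.vec c) = _ at hv
    rw [← X.vec_inv hc, X.act_vec hyx (X.Q.inv_mem hc), X.vec_inv hc,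
      ← X.vec_mul hc (X.normal y hyx _ (X.Q.inv_mem hc))] at hv
    rcases (X.vec_iff (X.Q.mul_mem hc (X.normal y hyx _ (X.Q.inv_mem hc))) hu).mp hv with e | e <;> rw [e]
    · rw [show c * (y * c⁻¹ * y⁻¹) * y = c * y * c⁻¹ by group]
      exact hy.trans (isConj_iff.mpr ⟨c, rfl⟩)
    · refine hxy.trans (isConj_iff.mpr ⟨c, ?_⟩)
      have hc' : Commute (c * (y * c⁻¹ * y⁻¹)) x :=
        (X.cent c hc).mul_left (X.cent _ (X.normal y hyx _ (X.Q.inv_mem hc)))
      rw [hc'.eq]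
      calc c * (x * y) * c⁻¹ = c * x * (y * c⁻¹) := by group
        _ = x * c * (y * c⁻¹) := by rw [(X.cent c hc).eq]
        _ = x * (c * (y * c⁻¹ * y⁻¹)) * y := by group
  -- fixed vectors
  have fix_cases : ∀ {x y : G} (X : XCore x), Commute y x → ∀ u ∈ X.Q, X.act y (X.vec u) = X.vec u →
      y * u * y⁻¹ = u ∨ y * u * y⁻¹ = u * x := by
    intro x y X hyx u hu hfix
    rw [X.act_vec hyx hu] at hfix
    rcases (X.vec_iff (X.normal y hyx u hu) hu).mp hfix with e | e
    · exact Or.inl e.symm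
    · exact Or.inr (by conv_rhs => rw [e, mul_assoc, X.z2, mul_one])
  -- with a product outside the class they are centralised
  have fix_comm : ∀ {x y : G} (X : XCore x), IsConj z₀ y → Commute y x → ¬ IsConj z₀ (x * y) → ∀ u ∈ X.Q,
      X.act y (X.vec u) = X.vec u → Commute y u := by
    intro x y X hy hyx hn u hu hfix
    rcases fix_cases X hyx u hu hfix with e | e
    · exact mul_inv_eq_iff_eq_mul.mp e
    · exact absurd (hy.trans (isConj_iff.mpr ⟨u⁻¹, by
        calc u⁻¹ * y * u⁻¹⁻¹ = u⁻¹ * (y * u * y⁻¹) * y := by group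
          _ = x * y := by rw [e]; group⟩)) hn
  -- the plane
  have hUfix : ∀ {x y : G} (X : XCore x) (Y : XCore y), X.R.CaseB → IsConj z₀ y → Commute y x →
      ¬ IsConj z₀ (x * y) → ∀ u ∈ X.Q, X.vec u ∈ X.R.piece 0 → Commute y u := by
    intro x y X Y hX hy hyx hn u hu huU
    refine fix_comm X hy hyx hn u hu ?_
    by_contra hmv
    obtain ⟨v, hv⟩ : ∃ v, v = X.vec u := ⟨_, rfl⟩
    rw [← hv] at huU hmv
    have hw : X.act y v ∈ X.R.piece 0 := X.R.mem_U_of_fixed hX fun g => by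
      obtain ⟨d, hd, hdg⟩ := X.img_surj (ι g)
      obtain ⟨g', hg'⟩ : (X.img y)⁻¹ * ι g * (X.img y)⁻¹⁻¹ ∈ ι.range := range_normal _ g
      have hd' : Commute (y⁻¹ * d * y) x := (hyx.inv_left.mul_left hd).mul_left hyx
      have e : X.img (y⁻¹ * d * y) = ι g' := by
        rw [X.img_mul (hyx.inv_left.mul_left hd) hyx, X.img_mul hyx.inv_left hd, X.img_inv hyx, hdg, hg', inv_inv]
      rw [← X.act_lin hd hdg, ← X.act_mul hd hyx, show d * y = y * (y⁻¹ * d * y) by group, X.act_mul hyx hd',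
        X.act_lin hd' e, X.R.fixed_u hX g' huU]
    have hv0 : v ≠ 0 := fun e => hmv (by rw [e, ← X.vec_one, X.act_vec hyx X.Q.one_mem, mul_one, mul_inv_cancel])
    have hw0 : X.act y v ≠ 0 := fun e => hv0 (by
      rw [← X.act_one v, ← inv_mul_cancel y, X.act_mul hyx.inv_left hyx, e, ← X.vec_one,
        X.act_vec hyx.inv_left X.Q.one_mem, mul_one, mul_inv_cancel])
    have hb := X.R.U_pair hX huU hw hv0 hw0 hmv
    obtain ⟨u2, hu2⟩ : ∃ u2, u2 = y * u * y⁻¹ := ⟨_, rfl⟩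
    have hu2Q : u2 ∈ X.Q := hu2 ▸ X.normal y hyx u hu
    have hu2v : X.vec u2 = X.act y v := by rw [hv, X.act_vec hyx hu, hu2]
    have hy2 : y⁻¹ = y := inv_eq_of_mul_eq_one_right Y.z2
    have hyu2 : y * u2 * y⁻¹ = u := by
      rw [hu2, show y * (y * u * y⁻¹) * y⁻¹ = (y * y) * u * (y * y)⁻¹ by group, Y.z2]; group
    have hfix : X.act y (X.vec (u * u2)) = X.vec (u * u2) := by
      rw [X.vec_mul hu hu2Q, X.act_add hyx, X.act_vec hyx hu, X.act_vec hyx hu2Q, hyu2, ← hu2, add_comm]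
    have hc := fix_comm X hy hyx hn _ (X.Q.mul_mem hu hu2Q) hfix
    refine hb ?_
    rw [hv, X.act_vec hyx hu, ← hu2, X.b_zero hu hu2Q]
    have e : y * (u * u2) * y⁻¹ = u * u2 := by rw [hc.eq, mul_inv_cancel_right]
    have e' : y * (u * u2) * y⁻¹ = u2 * u := by
      rw [show y * (u * u2) * y⁻¹ = y * u * y⁻¹ * (y * u2 * y⁻¹) by group, ← hu2, hyu2]
    exact e.symm.trans e'
  -- the plane gives a linear image
  have partner : ∀ {x : G} (X : XCore x), X.R.CaseB → ∀ u ∈ X.Q, X.vec u ∈ X.R.piece 0 → X.vec u ≠ 0 →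
      ∃ u' ∈ X.Q, X.vec u' ∈ X.R.piece 0 ∧ X.vec u' ≠ 0 ∧ u * u' * u⁻¹ * u'⁻¹ = x := by
    intro x X hX u hu huU hu0
    obtain ⟨v, hv, hb⟩ := X.R.U_nondeg hX huU hu0
    obtain ⟨u', hu', rfl⟩ := X.vec_surj v
    have hnc : ¬ Commute u u' := fun h => one_ne_zero (hb.symm.trans ((X.b_zero hu hu').mpr h))
    refine ⟨u', hu', hv, fun e => one_ne_zero (hb.symm.trans (by rw [e]; exact X.R.b_zero_right _)), ?_⟩
    exact (X.comm u hu u' hu').resolve_left fun e => hnc (mul_inv_eq_iff_eq_mul.mp (mul_inv_eq_one.mp e))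
  have lin_img : ∀ {x y : G} (X : XCore x) (Y : XCore y), X.R.CaseB → IsConj z₀ y → Commute y x →
      ¬ IsConj z₀ (x * y) → Y.img x ∈ ι.range := by
    intro x y X Y hX hy hyx hn
    obtain ⟨v, hv, hv0⟩ := X.R.U_exists hX
    obtain ⟨u, hu, rfl⟩ := X.vec_surj v
    obtain ⟨u', hu', hu'U, -, hcomm⟩ := partner X hX u hu hv hv0
    have c1 : Commute u y := (hUfix X Y hX hy hyx hn u hu hv).symm
    have c2 : Commute u' y := (hUfix X Y hX hy hyx hn u' hu' hu'U).symm
    have e : Y.img x = Y.img u * Y.img u' * (Y.img u)⁻¹ * (Y.img u')⁻¹ := by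
      rw [← hcomm, Y.img_mul ((c1.mul_left c2).mul_left c1.inv_left) c2.inv_left,
        Y.img_mul (c1.mul_left c2) c1.inv_left, Y.img_mul c1 c2, Y.img_inv c1, Y.img_inv c2]
    rw [e, mul_mem_range, mul_mem_range, mul_mem_range, inv_mem_iff, inv_mem_iff]
    tauto
  have dA_eq : ∀ {x y : G} (X : XCore x) (hyx : Commute y x) {i : L}, X.img y = ι i →
      (X.dA y hyx).ker = (X.R.dI i).ker ∧ (X.dA y hyx).range = (X.R.dI i).range := by
    intro x y X hyx i hi
    have e : X.dA y hyx = X.R.dI i := AddMonoidHom.ext fun v => by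
      show v + X.act y v = v + X.R.ρ i v
      rw [X.act_lin hyx hi]
    rw [e]
    exact ⟨rfl, rfl⟩
  have invol : ∀ {x y : G} (X : XCore x) (Y : XCore y), X.R.CaseB → IsConj z₀ y → Commute y x → y ≠ x →
      ∀ {i : L}, X.img y = ι i → i * i = 1 ∧ i ≠ 1 := by
    intro x y X Y hX hy hyx hyne i hi
    refine ⟨ι_inj (by rw [map_mul, ← hi, ← X.img_mul hyx hyx, Y.z2, X.img_one, map_one]), fun e => hyne ?_⟩
    exact noQ X hX hy ((X.img_eq_one hyx).mp (by rw [hi, e, map_one]))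
  -- every commuting pair has its product in the class
  have nonfull : ∀ {x y : G}, IsConj z₀ x → IsConj z₀ y → Commute y x → y ≠ x → ¬ IsConj z₀ (x * y) → False := by
    intro x y hx hy hyx hyne hn
    obtain ⟨X, hX⟩ := hall x hx
    obtain ⟨Y, hY⟩ := hall y hy
    have hn' : ¬ IsConj z₀ (y * x) := by rwa [hyx.eq]
    obtain ⟨i, hi⟩ := lin_img Y X hY hx hyx.symm hn'
    obtain ⟨j, hj⟩ := lin_img X Y hX hy hyx hn
    obtain ⟨hi2, hi1⟩ := invol X Y hX hy hyx hyne hi.symm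
    obtain ⟨hj2, hj1⟩ := invol Y X hY hx hyx.symm hyne.symm hj.symm
    obtain ⟨hR, hF64, -, hperp⟩ := X.R.involution_facts hX hi2 hi1
    obtain ⟨hR', -, -, hperp'⟩ := Y.R.involution_facts hY hj2 hj1
    have hxQ : x ∉ Y.Q := fun h => hyne (noQ Y hY hx h).symm
    have hyQ : y ∉ X.Q := fun h => hyne (noQ X hX hy h)
    obtain ⟨E0, hE0⟩ : ∃ E0 : Subgroup G, E0 = X.Q ⊓ Subgroup.centralizer ({y} : Set G) := ⟨_, rfl⟩
    have hE0c : E0 ≤ Subgroup.centralizer ({y} : Set G) := hE0 ▸ inf_le_right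
    have hE0Q : E0 ≤ X.Q := hE0 ▸ inf_le_left
    have hcy : ∀ {a}, a ∈ E0 → Commute a y := fun ha => Subgroup.mem_centralizer_singleton_iff.mp (hE0c ha)
    have hmemE0 : ∀ {a}, a ∈ X.Q → Commute a y → a ∈ E0 := fun ha hc =>
      hE0 ▸ ⟨ha, Subgroup.mem_centralizer_singleton_iff.mpr hc.eq⟩
    have hxE0 : x ∈ E0 := hmemE0 X.zQ hyx.symm
    obtain ⟨hker, hran⟩ := dA_eq X hyx hi.symm
    have hH : X.vecS E0 hE0Q = (X.R.dI i).ker := by
      rw [← hker]
      refine AddSubgroup.ext fun v => ⟨fun hv => ?_, fun hv => ?_⟩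
      · obtain ⟨a, ha, rfl⟩ := X.mem_vecS.mp hv
        rw [X.mem_ker_dA, X.act_vec hyx (hE0Q ha), (hcy ha).symm.eq, mul_inv_cancel_right]
      · obtain ⟨a, ha, rfl⟩ := X.vec_surj v
        exact X.mem_vecS.mpr ⟨a, hmemE0 ha (fix_comm X hy hyx hn a ha ((X.mem_ker_dA hyx).mp hv)).symm, rfl⟩
    have hE128 : Nat.card E0 = 128 := by rw [← X.card_vecS_of_mem hE0Q hxE0, hH, hF64]
    have hD : E0 ⊓ Y.Q = X.Q ⊓ Y.Q :=
      le_antisymm (inf_le_inf_right _ hE0Q) fun a ha => ⟨hmemE0 ha.1 (Y.cent a ha.2), ha.2⟩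
    have hDsq : ∀ d ∈ X.Q ⊓ Y.Q, d * d = 1 := fun d hd => by
      rcases X.sq d hd.1 with e | e
      · exact e
      · exact (Y.sq d hd.2).resolve_right fun e' => hyne (e'.symm.trans e)
    -- the type of the second involution
    obtain ⟨g₀, hg₀⟩ : ∃ g₀ : L, g₀ * j * g₀⁻¹ = Two.el Two.iz := by
      have hDQ : X.Q ⊓ Y.Q ≤ X.Q := inf_le_left
      have hprod := Y.card_image E0 hE0c
      rw [hD, hE128] at hprod
      by_cases hbig : Nat.card ↥(X.Q ⊓ Y.Q) < 4
      · obtain ⟨P, hP⟩ : ∃ P, P = Y.image E0 hE0c := ⟨_, rfl⟩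
        rw [← hP] at hprod
        have hPl : 32 ≤ Nat.card (P.comap ι) := by
          have h2 := Two.card_le_two P
          have hp : IsPGroup 2 ↥(X.Q ⊓ Y.Q) := X.isPGroup_Q.to_le hDQ
          obtain ⟨n, hn⟩ := hp.exists_card_eq
          rw [hn] at hbig hprod
          have : n ≤ 1 := by
            by_contra h
            have : 2 ^ 2 ≤ 2 ^ n := Nat.pow_le_pow_right (by norm_num) (by omega)
            omega
          rcases (show n = 0 ∨ n = 1 by omega) with rfl | rfl <;> omega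
        obtain ⟨g, hg, -, -⟩ := Two.shape_of_squares (Two.isPGroup_comap (hP ▸ Y.isPGroup_image
          (X.isPGroup_Q.to_le hE0Q))) (i := j) (show ι j ∈ P from hP ▸ hj ▸ Y.mem_image.mpr ⟨x, hxE0, rfl⟩)
          (fun p hp => by
            obtain ⟨a, ha, hap⟩ := Y.mem_image.mp (hP ▸ hp : ι p ∈ Y.image E0 hE0c)
            have e : ι (p * p) = Y.img (a * a) := by rw [map_mul, Y.img_mul (hcy ha) (hcy ha), hap]
            rcases X.sq a (hE0Q ha) with e' | e' <;> rw [e'] at e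
            · exact Or.inl (ι_inj (by rw [e, Y.img_one, map_one]))
            · exact Or.inr (ι_inj (by rw [e, hj]))) hPl
        exact ⟨g, hg⟩
      · have hEperp : Y.vecS (X.Q ⊓ Y.Q) inf_le_right ≤ (Y.R.dI j).range := by
          rw [← hperp', ← (dA_eq Y hyx.symm hj.symm).1]
          intro v hv f hf
          obtain ⟨d, hd, rfl⟩ := Y.mem_vecS.mp hv
          obtain ⟨a, ha, rfl⟩ := Y.vec_surj f
          have hax := fix_comm Y hx hyx.symm hn' a ha ((Y.mem_ker_dA hyx.symm).mp hf)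
          refine (Y.b_zero ha hd.2).mpr ?_
          rcases Y.comm a ha d hd.2 with e | e
          · exact mul_inv_eq_iff_eq_mul.mp (mul_inv_eq_one.mp e)
          · exact absurd (e ▸ X.Q.mul_mem (X.normal a hax.symm d hd.1) (X.Q.inv_mem hd.1)) hyQ
        have hvec := Y.card_vecS_of_not_mem (E := X.Q ⊓ Y.Q) inf_le_right fun h => hyQ h.1
        have hall0 : Y.vecS (X.Q ⊓ Y.Q) inf_le_right = (Y.R.dI j).range :=
          AddSubgroup.eq_of_le_of_card_ge hEperp (by rw [hvec, hR']; omega)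
        obtain ⟨g, hg⟩ := Two.involution_std hj2 hj1
        obtain ⟨k, hk⟩ := Two.iz_std
        rcases hg with hg | hg
        · refine ⟨k⁻¹ * g, ?_⟩
          rw [show k⁻¹ * g * j * (k⁻¹ * g)⁻¹ = k⁻¹ * (g * j * g⁻¹) * k by group, hg, ← hk]
          group
        · exfalso
          obtain ⟨s, ⟨v, hv⟩, hs⟩ := Y.R.std_one_moves hY
          refine hs ?_
          have hm : Y.R.ρ g⁻¹ s ∈ (Y.R.dI j).range := ⟨Y.R.ρ g⁻¹ v, by
            rw [← hv, ← hg, Y.R.dI_apply, Y.R.dI_apply, Y.R.add, ← Y.R.mul, ← Y.R.mul]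
            congr 2
            group⟩
          rw [← hall0] at hm
          obtain ⟨d, hd, hds⟩ := Y.mem_vecS.mp hm
          rw [← Y.R.q_act g⁻¹ s, ← hds, Y.sq_vec hd.2]
          exact hDsq d hd
    -- a vector of the plane with linear image
    obtain ⟨u, hu, huU, hu0, hur⟩ : ∃ u ∈ X.Q, X.vec u ∈ X.R.piece 0 ∧ X.vec u ≠ 0 ∧ Y.img u ∈ ι.range := by
      obtain ⟨v, hv, hv0⟩ := X.R.U_exists hX
      obtain ⟨a, ha, rfl⟩ := X.vec_surj v
      obtain ⟨b, hb, hbU, hb0, hab⟩ := partner X hX a ha hv hv0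
      by_cases h1 : Y.img a ∈ ι.range
      · exact ⟨a, ha, hv, hv0, h1⟩
      by_cases h2 : Y.img b ∈ ι.range
      · exact ⟨b, hb, hbU, hb0, h2⟩
      refine ⟨a * b, X.Q.mul_mem ha hb, by rw [X.vec_mul ha hb]; exact X.R.add_mem hv hbU, fun e => ?_, ?_⟩
      · rw [X.vec_mul ha hb] at e
        have e' : X.vec a = X.vec b := by
          calc X.vec a = X.vec a + (X.vec b + X.vec b) := by rw [X.add_self, add_zero]
            _ = X.vec b := by rw [← add_assoc, e, zero_add]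
        rcases (X.vec_iff ha hb).mp e' with rfl | rfl
        · exact X.z1 (by rw [← hab]; group)
        · exact X.z1 (by
            rw [← hab]
            calc a * (a * x) * a⁻¹ * (a * x)⁻¹ = a * (a * x * a⁻¹ * x⁻¹) * a⁻¹ := by group
              _ = 1 := by rw [show a * x * a⁻¹ = x by rw [(X.cent a ha).eq, mul_inv_cancel_right]]; group)
      · rw [Y.img_mul (hUfix X Y hX hy hyx hn a ha hv).symm (hUfix X Y hX hy hyx hn b hb hbU).symm, mul_mem_range]
        exact iff_of_false h1 h2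
    obtain ⟨y0, hy0⟩ := hur
    have huy : Commute u y := (hUfix X Y hX hy hyx hn u hu huU).symm
    obtain ⟨u', hu', hu'U, -, hcomm⟩ := partner X hX u hu huU hu0
    have hu'y : Commute u' y := (hUfix X Y hX hy hyx hn u' hu' hu'U).symm
    have notY : ∀ w, w ∈ Y.Q → Commute w u' → u * u' * u⁻¹ * u'⁻¹ ≠ w * u' * w⁻¹ * u'⁻¹ := fun w hw hc e => X.z1 (by
      rw [← hcomm, e, hc.eq, mul_inv_cancel_right, mul_inv_cancel])
    have hcm : ∀ w, w ∈ Y.Q → x = w * u' * w⁻¹ * u'⁻¹ → False := fun w hw e => hxQ (by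
      rw [e, show w * u' * w⁻¹ * u'⁻¹ = w * (u' * w⁻¹ * u'⁻¹) by group]
      exact Y.Q.mul_mem hw (Y.normal u' hu'y _ (Y.Q.inv_mem hw)))
    have hy01 : y0 ≠ 1 := fun e => hcm u ((Y.img_eq_one huy).mp (by rw [← hy0, e, map_one])) hcomm.symm
    have hy0j : y0 ≠ j := fun e => hcm (u * x) ((Y.img_eq_one (huy.mul_left hyx.symm)).mp (by
      rw [Y.img_mul huy hyx.symm, ← hy0, ← hj, e, ← map_mul, hj2, map_one])) (by
      rw [← hcomm]
      have hxu' : Commute x u' := (X.cent u' hu').symm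
      rw [hcomm, show u * x * u' * (u * x)⁻¹ = u * (x * u' * x⁻¹) * u⁻¹ by group, hxu'.eq, mul_inv_cancel_right,
        hcomm])
    have hy0j' : y0 * j = j * y0 := ι_inj (by
      rw [map_mul, map_mul, hy0, hj, ← Y.img_mul huy hyx.symm, ← Y.img_mul hyx.symm huy, (X.cent u hu).eq])
    have hy02 : IsPGroup 2 (Subgroup.zpowers y0) := by
      have h4 : y0 ^ 4 = 1 := ι_inj (by
        rw [map_pow, hy0, map_one, show Y.img u ^ 4 = Y.img u * Y.img u * (Y.img u * Y.img u) by simp [pow_succ, mul_assoc],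
          ← Y.img_mul huy huy]
        rcases X.sq u hu with e | e <;> rw [e]
        · rw [Y.img_one, one_mul]
        · rw [← Y.img_mul hyx.symm hyx.symm, X.z2, Y.img_one])
      obtain ⟨k, -, hk⟩ := (Nat.dvd_prime_pow Nat.prime_two).mp (show orderOf y0 ∣ 2 ^ 2 from
        orderOf_dvd_of_pow_eq_one h4)
      exact IsPGroup.of_card (n := k) (by rw [Nat.card_zpowers, hk])
    obtain ⟨g, hg3, hgj, hgy⟩ := Two.exists_three hg₀ hy02 hy0j' hy01 hy0j
    -- a lift
    obtain ⟨c, hcy', hcg⟩ := Y.img_surj (ι g)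
    obtain ⟨x', hx'⟩ : ∃ x', x' = c * x * c⁻¹ := ⟨_, rfl⟩
    have hx'c : IsConj z₀ x' := hx.trans (isConj_iff.mpr ⟨c, hx'.symm⟩)
    have hx'y : Commute x' y := hx' ▸ (hcy'.mul_left hyx.symm).mul_left hcy'.inv_left
    have hx'img : Y.img x' = Y.img x := by
      rw [hx', Y.img_mul (hcy'.mul_left hyx.symm) hcy'.inv_left, Y.img_mul hcy' hyx.symm, Y.img_inv hcy', hcg,
        ← hj, ← map_mul, hgj, map_mul, mul_inv_cancel_right]
    have hn'' : ¬ IsConj z₀ (y * x') := fun h => hn' (h.trans (isConj_iff.mpr ⟨c⁻¹, by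
      rw [hx', show c⁻¹ * (y * (c * x * c⁻¹)) * c⁻¹⁻¹ = c⁻¹ * y * c * x by group,
        show c⁻¹ * y * c = y by rw [mul_assoc, ← hcy'.eq, inv_mul_cancel_left]]⟩))
    obtain ⟨X', -⟩ := hall x' hx'c
    obtain ⟨q, hq⟩ : ∃ q, q = x * x' := ⟨_, rfl⟩
    have hxinv : x⁻¹ = x := inv_eq_of_mul_eq_one_right X.z2
    have hxq : x' = x * q := by rw [hq, ← mul_assoc, X.z2, one_mul]
    have hqQ : q ∈ Y.Q := (Y.img_eq_one (hq ▸ hyx.symm.mul_left hx'y)).mp (by
      rw [hq, Y.img_mul hyx.symm hx'y, hx'img, ← Y.img_mul hyx.symm hyx.symm, X.z2, Y.img_one])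
    have hqfix : Y.act x (Y.vec q) = Y.vec q := by
      rw [Y.act_vec hyx.symm hqQ, ← Y.vec_inv hqQ]
      congr 1
      rw [hq, mul_inv_rev, inv_eq_of_mul_eq_one_right X'.z2, hxinv]
      calc x * (x * x') * x = x * x * (x' * x) := by group
        _ = x' * x := by rw [X.z2, one_mul]
    have hqx : Commute x q := fix_comm Y hx hyx.symm hn' q hqQ hqfix
    have hqR : Y.vec q ∈ (Y.dA x hyx.symm).range := by
      rw [← Y.perp_ker]
      intro h hh
      obtain ⟨b, hb, rfl⟩ := Y.vec_surj h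
      have hfix := (Y.mem_ker_dA hyx.symm).mp hh
      have h1 := fix_comm Y hx hyx.symm hn' b hb hfix
      have h2 := fix_comm Y hx'c hx'y hn'' b hb (by
        rw [Y.act_lin hx'y (g := j) (by rw [hx'img, hj]), ← Y.act_lin hyx.symm hj.symm, hfix])
      refine (Y.b_zero hb hqQ).mpr ?_
      rw [hq]
      exact h1.symm.mul_right h2.symm
    obtain ⟨v, hv⟩ := hqR
    obtain ⟨b, hb, rfl⟩ := Y.vec_surj v
    change Y.vec b + Y.act x (Y.vec b) = _ at hv
    rw [← Y.vec_inv hb, Y.act_vec hyx.symm (Y.Q.inv_mem hb), Y.vec_inv hb,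
      ← Y.vec_mul hb (Y.normal x hyx.symm _ (Y.Q.inv_mem hb))] at hv
    have hqx' : x' = q * x := by rw [hxq, hqx.eq]
    rcases (Y.vec_iff (Y.Q.mul_mem hb (Y.normal x hyx.symm _ (Y.Q.inv_mem hb))) hqQ).mp hv with e | e
    swap
    · refine hn (hx'c.trans (isConj_iff.mpr ⟨b⁻¹, ?_⟩))
      rw [hqx', e]
      calc b⁻¹ * (b * (x * b⁻¹ * x⁻¹) * y * x) * b⁻¹⁻¹ = x * b⁻¹ * x⁻¹ * (y * x) * b := by group
        _ = x * (b⁻¹ * y * b) := by rw [hyx.eq]; group
        _ = x * y := by rw [mul_assoc b⁻¹, ← (Y.cent b hb).eq]; group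
    obtain ⟨c', hc'⟩ : ∃ c', c' = b⁻¹ * c := ⟨_, rfl⟩
    have hc'y : Commute c' y := hc' ▸ (Y.cent b hb).inv_left.mul_left hcy'
    have hc'x : Commute c' x := by
      refine mul_inv_eq_iff_eq_mul.mp ?_
      rw [hc', show b⁻¹ * c * x * (b⁻¹ * c)⁻¹ = b⁻¹ * (c * x * c⁻¹) * b by group, ← hx', hqx', e]
      group
    have hc'g : Y.img c' = ι g := by
      rw [hc', Y.img_mul (Y.cent b hb).inv_left hcy', Y.img_Q (Y.Q.inv_mem hb), one_mul, hcg]
    obtain ⟨d, hd⟩ : ∃ d, d = c' * c' := ⟨_, rfl⟩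
    have hdy : Commute d y := hd ▸ hc'y.mul_left hc'y
    have hdx : Commute d x := hd ▸ hc'x.mul_left hc'x
    obtain ⟨g', hg'⟩ : X.img d ∈ ι.range := by rw [hd, X.img_mul hc'x hc'x]; exact sq_mem_range _
    have hfd := X.R.fixed_u hX g' huU
    rw [← X.act_lin hdx hg'.symm, X.act_vec hdx hu] at hfd
    obtain ⟨h, hh⟩ : ∃ h : L, h = g * g := ⟨_, rfl⟩
    have himg : ι (h * y0 * h⁻¹) = Y.img (d * u * d⁻¹) := by
      rw [Y.img_mul (hdy.mul_left huy) hdy.inv_left, Y.img_mul hdy huy, Y.img_inv hdy, hd,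
        Y.img_mul hc'y hc'y, hc'g, hh, map_mul, map_mul, map_inv, map_mul, hy0]
    have hh3 : h * h * h = 1 := by
      rw [hh, show g * g * (g * g) * (g * g) = (g * g * g) * (g * g * g) by group, hg3, one_mul]
    have hhj : h * j * h⁻¹ = j := by
      rw [hh, show g * g * j = g * (g * j) by group, hgj, show g * (j * g) = g * j * g by group, hgj]
      group
    have hhy : h * y0 = y0 * h := by
      rcases (X.vec_iff (X.normal d hdx u hu) hu).mp hfd with e' | e'
      · refine mul_inv_eq_iff_eq_mul.mp (ι_inj ?_)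
        rw [himg, hy0, ← e']
      · exfalso
        have e2 : d * u * d⁻¹ = u * x := by conv_rhs => rw [e', mul_assoc, X.z2, mul_one]
        have h1 : h * y0 * h⁻¹ = y0 * j := ι_inj (by
          rw [himg, e2, Y.img_mul huy hyx.symm, map_mul, hy0, hj])
        apply hj1
        have h3 : h * (h * (h * y0 * h⁻¹) * h⁻¹) * h⁻¹ = y0 := by
          calc h * (h * (h * y0 * h⁻¹) * h⁻¹) * h⁻¹ = h * h * h * y0 * (h * h * h)⁻¹ := by group
            _ = y0 := by rw [hh3]; group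
        have step : ∀ k, h * (y0 * k) * h⁻¹ = y0 * j * (h * k * h⁻¹) := fun k => by rw [← h1]; group
        rw [h1, step, hhj, mul_assoc y0, hj2, mul_one, h1] at h3
        exact mul_eq_left.mp h3
    refine hgy ?_
    have e4 : h * h = g := by
      rw [hh, show g * g * (g * g) = g * g * g * g by group, hg3, one_mul]
    rw [← e4, mul_assoc, hhy, ← mul_assoc, hhy, mul_assoc]
  -- a singular commutator
  have full : ∀ {x y : G}, IsConj z₀ x → IsConj z₀ y → Commute y x → y ≠ x → IsConj z₀ (x * y) :=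
    fun {x y} hx hy hyx hyne => by_contra fun hn => nonfull hx hy hyx hyne hn
  have noR : ∀ {x y : G} (X : XCore x) (Y : XCore y), X.R.CaseB → IsConj z₀ x → IsConj z₀ y →
      ∀ hyx : Commute y x, y ≠ x → ∀ u ∈ X.Q, X.vec u ∈ (X.dA y hyx).range → Commute u y → X.vec u = 0 := by
    intro x y X Y hX hx hy hyx hyne u hu hr huy
    by_contra h0
    have huy' : IsConj z₀ (u * y) := moved X hy hyx (full hx hy hyx hyne) hu hr
    have hu1 : u ≠ 1 := fun e => h0 (by rw [e, X.vec_one])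
    have h := full hy huy' (huy.mul_left (Commute.refl y)) fun e => hu1 (mul_eq_right.mp e)
    rw [huy.eq, ← mul_assoc, Y.z2, one_mul] at h
    exact h0 (by rw [noQ X hX h hu, X.vec_z])
  have two_moved : ∀ {x y : G} (X : XCore x), Commute y x → ∀ a ∈ X.Q, ∀ b ∈ X.Q,
      X.act y (X.vec a) = X.vec a → X.act y (X.vec b) = X.vec b → ¬ Commute a y → ¬ Commute b y →
      Commute (a * b) y := by
    intro x y X hyx a ha b hb hfa hfb hna hnb
    have e1 := (fix_cases X hyx a ha hfa).resolve_left fun e => hna (mul_inv_eq_iff_eq_mul.mp e).symm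
    have e2 := (fix_cases X hyx b hb hfb).resolve_left fun e => hnb (mul_inv_eq_iff_eq_mul.mp e).symm
    refine (mul_inv_eq_iff_eq_mul.mp ?_ : y * (a * b) = a * b * y).symm
    calc y * (a * b) * y⁻¹ = y * a * y⁻¹ * (y * b * y⁻¹) := by group
      _ = a * (x * b) * x := by rw [e1, e2]; group
      _ = a * b := by rw [← (X.cent b hb).eq, mul_assoc, mul_assoc b, X.z2, mul_one]
  have range_fix : ∀ {x y : G} (X : XCore x) (Y : XCore y), ∀ hyx : Commute y x,
      (X.dA y hyx).range ≤ (X.dA y hyx).ker := by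
    rintro x y X Y hyx _ ⟨v, rfl⟩
    rw [X.mem_ker_dA]
    show X.act y (v + X.act y v) = v + X.act y v
    rw [X.act_add hyx, ← X.act_mul hyx hyx, Y.z2, X.act_one, add_comm]
  have one_vec : ∀ {x y : G} (X : XCore x) (Y : XCore y), X.R.CaseB → IsConj z₀ x → IsConj z₀ y →
      ∀ hyx : Commute y x, y ≠ x → Nat.card (X.dA y hyx).range ≤ 2 := by
    intro x y X Y hX hx hy hyx hyne
    have hsub : ((X.dA y hyx).range : Set X.Sp).Subsingleton ∨
        ∃ r, ((X.dA y hyx).range : Set X.Sp) ⊆ {0, r} := by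
      by_cases h : ∀ r ∈ (X.dA y hyx).range, r = 0
      · exact Or.inl fun a ha b hb => (h a ha).trans (h b hb).symm
      push Not at h
      obtain ⟨r, hr, hr0⟩ := h
      refine Or.inr ⟨r, fun s hs => ?_⟩
      by_contra hne'
      simp only [Set.mem_insert_iff, Set.mem_singleton_iff, not_or] at hne'
      obtain ⟨a, ha, rfl⟩ := X.vec_surj r
      obtain ⟨b, hb, rfl⟩ := X.vec_surj s
      have hna : ¬ Commute a y := fun hc => hr0 (noR X Y hX hx hy hyx hyne a ha hr hc)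
      have hnb : ¬ Commute b y := fun hc => hne'.1 (noR X Y hX hx hy hyx hyne b hb hs hc)
      have hab := two_moved X hyx a ha b hb ((X.mem_ker_dA hyx).mp (range_fix X Y hyx hr))
        ((X.mem_ker_dA hyx).mp (range_fix X Y hyx hs)) hna hnb
      have h0 := noR X Y hX hx hy hyx hyne (a * b) (X.Q.mul_mem ha hb)
        (by rw [X.vec_mul ha hb]; exact AddSubgroup.add_mem _ hr hs) hab
      rw [X.vec_mul ha hb] at h0
      refine hne'.2 ?_
      calc X.vec b = X.vec a + (X.vec a + X.vec b) := by rw [← add_assoc, X.add_self, zero_add]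
        _ = X.vec a := by rw [h0, add_zero]
    rw [show Nat.card (X.dA y hyx).range = ((X.dA y hyx).range : Set X.Sp).ncard from Nat.card_coe_set_eq _]
    rcases hsub with h | ⟨r, h⟩
    · exact le_trans ((Set.ncard_le_one_iff_subsingleton).mpr h) (by norm_num)
    · exact le_trans (Set.ncard_le_ncard h) (le_trans (Set.ncard_insert_le _ _) (by rw [Set.ncard_singleton]))
  have outer : ∀ {x y : G} (X : XCore x) (Y : XCore y), X.R.CaseB → IsConj z₀ x → IsConj z₀ y →
      Commute y x → y ≠ x → X.img y ∉ ι.range := by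
    intro x y X Y hX hx hy hyx hyne hmem
    obtain ⟨i, hi⟩ := hmem
    obtain ⟨hi2, hi1⟩ := invol X Y hX hy hyx hyne hi.symm
    obtain ⟨hR, -, -, -⟩ := X.R.involution_facts hX hi2 hi1
    have h := one_vec X Y hX hx hy hyx hyne
    rw [(dA_eq X hyx hi.symm).2, hR] at h
    omega
  -- both outer
  obtain ⟨X, hX⟩ := hall z hz₀
  obtain ⟨T, hT⟩ := hall t ht₀
  have hout := outer T X hT ht₀ hz₀ htz.symm hne.symm
  have htQ : t ∉ X.Q := fun h => hne (noQ X hX ht₀ h)
  have hzQ : z ∉ T.Q := fun h => hne (noQ T hT hz₀ h).symm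
  have hR2 := one_vec X T hX hz₀ ht₀ htz hne
  have hRne : Nat.card (X.dA t htz).range = 2 := by
    refine le_antisymm hR2 ?_
    by_contra hlt
    refine htQ (X.faithful htz fun v => ?_)
    have h1 : Nat.card (X.dA t htz).range = 1 := by
      have : 0 < Nat.card (X.dA t htz).range := Nat.card_pos
      omega
    have hbot := AddSubgroup.eq_bot_of_card_eq _ h1
    have hm : (X.dA t htz) v ∈ (X.dA t htz).range := ⟨v, rfl⟩
    rw [hbot, AddSubgroup.mem_bot] at hm
    exact (X.mem_ker_dA htz).mp hm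
  obtain ⟨E0, hE0⟩ : ∃ E0 : Subgroup G, E0 = X.Q ⊓ Subgroup.centralizer ({t} : Set G) := ⟨_, rfl⟩
  have hE0c : E0 ≤ Subgroup.centralizer ({t} : Set G) := hE0 ▸ inf_le_right
  have hE0Q : E0 ≤ X.Q := hE0 ▸ inf_le_left
  have hct : ∀ {a}, a ∈ E0 → Commute a t := fun ha => Subgroup.mem_centralizer_singleton_iff.mp (hE0c ha)
  have hmemE0 : ∀ {a}, a ∈ X.Q → Commute a t → a ∈ E0 := fun ha hc =>
    hE0 ▸ ⟨ha, Subgroup.mem_centralizer_singleton_iff.mpr hc.eq⟩
  have hzE0 : z ∈ E0 := hmemE0 X.zQ htz.symm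
  obtain ⟨H, hH⟩ : ∃ H, H = X.vecS E0 hE0Q := ⟨_, rfl⟩
  have hHF : H ≤ (X.dA t htz).ker := by
    intro v hv
    obtain ⟨a, ha, rfl⟩ := X.mem_vecS.mp (hH ▸ hv)
    rw [X.mem_ker_dA, X.act_vec htz (hE0Q ha), (hct ha).symm.eq, mul_inv_cancel_right]
  obtain ⟨r, hr, hr0⟩ : ∃ r ∈ (X.dA t htz).range, r ≠ 0 := by
    by_contra hno
    push Not at hno
    have : Nat.card (X.dA t htz).range = 1 := Nat.card_eq_one_iff_unique.mpr
      ⟨⟨fun a b => Subtype.ext ((hno a a.2).trans (hno b b.2).symm)⟩, ⟨0⟩⟩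
    omega
  obtain ⟨a, ha, har⟩ := X.vec_surj r
  have hna : ¬ Commute a t := fun hc => hr0 (har ▸ noR X T hX hz₀ ht₀ htz hne a ha (har.symm ▸ hr) hc)
  have hle : Nat.card (X.dA t htz).ker ≤ 2 * Nat.card H := by
    rw [show Nat.card (X.dA t htz).ker = ((X.dA t htz).ker : Set X.Sp).ncard from Nat.card_coe_set_eq _, two_mul,
      show Nat.card H = (H : Set X.Sp).ncard from Nat.card_coe_set_eq _]
    refine le_trans (Set.ncard_le_ncard (t := (H : Set X.Sp) ∪ (fun f => r + f) '' (H : Set X.Sp))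
      fun f hf => ?_) (le_trans (Set.ncard_union_le _ _) (add_le_add_right (Set.ncard_image_le) _))
    obtain ⟨b, hb, rfl⟩ := X.vec_surj f
    by_cases hbc : Commute b t
    · exact Or.inl (hH ▸ X.mem_vecS.mpr ⟨b, hmemE0 hb hbc, rfl⟩)
    · refine Or.inr ⟨X.vec (a * b), hH ▸ X.mem_vecS.mpr ⟨a * b, hmemE0 (X.Q.mul_mem ha hb) ?_, rfl⟩, ?_⟩
      · exact two_moved X htz a ha b hb (har.symm ▸ (X.mem_ker_dA htz).mp (range_fix X T htz hr))
          ((X.mem_ker_dA htz).mp hf) hna hbc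
      · show r + X.vec (a * b) = X.vec b
        rw [X.vec_mul ha hb, har, ← add_assoc, X.add_self, zero_add]
  have hF := X.card_dA t htz
  rw [hRne] at hF
  have hHcard : 64 ≤ Nat.card H := by omega
  have hDQ : X.Q ⊓ T.Q ≤ X.Q := inf_le_left
  have hD : E0 ⊓ T.Q = X.Q ⊓ T.Q :=
    le_antisymm (inf_le_inf_right _ hE0Q) fun d hd => ⟨hmemE0 hd.1 (T.cent d hd.2), hd.2⟩
  have hvec : Nat.card (X.vecS _ hDQ) = Nat.card ↥(X.Q ⊓ T.Q) := X.card_vecS_of_not_mem hDQ fun h => hzQ h.2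
  have hEperp : X.vecS _ hDQ ≤ X.R.perp H := by
    intro v hv h hh
    obtain ⟨d, hd, rfl⟩ := X.mem_vecS.mp hv
    obtain ⟨b, hb, rfl⟩ := X.mem_vecS.mp (hH ▸ hh)
    refine (X.b_zero (hE0Q hb) hd.1).mpr ?_
    rcases X.comm b (hE0Q hb) d hd.1 with e | e
    · exact mul_inv_eq_iff_eq_mul.mp (mul_inv_eq_one.mp e)
    · exact absurd (e ▸ T.Q.mul_mem (T.normal b (hct hb) d hd.2) (T.Q.inv_mem hd.2)) hzQ
  have hrH : r ∈ X.R.perp H := by
    intro h hh
    rw [← X.perp_ker t htz] at hr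
    exact hr h (hHF hh)
  have hinj : Function.Injective (fun p : ↥(X.vecS _ hDQ) × Bool =>
      (⟨(p.1 : X.Sp) + if p.2 then r else 0, AddSubgroup.add_mem _ (hEperp p.1.2)
        (by split_ifs; exacts [hrH, AddSubgroup.zero_mem _])⟩ : X.R.perp H)) := by
    have hno : ∀ v ∈ X.vecS _ hDQ, v ≠ r := by
      intro v hv e
      obtain ⟨d, hd, rfl⟩ := X.mem_vecS.mp hv
      exact hr0 (e ▸ noR X T hX hz₀ ht₀ htz hne d hd.1 (e.symm ▸ hr) (T.cent d hd.2))
    rintro ⟨p, k⟩ ⟨p', k'⟩ e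
    have e' : (p : X.Sp) + (if k then r else 0) = p' + if k' then r else 0 := congrArg Subtype.val e
    cases k <;> cases k' <;> simp only [Bool.false_eq_true, if_false, if_true, add_zero] at e'
    · rw [Subtype.ext e']
    · exact absurd (by rw [e', ← add_assoc, X.add_self, zero_add] :
        (p' : X.Sp) + p = r) (hno _ (AddSubgroup.add_mem _ p'.2 p.2))
    · exact absurd (by rw [← e', ← add_assoc, X.add_self, zero_add] :
        (p : X.Sp) + p' = r) (hno _ (AddSubgroup.add_mem _ p.2 p'.2))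
    · rw [Subtype.ext (add_right_cancel e')]
  have hcnt := Nat.card_le_card_of_injective _ hinj
  rw [Nat.card_prod, Nat.card_eq_fintype_card (α := Bool), Fintype.card_bool, hvec] at hcnt
  have hperp := X.R.card_perp H
  have hD2 : Nat.card ↥(X.Q ⊓ T.Q) ≤ 2 := by nlinarith
  have hE128 := X.card_vecS_of_mem hE0Q hzE0
  rw [← hH] at hE128
  have hprod := T.card_image E0 hE0c
  rw [hD] at hprod
  have hPl : 32 ≤ Nat.card ((T.image E0 hE0c).comap ι) := by
    have h2 := Two.card_le_two (T.image E0 hE0c)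
    have : 0 < Nat.card ↥(X.Q ⊓ T.Q) := Nat.card_pos
    nlinarith
  have h16 := Two.elementary_le (Two.isPGroup_comap (T.isPGroup_image (hle := hE0c) (X.isPGroup_Q.to_le hE0Q)))
    fun p hp => by
      obtain ⟨b, hb, hbp⟩ := T.mem_image.mp (hp : ι p ∈ T.image E0 hE0c)
      have e : ι (p * p) = T.img (b * b) := by rw [map_mul, T.img_mul (hct hb) (hct hb), hbp]
      rcases X.sq b (hE0Q hb) with e' | e' <;> rw [e'] at e
      · exact ι_inj (by rw [e, T.img_one, map_one])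
      · exact absurd ⟨p * p, e⟩ hout
  omega

end XCore

end Cfsg.Agent.Spor.CHZ
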