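import Cfsg.Agent.Lib.Spor.CHZ.XSetup
import Cfsg.Agent.Lib.Spor.CHZ.XCaseB
import Cfsg.Agent.Lib.Spor.CHZ.MainCore

/-!
The extraspecial centraliser with quotient the automorphism group.
-/

set_option autoImplicit false
set_option linter.unusedSectionVars false

namespace Cfsg.Agent.Spor.CHZ

open Cfsg.Agent.Spor.SpFour Cfsg.Agent.Small.Unitary

universe w

theorem main_xcore {G : Type w} [Group G] [Finite G] {z : G} (X : XCore z) (hz : orderOf z = 2)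
    {F : Type*} [Field F] [Fintype F] (hF : Fintype.card F = 4) :
    (∃ G₀ : Subgroup G, G₀.index = 2 ∧ Nonempty (↥G₀ ≃* Cfsg.PSU 6 F 2) ∧
      Subgroup.centralizer (G₀ : Set G) = ⊥) ∨
    Subgroup.centralizer ({z} : Set G) ⊔ Cfsg.oddCore G = ⊤ := by
  by_cases h : ∀ g : G, (X.conj g).R.CaseB
  · refine Or.inr (sup_eq_top_of_isolated hz fun g hc => ?_)
    by_contra hne
    refine XCore.no_commuting_conjugate (z₀ := z) (fun x hx => ?_) (IsConj.refl z) (isConj_iff.mpr ⟨g, rfl⟩) hc.symm hne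
    obtain ⟨a, rfl⟩ := isConj_iff.mp hx
    exact ⟨X.conj a, h a⟩
  push Not at h
  obtain ⟨g, hg⟩ := h
  obtain ⟨φ, hlin, hq⟩ := (X.conj g).R.model ((X.conj g).R.cases.resolve_right hg)
  obtain ⟨S, ⟨c, hc, hcl⟩, hdet⟩ := (X.conj g).exists_setup φ hlin hq
  have key : ∀ {x : G} (S : Setup x), x = z → (∃ c, Commute c x ∧ ¬ Lin (S.π c)) →
      (∀ c, Commute c x → Lin (S.π c) → ∃ g : L, S.π c = sp g) →
      (∃ G₀ : Subgroup G, G₀.index = 2 ∧ Nonempty (↥G₀ ≃* Cfsg.PSU 6 F 2) ∧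
        Subgroup.centralizer (G₀ : Set G) = ⊥) ∨
      Subgroup.centralizer ({z} : Set G) ⊔ Cfsg.oddCore G = ⊤ := by
    intro x T e h1 h2
    subst e
    exact main_semi T hz h1 h2 hF
  refine key (S.conj g⁻¹) (by group) ⟨g⁻¹ * c * g⁻¹⁻¹, hc.map (MulAut.conj g⁻¹).toMonoidHom, ?_⟩
    fun d hd hl => hdet _ (S.conj_comm_back hd) hl
  show ¬ Lin (S.π (g⁻¹⁻¹ * (g⁻¹ * c * g⁻¹⁻¹) * g⁻¹))
  rw [show g⁻¹⁻¹ * (g⁻¹ * c * g⁻¹⁻¹) * g⁻¹ = c by group]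
  exact hcl

end Cfsg.Agent.Spor.CHZ
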