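import Cfsg.Agent.Lib.Spor.CHZ.DCore
import Cfsg.Agent.Lib.Fusion.Cores
import Cfsg.Agent.Lib.Solv.Extraspecial
import Cfsg.Agent.Lib.Spor.CHZ.XMain

/-!
An involution centraliser whose two-core is a four-group times an extraspecial group of order 2^9, extended by an
element of order three and the automorphism group of the group of order 25920: the raw data inside the group.
-/

set_option autoImplicit false
set_option linter.unusedSectionVars false

namespace Cfsg.Agent.Spor.CHZ.FThree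

open Cfsg.Agent.Spor.SpFour Cfsg.Agent.Small.Unitary
open scoped commutatorElement

universe w

/-- the raw data -/
structure RawF {G : Type w} [Group G] (z : G) where
  Q : Subgroup G
  c : G
  z_ne : z ≠ 1
  z2 : z * z = 1
  c3 : c * c * c = 1
  c_out : c ∉ Q
  cz : Commute c z
  cent : ∀ x ∈ Q, Commute x z
  normal : ∀ d, Commute d z → ∀ x ∈ Q, d * x * d⁻¹ ∈ Q
  zQ : z ∈ Q
  card : Nat.card Q = 2048
  comm : ∀ x ∈ Q, ∀ y ∈ Q, x * y * x⁻¹ * y⁻¹ = 1 ∨ x * y * x⁻¹ * y⁻¹ = z
  sq : ∀ x ∈ Q, x * x = 1 ∨ x * x = z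
  center_sq : ∀ x ∈ Q, (∀ y ∈ Q, Commute x y) → x * x = 1
  center_card : Nat.card {x : G // x ∈ Q ∧ ∀ y ∈ Q, Commute x y} = 8
  fix : ∀ x ∈ Q, Commute c x → x = 1 ∨ x = z
  self : ∀ d, Commute d z → (∀ x ∈ Q, Commute d x) → d ∈ Q
  ψ : ↥(Subgroup.centralizer ({z} : Set G)) →* ↥Gam
  ψ_surj : Function.Surjective ψ
  ψ_ker : ∀ d, ψ d = 1 ↔ ∃ x ∈ Q, (d : G) = x ∨ (d : G) = x * c ∨ (d : G) = x * (c * c)
  inv : ∃ d, Commute d z ∧ ∃ x ∈ Q, d * c * d⁻¹ = x * c⁻¹
  E : Subgroup G
  E_le : E ≤ Q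
  E_card : Nat.card E = 512
  E_xs : Cfsg.IsExtraspecial 2 ↥E
  E_dec : ∀ x ∈ Q, ∃ e ∈ E, ∀ y ∈ Q, Commute (x * e⁻¹) y
  E_center : ∀ e ∈ E, (∀ y ∈ Q, Commute e y) → e = 1 ∨ e = z

/-- the property is invariant under isomorphism -/
theorem xs_equiv {X Y : Type w} [Group X] [Group Y] [Finite X] [Finite Y] (e : X ≃* Y)
    (h : Cfsg.IsExtraspecial 2 X) : Cfsg.IsExtraspecial 2 Y := by
  have : Fact (Nat.Prime 2) := ⟨Nat.prime_two⟩
  have hc : (Subgroup.center X).map e.toMonoidHom = Subgroup.center Y := by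
    ext y
    rw [Subgroup.mem_map_equiv]
    exact ⟨fun hy => Subgroup.mem_center_iff.2 fun w => e.symm.injective (by
        rw [map_mul, map_mul, Subgroup.mem_center_iff.1 hy]),
      fun hy => Subgroup.mem_center_iff.2 fun w => e.injective (by
        rw [map_mul, map_mul, e.apply_symm_apply, Subgroup.mem_center_iff.1 hy])⟩
  refine Cfsg.Agent.Solv.isExtraspecial_of (h.1.1.of_equiv e) ?_ ?_ fun x => ?_
  · rw [← hc, Subgroup.card_map_of_injective e.injective, h.2]
  · rw [← hc, ← h.1.2.2, commutator_def, commutator_def, Subgroup.map_commutator,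
      Subgroup.map_top_of_surjective _ e.surjective]
  · rw [← hc, Subgroup.mem_map_equiv, map_pow]
    exact Cfsg.Agent.Solv.extraspecial_pow_mem_center h _

theorem two_power_L {N : Subgroup L} (h2 : IsPGroup 2 N) (hn : N.Normal) : N = ⊥ :=
  (L_normal hn).resolve_right fun e => by
    obtain ⟨n, hn'⟩ := h2.exists_card_eq
    rw [e, Subgroup.card_top, card_L] at hn'
    have h3 : 3 ∣ 2 ^ n := hn' ▸ (by norm_num : 3 ∣ 25920)
    exact absurd (Nat.prime_three.dvd_of_dvd_pow h3) (by norm_num)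

theorem exists_raw {G : Type w} [Group G] [Finite G] (z : G) (hz : orderOf z = 2)
    {F : Type*} [Field F] [Fintype F] (hF : Fintype.card F = 3)
    (Vf E : Subgroup ↥(Subgroup.centralizer ({z} : Set G)))
    (hVE : Cfsg.IsInternalDirectProduct Vf E (Cfsg.pCore 2 ↥(Subgroup.centralizer ({z} : Set G))))
    (hV : Nat.card ↥Vf = 4) (hV2 : ∀ v ∈ Vf, v ^ 2 = 1)
    (hE : Cfsg.IsExtraspecial 2 ↥E) (hEc : Nat.card ↥E = 2 ^ 9)
    (hCJ : Subgroup.centralizer ((Cfsg.pCore 2 ↥(Subgroup.centralizer ({z} : Set G))) :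
      Set ↥(Subgroup.centralizer ({z} : Set G))) ≤ Cfsg.pCore 2 ↥(Subgroup.centralizer ({z} : Set G)))
    (zc c : ↥(Subgroup.centralizer ({z} : Set G))) (hzc : (zc : G) = z) (hc : orderOf c = 3)
    [hJc : (Cfsg.pCore 2 ↥(Subgroup.centralizer ({z} : Set G)) ⊔ Subgroup.zpowers c).Normal]
    (e : (↥(Subgroup.centralizer ({z} : Set G)) ⧸
      (Cfsg.pCore 2 ↥(Subgroup.centralizer ({z} : Set G)) ⊔ Subgroup.zpowers c)) ≃* MulAut (Cfsg.PSp 2 F))
    [hcz : ((Subgroup.zpowers c ⊔ Subgroup.zpowers zc).subgroupOf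
      (Subgroup.centralizer ({c} : Set ↥(Subgroup.centralizer ({z} : Set G))))).Normal]
    (e' : (↥(Subgroup.centralizer ({c} : Set ↥(Subgroup.centralizer ({z} : Set G)))) ⧸
      (Subgroup.zpowers c ⊔ Subgroup.zpowers zc).subgroupOf
        (Subgroup.centralizer ({c} : Set ↥(Subgroup.centralizer ({z} : Set G))))) ≃* Cfsg.PSp 2 F) :
    Nonempty (RawF z) := by
  classical
  obtain ⟨C, hC⟩ : ∃ C, C = Subgroup.centralizer ({z} : Set G) := ⟨_, rfl⟩
  obtain ⟨va⟩ := exists_autIso (F := F) hF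
  obtain ⟨u⟩ := Classical.UFourTwo.exists_iso (F := F4) (K := F) CHZ.hF hF
  have hcen : Subgroup.center L = ⊥ :=
    Subgroup.eq_bot_of_card_eq _ (Classical.UFourTwo.card_su (F := F4) CHZ.hF).2
  let θ' := (e'.trans u.symm).trans ((QuotientGroup.quotientMulEquivOfEq hcen).trans QuotientGroup.quotientBot)
  let θ := e.trans va
  have hz1 : z ≠ 1 := fun h => by rw [h, orderOf_one] at hz; omega
  have hz2 : z * z = 1 := by rw [← pow_two, ← hz, pow_orderOf_eq_one]
  have hzcent : ∀ d : ↥(Subgroup.centralizer ({z} : Set G)), Commute (d : G) z := fun d =>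
    Subgroup.mem_centralizer_singleton_iff.mp d.2
  have hzall : ∀ d : ↥(Subgroup.centralizer ({z} : Set G)), Commute d zc := fun d => Subtype.ext (by
    rw [Subgroup.coe_mul, Subgroup.coe_mul, hzc]; exact (hzcent d).eq)
  have hzJ : zc ∈ Cfsg.pCore 2 ↥(Subgroup.centralizer ({z} : Set G)) :=
    hCJ (Subgroup.mem_centralizer_iff.mpr fun x _ => (hzall x).eq)
  have hJn : (Cfsg.pCore 2 ↥(Subgroup.centralizer ({z} : Set G))).Normal := Cfsg.pCore_normal 2 _
  have hJ2 : IsPGroup 2 ↥(Cfsg.pCore 2 ↥(Subgroup.centralizer ({z} : Set G))) := Cfsg.Agent.Fusion.isPGroup_pCore 2 _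
  generalize hJdef : Cfsg.pCore 2 ↥(Subgroup.centralizer ({z} : Set G)) = J at hVE hCJ hJc e θ hzJ hJn hJ2
  obtain ⟨hVJ, hEJ, hVEc, hmeet, hjoin⟩ := hVE
  have hc3 : c * c * c = 1 := by
    rw [← pow_two, ← pow_succ, show 2 + 1 = orderOf c from hc.symm, pow_orderOf_eq_one]
  have hc1 : c ≠ 1 := fun h => by rw [h, orderOf_one] at hc; omega
  have hcJ : c ∉ J := fun h => by
    obtain ⟨k, hk⟩ := hJ2 ⟨c, h⟩
    have hd : orderOf c ∣ 2 ^ k := orderOf_dvd_of_pow_eq_one (congrArg Subtype.val hk)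
    rw [hc] at hd
    exact absurd (Nat.prime_three.dvd_of_dvd_pow hd) (by norm_num)
  have hzp : ∀ {x}, x ∈ Subgroup.zpowers c → x = 1 ∨ x = c ∨ x = c * c := by
    intro x hx
    rw [mem_zpowers_iff_mem_range_orderOf, hc] at hx
    simp only [Finset.mem_image, Finset.mem_range] at hx
    obtain ⟨n, hn, rfl⟩ := hx
    interval_cases n
    · exact Or.inl (pow_zero c)
    · exact Or.inr (Or.inl (pow_one c))
    · exact Or.inr (Or.inr (pow_two c))
  have hK : ∀ {x}, x ∈ J ⊔ Subgroup.zpowers c ↔ ∃ j ∈ J, x = j ∨ x = j * c ∨ x = j * (c * c) := by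
    intro x
    refine ⟨fun hx => ?_, ?_⟩
    · obtain ⟨j, hj, k, hk, rfl⟩ := Subgroup.mem_sup_of_normal_left.mp hx
      refine ⟨j, hj, ?_⟩
      rcases hzp hk with rfl | rfl | rfl
      · exact Or.inl (mul_one j)
      · exact Or.inr (Or.inl rfl)
      · exact Or.inr (Or.inr rfl)
    · rintro ⟨j, hj, rfl | rfl | rfl⟩
      · exact Subgroup.mem_sup_left hj
      · exact Subgroup.mul_mem _ (Subgroup.mem_sup_left hj) (Subgroup.mem_sup_right (Subgroup.mem_zpowers c))
      · exact Subgroup.mul_mem _ (Subgroup.mem_sup_left hj)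
          (Subgroup.mem_sup_right (Subgroup.mul_mem _ (Subgroup.mem_zpowers c) (Subgroup.mem_zpowers c)))
  -- the elements of the two-core commuting with the element of order three
  have hfix : ∀ x ∈ J, Commute c x → x = 1 ∨ x = zc := by
    intro x hx hxc
    obtain ⟨T, hT⟩ : ∃ T : Subgroup ↥(Subgroup.centralizer ({c} : Set ↥(Subgroup.centralizer ({z} : Set G)))),
        T = J.subgroupOf _ := ⟨_, rfl⟩
    haveI : T.Normal := hT ▸ hJn.comap _
    have hT2 : IsPGroup 2 T := hT ▸ hJ2.comap_of_injective _ Subtype.val_injective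
    have hbot : (T.map (θ'.toMonoidHom.comp (QuotientGroup.mk' _))) = ⊥ :=
      two_power_L (hT2.map _) (Subgroup.Normal.map inferInstance _
        (θ'.surjective.comp (QuotientGroup.mk'_surjective _)))
    obtain ⟨x', hx'⟩ : ∃ x' : ↥(Subgroup.centralizer ({c} : Set ↥(Subgroup.centralizer ({z} : Set G)))),
        (x' : ↥(Subgroup.centralizer ({z} : Set G))) = x :=
      ⟨⟨x, Subgroup.mem_centralizer_singleton_iff.mpr hxc.symm.eq⟩, rfl⟩
    have h1 : θ' (QuotientGroup.mk' _ x') = 1 := Subgroup.mem_bot.mp (hbot ▸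
      (⟨x', by rw [hT, SetLike.mem_coe, Subgroup.mem_subgroupOf, hx']; exact hx, rfl⟩ : θ' (QuotientGroup.mk' _ x') ∈ T.map (θ'.toMonoidHom.comp (QuotientGroup.mk' _))))
    rw [MulEquiv.map_eq_one_iff, QuotientGroup.mk'_apply, QuotientGroup.eq_one_iff, Subgroup.mem_subgroupOf, hx'] at h1
    have hzn : (Subgroup.zpowers zc).Normal := ⟨fun n hn d => by
      obtain ⟨k, rfl⟩ := Subgroup.mem_zpowers_iff.mp hn
      rw [((hzall d).zpow_right k).eq, mul_inv_cancel_right]
      exact Subgroup.zpow_mem _ (Subgroup.mem_zpowers zc) k⟩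
    obtain ⟨a, ha, b, hb, rfl⟩ := Subgroup.mem_sup_of_normal_right.mp h1
    have hbJ : b ∈ J := Subgroup.zpowers_le.mpr hzJ hb
    have haJ : a ∈ J := (Subgroup.mul_mem_cancel_right J hbJ).mp hx
    have hb' : b = 1 ∨ b = zc := by
      obtain ⟨k, rfl⟩ := Subgroup.mem_zpowers_iff.mp hb
      have hzz : zc * zc = 1 := Subtype.ext (by rw [Subgroup.coe_mul, hzc]; exact hz2)
      rcases Int.even_or_odd' k with ⟨j, rfl | rfl⟩
      · left; rw [zpow_mul, zpow_two, hzz, one_zpow]
      · right; rw [zpow_add, zpow_mul, zpow_two, hzz, one_zpow, one_mul, zpow_one]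
    rcases hzp ha with rfl | rfl | rfl
    · rwa [one_mul]
    · exact absurd haJ hcJ
    · refine absurd ?_ hcJ
      have := J.mul_mem haJ haJ
      rwa [show c * c * (c * c) = c * c * c * c by group, hc3, one_mul] at this
  -- the extraspecial factor
  have hsub := hE.1.2.2
  obtain ⟨a0, b0, hab, huniv⟩ := Nat.card_eq_two_iff.mp hE.2
  obtain ⟨e0, he0c, he01⟩ : ∃ e0 : ↥E, e0 ∈ Subgroup.center ↥E ∧ e0 ≠ 1 := by
    by_cases h : (a0 : ↥E) = 1
    · exact ⟨b0, b0.2, fun h' => hab (Subtype.ext (h.trans h'.symm))⟩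
    · exact ⟨a0, a0.2, h⟩
  have hcE : ∀ x : ↥E, x ∈ Subgroup.center ↥E → x = 1 ∨ x = e0 := by
    intro x hx
    have hmem : ∀ y : Subgroup.center ↥E, y = a0 ∨ y = b0 := fun y => by
      have := huniv ▸ Set.mem_univ y
      simpa using this
    rcases hmem ⟨x, hx⟩ with h | h <;> rcases hmem 1 with h1 | h1 <;> rcases hmem ⟨e0, he0c⟩ with h2 | h2
    all_goals first
      | exact Or.inl (congrArg Subtype.val (h.trans h1.symm))
      | exact Or.inr (congrArg Subtype.val (h.trans h2.symm))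
      | exact absurd (congrArg Subtype.val (h2.trans h1.symm)) he01
  have he0sq : e0 * e0 = 1 := by
    rcases hcE _ (Subgroup.mul_mem _ he0c he0c) with h | h
    · exact h
    · exact absurd (mul_eq_left.mp h) he01
  have hcommE : ∀ x y : ↥E, x * y * x⁻¹ * y⁻¹ ∈ Subgroup.center ↥E := fun x y => by
    rw [← hsub]
    exact Subgroup.commutator_mem_commutator (Subgroup.mem_top x) (Subgroup.mem_top y)
  have hsqE : ∀ x : ↥E, x * x = 1 ∨ x * x = e0 := fun a => hcE _ (Subgroup.mem_center_iff.mpr fun b => by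
    have hk : ∀ q : ↥E, q ∈ Subgroup.center ↥E → q * q = 1 := fun q hq => by
      rcases hcE q hq with rfl | rfl
      exacts [one_mul _, he0sq]
    obtain ⟨k, hk'⟩ : ∃ k, k = a * b * a⁻¹ * b⁻¹ := ⟨_, rfl⟩
    have hkc := hcommE a b
    rw [← hk'] at hkc
    have e1 : a * b * a⁻¹ = k * b := by rw [hk']; group
    symm
    calc a * a * b = a * (a * b * a⁻¹) * a⁻¹ * (a * a) := by group
      _ = a * (k * b) * a⁻¹ * (a * a) := by rw [e1]
      _ = a * k * a⁻¹ * (a * b * a⁻¹) * (a * a) := by group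
      _ = k * (k * b) * (a * a) := by rw [e1, Subgroup.mem_center_iff.mp hkc a, mul_inv_cancel_right]
      _ = b * (a * a) := by rw [← mul_assoc k, hk k hkc, one_mul])
  -- decomposition of the two-core
  have hdec : ∀ x ∈ J, ∃ v ∈ Vf, ∃ f : ↥E, x = v * f := by
    intro x hx
    let S : Subgroup ↥(Subgroup.centralizer ({z} : Set G)) :=
      { carrier := {x | ∃ v ∈ Vf, ∃ f : ↥E, x = v * f}
        one_mem' := ⟨1, Vf.one_mem, 1, by rw [Subgroup.coe_one, mul_one]⟩
        mul_mem' := by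
          rintro _ _ ⟨v, hv, f, rfl⟩ ⟨v', hv', f', rfl⟩
          refine ⟨v * v', Vf.mul_mem hv hv', f * f', ?_⟩
          rw [Subgroup.coe_mul, mul_assoc v, ← mul_assoc (f : ↥(Subgroup.centralizer ({z} : Set G))),
            ← hVEc v' hv' f f.2]
          group
        inv_mem' := by
          rintro _ ⟨v, hv, f, rfl⟩
          exact ⟨v⁻¹, Vf.inv_mem hv, f⁻¹, by rw [mul_inv_rev, Subgroup.coe_inv, hVEc _ (Vf.inv_mem hv) _ (E.inv_mem f.2)]⟩ }
    have hle : Vf ⊔ E ≤ S := sup_le (fun v hv => ⟨v, hv, 1, by rw [Subgroup.coe_one, mul_one]⟩)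
      fun f hf => ⟨1, Vf.one_mem, ⟨f, hf⟩, (one_mul f).symm⟩
    exact hle (hjoin ▸ hx)
  have huniq : ∀ {v v'} (_ : v ∈ Vf) (_ : v' ∈ Vf) {f f' : ↥E}, v * (f : ↥(Subgroup.centralizer ({z} : Set G))) = v' * f' → v = v' ∧ f = f' := by
    intro v v' hv hv' f f' h
    have h' : v'⁻¹ * v = (f' : ↥(Subgroup.centralizer ({z} : Set G))) * (f : ↥(Subgroup.centralizer ({z} : Set G)))⁻¹ := by
      rw [eq_mul_inv_iff_mul_eq, mul_assoc, h, inv_mul_cancel_left]
    have h1 : v'⁻¹ * v ∈ Vf ⊓ E := ⟨Vf.mul_mem (Vf.inv_mem hv') hv, h' ▸ E.mul_mem f'.2 (E.inv_mem f.2)⟩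
    rw [hmeet, Subgroup.mem_bot, inv_mul_eq_one] at h1
    subst h1
    exact ⟨rfl, Subtype.ext (mul_left_cancel h)⟩
  have hVcomm : ∀ a ∈ Vf, ∀ b ∈ Vf, a * b = b * a := fun a ha b hb => by
    have hi : ∀ x ∈ Vf, x⁻¹ = x := fun x hx => inv_eq_of_mul_eq_one_right (by rw [← pow_two]; exact hV2 x hx)
    rw [← hi _ (Vf.mul_mem ha hb), mul_inv_rev, hi a ha, hi b hb]
  have hJcomm : ∀ x ∈ J, ∀ y ∈ J, x * y * x⁻¹ * y⁻¹ = 1 ∨
      x * y * x⁻¹ * y⁻¹ = (e0 : ↥(Subgroup.centralizer ({z} : Set G))) := by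
    intro x hx y hy
    obtain ⟨v, hv, f, rfl⟩ := hdec x hx
    obtain ⟨v', hv', f', rfl⟩ := hdec y hy
    have c1 : Commute v v' := hVcomm v hv v' hv'
    have c2 : ∀ {a}, a ∈ Vf → ∀ b : ↥E, Commute a (b : ↥(Subgroup.centralizer ({z} : Set G))) :=
      fun ha b => hVEc _ ha _ b.2
    have key : v * f * (v' * f') * (v * f)⁻¹ * (v' * f')⁻¹ =
        ((f * f' * f⁻¹ * f'⁻¹ : ↥E) : ↥(Subgroup.centralizer ({z} : Set G))) := by
      simp only [Subgroup.coe_mul, Subgroup.coe_inv]
      generalize hf : (f : ↥(Subgroup.centralizer ({z} : Set G))) = F1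
      generalize hf' : (f' : ↥(Subgroup.centralizer ({z} : Set G))) = F2
      have d1 : Commute v F2 := hf' ▸ c2 hv f'
      have d2 : Commute v' F1 := hf ▸ c2 hv' f
      have d3 : Commute v F1 := hf ▸ c2 hv f
      have d4 : Commute v' F2 := hf' ▸ c2 hv' f'
      have k : Commute (v * v') (F1 * F2 * F1⁻¹ * F2⁻¹) :=
        ((((d3.mul_left d2).mul_right (d1.mul_left d4)).mul_right (d3.mul_left d2).inv_right).mul_right
          (d1.mul_left d4).inv_right)
      calc v * F1 * (v' * F2) * (v * F1)⁻¹ * (v' * F2)⁻¹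
          = v * (F1 * v') * F2 * F1⁻¹ * v⁻¹ * F2⁻¹ * v'⁻¹ := by group
        _ = v * v' * F1 * F2 * F1⁻¹ * (v⁻¹ * F2⁻¹) * v'⁻¹ := by rw [← d2.eq]; group
        _ = v * v' * (F1 * F2 * F1⁻¹ * F2⁻¹) * (v⁻¹ * v'⁻¹) := by rw [d1.inv_inv.eq]; group
        _ = F1 * F2 * F1⁻¹ * F2⁻¹ * (v * v' * (v⁻¹ * v'⁻¹)) := by rw [k.eq]; group
        _ = F1 * F2 * F1⁻¹ * F2⁻¹ := by
          rw [show v * v' * (v⁻¹ * v'⁻¹) = (v * v') * (v' * v)⁻¹ by group, ← c1.eq, mul_inv_cancel, mul_one]
    rw [key]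
    rcases hcE _ (hcommE f f') with h | h <;> rw [h]
    · exact Or.inl (Subgroup.coe_one E)
    · exact Or.inr rfl
  -- the commutator is the given involution
  obtain ⟨f1, f2, hne12⟩ : ∃ f1 f2 : ↥E, f1 * f2 * f1⁻¹ * f2⁻¹ ≠ 1 := by
    by_contra hall
    push Not at hall
    have htop : Subgroup.center ↥E = ⊤ := eq_top_iff.mpr fun x _ => Subgroup.mem_center_iff.mpr fun y =>
      mul_inv_eq_iff_eq_mul.mp (mul_inv_eq_one.mp (hall y x))
    have := hE.2
    rw [htop, Subgroup.card_top, hEc] at this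
    norm_num at this
  have he0z : (e0 : ↥(Subgroup.centralizer ({z} : Set G))) = zc := by
    have hcom : Commute c (e0 : ↥(Subgroup.centralizer ({z} : Set G))) := by
      have e1 : (e0 : ↥(Subgroup.centralizer ({z} : Set G))) = (f1 : ↥(Subgroup.centralizer ({z} : Set G))) * f2 *
          (f1 : ↥(Subgroup.centralizer ({z} : Set G)))⁻¹ * (f2 : ↥(Subgroup.centralizer ({z} : Set G)))⁻¹ := by
        rw [← (hcE _ (hcommE f1 f2)).resolve_left hne12]; rfl
      refine mul_inv_eq_iff_eq_mul.mp ?_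
      have h := hJcomm _ (hJn.conj_mem _ (hEJ f1.2) c) _ (hJn.conj_mem _ (hEJ f2.2) c)
      rw [show c * f1 * c⁻¹ * (c * f2 * c⁻¹) * (c * f1 * c⁻¹)⁻¹ * (c * f2 * c⁻¹)⁻¹ = c * ((f1 :
        ↥(Subgroup.centralizer ({z} : Set G))) * f2 * (f1 : ↥(Subgroup.centralizer ({z} : Set G)))⁻¹ *
          (f2 : ↥(Subgroup.centralizer ({z} : Set G)))⁻¹) * c⁻¹ by group, ← e1] at h
      exact h.resolve_left fun h' => he01 (Subtype.ext (conj_eq_one_iff.mp h'))
    exact (hfix _ (hEJ e0.2) hcom).resolve_left fun h => he01 (Subtype.ext h)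
  -- the data in the group
  obtain ⟨Q, hQ⟩ : ∃ Q : Subgroup G, Q = J.map (Subgroup.centralizer ({z} : Set G)).subtype := ⟨_, rfl⟩
  have hQmem : ∀ {a : ↥(Subgroup.centralizer ({z} : Set G))}, (a : G) ∈ Q ↔ a ∈ J := fun {a} =>
    ⟨fun h => by obtain ⟨b, hb, h⟩ := hQ ▸ h; exact Subtype.ext h ▸ hb, fun h => hQ ▸ ⟨a, h, rfl⟩⟩
  have hmemQ : ∀ {x}, x ∈ Q → ∃ a ∈ J, ((a : ↥(Subgroup.centralizer ({z} : Set G))) : G) = x := fun hx => by
    obtain ⟨a, ha, rfl⟩ := hQ ▸ hx
    exact ⟨a, ha, rfl⟩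
  have hcenJ : ∀ x ∈ J, (∀ y ∈ J, Commute x y) → ∃ v ∈ Vf, x = v ∨ x = v * zc := by
    intro x hx hxc
    obtain ⟨v, hv, f, rfl⟩ := hdec x hx
    refine ⟨v, hv, ?_⟩
    have hf : f ∈ Subgroup.center ↥E := Subgroup.mem_center_iff.mpr fun b => by
      have h := hxc b (hEJ b.2)
      have h' : Commute v (b : ↥(Subgroup.centralizer ({z} : Set G))) := hVEc v hv b b.2
      have h'' := h'.inv_left.mul_left h
      rw [inv_mul_cancel_left] at h''
      exact Subtype.ext h''.symm.eq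
    rcases hcE f hf with rfl | rfl
    · left; rw [Subgroup.coe_one, mul_one]
    · right; rw [he0z]
  have hJcard : Nat.card ↥J = 2048 := by
    let f : ↥Vf × ↥E → ↥J := fun p => ⟨p.1 * p.2, J.mul_mem (hVJ p.1.2) (hEJ p.2.2)⟩
    have hf : Function.Bijective f := by
      refine ⟨fun p p' h => ?_, fun x => ?_⟩
      · obtain ⟨h1, h2⟩ := huniq p.1.2 p'.1.2 (congrArg Subtype.val h)
        exact Prod.ext (Subtype.ext h1) h2
      · obtain ⟨v, hv, f', hx⟩ := hdec x x.2
        exact ⟨(⟨v, hv⟩, f'), Subtype.ext hx.symm⟩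
    rw [← Nat.card_eq_of_bijective f hf, Nat.card_prod, hV, hEc]
    norm_num
  refine ⟨
    { Q := Q
      c := c
      z_ne := hz1
      z2 := hz2
      c3 := congrArg Subtype.val hc3
      c_out := fun h => hcJ (hQmem.mp h)
      cz := hzcent c
      cent := fun x hx => by obtain ⟨a, -, rfl⟩ := hmemQ hx; exact hzcent a
      normal := fun d hd x hx => by
        obtain ⟨a, ha, rfl⟩ := hmemQ hx
        exact hQmem (a := ⟨d, Subgroup.mem_centralizer_singleton_iff.mpr hd.eq⟩ * a *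
          (⟨d, Subgroup.mem_centralizer_singleton_iff.mpr hd.eq⟩ : ↥(Subgroup.centralizer ({z} : Set G)))⁻¹) |>.mpr
          (hJn.conj_mem _ ha _)
      zQ := hzc ▸ hQmem.mpr hzJ
      card := by rw [hQ, Subgroup.card_map_of_injective Subtype.val_injective, hJcard]
      comm := fun x hx y hy => by
        obtain ⟨a, ha, rfl⟩ := hmemQ hx
        obtain ⟨b, hb, rfl⟩ := hmemQ hy
        rcases hJcomm a ha b hb with h | h
        · exact Or.inl (congrArg Subtype.val h)
        · exact Or.inr ((congrArg Subtype.val (h.trans he0z)).trans hzc)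
      sq := fun x hx => by
        obtain ⟨a, ha, rfl⟩ := hmemQ hx
        obtain ⟨v, hv, f, rfl⟩ := hdec a ha
        have h : v * f * (v * f) = ((f * f : ↥E) : ↥(Subgroup.centralizer ({z} : Set G))) := by
          rw [mul_assoc v, ← mul_assoc (f : ↥(Subgroup.centralizer ({z} : Set G))) v, ← hVEc v hv f f.2,
            mul_assoc v (f : ↥(Subgroup.centralizer ({z} : Set G))), ← mul_assoc v v, ← pow_two v, hV2 v hv, one_mul]
          rfl
        rcases hsqE f with h' | h' <;> rw [h'] at h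
        · exact Or.inl (congrArg Subtype.val h)
        · exact Or.inr ((congrArg Subtype.val (h.trans he0z)).trans hzc)
      center_sq := fun x hx h => by
        obtain ⟨a, ha, rfl⟩ := hmemQ hx
        obtain ⟨v, hv, rfl | rfl⟩ := hcenJ a ha fun b hb => Subtype.ext (h b (hQmem.mpr hb)).eq
        · rw [← Subgroup.coe_mul, ← pow_two, hV2 _ hv]; rfl
        · rw [← Subgroup.coe_mul, show v * zc * (v * zc) = v * v * (zc * zc) by
            rw [mul_assoc v zc, ← mul_assoc zc v, ← (hzall v).eq, mul_assoc v zc zc, ← mul_assoc v v],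
            ← pow_two v, hV2 _ hv, one_mul, Subgroup.coe_mul, hzc]
          exact hz2
      center_card := ?_
      fix := fun x hx h => by
        obtain ⟨a, ha, rfl⟩ := hmemQ hx
        rcases hfix a ha (Subtype.ext h.eq) with h' | h'
        · exact Or.inl (congrArg Subtype.val h')
        · exact Or.inr ((congrArg Subtype.val h').trans hzc)
      self := fun d hd h => by
        exact hQmem (a := ⟨d, Subgroup.mem_centralizer_singleton_iff.mpr hd.eq⟩) |>.mpr (hCJ
          (Subgroup.mem_centralizer_iff.mpr fun a ha => Subtype.ext (h _ (hQmem.mpr ha)).symm.eq))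
      ψ := θ.toMonoidHom.comp (QuotientGroup.mk' (J ⊔ Subgroup.zpowers c))
      ψ_surj := θ.surjective.comp (QuotientGroup.mk'_surjective _)
      ψ_ker := fun d => by
        rw [MonoidHom.comp_apply]
        show θ _ = 1 ↔ _
        rw [MulEquiv.map_eq_one_iff, QuotientGroup.mk'_apply, QuotientGroup.eq_one_iff, hK]
        constructor
        · rintro ⟨j, hj, h⟩
          refine ⟨j, hQmem.mpr hj, ?_⟩
          rcases h with rfl | rfl | rfl <;> simp
        · rintro ⟨x, hx, h⟩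
          obtain ⟨j, hj, rfl⟩ := hmemQ hx
          exact ⟨j, hj, h.imp Subtype.ext (Or.imp Subtype.ext Subtype.ext)⟩
      inv := ?_
      E := E.map (Subgroup.centralizer ({z} : Set G)).subtype
      E_le := by rintro _ ⟨a, ha, rfl⟩; exact hQmem.mpr (hEJ ha)
      E_card := by rw [Subgroup.card_map_of_injective Subtype.val_injective, hEc]; norm_num
      E_xs := xs_equiv (Subgroup.equivMapOfInjective E _ Subtype.val_injective) hE
      E_dec := fun x hx => by
        obtain ⟨a, ha, rfl⟩ := hmemQ hx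
        obtain ⟨v, hv, f, rfl⟩ := hdec a ha
        refine ⟨(f : ↥(Subgroup.centralizer ({z} : Set G))), ⟨f, f.2, rfl⟩, fun y hy => ?_⟩
        obtain ⟨b, hb, rfl⟩ := hmemQ hy
        obtain ⟨v', hv', f', rfl⟩ := hdec b hb
        rw [Subgroup.coe_mul, mul_inv_cancel_right]
        exact congrArg Subtype.val (Commute.mul_right (hVcomm v hv v' hv') (hVEc v hv f' f'.2)).eq
      E_center := by
        rintro _ ⟨a, ha, rfl⟩ h
        rcases hcE ⟨a, ha⟩ (Subgroup.mem_center_iff.mpr fun b => Subtype.ext (Subtype.ext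
          (h _ (hQmem.mpr (hEJ b.2))).symm.eq)) with e | e
        · exact Or.inl (congrArg (fun q : ↥E => ((q : ↥(Subgroup.centralizer ({z} : Set G))) : G)) e)
        · exact Or.inr ((congrArg (fun q : ↥E => ((q : ↥(Subgroup.centralizer ({z} : Set G))) : G)) e).trans
            ((congrArg Subtype.val he0z).trans hzc)) }⟩
  · -- the centre
    have hcen' : ∀ v ∈ Vf, ∀ (b : Bool), ((v * if b then zc else 1 : ↥(Subgroup.centralizer ({z} : Set G))) : G) ∈ Q ∧
        ∀ y ∈ Q, Commute ((v * if b then zc else 1 : ↥(Subgroup.centralizer ({z} : Set G))) : G) y := by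
      intro v hv b
      have hm : (v * if b then zc else 1) ∈ J := J.mul_mem (hVJ hv) (by cases b <;> simp [hzJ, J.one_mem])
      refine ⟨hQmem.mpr hm, fun y hy => ?_⟩
      obtain ⟨a, ha, rfl⟩ := hmemQ hy
      have h1 : Commute v a := by
        obtain ⟨v', hv', f, rfl⟩ := hdec a ha
        exact Commute.mul_right (hVcomm v hv v' hv') (hVEc v hv f f.2)
      have h2 : Commute (if b then zc else 1) a := by
        cases b
        · exact Commute.one_left a
        · exact (hzall a).symm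
      exact congrArg Subtype.val (h1.mul_left h2).eq
    let f : ↥Vf × Bool → {x : G // x ∈ Q ∧ ∀ y ∈ Q, Commute x y} := fun p => ⟨_, hcen' p.1 p.1.2 p.2⟩
    have hf : Function.Bijective f := by
      refine ⟨fun p p' h => ?_, fun x => ?_⟩
      · have h' : (p.1 * if p.2 then zc else 1 : ↥(Subgroup.centralizer ({z} : Set G))) =
            (p'.1 * if p'.2 then zc else 1 : ↥(Subgroup.centralizer ({z} : Set G))) :=
          Subtype.ext (congrArg (fun x : {x : G // x ∈ Q ∧ ∀ y ∈ Q, Commute x y} => (x : G)) h)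
        rw [← he0z] at h'
        have key : ∀ b : Bool, (if b then (e0 : ↥(Subgroup.centralizer ({z} : Set G))) else 1) =
            ((if b then e0 else 1 : ↥E) : ↥(Subgroup.centralizer ({z} : Set G))) := fun b => by cases b <;> rfl
        rw [key, key] at h'
        obtain ⟨h1, h2⟩ := huniq p.1.2 p'.1.2 h'
        refine Prod.ext (Subtype.ext h1) ?_
        cases hb : p.2 <;> cases hb' : p'.2 <;> simp [hb, hb'] at h2 ⊢ <;> first
          | exact he01 h2 | exact he01 h2.symm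
      · obtain ⟨a, ha, hax⟩ := hmemQ x.2.1
        obtain ⟨v, hv, h | h⟩ := hcenJ a ha fun b hb => Subtype.ext (by
          rw [Subgroup.coe_mul, Subgroup.coe_mul, hax]; exact (x.2.2 _ (hQmem.mpr hb)).eq)
        · exact ⟨(⟨v, hv⟩, false), Subtype.ext (by simp [f, ← hax, h])⟩
        · exact ⟨(⟨v, hv⟩, true), Subtype.ext (by simp [f, ← hax, h])⟩
    rw [← Nat.card_eq_of_bijective f hf, Nat.card_prod, hV, Nat.card_eq_fintype_card (α := Bool), Fintype.card_bool]
  · -- some element inverts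
    by_contra hno
    push Not at hno
    have hdir : ∀ d : ↥(Subgroup.centralizer ({z} : Set G)), ∃ j ∈ J, d * c * d⁻¹ = j * c := by
      intro d
      obtain ⟨j, hj, h | h | h⟩ := hK.mp (hJc.conj_mem c (Subgroup.mem_sup_right (Subgroup.mem_zpowers c)) d)
      · exfalso
        have := hJn.conj_mem _ hj d⁻¹
        rw [← h, inv_inv, show d⁻¹ * (d * c * d⁻¹) * d = c by group] at this
        exact hcJ this
      · exact ⟨j, hj, h⟩
      · exfalso
        refine hno (d : G) (hzcent d) (j : G) (hQmem.mpr hj) ?_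
        rw [show (c * c) = c⁻¹ from (inv_eq_of_mul_eq_one_right (by rw [← mul_assoc]; exact hc3)).symm] at h
        have := congrArg Subtype.val h
        simpa using this
    -- every class meets the centraliser of the element of order three
    let P1 : Subgroup ↥(Subgroup.centralizer ({z} : Set G)) := Subgroup.zpowers c
    obtain ⟨K, hKdef⟩ : ∃ K : Subgroup ↥(Subgroup.centralizer ({z} : Set G)), K = J ⊔ Subgroup.zpowers c := ⟨_, rfl⟩
    haveI : Fact (Nat.Prime 3) := ⟨Nat.prime_three⟩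
    have hmeet3 : ∀ d : ↥(Subgroup.centralizer ({z} : Set G)), ∃ j ∈ J, Commute (j * d) c := by
      intro d
      obtain ⟨j0, hj0, hd⟩ := hdir d
      have hcK : c ∈ K := hKdef ▸ Subgroup.mem_sup_right (Subgroup.mem_zpowers c)
      have hdK : d * c * d⁻¹ ∈ K := hKdef ▸ hJc.conj_mem c (hKdef ▸ hcK) d
      have hKcard : Nat.card K = 2048 * 3 := by
        let f : ↥J × ↥(Subgroup.zpowers c) → ↥K := fun p => ⟨p.1 * p.2, hKdef ▸ Subgroup.mul_mem _
          (Subgroup.mem_sup_left p.1.2) (Subgroup.mem_sup_right p.2.2)⟩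
        have hf : Function.Bijective f := by
          refine ⟨fun p p' h => ?_, fun x => ?_⟩
          · have h' : (p.1 : ↥(Subgroup.centralizer ({z} : Set G))) * p.2 = p'.1 * p'.2 := congrArg Subtype.val h
            have e1 : (p'.1 : ↥(Subgroup.centralizer ({z} : Set G)))⁻¹ * p.1 = p'.2 * (p.2 : ↥(Subgroup.centralizer ({z} : Set G)))⁻¹ := by
              rw [eq_mul_inv_iff_mul_eq, mul_assoc, h', inv_mul_cancel_left]
            have hm := J.mul_mem (J.inv_mem p'.1.2) p.1.2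
            rw [e1] at hm
            rcases hzp (Subgroup.mul_mem _ p'.2.2 (Subgroup.inv_mem _ p.2.2)) with h1 | h1 | h1
            · have : (p.2 : ↥(Subgroup.centralizer ({z} : Set G))) = p'.2 := (mul_inv_eq_one.mp h1).symm
              rw [this, mul_left_inj] at h'
              exact Prod.ext (Subtype.ext h') (Subtype.ext this)
            · exact absurd (h1 ▸ hm) hcJ
            · refine absurd ?_ hcJ
              have := J.mul_mem (h1 ▸ hm) (h1 ▸ hm)
              rwa [show c * c * (c * c) = c * c * c * c by group, hc3, one_mul] at this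
          · obtain ⟨j, hj, k, hk, hx⟩ := Subgroup.mem_sup_of_normal_left.mp (show (x : ↥(Subgroup.centralizer ({z} : Set G))) ∈ J ⊔ Subgroup.zpowers c from hKdef ▸ x.2)
            exact ⟨(⟨j, hj⟩, ⟨k, hk⟩), Subtype.ext hx⟩
        rw [← Nat.card_eq_of_bijective f hf, Nat.card_prod, hJcard, Nat.card_zpowers, hc]
      have hord : ∀ x : ↥K, orderOf x = 3 → Nat.card (Subgroup.zpowers x) = 3 ^ (Nat.card K).factorization 3 := by
        intro x hx
        rw [Nat.card_zpowers, hx, hKcard, Nat.factorization_mul (by norm_num) (by norm_num), Finsupp.add_apply,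
          Nat.factorization_eq_zero_of_not_dvd (by norm_num : ¬ 3 ∣ 2048), Nat.Prime.factorization_self Nat.prime_three]
        norm_num
      have ho1 : orderOf (⟨c, hcK⟩ : ↥K) = 3 := by rw [← Subgroup.orderOf_coe]; exact hc
      have ho2 : orderOf (⟨d * c * d⁻¹, hdK⟩ : ↥K) = 3 := by
        rw [← Subgroup.orderOf_coe]
        exact (MulEquiv.orderOf_eq (MulAut.conj d) c).trans hc
      obtain ⟨k, hk⟩ := MulAction.exists_smul_eq ↥K (Sylow.ofCard _ (hord _ ho1)) (Sylow.ofCard _ (hord _ ho2))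
      have hkc : k * ⟨c, hcK⟩ * k⁻¹ ∈ Subgroup.zpowers (⟨d * c * d⁻¹, hdK⟩ : ↥K) := by
        have h : k * ⟨c, hcK⟩ * k⁻¹ ∈ ((k • Sylow.ofCard _ (hord _ ho1) : Sylow 3 ↥K) : Subgroup ↥K) :=
          ⟨⟨c, hcK⟩, Subgroup.mem_zpowers _, rfl⟩
        rw [hk] at h
        exact h
      obtain ⟨j, hj, m, hm, hkjm⟩ := Subgroup.mem_sup_of_normal_left.mp
        (show (k : ↥(Subgroup.centralizer ({z} : Set G))) ∈ J ⊔ Subgroup.zpowers c from hKdef ▸ k.2)
      have hmc : Commute m c := by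
        obtain ⟨i, rfl⟩ := Subgroup.mem_zpowers_iff.mp hm
        exact (Commute.refl c).zpow_left i
      obtain ⟨i, hi⟩ := Subgroup.mem_zpowers_iff.mp hkc
      have hi' : j * c * j⁻¹ = (d * c * d⁻¹) ^ i := by
        have := congrArg Subtype.val hi
        rw [Subgroup.coe_zpow, Subgroup.coe_mul, Subgroup.coe_mul, Subgroup.coe_inv, ← hkjm] at this
        rw [this, show j * m * c * (j * m)⁻¹ = j * (m * c) * m⁻¹ * j⁻¹ by group, hmc.eq]
        group
      have hcase : (d * c * d⁻¹) ^ i = 1 ∨ (d * c * d⁻¹) ^ i = d * c * d⁻¹ ∨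
          (d * c * d⁻¹) ^ i = d * (c * c) * d⁻¹ := by
        have h := hzp (Subgroup.zpow_mem _ (Subgroup.mem_zpowers c) i)
        rw [conj_zpow]
        rcases h with h | h | h <;> rw [h]
        · left; group
        · exact Or.inr (Or.inl rfl)
        · exact Or.inr (Or.inr rfl)
      rcases hcase with h | h | h <;> rw [h] at hi'
      · exact absurd (conj_eq_one_iff.mp hi') hc1
      · refine ⟨j⁻¹, J.inv_mem hj, ?_⟩
        refine mul_inv_eq_iff_eq_mul.mp ?_
        rw [show j⁻¹ * d * c * (j⁻¹ * d)⁻¹ = j⁻¹ * (d * c * d⁻¹) * j by group, ← hi']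
        group
      · exfalso
        apply hcJ
        have e1 : d * (c * c) * d⁻¹ = j0 * c * (j0 * c) := by rw [← hd]; group
        rw [e1] at hi'
        have e2 : c * j0 * c⁻¹ ∈ J := hJn.conj_mem _ hj0 c
        have e3 : (j0 * (c * j0 * c⁻¹))⁻¹ * (j * (c * j⁻¹ * c⁻¹)) ∈ J :=
          J.mul_mem (J.inv_mem (J.mul_mem hj0 e2)) (J.mul_mem hj (hJn.conj_mem _ (J.inv_mem hj) c))
        rwa [show (j0 * (c * j0 * c⁻¹))⁻¹ * (j * (c * j⁻¹ * c⁻¹)) = (j0 * (c * j0 * c⁻¹))⁻¹ * (j * c * j⁻¹) * c⁻¹ by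
          group, hi', show (j0 * (c * j0 * c⁻¹))⁻¹ * (j0 * c * (j0 * c)) * c⁻¹ = c by group] at e3
    -- too few classes
    let φ := (θ.toMonoidHom.comp (QuotientGroup.mk' (J ⊔ Subgroup.zpowers c))).comp
      (Subgroup.centralizer ({c} : Set ↥(Subgroup.centralizer ({z} : Set G)))).subtype
    have hφs : Function.Surjective φ := by
      intro g
      obtain ⟨d, hd⟩ := (θ.surjective.comp (QuotientGroup.mk'_surjective (J ⊔ Subgroup.zpowers c))) g
      obtain ⟨j, hj, hjd⟩ := hmeet3 d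
      refine ⟨⟨j * d, Subgroup.mem_centralizer_singleton_iff.mpr hjd.eq⟩, ?_⟩
      rw [← hd]
      show θ (QuotientGroup.mk' _ (j * d)) = θ (QuotientGroup.mk' _ d)
      rw [map_mul (QuotientGroup.mk' _), (QuotientGroup.eq_one_iff j).mpr (Subgroup.mem_sup_left hj) |>
        fun h => (show QuotientGroup.mk' (J ⊔ Subgroup.zpowers c) j = 1 from h), one_mul]
    let φ' := QuotientGroup.lift ((Subgroup.zpowers c ⊔ Subgroup.zpowers zc).subgroupOf
      (Subgroup.centralizer ({c} : Set ↥(Subgroup.centralizer ({z} : Set G))))) φ fun d hd => by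
        rw [MonoidHom.mem_ker]
        show θ _ = 1
        rw [MulEquiv.map_eq_one_iff, QuotientGroup.mk'_apply, QuotientGroup.eq_one_iff]
        exact (sup_le le_sup_right (Subgroup.zpowers_le.mpr (Subgroup.mem_sup_left hzJ))) hd
    have hφ' : Function.Surjective φ' := fun g => by
      obtain ⟨d, hd⟩ := hφs g
      exact ⟨QuotientGroup.mk' _ d, hd⟩
    have h1 := Nat.card_le_card_of_surjective φ' hφ'
    rw [Nat.card_congr θ'.toEquiv, card_L, card_Gam] at h1
    omega

end Cfsg.Agent.Spor.CHZ.FThree
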