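import Cfsg.Agent.Lib.Spor.CHZ.FThreeData

/-!
An involution of the centraliser: the part of the two-core commuting with it.
-/

set_option autoImplicit false
set_option linter.unusedSectionVars false

namespace Cfsg.Agent.Spor.CHZ.FThree.FCore

open Cfsg.Agent.Spor.SpFour Cfsg.Agent.Small.Unitary

universe w

variable {G : Type w} [Group G] {z v1 v2 : G} (D : FCore z v1 v2) {x : G}
  (hz : Commute x z) (h1 : Commute x v1) (h2 : x * x = 1)

/-- the vectors of the elements of the two-core commuting with an element -/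
def vecC (x : G) : AddSubgroup V where
  carrier := {v | ∃ j ∈ D.Q, Commute j x ∧ D.ν j = v}
  zero_mem' := ⟨1, D.Q.one_mem, Commute.one_left x, D.ν_one⟩
  add_mem' := by
    rintro a b ⟨i, hi, hic, rfl⟩ ⟨j, hj, hjc, rfl⟩
    exact ⟨i * j, D.Q.mul_mem hi hj, hic.mul_left hjc, D.ν_mul i hi j hj⟩
  neg_mem' := by
    rintro a ⟨i, hi, hic, rfl⟩
    exact ⟨i⁻¹, D.Q.inv_mem hi, hic.inv_left, by rw [D.ν_inv hi, neg_eq']⟩

include D

theorem mem_vecC {v : V} : v ∈ D.vecC x ↔ ∃ j ∈ D.Q, Commute j x ∧ D.ν j = v := Iff.rfl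

include hz h1 in
theorem vecC_fixed {v : V} (hv : v ∈ D.vecC x) : D.π x v = v := by
  obtain ⟨j, hj, hjx, rfl⟩ := hv
  rw [← D.ν_act x hz h1 j hj, hjx.symm.eq, mul_inv_cancel_right]

include hz h1 h2

theorem π_sq : D.π x * D.π x = 1 := by rw [← D.π_mul x x hz h1 hz h1, h2, D.π_one]

/-- the change of an element by conjugation -/
theorem moved {j : G} (hj : j ∈ D.Q) :
    j * x * j⁻¹ * x ∈ D.Q ∧ D.ν (j * x * j⁻¹ * x) = D.π x (D.ν j) + D.ν j := by
  have hxi : x⁻¹ = x := inv_eq_of_mul_eq_one_right h2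
  have h := D.normal x hz _ (D.Q.inv_mem hj)
  rw [hxi] at h
  rw [show j * x * j⁻¹ * x = j * (x * j⁻¹ * x) by group]
  refine ⟨D.Q.mul_mem hj h, ?_⟩
  rw [D.ν_mul _ hj _ h, add_comm]
  congr 1
  rw [show x * j⁻¹ * x = x * j⁻¹ * x⁻¹ by rw [hxi], D.ν_act x hz h1 _ (D.Q.inv_mem hj), D.ν_inv hj]

/-- singular vectors of the range are vectors of commuting elements -/
theorem range_sing {r : V} (hr : r ∈ Set.range fun y => D.π x y + y) (hq : herm r r = 0) : r ∈ D.vecC x := by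
  obtain ⟨y, rfl⟩ := hr
  obtain ⟨j, hj, rfl⟩ := D.ν_surj y
  obtain ⟨hm, hν⟩ := D.moved hz h1 h2 hj
  refine ⟨_, hm, ?_, hν⟩
  have hsq : (j * x * j⁻¹ * x) * (j * x * j⁻¹ * x) = 1 := (D.ν_sq _ hm).mpr (by rw [hν]; exact hq)
  have e : x * (j * x * j⁻¹ * x) * x = (j * x * j⁻¹ * x)⁻¹ := by
    refine (inv_eq_of_mul_eq_one_right ?_).symm
    calc j * x * j⁻¹ * x * (x * (j * x * j⁻¹ * x) * x) = j * x * j⁻¹ * (x * x) * j * x * j⁻¹ * (x * x) := by group
      _ = j * x * j⁻¹ * 1 * j * x * j⁻¹ * 1 := by rw [h2]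
      _ = j * (x * x) * j⁻¹ := by group
      _ = 1 := by rw [h2]; group
  rw [inv_eq_of_mul_eq_one_right hsq] at e
  generalize j * x * j⁻¹ * x = r at e
  show r * x = x * r
  calc r * x = x * r * x * x := by rw [e]
    _ = x * r * (x * x) := by group
    _ = x * r := by rw [h2, mul_one]

/-- a fixed vector: the change is central in the two-core -/
theorem fixed_change {j : G} (hj : j ∈ D.Q) (hv : D.π x (D.ν j) = D.ν j) :
    ∃ u, InW z (four v1 v2) u ∧ j * x * j⁻¹ = u * x := by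
  obtain ⟨hm, hν⟩ := D.moved hz h1 h2 hj
  rw [hv, add_self] at hν
  refine ⟨_, (D.ν_zero _ hm).mp hν, ?_⟩
  rw [mul_assoc (j * x * j⁻¹) x x, h2, mul_one]

/-- an element of odd order commuting with the involution and the commuting part is in the two-core -/
theorem odd_fix {n : G} (hnz : Commute n z) (hn1 : Commute n v1) (hn2 : Commute n v2) (hodd : Odd (orderOf n))
    (hnx : Commute n x) (hC : ∀ j ∈ D.Q, Commute j x → Commute n j) : n = 1 := by
  obtain ⟨k, hk⟩ := hodd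
  have hsemi := D.π_semi n hnz hn1
  have hpow : ∀ m : ℕ, D.π (n ^ m) = D.π n ^ m := by
    intro m
    induction m with
    | zero => rw [pow_zero, pow_zero, D.π_one]
    | succ m ih => rw [pow_succ, pow_succ, D.π_mul _ _ (hnz.pow_left m) (hn1.pow_left m) hnz hn1, ih]
  have hdouble : ∀ v, D.π n (D.π n v) = v → D.π n v = v := by
    intro v hv
    have h : ∀ m : ℕ, (D.π n ^ (2 * m)) v = v := by
      intro m
      induction m with
      | zero => simp
      | succ m ih => rw [mul_add, mul_one, pow_add, pow_two, Equiv.Perm.mul_apply, Equiv.Perm.mul_apply, hv, ih]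
    have hord : (D.π n ^ (2 * k + 1)) v = v := by
      rw [← hpow, ← hk, pow_orderOf_eq_one, D.π_one]; rfl
    rw [pow_succ', Equiv.Perm.mul_apply, h k] at hord
    exact hord
  have hfixed : ∀ v, D.π x v = v → D.π n v = v := by
    intro v hv
    obtain ⟨j, hj, rfl⟩ := D.ν_surj v
    obtain ⟨u, hu, hju⟩ := D.fixed_change hz h1 h2 hj hv
    have hjn := D.normal n hnz j hj
    have huc := D.W_comm hu hnz hn1 hn2
    have e1 : n * j * n⁻¹ * x * (n * j * n⁻¹)⁻¹ = u * x := by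
      calc n * j * n⁻¹ * x * (n * j * n⁻¹)⁻¹ = n * (j * (n⁻¹ * x * n) * j⁻¹) * n⁻¹ := by group
        _ = n * (j * x * j⁻¹) * n⁻¹ := by rw [mul_assoc n⁻¹, ← hnx.eq, inv_mul_cancel_left]
        _ = (n * u) * (x * n⁻¹) := by rw [hju]; group
        _ = u * (n * x) * n⁻¹ := by rw [huc.eq]; group
        _ = u * x := by rw [hnx.eq]; group
    have hy : Commute (j⁻¹ * (n * j * n⁻¹)) x := by
      refine mul_inv_eq_iff_eq_mul.mp ?_
      calc j⁻¹ * (n * j * n⁻¹) * x * (j⁻¹ * (n * j * n⁻¹))⁻¹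
          = j⁻¹ * (n * j * n⁻¹ * x * (n * j * n⁻¹)⁻¹) * j := by group
        _ = j⁻¹ * (j * x * j⁻¹) * j := by rw [e1, hju]
        _ = x := by group
    have hyQ := D.Q.mul_mem (D.Q.inv_mem hj) hjn
    have hny : D.π n (D.ν (j⁻¹ * (n * j * n⁻¹))) = D.ν (j⁻¹ * (n * j * n⁻¹)) := by
      rw [← D.ν_act n hnz hn1 _ hyQ, (hC _ hyQ hy).eq, mul_inv_cancel_right]
    rw [D.ν_mul _ (D.Q.inv_mem hj) _ hjn, D.ν_inv hj, D.ν_act n hnz hn1 j hj, hsemi.add] at hny
    refine hdouble _ ?_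
    rw [add_comm (D.π n (D.ν j))] at hny
    exact add_right_cancel hny
  have hx2 := D.π_sq hz h1 h2
  have hall : D.π n = 1 := Equiv.ext fun v => by
    refine hdouble v ?_
    have hcomm : ∀ y, D.π n (D.π x y) = D.π x (D.π n y) := fun y => by
      rw [← Equiv.Perm.mul_apply, ← Equiv.Perm.mul_apply, ← D.π_mul _ _ hnz hn1 hz h1,
        ← D.π_mul _ _ hz h1 hnz hn1, hnx.eq]
    have hs := D.π_semi x hz h1
    have h := hfixed (D.π x v + v) (image_fixed hs hx2 v)
    rw [hsemi.add, hcomm] at h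
    have hz' : D.π x (D.π n v + v) = D.π n v + v := by
      rw [hs.add]
      exact swap_sum h
    have h' := hfixed _ hz'
    rw [hsemi.add, add_comm (D.π n v) v] at h'
    exact add_right_cancel h'
  have hQ : n ∈ D.Q := (D.π_iff n hnz hn1).mp hall
  by_contra hne
  have h4 : (n * n) * (n * n) = 1 := by
    have hnn := D.Q.mul_mem hQ hQ
    refine (D.ν_sq _ hnn).mpr ?_
    rw [D.ν_mul n hQ n hQ, add_self, herm_zero_left]
  have hdvd : orderOf n ∣ 4 := orderOf_dvd_of_pow_eq_one (by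
    rw [pow_succ, pow_succ, pow_succ, pow_one]; simpa [mul_assoc] using h4)
  have hle := Nat.le_of_dvd (by norm_num) hdvd
  have h1' : orderOf n = 1 := by
    rw [hk] at hdvd hle ⊢
    rcases (show k = 0 ∨ k = 1 by omega) with rfl | rfl
    · rfl
    · norm_num at hdvd
  exact hne (orderOf_eq_one_iff.mp h1')

variable (hx2 : Commute x v2)
include hx2

theorem inner_lin : Lin (D.π x) := (D.π_lin x hz h1).mpr hx2

/-- over sixteen fixed vectors everything commutes -/
theorem full_of_sixteen (h16 : (fixS (D.π x)).ncard = 16) (hne : D.π x ≠ 1) {v : V} (hv : D.π x v = v) :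
    v ∈ D.vecC x := by
  have hl := D.inner_lin hz h1 h2 hx2
  rcases hl.invol_cases (D.π_sq hz h1 h2) hne with ⟨-, hr⟩ | ⟨u, hu, -, hf⟩
  · have hvr : v ∈ Set.range fun y => D.π x y + y := hr ▸ hv
    refine D.range_sing hz h1 h2 hvr ?_
    obtain ⟨y, rfl⟩ := hvr
    exact hl.herm_image_fix hv y
  · exfalso
    obtain ⟨y, hy⟩ := exists_herm_val hu 1
    have h64 := card_hyper hy
    rw [show {y | herm u y = 0} = fixS (D.π x) from Set.ext fun a => (tv_fix hu hf).symm, h16] at h64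
    omega

/-- at a transvection the change of a fixed element is at most the central involution -/
theorem half_of_tv {u : V} (hu0 : u ≠ 0) (hu : herm u u = 0) (hf : ∀ y, D.π x y = y + herm u y • u) {v : V}
    (hv : D.π x v = v) : ∃ j ∈ D.Q, D.ν j = v ∧ (j * x * j⁻¹ = x ∨ j * x * j⁻¹ = z * x) := by
  have hfix : ∀ {y}, D.π x y = y ↔ herm u y = 0 := fun {y} => tv_fix hu0 hf
  have hxW : ∀ {w}, InW z (four v1 v2) w → Commute x w := fun hw => D.W_comm hw hz h1 hx2
  have sing : ∀ q, herm u q = 0 → herm q q = 0 →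
      ∃ j ∈ D.Q, D.ν j = q ∧ (j * x * j⁻¹ = x ∨ j * x * j⁻¹ = z * x) := by
    intro q hq hqq
    by_cases hc : ∃ c : F4, q = c • u
    · obtain ⟨c, rfl⟩ := hc
      obtain ⟨y, hy⟩ := exists_herm_val hu0 c
      obtain ⟨j, hj, hjx, hν⟩ := D.range_sing hz h1 h2 (r := c • u) ⟨y, by
        show D.π x y + y = c • u
        rw [hf, hy, add_comm, ← add_assoc, add_self, zero_add]⟩ hqq
      exact ⟨j, hj, hν, Or.inl (by rw [hjx.eq, mul_inv_cancel_right])⟩
    obtain ⟨v, hv0, hqv⟩ : ∃ v, herm u v = 0 ∧ herm q v = 1 := by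
      by_contra hall
      refine hc (point_eq hu0 fun y hy => ?_)
      by_contra hne
      exact hall ⟨(herm q y)⁻¹ • y, by rw [herm_smul_right, hy, mul_zero],
        by rw [herm_smul_right, inv_mul_cancel₀ hne]⟩
    obtain ⟨j, hj, hjv⟩ := D.ν_surj v
    obtain ⟨w, hw, hjw⟩ := D.fixed_change hz h1 h2 hj (by rw [hjv]; exact hfix.mpr hv0)
    obtain ⟨c, hc, hc1, hc2, hcπ⟩ := D.π_surj (tvL q hqq)
    have hcx : ∀ y, D.π c (D.π x y) = D.π x (D.π c y) := fun y => by
      rw [hcπ, sp_tvL, sp_tvL, hf y, hf (y + herm q y • q)]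
      simp only [herm_add_right, herm_smul_right, hq, show herm q u = 0 by rw [← star_herm, hq, star_zero],
        mul_zero, add_zero]
      abel
    obtain ⟨r, hr, hcr⟩ : ∃ r ∈ D.Q, c * x * c⁻¹ = r * x := by
      refine ⟨c * x * c⁻¹ * x, ?_, by rw [mul_assoc (c * x * c⁻¹) x x, h2, mul_one]⟩
      have hcz : Commute (c * x * c⁻¹) z := (hc.mul_left hz).mul_left hc.inv_left
      have hc1' : Commute (c * x * c⁻¹) v1 := (hc1.mul_left h1).mul_left hc1.inv_left
      refine (D.π_iff _ (hcz.mul_left hz) (hc1'.mul_left h1)).mp ?_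
      rw [D.π_mul _ _ hcz hc1' hz h1, D.π_mul _ _ (hc.mul_left hz) (hc1.mul_left h1) hc.inv_left hc1.inv_left,
        D.π_mul _ _ hc hc1 hz h1, D.π_inv hc hc1,
        show D.π c * D.π x = D.π x * D.π c from Equiv.ext hcx, mul_inv_cancel_right, D.π_sq hz h1 h2]
    have hjn := D.normal c hc j hj
    obtain ⟨j', hj'⟩ : ∃ j', j' = c * j * c⁻¹ := ⟨_, rfl⟩
    rw [← hj'] at hjn
    have e1 : j' * (r * x) * j'⁻¹ = w * (r * x) := by
      rw [hj', ← hcr, show c * j * c⁻¹ * (c * x * c⁻¹) * (c * j * c⁻¹)⁻¹ = c * (j * x * j⁻¹) * c⁻¹ by group, hjw,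
        show c * (w * x) * c⁻¹ = c * w * (x * c⁻¹) by group, (D.W_comm hw hc hc1 hc2).eq]
      group
    have e2 : j' * x * j'⁻¹ = w * (j' * r⁻¹ * j'⁻¹ * r⁻¹⁻¹) * x := by
      have hwr : Commute r w := D.W_comm_Q hw hr
      have hwj : Commute j' w := D.W_comm_Q hw hjn
      have : j' * x * j'⁻¹ = (j' * r * j'⁻¹)⁻¹ * (j' * (r * x) * j'⁻¹) := by group
      rw [this, e1]
      have hwm : Commute (j' * r * j'⁻¹)⁻¹ w := ((hwj.mul_left hwr).mul_left hwj.inv_left).inv_left
      rw [← mul_assoc, hwm.eq]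
      group
    refine ⟨j⁻¹ * j', D.Q.mul_mem (D.Q.inv_mem hj) hjn, ?_, ?_⟩
    · rw [D.ν_mul _ (D.Q.inv_mem hj) _ hjn, D.ν_inv hj, hj', D.ν_act c hc hc1 j hj, hcπ, sp_tvL, hjv, hqv,
        one_smul, ← add_assoc, add_self, zero_add]
    · have hjj : j⁻¹ * x * j = w * x := by
        have hwj : Commute j w := D.W_comm_Q hw hj
        calc j⁻¹ * x * j = j⁻¹ * (w * (w * x)) * j := by rw [← mul_assoc w, D.W_sq hw, one_mul]
          _ = j⁻¹ * w * (j * x * j⁻¹) * j := by rw [← hjw]; group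
          _ = w * x := by rw [hwj.inv_left.eq]; group
      have hfinal : ∀ e, (e = 1 ∨ e = z) → j⁻¹ * (w * e * x) * j = e * x := by
        intro e he
        have hje : Commute j⁻¹ e := by
          rcases he with rfl | rfl
          exacts [Commute.one_right _, (D.cent j hj).inv_left]
        have hwe : Commute e w := by
          rcases he with rfl | rfl
          exacts [Commute.one_left _, (D.cent w (D.W_mem hw)).symm]
        rw [show j⁻¹ * (w * e * x) * j = j⁻¹ * (w * e) * j * (j⁻¹ * x * j) by group, hjj,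
          ((D.W_comm_Q hw hj).inv_left.mul_right hje).eq, inv_mul_cancel_right, ← hwe.eq, mul_assoc e w,
          ← mul_assoc w w, D.W_sq hw, one_mul]
      rw [show j⁻¹ * j' * x * (j⁻¹ * j')⁻¹ = j⁻¹ * (j' * x * j'⁻¹) * j by group, e2]
      rcases D.comm j' hjn r⁻¹ (D.Q.inv_mem hr) with e | e <;> rw [e]
      · exact Or.inl ((hfinal 1 (Or.inl rfl)).trans (one_mul x))
      · exact Or.inr (hfinal z (Or.inr rfl))
  obtain ⟨a, ha, haa, hva⟩ := gen_perp hu0 hu (hfix.mp hv)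
  obtain ⟨i, hi, hia, hix⟩ := sing a ha haa
  obtain ⟨j, hj, hja, hjx⟩ := sing (v + a) (by rw [herm_add_right, hfix.mp hv, ha, add_zero]) hva
  refine ⟨i * j, D.Q.mul_mem hi hj, ?_, ?_⟩
  · rw [D.ν_mul i hi j hj, hia, hja, add_comm v, ← add_assoc, add_self, zero_add]
  · have hzi : Commute i z := D.cent i hi
    have e : i * j * x * (i * j)⁻¹ = i * (j * x * j⁻¹) * i⁻¹ := by group
    rw [e]
    rcases hjx with e' | e' <;> rw [e']
    · exact hix
    · rw [← mul_assoc i z, hzi.eq, mul_assoc z i x, mul_assoc z (i * x)]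
      rcases hix with e'' | e'' <;> rw [e'']
      · exact Or.inr rfl
      · left; rw [← mul_assoc, D.z2, one_mul]

end Cfsg.Agent.Spor.CHZ.FThree.FCore
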