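import Cfsg.Agent.Lib.Spor.CHZ.FThreeLocal
import Cfsg.Agent.S0280
import Cfsg.Agent.S0283
import Cfsg.Agent.S0815

/-!
The conclusion: an odd extension of the centraliser, the sporadic group, or a four-group with quotient the
automorphism group of the unitary group.
-/

set_option autoImplicit false
set_option linter.unusedSectionVars false
set_option maxHeartbeats 1600000

namespace Cfsg.Agent.Spor.CHZ.FThree

open Cfsg.Agent.Spor.SpFour Cfsg.Agent.Small.Unitary

universe w u v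

theorem card_psu_six {K : Type v} [Field K] [Fintype K] (hK : Fintype.card K = 4) :
    Nat.card (Cfsg.PSU 6 K 2) = 9196830720 := by
  have h := Cfsg.Agent.S0280.result (F := K) (q := 2) (by rw [hK]; norm_num) 6 (by norm_num)
  norm_num [Finset.prod_range_succ, Nat.even_iff] at h
  omega

theorem card_aut_psu_six {K : Type v} [Field K] [Fintype K] (hK : Fintype.card K = 4) :
    Nat.card (MulAut (Cfsg.PSU 6 K 2)) = 6 * 9196830720 := by
  haveI : Fact (Nat.Prime 2) := ⟨Nat.prime_two⟩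
  rw [Cfsg.Agent.S0815.result (F := K) 2 1 le_rfl (pow_one 2).symm (by rw [hK]; norm_num) 6 (by norm_num)
    (by norm_num), card_psu_six hK]
  norm_num

/-- a small normal subgroup of the extended group is trivial -/
theorem small_Gam {P : Subgroup ↥Gam} (hn : P.Normal) (h : Nat.card P ≤ 16) : P = ⊥ := by
  have hbot : P.comap ι = ⊥ := (L_normal (hn.comap ι)).resolve_right fun e => by
    have h1 : Nat.card ↥(P.comap ι) ≤ Nat.card P :=
      Nat.card_le_card_of_injective (fun x => (⟨ι x, x.2⟩ : ↥P)) fun a b hab =>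
        Subtype.ext (ι_inj (congrArg Subtype.val hab))
    rw [e, Subgroup.card_top, card_L] at h1
    omega
  refine (Subgroup.eq_bot_iff_forall P).mpr fun f hf => centralizes fun g => ?_
  have hm : f * ι g * f⁻¹ * (ι g)⁻¹ ∈ ι.range := mul_mem (range_normal _ g) (inv_mem ⟨g, rfl⟩)
  obtain ⟨g', hg'⟩ := hm
  have hP : ι g' ∈ P := by
    rw [hg', show f * ι g * f⁻¹ * (ι g)⁻¹ = f * (ι g * f⁻¹ * (ι g)⁻¹) by group]
    exact P.mul_mem hf (hn.conj_mem _ (P.inv_mem hf) _)
  have : g' = 1 := Subgroup.mem_bot.mp (hbot ▸ (hP : g' ∈ P.comap ι))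
  rw [this, map_one] at hg'
  exact mul_inv_eq_iff_eq_mul.mp (mul_inv_eq_one.mp hg'.symm)

namespace FData

variable {G : Type w} [Group G] [Finite G] {z v1 v2 : G} (F : FData z v1 v2)
include F

theorem card_cent_le : Nat.card (Subgroup.centralizer ({z} : Set G)) ≤ 318504960 := by
  classical
  have hker : Nat.card F.R.ψ.ker ≤ 6144 := by
    have hcQ : ∀ {d : ↥F.R.ψ.ker}, ∃ p : ↥F.R.Q × Fin 3, ((d : ↥(Subgroup.centralizer ({z} : Set G))) : G) =
        (p.1 : G) * ![1, F.R.c, F.R.c * F.R.c] p.2 := fun {d} => by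
      obtain ⟨x, hx, e | e | e⟩ := (F.R.ψ_ker _).mp d.2
      · exact ⟨(⟨x, hx⟩, 0), by rw [e]; exact (mul_one x).symm⟩
      · exact ⟨(⟨x, hx⟩, 1), e⟩
      · exact ⟨(⟨x, hx⟩, 2), e⟩
    choose f hf using fun d => hcQ (d := d)
    refine (Nat.card_le_card_of_injective f fun a b hab => Subtype.ext (Subtype.ext (by rw [hf a, hf b, hab]))).trans ?_
    rw [Nat.card_prod, F.R.card, Nat.card_eq_fintype_card (α := Fin 3), Fintype.card_fin]
  rw [← Subgroup.index_mul_card F.R.ψ.ker, Subgroup.index_ker, MonoidHom.range_eq_top.mpr F.R.ψ_surj,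
    Subgroup.card_top, card_Gam]
  omega

section FourV

variable {T : Type v} [Group T] (P : Subgroup G) (a : G) (φ : ↥P →* T) (hφ : Function.Surjective φ)
  (hker : ∀ p : ↥P, φ p = 1 ↔ (p : G) ∈ four v1 a) (h11 : a * a = 1) (hva : Commute v1 a)
  (ha1 : a ≠ 1) (hav : a ≠ v1) (hT : Nat.card T = 9196830720)
include hφ hker h11 hva ha1 hav hT

theorem card_four_cover (hv : v1 ∈ P) (ha : a ∈ P) : Nat.card P = 4 * 9196830720 := by
  classical
  have h : Nat.card φ.ker = 4 := by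
    have hne : v1 * a ≠ 1 := fun e => hav
      ((eq_inv_of_mul_eq_one_right e).trans (inv_eq_of_mul_eq_one_right F.D.v1_sq))
    let f : Bool × Bool → ↥φ.ker := fun b =>
      ⟨⟨(if b.1 then v1 else 1) * (if b.2 then a else 1), P.mul_mem (by split_ifs <;> simp [hv, P.one_mem])
        (by split_ifs <;> simp [ha, P.one_mem])⟩, (hker _).mpr (by
          rcases b with ⟨_ | _, _ | _⟩ <;> simp [four])⟩
    have hf : Function.Bijective f := by
      refine ⟨?_, fun p => ?_⟩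
      · rintro ⟨b, b'⟩ ⟨c, c'⟩ e
        have e' : (if b then v1 else 1) * (if b' then a else 1) = (if c then v1 else 1) * (if c' then a else 1) :=
          congrArg (fun q : ↥φ.ker => ((q : ↥P) : G)) e
        cases b <;> cases b' <;> cases c <;> cases c' <;>
          simp only [Bool.false_eq_true, if_false, if_true, one_mul, mul_one, mul_eq_left, left_eq_mul, mul_eq_right,
            right_eq_mul] at e' <;>
          first
            | rfl
            | exact absurd e' ha1 | exact absurd e'.symm ha1 | exact absurd e' F.D.v1_ne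
            | exact absurd e'.symm F.D.v1_ne | exact absurd e' hne | exact absurd e'.symm hne
            | exact absurd e' hav | exact absurd e'.symm hav
      · rcases (hker p).mp p.2 with e | e | e | e
        · exact ⟨(false, false), Subtype.ext (Subtype.ext (by simp [f, e]))⟩
        · exact ⟨(true, false), Subtype.ext (Subtype.ext (by simp [f, e]))⟩
        · exact ⟨(false, true), Subtype.ext (Subtype.ext (by simp [f, e]))⟩
        · exact ⟨(true, true), Subtype.ext (Subtype.ext (by simp [f, e]))⟩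
    rw [← Nat.card_eq_of_bijective f hf, Nat.card_prod, Nat.card_eq_fintype_card (α := Bool), Fintype.card_bool]
  rw [← Subgroup.index_mul_card φ.ker, Subgroup.index_ker, MonoidHom.range_eq_top.mpr hφ, Subgroup.card_top, hT, h]

theorem not_in_cent (hv : v1 ∈ P) (ha : a ∈ P) : ¬ ∀ x ∈ P, Commute x z := fun h => by
  have h1 : P ≤ Subgroup.centralizer ({z} : Set G) := fun x hx =>
    Subgroup.mem_centralizer_singleton_iff.mpr (h x hx).eq
  have h2 := (Subgroup.card_le_of_le h1).trans F.card_cent_le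
  rw [F.card_four_cover P a φ hφ hker h11 hva ha1 hav hT hv ha] at h2
  omega

/-- the cover centralises its four-group -/
theorem cover_central [IsSimpleGroup T] (hP : ∀ x ∈ P, Commute x v1)
    (hn : ∀ x ∈ P, x * a * x⁻¹ = a ∨ x * a * x⁻¹ = v1 * a) : ∀ x ∈ P, Commute x a := by
  classical
  have hv1 : ∀ {x}, x ∈ P → x * (v1 * a) * x⁻¹ = v1 * (x * a * x⁻¹) := fun {x} hx => by
    rw [← mul_assoc x, (hP x hx).eq]; group
  let K0 : Subgroup ↥P :=
    { carrier := {p | (p : G) * a * (p : G)⁻¹ = a}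
      one_mem' := by show ((1 : ↥P) : G) * a * ((1 : ↥P) : G)⁻¹ = a; simp
      mul_mem' := fun {p q} hp hq => by
        show (p * q : G) * a * (p * q : G)⁻¹ = a
        rw [show (p : G) * q * a * ((p : G) * q)⁻¹ = p * (q * a * (q : G)⁻¹) * (p : G)⁻¹ by group, hq, hp]
      inv_mem' := fun {p} hp => by
        show ((p⁻¹ : ↥P) : G) * a * ((p⁻¹ : ↥P) : G)⁻¹ = a
        have hp' : (p : G) * a * (p : G)⁻¹ = a := hp
        calc ((p⁻¹ : ↥P) : G) * a * ((p⁻¹ : ↥P) : G)⁻¹ = (p : G)⁻¹ * ((p : G) * a * (p : G)⁻¹) * p := by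
              rw [hp', Subgroup.coe_inv, inv_inv]
          _ = a := by group }
  haveI : K0.Normal := ⟨fun k hk g => by
    show ((g * k * g⁻¹ : ↥P) : G) * a * ((g * k * g⁻¹ : ↥P) : G)⁻¹ = a
    have hk' : (k : G) * a * (k : G)⁻¹ = a := hk
    have hk1 : (k : G) * (v1 * a) * (k : G)⁻¹ = v1 * a := by rw [hv1 k.2, hk']
    rw [Subgroup.coe_mul, Subgroup.coe_mul, Subgroup.coe_inv, show (g : G) * k * (g : G)⁻¹ * a *
      ((g : G) * k * (g : G)⁻¹)⁻¹ = g * (k * ((g : G)⁻¹ * a * (g : G)⁻¹⁻¹) * (k : G)⁻¹) * (g : G)⁻¹ by group]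
    rcases hn _ (P.inv_mem g.2) with e | e <;> rw [e]
    · rw [hk']
      conv_rhs => rw [show a = g * ((g : G)⁻¹ * a * (g : G)⁻¹⁻¹) * (g : G)⁻¹ by group, e]
    · rw [hk1]
      conv_rhs => rw [show a = g * ((g : G)⁻¹ * a * (g : G)⁻¹⁻¹) * (g : G)⁻¹ by group, e]⟩
  haveI : Finite T := Nat.finite_of_card_ne_zero (by rw [hT]; norm_num)
  rcases ((inferInstance : K0.Normal).map φ hφ).eq_bot_or_eq_top with hb | hb
  · exfalso
    -- at most two cosets
    obtain ⟨f, hf⟩ : ∃ f : T → Bool, Function.Injective f := by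
      let pre : T → ↥P := fun t => (hφ t).choose
      have hpre : ∀ t, φ (pre t) = t := fun t => (hφ t).choose_spec
      refine ⟨fun t => decide ((pre t : G) * a * (pre t : G)⁻¹ = a), fun s t hst => ?_⟩
      rw [decide_eq_decide] at hst
      have hmem : (pre t)⁻¹ * pre s ∈ K0 := by
        show (((pre t)⁻¹ * pre s : ↥P) : G) * a * (((pre t)⁻¹ * pre s : ↥P) : G)⁻¹ = a
        rw [Subgroup.coe_mul, Subgroup.coe_inv, show (pre t : G)⁻¹ * pre s * a * ((pre t : G)⁻¹ * pre s)⁻¹ =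
          (pre t : G)⁻¹ * (pre s * a * (pre s : G)⁻¹) * pre t by group]
        have heq : (pre s : G) * a * (pre s : G)⁻¹ = (pre t : G) * a * (pre t : G)⁻¹ := by
          rcases hn _ (pre s).2 with e | e <;> rcases hn _ (pre t).2 with e' | e'
          · rw [e, e']
          · rw [e, hst.mp e]
          · rw [e', hst.mpr e']
          · rw [e, e']
        rw [heq]; group
      have h1 : φ ((pre t)⁻¹ * pre s) = 1 := Subgroup.mem_bot.mp (hb ▸ ⟨_, hmem, rfl⟩)
      rw [map_mul, map_inv, hpre, hpre, inv_mul_eq_one] at h1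
      exact h1.symm
    have h1 := Nat.card_le_card_of_injective f hf
    rw [hT, Nat.card_eq_fintype_card, Fintype.card_bool] at h1
    omega
  · intro x hx
    obtain ⟨k, hk, hkx⟩ : φ ⟨x, hx⟩ ∈ K0.map φ := hb ▸ Subgroup.mem_top _
    have hmem : (((k : ↥P)⁻¹ * ⟨x, hx⟩ : ↥P) : G) ∈ four v1 a := (hker _).mp (by
      rw [map_mul, map_inv, hkx, inv_mul_cancel])
    have hfa : ∀ {y}, y ∈ four v1 a → Commute y a := fun hy => by
      rcases hy with e | e | e | e <;> rw [e]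
      exacts [Commute.one_left a, hva, hva.mul_left (Commute.refl a)]
    have h1 : Commute (k : G) a := mul_inv_eq_iff_eq_mul.mp hk
    have := h1.mul_left (hfa hmem)
    rwa [Subgroup.coe_mul, Subgroup.coe_inv, mul_inv_cancel_left] at this

end FourV

/-- the central four-group of the centraliser of the first involution is the four-group -/
theorem four_case {T : Type v} [Group T] [IsSimpleGroup T] (hT : Nat.card T = 9196830720)
    (hd : Split z (z * v1)) (A : FourCase z v1 T) : A.a = v2 ∨ A.a = v1 * v2 := by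
  classical
  have hn : ∀ d, Commute d z → Commute d v1 → d * A.a * d⁻¹ = A.a ∨ d * A.a * d⁻¹ = v1 * A.a := fun d _ hd1 =>
    A.norm d hd1
  obtain ⟨p, hp, he⟩ := F.four_in_W (Or.inl rfl) A.sq A.comm hn
  have hp1 : p ≠ 1 := fun e => by
    rcases he with e' | e'
    · exact A.ne.1 (e'.trans e)
    · exact A.ne.2.1 (by rw [e', e, mul_one])
  have hpv : p ≠ v1 := fun e => by
    rcases he with e' | e'
    · exact A.ne.2.2.1 (e'.trans e)
    · exact A.ne.2.2.2 (by rw [e', e, (F.D.four_z F.D.v1_mem_four).eq])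
  rcases he with e | e
  · rw [e]; exact (F.D.four_cases hp hp1).resolve_left hpv
  exfalso
  have hva : Commute v1 A.a := A.comm.symm
  have hav : A.a ≠ v1 := A.ne.2.2.1
  have hPa := F.cover_central A.P A.a A.φ A.φ_surj A.φ_ker A.sq hva A.ne.1 hav hT A.P_le
    fun x hx => A.norm x (A.P_le x hx)
  refine F.not_in_cent A.P A.a A.φ A.φ_surj A.φ_ker A.sq hva A.ne.1 hav hT A.wP A.aP fun x hx => ?_
  have hsa : Split z A.a := e ▸ (F.split_all hp hp1).2 hd
  have hza : Commute z A.a := e ▸ (F.D.cent _ (F.D.Q.mul_mem F.D.zQ (F.D.four_Q hp))).symm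
  obtain ⟨O, hodd, hOw, hOn, hOc⟩ := split_core F.D.z_ne F.D.z2 hza hsa
  obtain ⟨M, hM⟩ : ∃ M : Subgroup ↥A.P, M = O.subgroupOf A.P := ⟨_, rfl⟩
  haveI hMn : M.Normal := hM ▸ ⟨fun n hn g => hOn g (hPa g g.2) n hn⟩
  have hnP : x * z * x⁻¹ * z⁻¹ ∈ A.P := by
    rw [show x * z * x⁻¹ * z⁻¹ = x * (z * x⁻¹ * z⁻¹) by group]
    exact A.P.mul_mem hx (A.P_norm z (F.D.four_z F.D.v1_mem_four).symm _ (A.P.inv_mem hx))
  haveI : Finite T := Nat.finite_of_card_ne_zero (by rw [hT]; norm_num)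
  have hbot : M.map A.φ = ⊥ := (hMn.map A.φ A.φ_surj).eq_bot_or_eq_top.resolve_right fun htop => by
    have h1 : Nat.card ↥(M.map A.φ) ∣ Nat.card O := by
      refine (Subgroup.card_map_dvd M A.φ).trans ?_
      rw [hM]
      exact Subgroup.card_comap_dvd_of_injective O A.P.subtype Subtype.val_injective
    rw [htop, Subgroup.card_top, hT] at h1
    exact absurd (hodd.of_dvd_nat h1) (by decide)
  have hnO := hOc x (hPa x hx)
  have h1 : A.φ ⟨_, hnP⟩ = 1 := Subgroup.mem_bot.mp (hbot ▸ ⟨⟨_, hnP⟩, hM ▸ hnO, rfl⟩)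
  have hfour : x * z * x⁻¹ * z⁻¹ ∈ four v1 A.a := (A.φ_ker _).mp h1
  refine mul_inv_eq_iff_eq_mul.mp (mul_inv_eq_one.mp ?_)
  have hsq : (x * z * x⁻¹ * z⁻¹) * (x * z * x⁻¹ * z⁻¹) = 1 := by
    have := four_inv_eq F.D.v1_sq A.sq hva hfour
    generalize x * z * x⁻¹ * z⁻¹ = n at this ⊢
    calc n * n = n⁻¹ * n := by rw [this]
      _ = 1 := inv_mul_cancel n
  exact orderOf_eq_one_iff.mp (Nat.eq_one_of_dvd_coprimes (Nat.coprime_two_left.mpr hodd)
    (orderOf_dvd_of_pow_eq_one (by rw [pow_two]; exact hsq)) (Subgroup.orderOf_dvd_natCard O hnO))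

/-- the quotient by the four-group -/
theorem aut_case {K : Type v} [Field K] [Fintype K] (hK : Fintype.card K = 4) (hd : Split z (z * v1))
    (A : FourCase z v1 (Cfsg.PSU 6 K 2)) :
    ∃ (W : Subgroup G) (hW : W.Normal), Nat.card ↥W = 4 ∧ (∀ w ∈ W, w ^ 2 = 1) ∧
      Nonempty ((G ⧸ W) ≃* MulAut (Cfsg.PSU 6 K 2)) := by
  classical
  haveI : IsSimpleGroup (Cfsg.PSU 6 K 2) :=
    Cfsg.Agent.S0283.result (q := 2) (by rw [hK]; norm_num) 6 (by norm_num) (by norm_num)
  have hT := card_psu_six hK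
  have hva : Commute v1 A.a := A.comm.symm
  have hav : A.a ≠ v1 := A.ne.2.2.1
  have hacases := F.four_case hT hd A
  have hfour : four v1 A.a = four v1 v2 := by
    rcases hacases with e | e <;> rw [e]
    ext x
    have e' : v1 * (v1 * v2) = v2 := by rw [← mul_assoc, F.D.v1_sq, one_mul]
    simp only [four, Set.mem_ofPred_eq, e']
    constructor <;> rintro (h | h | h | h) <;> simp [h]
  have hM : ∀ x, Commute x v1 → x ∈ F.NP := fun x hx => F.mem_NP.mpr fun y hy => by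
    rw [← hfour] at hy ⊢
    have h1 : x * v1 * x⁻¹ = v1 := by rw [hx.eq, mul_inv_cancel_right]
    have e2 : v1 * (v1 * A.a) = A.a := by rw [← mul_assoc, F.D.v1_sq, one_mul]
    rcases hy with rfl | hy | hy | hy
    · rw [mul_one, mul_inv_cancel]; exact Or.inl rfl
    · rw [hy, h1]; exact Or.inr (Or.inl rfl)
    · rw [hy]
      rcases A.norm x hx with e | e <;> rw [e]
      exacts [Or.inr (Or.inr (Or.inl rfl)), Or.inr (Or.inr (Or.inr rfl))]
    · rw [hy, show x * (v1 * A.a) * x⁻¹ = x * v1 * x⁻¹ * (x * A.a * x⁻¹) by group, h1]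
      rcases A.norm x hx with e | e <;> rw [e]
      exacts [Or.inr (Or.inr (Or.inr rfl)), by rw [e2]; exact Or.inr (Or.inr (Or.inl rfl))]
  have hnorm : ∀ g : G, ∀ y ∈ four v1 v2, g * y * g⁻¹ ∈ four v1 v2 := fun g => F.NP_top hM hd g
  let W : Subgroup G :=
    { carrier := four v1 v2
      one_mem' := F.D.one_mem_four
      mul_mem' := F.D.four_sub
      inv_mem' := fun {p} hp => (four_inv_eq F.D.v1_sq F.D.v2_sq F.D.v_comm hp).symm ▸ hp }
  haveI hW : W.Normal := ⟨fun y hy g => hnorm g y hy⟩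
  have hWcard : Nat.card W = 4 := by
    have h : ((W : Subgroup G) : Set G) = (({1, v1, v2, v1 * v2} : Finset G) : Set G) := by
      ext x
      show x ∈ four v1 v2 ↔ _
      simp [four]
    show Nat.card ↥((W : Subgroup G) : Set G) = 4
    rw [h, Nat.card_coe_set_eq, Set.ncard_coe_finset, Finset.card_insert_of_notMem, Finset.card_insert_of_notMem,
      Finset.card_insert_of_notMem, Finset.card_singleton]
    · simp only [Finset.mem_singleton]
      exact fun e => F.D.v1_ne (mul_eq_right.mp e.symm)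
    · simp only [Finset.mem_insert, Finset.mem_singleton, not_or]
      exact ⟨F.D.v12, fun e => F.D.v2_ne (mul_eq_left.mp e.symm)⟩
    · simp only [Finset.mem_insert, Finset.mem_singleton, not_or]
      exact ⟨Ne.symm F.D.v1_ne, Ne.symm F.D.v2_ne, Ne.symm F.D.v3_ne⟩
  refine ⟨W, hW, hWcard, fun y hy => by rw [pow_two]; exact F.D.four_sq hy, ?_⟩
  have hPv : ∀ x ∈ A.P, Commute x v1 := A.P_le
  have hPa := F.cover_central A.P A.a A.φ A.φ_surj A.φ_ker A.sq hva A.ne.1 hav hT hPv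
    fun x hx => A.norm x (hPv x hx)
  have hPP : Nat.card A.P = 4 * 9196830720 :=
    F.card_four_cover A.P A.a A.φ A.φ_surj A.φ_ker A.sq hva A.ne.1 hav hT A.wP A.aP
  -- the cover is the centraliser of the four-group
  obtain ⟨h, hhz, hh1, hh2⟩ := F.D.swap
  have hPv2 : ∀ x ∈ A.P, Commute x v2 := fun x hx => by
    rcases hacases with e | e
    · exact e ▸ hPa x hx
    · have h1 := hPa x hx
      rw [e] at h1
      have h2 := (hPv x hx).mul_right h1
      rwa [← mul_assoc, F.D.v1_sq, one_mul] at h2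
  have hPW : ∀ x, Commute x v1 → Commute x v2 → x ∈ A.P := by
    obtain ⟨C1, hC1⟩ : ∃ C1 : Subgroup G, C1 = Subgroup.centralizer ({v1} : Set G) := ⟨_, rfl⟩
    obtain ⟨K, hK'⟩ : ∃ K : Subgroup G, K = C1 ⊓ Subgroup.centralizer ({v2} : Set G) := ⟨_, rfl⟩
    have hKm : ∀ {x}, x ∈ K ↔ Commute x v1 ∧ Commute x v2 := fun {x} => by
      rw [hK', Subgroup.mem_inf, hC1, Subgroup.mem_centralizer_singleton_iff, Subgroup.mem_centralizer_singleton_iff]
      rfl
    have hPK : A.P ≤ K := fun x hx => hKm.mpr ⟨hPv x hx, hPv2 x hx⟩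
    have hKC : K ≤ C1 := hK' ▸ inf_le_left
    obtain ⟨k, hk⟩ := Subgroup.card_dvd_of_le hPK
    have h2 := Subgroup.card_dvd_of_le hKC
    rw [hC1, A.index, hk, mul_comm 2] at h2
    have hk2 : k ∣ 2 := Nat.dvd_of_mul_dvd_mul_left Nat.card_pos h2
    have hKP : K = A.P := by
      rcases (Nat.dvd_prime Nat.prime_two).mp hk2 with rfl | rfl
      · exact (Subgroup.eq_of_le_of_card_ge hPK (by rw [hk, mul_one])).symm
      · exfalso
        have hKe : K = C1 := Subgroup.eq_of_le_of_card_ge hKC (by rw [hC1, A.index, hk, mul_comm])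
        have := (hKm.mp (hKe ▸ (hC1 ▸ Subgroup.mem_centralizer_singleton_iff.mpr hh1.eq) : h ∈ K)).2
        rw [this.eq, mul_inv_cancel_right] at hh2
        exact F.D.v1_ne (right_eq_mul.mp hh2)
    intro x h1 h2'
    rw [← hKP]
    exact hKm.mpr ⟨h1, h2'⟩
  haveI hPn : A.P.Normal := ⟨fun x hx g => by
    have hc : ∀ {y}, y ∈ four v1 v2 → Commute (g * x * g⁻¹) y := fun {y} hy => by
      have hy' : g⁻¹ * y * g ∈ four v1 v2 := by simpa using hnorm g⁻¹ y hy
      have hxy : Commute x (g⁻¹ * y * g) := by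
        rcases hy' with e | e | e | e <;> rw [e]
        exacts [Commute.one_right x, hPv x hx, hPv2 x hx, (hPv x hx).mul_right (hPv2 x hx)]
      have := comm_conj g hxy
      rwa [show g * (g⁻¹ * y * g) * g⁻¹ = y by group] at this
    exact hPW _ (hc F.D.v1_mem_four) (hc F.D.v2_mem_four)⟩
  -- orders
  have hGcard : Nat.card G = 6 * (4 * 9196830720) := by
    obtain ⟨C1, hC1⟩ : ∃ C1 : Subgroup G, C1 = Subgroup.centralizer ({v1} : Set G) := ⟨_, rfl⟩
    have hm : ∀ {x}, x ∈ C1 ↔ Commute x v1 := fun {x} => by rw [hC1, Subgroup.mem_centralizer_singleton_iff]; rfl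
    let k : Fin 3 → G := ![1, F.R.c, F.R.c⁻¹]
    have e0 : k 0 * v1 * (k 0)⁻¹ = v1 := by show (1 : G) * v1 * (1 : G)⁻¹ = v1; group
    have e1 : k 1 * v1 * (k 1)⁻¹ = v2 := F.c1
    have e2 : k 2 * v1 * (k 2)⁻¹ = v1 * v2 := by
      show F.R.c⁻¹ * v1 * F.R.c⁻¹⁻¹ = v1 * v2
      calc F.R.c⁻¹ * v1 * F.R.c⁻¹⁻¹ = F.R.c⁻¹ * (F.R.c * (v1 * v2) * F.R.c⁻¹) * F.R.c⁻¹⁻¹ := by rw [F.c3]
        _ = v1 * v2 := by group
    let f : Fin 3 × ↥C1 → G := fun p => k p.1 * p.2
    have hval : ∀ {p}, f p * v1 * (f p)⁻¹ = k p.1 * v1 * (k p.1)⁻¹ := fun {p} => by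
      show k p.1 * (p.2 : G) * v1 * (k p.1 * (p.2 : G))⁻¹ = _
      rw [mul_assoc (k p.1) (p.2 : G), (hm.mp p.2.2).eq]
      group
    have h13 : v1 ≠ v1 * v2 := fun e => F.D.v2_ne (mul_eq_left.mp e.symm)
    have h23 : v2 ≠ v1 * v2 := fun e => F.D.v1_ne (mul_eq_right.mp e.symm)
    have hf : Function.Bijective f := by
      refine ⟨fun p p' hpp => ?_, fun x => ?_⟩
      · have hkk : k p.1 * v1 * (k p.1)⁻¹ = k p'.1 * v1 * (k p'.1)⁻¹ := by rw [← hval, ← hval, hpp]
        have hi : p.1 = p'.1 := by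
          revert hkk
          generalize p.1 = i
          generalize p'.1 = j
          intro hkk
          fin_cases i <;> fin_cases j <;> first
            | rfl
            | exact absurd (e0.symm.trans (hkk.trans e1)) F.D.v12
            | exact absurd (e1.symm.trans (hkk.trans e0)) (Ne.symm F.D.v12)
            | exact absurd (e0.symm.trans (hkk.trans e2)) h13
            | exact absurd (e2.symm.trans (hkk.trans e0)) (Ne.symm h13)
            | exact absurd (e1.symm.trans (hkk.trans e2)) h23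
            | exact absurd (e2.symm.trans (hkk.trans e1)) (Ne.symm h23)
        have h' : k p.1 * (p.2 : G) = k p'.1 * (p'.2 : G) := hpp
        rw [hi, mul_left_cancel_iff] at h'
        exact Prod.ext hi (Subtype.ext h')
      · obtain ⟨e, hez, he, he'⟩ := F.rot_v1 (hnorm x v1 F.D.v1_mem_four) fun e => F.D.v1_ne (conj_eq_one_iff.mp e)
        have hc : e * x ∈ C1 := hm.mpr (mul_inv_eq_iff_eq_mul.mp (by
          rw [show e * x * v1 * (e * x)⁻¹ = e * (x * v1 * x⁻¹) * e⁻¹ by group, he]))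
        rcases he' with rfl | rfl | rfl
        · exact ⟨(0, ⟨_, hc⟩), by show (1 : G) * (1 * x) = x; group⟩
        · exact ⟨(2, ⟨_, hc⟩), by show F.R.c⁻¹ * (F.R.c * x) = x; group⟩
        · exact ⟨(1, ⟨_, hc⟩), by show F.R.c * (F.R.c⁻¹ * x) = x; group⟩
    rw [← Nat.card_eq_of_bijective f hf, Nat.card_prod, Nat.card_eq_fintype_card (α := Fin 3), Fintype.card_fin, hC1,
      A.index, hPP]
  have hquot : Nat.card (G ⧸ W) = Nat.card (MulAut (Cfsg.PSU 6 K 2)) := by
    rw [card_aut_psu_six hK]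
    have := W.card_eq_card_quotient_mul_card_subgroup
    rw [hGcard, hWcard] at this
    omega
  -- the map to the automorphisms
  let T := A.P.map (QuotientGroup.mk' W)
  haveI : T.Normal := hPn.map _ (QuotientGroup.mk'_surjective W)
  have hk : ((QuotientGroup.mk' W).subgroupMap A.P).ker = A.φ.ker := by
    ext p
    rw [MonoidHom.mem_ker, MonoidHom.mem_ker, A.φ_ker, hfour, ← Subtype.coe_inj]
    exact QuotientGroup.eq_one_iff (p : G)
  let eT : ↥T ≃* Cfsg.PSU 6 K 2 :=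
    (QuotientGroup.quotientKerEquivOfSurjective ((QuotientGroup.mk' W).subgroupMap A.P)
      (MonoidHom.subgroupMap_surjective _ _)).symm.trans
      ((QuotientGroup.quotientMulEquivOfEq hk).trans (QuotientGroup.quotientKerEquivOfSurjective A.φ A.φ_surj))
  let Φ : (G ⧸ W) →* MulAut (Cfsg.PSU 6 K 2) :=
    (MulAut.congr eT).toMonoidHom.comp (MulAut.conjNormal (H := T))
  -- the kernel is trivial
  let X : Subgroup G :=
    { carrier := {x | ∀ p ∈ A.P, x * p * x⁻¹ * p⁻¹ ∈ W}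
      one_mem' := fun p _ => by simpa using W.one_mem
      mul_mem' := fun {a b} ha hb p hp => by
        rw [show a * b * p * (a * b)⁻¹ * p⁻¹ = a * (b * p * b⁻¹ * p⁻¹) * a⁻¹ * (a * p * a⁻¹ * p⁻¹) by group]
        exact W.mul_mem (hW.conj_mem _ (hb p hp) a) (ha p hp)
      inv_mem' := fun {a} ha p hp => by
        rw [show a⁻¹ * p * a⁻¹⁻¹ * p⁻¹ = a⁻¹ * (a * p * a⁻¹ * p⁻¹)⁻¹ * a⁻¹⁻¹ by group]
        exact hW.conj_mem _ (W.inv_mem (ha p hp)) _ }
  have hXn : ∀ g : G, ∀ x ∈ X, g * x * g⁻¹ ∈ X := fun g x hx p hp => by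
    rw [show g * x * g⁻¹ * p * (g * x * g⁻¹)⁻¹ * p⁻¹ =
      g * (x * (g⁻¹ * p * g⁻¹⁻¹) * x⁻¹ * (g⁻¹ * p * g⁻¹⁻¹)⁻¹) * g⁻¹ by group]
    exact hW.conj_mem _ (hx _ (hPn.conj_mem p hp g⁻¹)) g
  have hzP : z ∈ A.P := hPW z (F.D.four_z F.D.v1_mem_four).symm (F.D.four_z F.D.v2_mem_four).symm
  have hQP : F.D.Q ≤ A.P := fun q hq => hPW q (F.D.cent1 q hq) (F.D.cent2 q hq)
  have hXz : ∀ x ∈ X, Commute x z := fun x hx => by
    have hu : x * z * x⁻¹ * z⁻¹ ∈ four v1 v2 := hx z hzP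
    have e : x * z * x⁻¹ = z * (x * z * x⁻¹ * z⁻¹) := by
      rw [← (F.D.four_z hu).eq, inv_mul_cancel_right]
    exact mul_inv_eq_iff_eq_mul.mp (F.cls ⟨_, hu, Or.inr e⟩)
  have hX0 : ∀ x ∈ X, Commute x v1 → Commute x v2 → x ∈ F.D.Q := by
    let X1 : Subgroup G := X ⊓ Subgroup.centralizer ({v1} : Set G) ⊓ Subgroup.centralizer ({v2} : Set G)
    have hm : ∀ {x}, x ∈ X1 ↔ x ∈ X ∧ Commute x v1 ∧ Commute x v2 := fun {x} => by
      rw [Subgroup.mem_inf, Subgroup.mem_inf, Subgroup.mem_centralizer_singleton_iff,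
        Subgroup.mem_centralizer_singleton_iff, and_assoc]
      rfl
    have hfix : ∀ {x}, x ∈ X1 → ∀ {u}, u ∈ four v1 v2 → Commute x u := fun {x} hx {u} hu => by
      obtain ⟨-, h1, h2⟩ := hm.mp hx
      rcases hu with rfl | rfl | rfl | rfl
      exacts [Commute.one_right x, h1, h2, h1.mul_right h2]
    have h2 : IsPGroup 2 X1 := fun d => by
      have hdz := hXz _ (hm.mp d.2).1
      have hsq : (d : G) * d ∈ F.D.Q := F.self_mem (hdz.mul_left hdz) fun q hq => by
        refine mul_inv_eq_iff_eq_mul.mp ?_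
        obtain ⟨u, hu, e⟩ : ∃ u ∈ four v1 v2, (d : G) * q * (d : G)⁻¹ = u * q :=
          ⟨_, (hm.mp d.2).1 q (hQP hq), (inv_mul_cancel_right _ _).symm⟩
        rw [show (d : G) * d * q * ((d : G) * d)⁻¹ = d * (d * q * (d : G)⁻¹) * (d : G)⁻¹ by group, e,
          ← mul_assoc (d : G), (hfix d.2 hu).eq, mul_assoc u, mul_assoc u, e, ← mul_assoc, F.D.four_sq hu, one_mul]
      obtain ⟨k, hk⟩ := (IsPGroup.of_card (n := 11) (by rw [F.card_Q]; norm_num) : IsPGroup 2 F.D.Q) ⟨_, hsq⟩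
      refine ⟨k + 1, Subtype.ext ?_⟩
      rw [pow_succ', pow_mul, Subgroup.coe_pow, Subgroup.coe_pow, pow_two, Subgroup.coe_one]
      exact congrArg Subtype.val hk
    intro x hx h1 h1'
    refine F.two_le h2 (fun y hy => hXz y (hm.mp hy).1) (fun y hy => (hm.mp hy).2.1) (fun d hd hd1 y hy => ?_)
      (hm.mpr ⟨hx, h1, h1'⟩)
    have hc : ∀ {u}, u ∈ four v1 v2 → Commute (d * y * d⁻¹) u := fun {u} hu => by
      have h' := comm_conj d (hfix hy (u := d⁻¹ * u * d) (by simpa using hnorm d⁻¹ u hu))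
      rwa [show d * (d⁻¹ * u * d) * d⁻¹ = u by group] at h'
    exact hm.mpr ⟨hXn d y (hm.mp hy).1, hc F.D.v1_mem_four, hc F.D.v2_mem_four⟩
  have hXQ : ∀ x ∈ X, ∀ hx : Commute x z,
      F.R.ψ ⟨x, Subgroup.mem_centralizer_singleton_iff.mpr hx.eq⟩ = 1 := by
    intro x hx hxz
    obtain ⟨X', hX'⟩ : ∃ X' : Subgroup ↥Gam,
        X' = (X.subgroupOf (Subgroup.centralizer ({z} : Set G))).map F.R.ψ := ⟨_, rfl⟩
    have hn : X'.Normal := hX' ▸ Subgroup.Normal.map (H := X.subgroupOf (Subgroup.centralizer ({z} : Set G)))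
      ⟨fun y hy g => hXn g y hy⟩ _ F.R.ψ_surj
    have hcard : Nat.card X' ≤ 16 := by
      have hmem : ∀ f : ↥X', ∃ d : ↥(Subgroup.centralizer ({z} : Set G)), (d : G) ∈ X ∧ F.R.ψ d = f := fun f => by
        have h0 : (f : ↥Gam) ∈ (X.subgroupOf (Subgroup.centralizer ({z} : Set G))).map F.R.ψ :=
          (SetLike.ext_iff.mp hX' _).mp f.2
        obtain ⟨d, hd, e⟩ := h0
        exact ⟨d, hd, e⟩
      choose d hdX hd using hmem
      let g : ↥X' → ↥W × ↥W := fun f => (⟨(d f : G) * v1 * (d f : G)⁻¹, hnorm _ v1 F.D.v1_mem_four⟩,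
        ⟨(d f : G) * v2 * (d f : G)⁻¹, hnorm _ v2 F.D.v2_mem_four⟩)
      have hg : Function.Injective g := by
        intro f f' e
        have ha : (d f : G) * v1 * (d f : G)⁻¹ = (d f' : G) * v1 * (d f' : G)⁻¹ :=
          congrArg (fun q : ↥W × ↥W => (q.1 : G)) e
        have hb : (d f : G) * v2 * (d f : G)⁻¹ = (d f' : G) * v2 * (d f' : G)⁻¹ :=
          congrArg (fun q : ↥W × ↥W => (q.2 : G)) e
        have fix : ∀ {v : G}, (d f : G) * v * (d f : G)⁻¹ = (d f' : G) * v * (d f' : G)⁻¹ →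
            Commute ((d f' : G)⁻¹ * d f) v := fun {v} h => mul_inv_eq_iff_eq_mul.mp (by
          rw [show (d f' : G)⁻¹ * d f * v * ((d f' : G)⁻¹ * d f)⁻¹ = (d f' : G)⁻¹ * (d f * v * (d f : G)⁻¹) * d f'
            by group, h]
          group)
        have hQ := hX0 _ (X.mul_mem (X.inv_mem (hdX f')) (hdX f)) (fix ha) (fix hb)
        have h1 : F.R.ψ ((d f')⁻¹ * d f) = 1 := (F.R.ψ_ker _).mpr ⟨_, F.eQ ▸ hQ, Or.inl rfl⟩
        rw [map_mul, map_inv, hd, hd, inv_mul_eq_one] at h1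
        exact Subtype.ext h1.symm
      refine (Nat.card_le_card_of_injective g hg).trans ?_
      rw [Nat.card_prod, hWcard]
    have hbot := small_Gam hn hcard
    exact Subgroup.mem_bot.mp (hbot ▸ hX' ▸ (⟨⟨x, _⟩, hx, rfl⟩ :
      F.R.ψ ⟨x, Subgroup.mem_centralizer_singleton_iff.mpr hxz.eq⟩ ∈
        (X.subgroupOf (Subgroup.centralizer ({z} : Set G))).map F.R.ψ))
  have hnoc : ∀ y ∈ F.D.Q, (∃ w, InW z (four v1 v2) w ∧ F.R.c * y * F.R.c⁻¹ = y * w) → InW z (four v1 v2) y := by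
    rintro y hy ⟨w, ⟨p, hp, he⟩, hcy⟩
    obtain ⟨e, hez, hey, hee⟩ : ∃ e, (e = 1 ∨ e = z) ∧ Commute e y ∧ w = e * p := by
      rcases he with e | e
      · exact ⟨1, Or.inl rfl, Commute.one_left y, by rw [one_mul]; exact e⟩
      · exact ⟨z, Or.inr rfl, (F.D.cent y hy).symm, e⟩
    obtain ⟨p', hp', hpp⟩ : ∃ p' ∈ four v1 v2, p * (F.R.c * p' * F.R.c⁻¹) = p' := by
      by_cases hp1 : p = 1
      · exact ⟨1, F.D.one_mem_four, by rw [hp1]; group⟩
      rcases F.D.four_cases hp hp1 with q | q | q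
      · refine ⟨v2, F.D.v2_mem_four, ?_⟩
        rw [q, F.c2, ← mul_assoc, F.D.v1_sq, one_mul]
      · refine ⟨v1 * v2, F.D.v3_mem_four, ?_⟩
        rw [q, F.c3, F.D.v_comm.eq]
      · refine ⟨v1, F.D.v1_mem_four, ?_⟩
        rw [q, F.c1, mul_assoc, F.D.v2_sq, mul_one]
    obtain ⟨y', hy'⟩ : ∃ y', y' = y * p' := ⟨_, rfl⟩
    have hy'Q : y' ∈ F.D.Q := hy' ▸ F.D.Q.mul_mem hy (F.D.four_Q hp')
    have hcy' : F.R.c * y' * F.R.c⁻¹ = y' * e := by
      have hep' : Commute e p' := by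
        rcases hez with k | k <;> rw [k]
        exacts [Commute.one_left p', (F.D.four_z hp').symm]
      rw [hy', show F.R.c * (y * p') * F.R.c⁻¹ = F.R.c * y * F.R.c⁻¹ * (F.R.c * p' * F.R.c⁻¹) by group, hcy, hee,
        show y * (e * p) * (F.R.c * p' * F.R.c⁻¹) = y * e * (p * (F.R.c * p' * F.R.c⁻¹)) by group, hpp,
        mul_assoc, hep'.eq, ← mul_assoc]
    have hce : F.R.c * e * F.R.c⁻¹ = e := by
      rcases hez with k | k <;> rw [k]
      · group
      · rw [F.R.cz.eq, mul_inv_cancel_right]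
    have h2 : F.R.c * F.R.c * y' * (F.R.c * F.R.c)⁻¹ = y' * e * e := by
      rw [show F.R.c * F.R.c * y' * (F.R.c * F.R.c)⁻¹ = F.R.c * (F.R.c * y' * F.R.c⁻¹) * F.R.c⁻¹ by group, hcy',
        show F.R.c * (y' * e) * F.R.c⁻¹ = F.R.c * y' * F.R.c⁻¹ * (F.R.c * e * F.R.c⁻¹) by group, hcy', hce]
    have h3 : y' = y' * e * e * e := by
      calc y' = F.R.c * F.R.c * F.R.c * y' * (F.R.c * F.R.c * F.R.c)⁻¹ := by rw [F.R.c3]; group
        _ = F.R.c * (F.R.c * F.R.c * y' * (F.R.c * F.R.c)⁻¹) * F.R.c⁻¹ := by group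
        _ = F.R.c * y' * F.R.c⁻¹ * (F.R.c * e * F.R.c⁻¹) * (F.R.c * e * F.R.c⁻¹) := by rw [h2]; group
        _ = _ := by rw [hcy', hce]
    have he1 : e = 1 := by
      rcases hez with k | k
      · exact k
      · rw [k, mul_assoc (y' * z) z z, F.D.z2, mul_one] at h3
        exact absurd (left_eq_mul.mp h3) F.D.z_ne
    rw [he1, mul_one] at hcy'
    have hfix := F.R.fix y' (F.eQ ▸ hy'Q) (mul_inv_eq_iff_eq_mul.mp hcy' : Commute F.R.c y')
    have hyy : y = y' * p' := by rw [hy', mul_assoc, F.D.four_sq hp', mul_one]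
    rcases hfix with h' | h'
    · exact ⟨p', hp', Or.inl (by rw [hyy, h', one_mul])⟩
    · exact ⟨p', hp', Or.inr (by rw [hyy, h'])⟩
  have hXW : ∀ x ∈ X, x ∈ W := by
    intro x hx
    have hxz := hXz x hx
    obtain ⟨q, hq, e⟩ := (F.R.ψ_ker _).mp (hXQ x hx hxz)
    rw [← F.eQ] at hq
    have hstep : ∀ e' : G, Commute e' z → x = q * e' → ∀ y ∈ F.D.Q,
        ∃ w, InW z (four v1 v2) w ∧ e' * y * e'⁻¹ = y * w := by
      intro e' he'z he' y hy
      have hyy := F.D.normal e' he'z y hy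
      obtain ⟨u, hu, hxy⟩ : ∃ u ∈ four v1 v2, x * y * x⁻¹ = u * y :=
        ⟨_, hx y (hQP hy), (inv_mul_cancel_right _ _).symm⟩
      have h' : e' * y * e'⁻¹ = q⁻¹ * (x * y * x⁻¹) * q := by rw [he']; group
      rw [h', hxy]
      have huy : Commute u y := (F.D.Q_four hy hu).symm
      rcases F.D.comm q⁻¹ (F.D.Q.inv_mem hq) y hy with k | k
      · refine ⟨u, ⟨u, hu, Or.inl rfl⟩, ?_⟩
        have k' : q⁻¹ * y * q = y := by
          calc q⁻¹ * y * q = q⁻¹ * y * q⁻¹⁻¹ * y⁻¹ * y := by group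
            _ = y := by rw [k, one_mul]
        rw [show q⁻¹ * (u * y) * q = q⁻¹ * u * q * (q⁻¹ * y * q) by group, k', mul_assoc q⁻¹ u q,
          (F.D.Q_four hq hu).symm.eq, inv_mul_cancel_left, huy.eq]
      · refine ⟨z * u, ⟨u, hu, Or.inr rfl⟩, ?_⟩
        have k' : q⁻¹ * y * q = z * y := by
          calc q⁻¹ * y * q = q⁻¹ * y * q⁻¹⁻¹ * y⁻¹ * y := by group
            _ = z * y := by rw [k]
        rw [show q⁻¹ * (u * y) * q = q⁻¹ * u * q * (q⁻¹ * y * q) by group, k', mul_assoc q⁻¹ u q,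
          (F.D.Q_four hq hu).symm.eq, inv_mul_cancel_left, ← mul_assoc u z y, (F.D.four_z hu).eq,
          ← ((F.D.cent y hy).mul_right huy.symm).eq]
    have hbad : (∀ y ∈ F.D.Q, InW z (four v1 v2) y) → False := fun h => by
      obtain ⟨y, hy, hyv⟩ := F.D.ν_surj v0
      exact v0_ok.1 (hyv.symm.trans ((F.D.ν_zero y hy).mpr (h y hy)))
    change x = q ∨ x = q * F.R.c ∨ x = q * (F.R.c * F.R.c) at e
    rcases e with e | e | e
    · subst e
      have hqc : InW z (four v1 v2) x := F.cen x hq fun y hy => by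
        rcases F.D.comm x hq y hy with k | k
        · exact mul_inv_eq_iff_eq_mul.mp (mul_inv_eq_one.mp k)
        · exact absurd (k ▸ hx y (hQP hy) : z ∈ four v1 v2) F.D.z_not_four
      obtain ⟨p, hp, rfl | rfl⟩ := hqc
      · exact hp
      · exfalso
        refine F.not_in_cent A.P A.a A.φ A.φ_surj A.φ_ker A.sq hva A.ne.1 hav hT A.wP A.aP fun y hy => ?_
        have hzX : z ∈ X := by
          have hpX : p ∈ X := fun y' hy' => by
            rw [show p * y' * p⁻¹ * y'⁻¹ = p * (y' * p⁻¹ * y'⁻¹) by group]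
            exact W.mul_mem hp (hW.conj_mem _ (W.inv_mem hp) _)
          have := X.mul_mem hx (X.inv_mem hpX)
          rwa [mul_inv_cancel_right] at this
        have hu : y * z * y⁻¹ * z⁻¹ ∈ four v1 v2 := by
          have h' : z * y * z⁻¹ * y⁻¹ ∈ W := hzX y hy
          have := W.inv_mem h'
          rwa [show (z * y * z⁻¹ * y⁻¹)⁻¹ = y * z * y⁻¹ * z⁻¹ by group] at this
        exact mul_inv_eq_iff_eq_mul.mp (F.cls ⟨_, hu, Or.inr (by
          rw [← (F.D.four_z hu).eq, inv_mul_cancel_right])⟩)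
    · exact absurd (fun y hy => hnoc y hy (hstep F.R.c F.R.cz e y hy)) hbad
    · refine absurd (fun y hy => hnoc y hy ?_) hbad
      obtain ⟨w, hwW, hwy⟩ := hstep (F.R.c * F.R.c) (F.R.cz.mul_left F.R.cz) e y hy
      obtain ⟨w', hw'⟩ : ∃ w', w' = F.R.c * w * F.R.c⁻¹ := ⟨_, rfl⟩
      have hw'W : InW z (four v1 v2) w' := by
        obtain ⟨u, hu, k | k⟩ := hwW
        · exact ⟨_, hnorm F.R.c u hu, Or.inl (by rw [hw', k])⟩
        · refine ⟨_, hnorm F.R.c u hu, Or.inr ?_⟩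
          rw [hw', k, ← mul_assoc F.R.c, F.R.cz.eq]; group
      have hy3 : y = F.R.c * y * F.R.c⁻¹ * w' := by
        calc y = F.R.c * F.R.c * F.R.c * y * (F.R.c * F.R.c * F.R.c)⁻¹ := by rw [F.R.c3]; group
          _ = F.R.c * (F.R.c * F.R.c * y * (F.R.c * F.R.c)⁻¹) * F.R.c⁻¹ := by group
          _ = F.R.c * y * F.R.c⁻¹ * w' := by rw [hwy, hw']; group
      refine ⟨w', hw'W, ?_⟩
      calc F.R.c * y * F.R.c⁻¹ = F.R.c * y * F.R.c⁻¹ * (w' * w') := by rw [F.D.W_sq hw'W, mul_one]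
        _ = y * w' := by rw [← mul_assoc, ← hy3]
  have hΦ : Function.Injective Φ := (injective_iff_map_eq_one Φ).mpr fun xb hxb => by
    obtain ⟨x, rfl⟩ := QuotientGroup.mk'_surjective W xb
    rw [MonoidHom.comp_apply, MulEquiv.coe_toMonoidHom, MulEquiv.map_eq_one_iff] at hxb
    refine (QuotientGroup.eq_one_iff x).mpr (hXW x fun p hp => ?_)
    have h1 := congrArg (fun φ : MulAut ↥T => ((φ ⟨QuotientGroup.mk' W p, p, hp, rfl⟩ : ↥T) : G ⧸ W)) hxb
    simp only [MulAut.conjNormal_apply, MulAut.one_apply] at h1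
    rw [← map_inv, ← map_mul, ← map_mul] at h1
    have h2 := QuotientGroup.eq.mp h1.symm
    rw [show x * p * x⁻¹ * p⁻¹ = p * (p⁻¹ * (x * p * x⁻¹)) * p⁻¹ by group]
    exact hW.conj_mem _ h2 p
  haveI : Finite (MulAut (Cfsg.PSU 6 K 2)) :=
    Nat.finite_of_card_ne_zero (by rw [card_aut_psu_six hK]; norm_num)
  exact ⟨MulEquiv.ofBijective Φ ((Nat.bijective_iff_injective_and_card Φ).mpr ⟨hΦ, hquot⟩)⟩

end FData

/-- the theorem, given the statement one dimension less -/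
theorem main {G : Type w} [Group G] [Finite G] {z : G} (hz : orderOf z = 2) (R : RawF z) {F : Type u} [Field F]
    [Fintype F] (hF : Fintype.card F = 3) {K : Type v} [Field K] [Fintype K] (hK : Fintype.card K = 4)
    (h22 : Local22.{w} K F) :
    Subgroup.centralizer ({z} : Set G) ⊔ Cfsg.oddCore G = ⊤ ∨ Cfsg.Spor.IsoFi23 G ∨
      (∃ (W : Subgroup G) (hW : W.Normal), Nat.card ↥W = 4 ∧ (∀ w ∈ W, w ^ 2 = 1) ∧
        Nonempty ((G ⧸ W) ≃* MulAut (Cfsg.PSU 6 K 2))) := by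
  obtain ⟨v1, v2, D, hQ, hc1, hc2, hcen⟩ := R.exists_core
  let FD : FData z v1 v2 := ⟨R, D, hQ, hc1, hc2, hQ ▸ hcen⟩
  have hd : Split z (z * v1) ∨ Cfsg.Spor.IsoFi23 G := by
    rcases FD.local_cases (Or.inr rfl) hF h22 (w := z * v1) with hd | h | ⟨⟨A⟩⟩
    · exact Or.inl hd
    · exact Or.inr h
    · exfalso
      have hzv : Commute v1 z := D.four_z D.v1_mem_four
      refine FD.no_four A.sq A.comm A.ne.1 A.ne.2.1 A.ne.2.2.1 (fun e => A.ne.2.2.2 ?_) fun d hd hd1 =>
        A.norm d (hd.mul_right hd1)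
      rw [e, mul_assoc, hzv.eq, ← mul_assoc, D.z2, one_mul]
  rcases hd with hd | h
  · rcases FD.local_cases (Or.inl rfl) hF h22 (w := v1) with hv | h | ⟨⟨A⟩⟩
    · exact Or.inl (sup_eq_top_of_isolated hz (FD.isolated hv hd))
    · exact Or.inr (Or.inl h)
    · exact Or.inr (Or.inr (FD.aut_case hK hd A))
  · exact Or.inr (Or.inl h)

end Cfsg.Agent.Spor.CHZ.FThree
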