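import Cfsg.Agent.Lib.Spor.CHZ.Gam

/-!
Two-subgroups of the extended group of order 51840.
-/

set_option autoImplicit false
set_option maxRecDepth 100000
set_option linter.unusedSectionVars false

namespace Cfsg.Agent.Spor.CHZ.Two

open Cfsg.Agent.Spor.SpFour Cfsg.Agent.Small.Unitary

/-- the field automorphism on positions -/
def frI (k : Fin 64) : Fin 64 := Fin.ofNat 64 ([0, 1, 2, 58, 4, 52, 6, 42, 56, 41, 10, 31, 62, 30, 14, 25, 38, 23, 34,
  55, 32, 21, 22, 17, 49, 15, 45, 61, 43, 29, 13, 11, 20, 37, 18, 35, 39, 33, 16, 36, 40, 9, 7, 28, 48, 26, 46, 50,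
  44, 24, 47, 51, 5, 53, 57, 19, 8, 54, 3, 59, 63, 27, 12, 60].getD k 0)

theorem frI_mat : ∀ k : Fin 64, (mat (num k)).map star = mat (num (frI k)) := by decide +kernel

theorem frL_el (k : Fin 64) : frL (el k) = el (frI k) :=
  Subtype.ext (Subtype.ext (by
    show (el k).1.1.map star = (el (frI k)).1.1
    rw [show el k = cEl (num k) from rfl, show el (frI k) = cEl (num (frI k)) from rfl, mat_cEl (num_good _),
      mat_cEl (num_good _), frI_mat]))

theorem frI_invol : ∀ k, frI (frI k) = k := by decide +kernel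

/-- a Sylow two-subgroup of the extended group -/
def S128 : Subgroup ↥Gam where
  carrier := {f | ∃ k, f = ι (el k) ∨ f = ι (el k) * fr}
  one_mem' := ⟨0, Or.inl (by rw [el_zero, map_one])⟩
  mul_mem' := by
    rintro _ _ ⟨i, rfl | rfl⟩ ⟨j, rfl | rfl⟩
    · exact ⟨mu i j, Or.inl (by rw [← el_mul, map_mul])⟩
    · exact ⟨mu i j, Or.inr (by rw [← el_mul, map_mul, mul_assoc])⟩
    · exact ⟨mu i (frI j), Or.inr (by rw [← el_mul, map_mul, mul_assoc, fr_ι, frL_el, mul_assoc])⟩
    · exact ⟨mu i (frI j), Or.inl (by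
        rw [← el_mul, map_mul, mul_assoc (ι (el i)), ← mul_assoc fr, fr_ι, frL_el, mul_assoc _ fr fr, fr_sq, mul_one])⟩
  inv_mem' := by
    rintro _ ⟨i, rfl | rfl⟩
    · obtain ⟨j, hj⟩ := (show ∀ i : Fin 64, ∃ j, mu i j = 0 by decide +kernel) i
      exact ⟨j, Or.inl (inv_eq_of_mul_eq_one_right (by rw [← map_mul, el_mul, hj, el_zero, map_one]))⟩
    · obtain ⟨j, hj⟩ := (show ∀ i : Fin 64, ∃ j, mu i (frI j) = 0 by decide +kernel) i
      exact ⟨j, Or.inr (inv_eq_of_mul_eq_one_right (by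
        rw [mul_assoc (ι (el i)), ← mul_assoc fr, fr_ι, frL_el, mul_assoc _ fr fr, fr_sq, mul_one, ← map_mul,
          el_mul, hj, el_zero, map_one]))⟩

theorem card_S128 : Nat.card S128 = 128 := by
  have hne : ∀ i j, ι (el i) ≠ ι (el j) * fr := fun i j e => by
    have h := mem_range_ι.mp ⟨el i, e⟩
    exact frP_anti.not_lin (by
      have := (sp_lin (el j)).inv.mul h
      rwa [show ((ι (el j) * fr : ↥Gam) : Equiv.Perm V) = sp (el j) * frP from rfl, inv_mul_cancel_left] at this)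
  have hb : Function.Bijective (fun p : Fin 64 × Bool => (if p.2 then ⟨ι (el p.1) * fr, p.1, Or.inr rfl⟩
      else ⟨ι (el p.1), p.1, Or.inl rfl⟩ : S128)) := by
    refine ⟨?_, ?_⟩
    · rintro ⟨i, a⟩ ⟨j, b⟩ h
      cases a <;> cases b <;> simp only [Bool.false_eq_true, if_false, if_true] at h <;>
        replace h := congrArg Subtype.val h
      · rw [el_inj (ι_inj h)]
      · exact absurd h (hne _ _)
      · exact absurd h.symm (hne _ _)
      · rw [el_inj (ι_inj (mul_right_cancel h))]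
    · rintro ⟨f, k, rfl | rfl⟩
      · exact ⟨(k, false), rfl⟩
      · exact ⟨(k, true), rfl⟩
  rw [← Nat.card_eq_of_bijective _ hb, Nat.card_prod, Nat.card_eq_fintype_card, Fintype.card_fin,
    Nat.card_eq_fintype_card (α := Bool), Fintype.card_bool]

theorem exists_conj_le' {P : Subgroup ↥Gam} (hP : IsPGroup 2 P) :
    ∃ g : ↥Gam, ∀ x ∈ P, g * x * g⁻¹ ∈ S128 := by
  classical
  haveI : Fact (Nat.Prime 2) := ⟨Nat.prime_two⟩
  obtain ⟨Q, hQ⟩ := hP.exists_le_sylow
  have hS : IsPGroup 2 S128 := IsPGroup.of_card (n := 7) (by rw [card_S128]; norm_num)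
  obtain ⟨R, hR⟩ := hS.exists_le_sylow
  have hcard : Nat.card R = 128 := by
    rw [Sylow.card_eq_multiplicity, card_Gam,
      show (51840 : ℕ) = 2 ^ 7 * 405 by norm_num, Nat.factorization_mul (by norm_num) (by norm_num),
      Nat.Prime.factorization_pow Nat.prime_two, Finsupp.add_apply, Finsupp.single_eq_same,
      Nat.factorization_eq_zero_of_not_dvd (by norm_num : ¬ 2 ∣ 405)]
    norm_num
  have heq : S128 = (R : Subgroup ↥Gam) := Subgroup.eq_of_le_of_card_ge hR (by rw [hcard, card_S128])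
  obtain ⟨g, hg⟩ := MulAction.exists_smul_eq ↥Gam Q R
  refine ⟨g, fun x hx => ?_⟩
  rw [heq, ← hg]
  exact ⟨x, hQ hx, rfl⟩

/-- the linear part has index at most two -/
theorem card_le_two (P : Subgroup ↥Gam) : Nat.card P ≤ 2 * Nat.card (P.comap ι) := by
  classical
  by_cases hall : ∀ f ∈ P, f ∈ ι.range
  · have h : Nat.card P ≤ Nat.card (P.comap ι) :=
      Nat.card_le_card_of_surjective (fun g : ↥(P.comap ι) => (⟨ι g, g.2⟩ : P)) fun f => by
        obtain ⟨g, hg⟩ := hall f f.2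
        exact ⟨⟨g, show ι g ∈ P from hg ▸ f.2⟩, Subtype.ext hg⟩
    omega
  push Not at hall
  obtain ⟨f0, hf0, hf0n⟩ := hall
  have h : Nat.card P ≤ Nat.card (↥(P.comap ι) × Bool) :=
    Nat.card_le_card_of_surjective (fun p => ((if p.2 then ⟨f0, hf0⟩ else 1) * ⟨ι p.1, p.1.2⟩ : P)) fun f => by
      by_cases hf : (f : ↥Gam) ∈ ι.range
      · obtain ⟨g, hg⟩ := hf
        exact ⟨(⟨g, show ι g ∈ P from hg ▸ f.2⟩, false), Subtype.ext (by simp [hg])⟩
      · have h' : f0⁻¹ * (f : ↥Gam) ∈ ι.range := mul_mem_range.mpr (iff_of_false (mt inv_mem_iff.mp hf0n) hf)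
        obtain ⟨g, hg⟩ := h'
        exact ⟨(⟨g, show ι g ∈ P from hg ▸ P.mul_mem (P.inv_mem hf0) f.2⟩, true), Subtype.ext (by simp [hg])⟩
  rw [Nat.card_prod, Nat.card_eq_fintype_card (α := Bool), Fintype.card_bool] at h
  omega

theorem isPGroup_comap {P : Subgroup ↥Gam} (hP : IsPGroup 2 P) : IsPGroup 2 (P.comap ι) :=
  hP.comap_of_injective ι ι_inj

/-- an outer involution commutes with few involutions of the subgroup -/
theorem outer_few : ∀ k : Fin 64, mu k (frI k) = 0 →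
    ((Finset.univ : Finset (Fin 64)).filter fun m => mu m m = 0 ∧ mu m k = mu k (frI m)).card ≤ 12 := by
  decide +kernel

/-- a group of exponent two has at most sixteen elements -/
theorem elementary_le' {P : Subgroup ↥Gam} (hP : IsPGroup 2 P) (hsq : ∀ x ∈ P, x * x = 1) : Nat.card P ≤ 16 := by
  classical
  have h16 : Nat.card (P.comap ι) ≤ 16 := elementary_le (isPGroup_comap hP) fun x hx => ι_inj (by
    rw [map_mul, hsq _ hx, map_one])
  by_cases hall : ∀ f ∈ P, f ∈ ι.range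
  · exact le_trans (Nat.card_le_card_of_surjective (fun g : ↥(P.comap ι) => (⟨ι g, g.2⟩ : P)) fun f => by
      obtain ⟨g, hg⟩ := hall f f.2
      exact ⟨⟨g, show ι g ∈ P from hg ▸ f.2⟩, Subtype.ext hg⟩) h16
  push Not at hall
  obtain ⟨f0, hf0, hf0n⟩ := hall
  suffices h8 : Nat.card (P.comap ι) ≤ 12 by
    obtain ⟨n, hn⟩ := (isPGroup_comap hP).exists_card_eq
    have h2 := card_le_two P
    rw [hn] at h8 h16 h2
    have : n ≤ 3 := by
      by_contra h4
      have : 2 ^ 4 ≤ 2 ^ n := Nat.pow_le_pow_right (by norm_num) (by omega)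
      omega
    have : 2 ^ n ≤ 2 ^ 3 := Nat.pow_le_pow_right (by norm_num) this
    omega
  obtain ⟨g, hg⟩ := exists_conj_le' hP
  obtain ⟨k, hk | hk⟩ := hg f0 hf0
  · refine absurd ?_ hf0n
    obtain ⟨y, hy⟩ : ∃ y, y = g⁻¹ := ⟨_, rfl⟩
    rw [show f0 = y * (g * f0 * g⁻¹) * y⁻¹ by rw [hy]; group, hk]
    exact range_normal y _
  have hk0 : mu k (frI k) = 0 := el_inj (ι_inj (by
    have e : g * f0 * g⁻¹ * (g * f0 * g⁻¹) = 1 := by
      rw [show g * f0 * g⁻¹ * (g * f0 * g⁻¹) = g * (f0 * f0) * g⁻¹ by group, hsq f0 hf0]; group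
    rw [hk, mul_assoc (ι (el k)), ← mul_assoc fr, fr_ι, frL_el, mul_assoc _ fr fr, fr_sq, mul_one, ← map_mul,
      el_mul] at e
    rw [el_zero, map_one]; exact e))
  have hlin : ∀ x : P.comap ι, ∃ m : Fin 64, ι (el m) = g * ι (x : L) * g⁻¹ := fun x => by
    obtain ⟨m, hm | hm⟩ := hg _ x.2
    · exact ⟨m, hm.symm⟩
    · exfalso
      have h : g * ι (x : L) * g⁻¹ ∈ ι.range := range_normal g _
      rw [hm, mul_mem_range] at h
      exact frP_anti.not_lin (mem_range_ι.mp (h.mp ⟨_, rfl⟩))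
  choose m hm using hlin
  refine le_trans ?_ (outer_few k hk0)
  rw [Nat.card_eq_fintype_card, ← Finset.card_univ]
  refine Finset.card_le_card_of_injOn m (fun x _ => ?_) fun x _ y _ e => ?_
  · rw [Finset.mem_coe, Finset.mem_filter]
    refine ⟨Finset.mem_univ _, el_inj (ι_inj ?_), el_inj (ι_inj ?_)⟩
    · rw [← el_mul, map_mul, hm, el_zero, map_one,
        show g * ι (x : L) * g⁻¹ * (g * ι (x : L) * g⁻¹) = g * (ι (x : L) * ι (x : L)) * g⁻¹ by group,
        hsq _ x.2]
      group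
    · have hab : f0 * ι (x : L) = ι (x : L) * f0 := by
        calc f0 * ι (x : L) = f0⁻¹ * (ι (x : L))⁻¹ := by
              rw [inv_eq_of_mul_eq_one_right (hsq _ hf0), inv_eq_of_mul_eq_one_right (hsq _ x.2)]
          _ = (ι (x : L) * f0)⁻¹ := (mul_inv_rev _ _).symm
          _ = ι (x : L) * f0 := inv_eq_of_mul_eq_one_right (hsq _ (P.mul_mem x.2 hf0))
      refine mul_right_cancel (b := fr) ?_
      rw [← el_mul, ← el_mul, map_mul, map_mul, mul_assoc (ι (el (m x))), ← hk, mul_assoc (ι (el k)), ← frL_el,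
        ← fr_ι, ← mul_assoc (ι (el k)), ← hk, hm,
        show g * ι (x : L) * g⁻¹ * (g * f0 * g⁻¹) = g * (ι (x : L) * f0) * g⁻¹ by group, ← hab]
      group
  · refine Subtype.ext (ι_inj ?_)
    have h := hm x
    rw [e, hm y] at h
    exact mul_left_cancel (mul_right_cancel h.symm)

theorem gThree_all : ∀ x : Fin 64, mat gThree * mat (num x) = mat (num x) * mat gThree → x = 0 ∨ x = iz := by
  decide +kernel

theorem iz_central : ∀ k, mu iz k = mu k iz := by decide +kernel

/-- at an involution of transvection type an element of order three moves every other two-element -/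
theorem exists_three {j y g₀ : L} (hj : g₀ * j * g₀⁻¹ = el iz) (hy2 : IsPGroup 2 (Subgroup.zpowers y))
    (hyj : y * j = j * y) (hy1 : y ≠ 1) (hyne : y ≠ j) : ∃ g : L, g * g * g = 1 ∧ g * j = j * g ∧ g * y ≠ y * g := by
  classical
  haveI : Fact (Nat.Prime 2) := ⟨Nat.prime_two⟩
  obtain ⟨C, hC⟩ : ∃ C, C = Subgroup.centralizer ({el iz} : Set L) := ⟨_, rfl⟩
  have hS : S64 ≤ C := by
    rintro _ ⟨k, rfl⟩
    rw [hC, Subgroup.mem_centralizer_singleton_iff, el_mul, el_mul, iz_central]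
  have hy'C : g₀ * y * g₀⁻¹ ∈ C := by
    rw [hC, Subgroup.mem_centralizer_singleton_iff, ← hj,
      show g₀ * y * g₀⁻¹ * (g₀ * j * g₀⁻¹) = g₀ * (y * j) * g₀⁻¹ by group, hyj]
    group
  obtain ⟨y', hy'⟩ : ∃ y' : C, (y' : L) = g₀ * y * g₀⁻¹ := ⟨⟨_, hy'C⟩, rfl⟩
  have hS2 : IsPGroup 2 (S64.subgroupOf C) :=
    (IsPGroup.of_card (n := 6) (by rw [card_S64]; norm_num)).comap_of_injective C.subtype Subtype.val_injective
  have hp2 : IsPGroup 2 (Subgroup.zpowers y') := by
    obtain ⟨n, hn⟩ := hy2.exists_card_eq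
    refine IsPGroup.of_card (n := n) ?_
    rw [Nat.card_zpowers, ← Subgroup.orderOf_coe, hy', ← hn, Nat.card_zpowers]
    exact MulEquiv.orderOf_eq (MulAut.conj g₀) y
  obtain ⟨R, hR⟩ := hS2.exists_le_sylow
  obtain ⟨Q, hQ⟩ := hp2.exists_le_sylow
  have hRS : (R : Subgroup C) = S64.subgroupOf C := by
    refine (Subgroup.eq_of_le_of_card_ge hR ?_).symm
    rw [Nat.card_congr (Subgroup.subgroupOfEquivOfLe hS).toEquiv, card_S64]
    have hm : Nat.card ((R : Subgroup C).map C.subtype) ≤ 64 := by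
      have hP : IsPGroup 2 ((R : Subgroup C).map C.subtype) := R.isPGroup'.map _
      obtain ⟨g, hg⟩ := exists_conj_le hP
      rw [← card_S64]
      exact Nat.card_le_card_of_injective (fun x => (⟨_, hg x x.2⟩ : S64)) fun a b e =>
        Subtype.ext (mul_left_cancel (mul_right_cancel (congrArg Subtype.val e)))
    rwa [Subgroup.card_map_of_injective Subtype.val_injective] at hm
  obtain ⟨h, hh⟩ := MulAction.exists_smul_eq C Q R
  have hhy : h * y' * h⁻¹ ∈ S64.subgroupOf C := by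
    rw [← hRS, ← hh]
    exact ⟨y', hQ (Subgroup.mem_zpowers _), rfl⟩
  obtain ⟨a, ha⟩ : ∃ a, a = (h : L) * g₀ := ⟨_, rfl⟩
  obtain ⟨k, hk⟩ : a * y * a⁻¹ ∈ S64 := by
    have := Subgroup.mem_subgroupOf.mp hhy
    rw [Subgroup.coe_mul, Subgroup.coe_mul, Subgroup.coe_inv, hy'] at this
    rw [ha, show (h : L) * g₀ * y * ((h : L) * g₀)⁻¹ = (h : L) * (g₀ * y * g₀⁻¹) * (h : L)⁻¹ by group]
    exact this
  have haj : a * j * a⁻¹ = el iz := by
    have hhz : (h : L) * el iz = el iz * h := Subgroup.mem_centralizer_singleton_iff.mp (hC ▸ h.2 : (h : L) ∈ _)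
    rw [ha, show (h : L) * g₀ * j * ((h : L) * g₀)⁻¹ = (h : L) * (g₀ * j * g₀⁻¹) * (h : L)⁻¹ by group, hj, hhz,
      mul_inv_cancel_right]
  refine ⟨a⁻¹ * cEl gThree * a, ?_, ?_, fun hc => ?_⟩
  · rw [show a⁻¹ * cEl gThree * a * (a⁻¹ * cEl gThree * a) * (a⁻¹ * cEl gThree * a) =
      a⁻¹ * (cEl gThree * cEl gThree * cEl gThree) * a by group,
      show cEl gThree * cEl gThree * cEl gThree = 1 from Subtype.ext (Subtype.ext (by
        show (cEl gThree).1.1 * (cEl gThree).1.1 * (cEl gThree).1.1 = 1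
        rw [mat_cEl gThree_good]; exact gThree_cube))]
    group
  · rw [show j = a⁻¹ * el iz * a by rw [← haj]; group,
      show a⁻¹ * cEl gThree * a * (a⁻¹ * el iz * a) = a⁻¹ * (cEl gThree * el iz) * a by group,
      show a⁻¹ * el iz * a * (a⁻¹ * cEl gThree * a) = a⁻¹ * (el iz * cEl gThree) * a by group,
      show cEl gThree * el iz = el iz * cEl gThree from mul_of_mat (by
        show _ = (el iz).1.1 * (cEl gThree).1.1
        rw [show el iz = cEl (num iz) from rfl, mat_cEl gThree_good, mat_cEl (num_good _)]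
        exact gThree_iz)]
  · have h3 : cEl gThree * el k = el k * cEl gThree := by
      rw [hk]
      calc cEl gThree * (a * y * a⁻¹) = a * (a⁻¹ * cEl gThree * a * y) * a⁻¹ := by group
        _ = a * (y * (a⁻¹ * cEl gThree * a)) * a⁻¹ := by rw [hc]
        _ = a * y * a⁻¹ * cEl gThree := by group
    have h' := congrArg (fun b : L => b.1.1) h3
    simp only [Subgroup.coe_mul, Matrix.SpecialLinearGroup.coe_mul, show el k = cEl (num k) from rfl,
      mat_cEl gThree_good, mat_cEl (num_good k)] at h'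
    rcases gThree_all k h' with rfl | rfl
    · rw [el_zero] at hk
      exact hy1 (by rw [show y = a⁻¹ * (a * y * a⁻¹) * a by group, ← hk]; group)
    · exact hyne (mul_left_cancel (mul_right_cancel (hk.symm.trans haj.symm)))

/-- the involution of transvection type among the standard ones -/
theorem iz_std : ∃ g : L, g * el iz * g⁻¹ = sw 0 := by
  have h := std_ok iz (by decide +kernel) (by decide +kernel)
  have h0 : ∀ e ∈ toStd, e.1 = (iz : ℕ) → e.2.1 = 0 := by decide +kernel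
  rw [List.any_eq_true] at h
  obtain ⟨e, he, h⟩ := h
  rw [Bool.and_eq_true, decide_eq_true_eq, beq_iff_eq] at h
  obtain ⟨he1, hgood, hm⟩ := h
  refine ⟨cEl e.2.2, ?_⟩
  have key : cEl e.2.2 * el iz = std e.2.1 * cEl e.2.2 := Subtype.ext (Subtype.ext (by
    show (cEl e.2.2).1.1 * (cEl (num iz)).1.1 = (std e.2.1).1.1 * (cEl e.2.2).1.1
    rw [mat_cEl hgood, mat_cEl (num_good iz), std_mat]
    exact hm))
  rw [key, mul_inv_cancel_right, h0 e he he1]
  rfl

end Cfsg.Agent.Spor.CHZ.Two
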