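import Cfsg.Agent.Lib.Spor.CHZ.Connect

/-!
The class generates; the order of the group.
-/

set_option autoImplicit false
set_option maxRecDepth 100000
set_option maxHeartbeats 400000
set_option linter.unusedSectionVars false

namespace Cfsg.Agent.Spor.CHZ

open Cfsg.Agent.Spor.SpFour Cfsg.Agent.Small.Unitary

universe w

theorem split_iso : ∀ v : V, herm v v ≠ 0 → ∃ a : V, herm a a = 0 ∧ herm (v + a) (v + a) = 0 := by
  decide +kernel

variable {G : Type w} [Group G] [Finite G] {D : Set G} (L : Loc D) {z : G} (hz : z ∈ D) {S : Setup z} (hS : Full S)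
include L hz hS

/-- the centraliser is generated by the member and its neighbours -/
theorem cent_le_closure {c : G} (hc : Commute c z) : c ∈ Subgroup.closure (insert z (nb D z)) := by
  obtain ⟨M, hM⟩ : ∃ M, M = Subgroup.closure (insert z (nb D z)) := ⟨_, rfl⟩
  rw [← hM]
  have hzM : z ∈ M := hM ▸ Subgroup.subset_closure (Set.mem_insert _ _)
  have hnM : ∀ t ∈ nb D z, t ∈ M := fun t ht => hM ▸ Subgroup.subset_closure (Set.mem_insert_of_mem _ ht)
  have hMz : ∀ m ∈ M, Commute m z := by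
    intro m hm
    have hle : M ≤ Subgroup.centralizer {z} := by
      rw [hM, Subgroup.closure_le]
      rintro x (rfl | hx)
      · exact Subgroup.mem_centralizer_singleton_iff.mpr rfl
      · exact Subgroup.mem_centralizer_singleton_iff.mpr hx.2.2.eq
    exact Subgroup.mem_centralizer_singleton_iff.mp (hle hm)
  -- everything is reached on the space
  have himg : ∀ g : CHZ.L, ∃ m ∈ M, S.π m = sp g := by
    let W : Subgroup CHZ.L :=
      { carrier := {g | ∃ m ∈ M, S.π m = sp g}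
        one_mem' := ⟨1, M.one_mem, by rw [S.π_one, map_one]⟩
        mul_mem' := by
          rintro g h ⟨m, hm, e⟩ ⟨n, hn, e'⟩
          exact ⟨m * n, M.mul_mem hm hn, by rw [S.π_mul m n (hMz m hm) (hMz n hn), e, e', map_mul]⟩
        inv_mem' := by
          rintro g ⟨m, hm, e⟩
          exact ⟨m⁻¹, M.inv_mem hm, by rw [S.π_inv (hMz m hm), e, map_inv]⟩ }
    have hgen := (UnitaryTrans.isClass (F := F4) (n := 4) hstar hF le_rfl).2.2
    have hle : (⊤ : Subgroup CHZ.L) ≤ W := by
      rw [← hgen, Subgroup.closure_le]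
      intro τ hτ
      obtain ⟨v, hv, hv0, rfl⟩ := UnitaryTrans.exists_tv hstar τ hτ
      obtain ⟨t, ht, hp⟩ := exists_over L hz hS hv0 hv
      exact ⟨t, hnM t ht, Equiv.ext fun x => by rw [hp.act, sp_apply, UnitaryTrans.act_tv]⟩
    exact fun g => hle (Subgroup.mem_top g)
  -- and every vector
  have hiso : ∀ v : V, herm v v = 0 → ∃ m ∈ M, m ∈ S.Q ∧ S.ν m = v := by
    intro v hv
    by_cases hv0 : v = 0
    · exact ⟨1, M.one_mem, S.Q.one_mem, by rw [S.ν_one, hv0]⟩
    obtain ⟨t, ht, hp⟩ := exists_over L hz hS hv0 hv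
    obtain ⟨x0, hx0⟩ := exists_herm_val hp.ne 1
    obtain ⟨y, hy, hyν⟩ := S.ν_surj x0
    have h1 : t * y * t⁻¹ ∈ S.Q := S.normal t ht.2.2 y hy
    have hyz : y * z * y⁻¹ = z := mul_inv_eq_iff_eq_mul.mpr (S.cent y hy).eq
    have hn : y * t * y⁻¹ ∈ nb D z := by
      have := L.nb_conj (g := y) ht
      rwa [hyz] at this
    refine ⟨t * (y * t * y⁻¹), M.mul_mem (hnM t ht) (hnM _ hn), ?_, ?_⟩
    · rw [show t * (y * t * y⁻¹) = t * y * t * y⁻¹ by group]
      refine S.Q.mul_mem ?_ (S.Q.inv_mem hy)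
      rwa [L.inv ht.1] at h1
    · have h2 := S.ν_act t ht.2.2 y hy
      rw [L.inv ht.1] at h1 h2
      rw [show t * (y * t * y⁻¹) = t * y * t * y⁻¹ by group, S.ν_mul _ h1 _ (S.Q.inv_mem hy), S.ν_inv hy, h2,
        hp.act, hyν, hx0, one_smul, add_comm x0, add_assoc, add_self, add_zero]
  have hQM : ∀ x ∈ S.Q, x ∈ M := by
    intro x hx
    obtain ⟨m, hm, hmQ, hmν⟩ : ∃ m ∈ M, m ∈ S.Q ∧ S.ν m = S.ν x := by
      by_cases hq : herm (S.ν x) (S.ν x) = 0
      · exact hiso _ hq
      obtain ⟨a, ha, hva⟩ := split_iso _ hq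
      obtain ⟨m, hm, hmQ, hmν⟩ := hiso _ ha
      obtain ⟨n, hn, hnQ, hnν⟩ := hiso _ hva
      exact ⟨n * m, M.mul_mem hn hm, S.Q.mul_mem hnQ hmQ, by
        rw [S.ν_mul _ hnQ _ hmQ, hnν, hmν, add_assoc, add_self, add_zero]⟩
    rcases S.ν_eq hx hmQ hmν.symm with e | e <;> rw [e]
    exacts [hm, M.mul_mem hm hzM]
  obtain ⟨g, hg⟩ := hS c hc
  obtain ⟨m, hm, hmg⟩ := himg g
  have hQ : m⁻¹ * c ∈ S.Q := (S.π_iff _ ((hMz m hm).inv_left.mul_left hc)).mp (by
    rw [S.π_mul _ _ (hMz m hm).inv_left hc, S.π_inv (hMz m hm), hg, hmg, inv_mul_cancel])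
  rw [show c = m * (m⁻¹ * c) by group]
  exact M.mul_mem hm (hQM _ hQ)

omit hz hS in
/-- members are conjugate under the group they generate -/
theorem conj_in_closure {x y : G} (hx : x ∈ D) (hy : y ∈ D) :
    ∃ h ∈ Subgroup.closure D, h * x * h⁻¹ = y := by
  classical
  have step : ∀ {x y : G}, x ∈ D → y ∈ D → ¬ Commute x y → ∃ h ∈ Subgroup.closure D, h * x * h⁻¹ = y := by
    intro x y hx hy hn
    have h3 := L.prod_comp hx (L.comp_all hx hy) hn
    have hodd : Odd (orderOf (x * y)) :=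
      Odd.of_dvd_nat (show Odd 3 by decide) (orderOf_dvd_of_pow_eq_one h3)
    obtain ⟨k, hk⟩ := hodd
    refine ⟨(x * y) ^ k, Subgroup.pow_mem _
      (Subgroup.mul_mem _ (Subgroup.subset_closure hx) (Subgroup.subset_closure hy)) _, ?_⟩
    have hm : (x * y) ^ (2 * k) = (x * y)⁻¹ := by
      refine eq_inv_of_mul_eq_one_left ?_
      rw [← pow_succ, ← hk, pow_orderOf_eq_one]
    rw [dih_conj (L.sq hx) (L.sq hy), hm, mul_inv_rev, L.inv hx, L.inv hy, mul_assoc, L.sq hx, mul_one]
  by_cases hn : Commute x y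
  swap
  · exact step hx hy hn
  obtain ⟨v, hv, hv'⟩ : ∃ v ∈ D, ¬ Commute x v ∧ ¬ Commute v y := by
    by_contra hno
    push Not at hno
    have hsub : D ⊆ ({x} ∪ nb D x) ∪ ({y} ∪ nb D y) := by
      intro v hv
      by_cases hxv : Commute x v
      · by_cases e : v = x
        · exact Or.inl (Or.inl e)
        · exact Or.inl (Or.inr ⟨hv, e, hxv.symm⟩)
      · by_cases e : v = y
        · exact Or.inr (Or.inl e)
        · exact Or.inr (Or.inr ⟨hv, e, hno v hv hxv⟩)
    have hb : ∀ {x : G}, x ∈ D → ({x} ∪ nb D x).ncard ≤ 181 := by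
      intro x hx
      obtain ⟨T, hT⟩ := L.str x hx
      refine (Set.ncard_union_le _ _).trans ?_
      rw [Set.ncard_singleton, card_nb L hx hT]
    have h1 := Set.ncard_le_ncard hsub (Set.toFinite _)
    rw [L.card_class hx] at h1
    have := (h1.trans (Set.ncard_union_le _ _))
    have := hb hx
    have := hb hy
    omega
  obtain ⟨h, hh, e⟩ := step hx hv hv'.1
  obtain ⟨h', hh', e'⟩ := step hv hy hv'.2
  exact ⟨h' * h, Subgroup.mul_mem _ hh' hh, by rw [← e', ← e]; group⟩

/-- the class generates -/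
theorem closure_eq_top : Subgroup.closure D = ⊤ := by
  refine eq_top_iff.mpr fun g _ => ?_
  obtain ⟨h, hh, e⟩ := conj_in_closure L hz (L.conj g z hz)
  have hc : Commute (h⁻¹ * g) z := by
    have e' : h⁻¹ * g * z * (h⁻¹ * g)⁻¹ = z := by
      calc h⁻¹ * g * z * (h⁻¹ * g)⁻¹ = h⁻¹ * (g * z * g⁻¹) * h := by group
        _ = z := by rw [← e]; group
    exact mul_inv_eq_iff_eq_mul.mp e'
  have hle : Subgroup.closure (insert z (nb D z)) ≤ Subgroup.closure D :=
    Subgroup.closure_mono (Set.insert_subset hz fun t ht => ht.1)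
  rw [show g = h * (h⁻¹ * g) by group]
  exact Subgroup.mul_mem _ hh (hle (cent_le_closure L hz hS hc))

omit L hz in
/-- the order of the centraliser -/
theorem card_cent : Nat.card (Subgroup.centralizer ({z} : Set G)) = 512 * 25920 := by
  have hm : ∀ c : Subgroup.centralizer ({z} : Set G), Commute (c : G) z := fun c =>
    Subgroup.mem_centralizer_singleton_iff.mp c.2
  let f : Subgroup.centralizer ({z} : Set G) →* Equiv.Perm V :=
    MonoidHom.mk' (fun c => S.π c) fun a b => S.π_mul _ _ (hm a) (hm b)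
  have hk : f.ker = S.Q.subgroupOf (Subgroup.centralizer ({z} : Set G)) := by
    ext c
    rw [MonoidHom.mem_ker, Subgroup.mem_subgroupOf]
    exact S.π_iff _ (hm c)
  have hr : f.range = (sp : CHZ.L →* Equiv.Perm V).range := by
    refine le_antisymm ?_ ?_
    · rintro _ ⟨c, rfl⟩
      obtain ⟨g, hg⟩ := hS c (hm c)
      exact ⟨g, hg.symm⟩
    · rintro _ ⟨g, rfl⟩
      obtain ⟨c, hc, e⟩ := S.π_surj g
      exact ⟨⟨c, Subgroup.mem_centralizer_singleton_iff.mpr hc.eq⟩, e⟩
  rw [f.ker.card_eq_card_quotient_mul_card_subgroup,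
    Nat.card_congr (QuotientGroup.quotientKerEquivRange f).toEquiv, hr,
    ← Nat.card_congr (MonoidHom.ofInjective sp_inj).toEquiv, hk,
    Nat.card_congr (Subgroup.subgroupOfEquivOfLe (fun x hx => Subgroup.mem_centralizer_singleton_iff.mpr
      (S.cent x hx).eq)).toEquiv, S.card_Q, (Classical.UFourTwo.card_su (F := F4) hF).1, Nat.mul_comm]

/-- the order of the group -/
theorem card_group (hD : D = conjugatesOf z) : Nat.card G = 693 * (512 * 25920) := by
  have hq : ∀ g h : G, ((g : G ⧸ Subgroup.centralizer ({z} : Set G)) = h ↔ g * z * g⁻¹ = h * z * h⁻¹) := by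
    intro g h
    rw [QuotientGroup.eq, Subgroup.mem_centralizer_singleton_iff]
    constructor
    · intro e
      calc g * z * g⁻¹ = g * (z * (g⁻¹ * h)) * h⁻¹ := by group
        _ = h * z * h⁻¹ := by rw [← e]; group
    · intro e
      calc g⁻¹ * h * z = g⁻¹ * (h * z * h⁻¹) * h := by group
        _ = z * (g⁻¹ * h) := by rw [← e]; group
  let f : G ⧸ Subgroup.centralizer ({z} : Set G) → conjugatesOf z := fun q =>
    ⟨q.out * z * q.out⁻¹, isConj_iff.mpr ⟨q.out, rfl⟩⟩
  have hf : Function.Bijective f := by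
    refine ⟨fun a b e => ?_, fun y => ?_⟩
    · have := (hq a.out b.out).mpr (congrArg Subtype.val e)
      rwa [QuotientGroup.out_eq', QuotientGroup.out_eq'] at this
    · obtain ⟨g, hg⟩ := isConj_iff.mp y.2
      refine ⟨g, Subtype.ext ?_⟩
      rw [← hg]
      exact (hq _ g).mp (QuotientGroup.out_eq' _)
  rw [(Subgroup.centralizer ({z} : Set G)).card_eq_card_quotient_mul_card_subgroup, card_cent hS,
    Nat.card_eq_of_bijective f hf, Nat.card_coe_set_eq, ← hD, L.card_class hz]

end Cfsg.Agent.Spor.CHZ
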