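import Cfsg.Agent.Lib.Spor.CHZ.Lines

/-!
The component of a member in the commuting graph has diameter two and 693 members.
-/

set_option autoImplicit false
set_option maxRecDepth 100000
set_option maxHeartbeats 400000
set_option linter.unusedSectionVars false

namespace Cfsg.Agent.Spor.CHZ

open Cfsg.Agent.Spor.SpFour Cfsg.Agent.Small.Unitary

universe w

theorem span_two_v0 : ∀ x : V, herm x x = 0 → herm v0 x = 0 → herm w0 x = 0 →
    x ∈ line0 := by decide +kernel

/-- totally isotropic pairs: what is orthogonal to both lies in their span -/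
theorem mem_span_two {p r x : V} (hp : p ≠ 0) (hpp : herm p p = 0) (hrr : herm r r = 0) (hpr : herm p r = 0)
    (hne : ∀ c : F4, r ≠ c • p) (hxx : herm x x = 0) (hxp : herm p x = 0) (hxr : herm r x = 0) :
    ∃ a b : F4, x = a • p + b • r := by
  obtain ⟨g, hg⟩ := exists_move v0_ok.1 v0_ok.2 hp hpp
  obtain ⟨r', hr'⟩ := (sp g).surjective r
  obtain ⟨h, hh, c, hc, hhw⟩ := exists_frame0 (q := r') (by rw [← (sp_lin g).herm, hr']; exact hrr)
    (by rw [← (sp_lin g).herm, hg, hr']; exact hpr)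
    (fun c e => hne c (by rw [← hr', e, (sp_lin g).smul, hg]))
  obtain ⟨k, hk⟩ : ∃ k, k = sp g * sp h := ⟨_, rfl⟩
  have hkl : Lin k := hk ▸ (sp_lin g).mul (sp_lin h)
  have e1 : k v0 = p := by rw [hk, Equiv.Perm.mul_apply, hh, hg]
  have e2 : k w0 = c • r := by rw [hk, Equiv.Perm.mul_apply, hhw, (sp_lin g).smul, hr']
  obtain ⟨x', rfl⟩ := k.surjective x
  have hcc : c • r = k w0 := e2.symm
  have h := span_two_v0 x' (by rwa [hkl.herm] at hxx) (by rw [← hkl.herm, e1]; exact hxp)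
    (by rw [← hkl.herm, e2, herm_smul_left, hxr, mul_zero])
  simp only [line0, List.mem_flatMap, List.mem_map] at h
  obtain ⟨a, -, b, -, rfl⟩ := h
  exact ⟨a, b * c, by rw [hkl.add, hkl.smul, hkl.smul, e1, e2, smul_smul]⟩

/-- two points have a common orthogonal point -/
theorem exists_common {u u' : V} (hu : u ≠ 0) (huu : herm u u = 0) (hu'' : herm u' u' = 0) :
    ∃ w, w ≠ 0 ∧ herm w w = 0 ∧ herm u w = 0 ∧ herm w u' = 0 := by
  obtain ⟨a, ha⟩ := exists_move v0_ok.1 v0_ok.2 hu huu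
  have key : ∀ x : V, (!decide (herm x x = 0) || centres.any fun w => decide (herm w x = 0)) = true := by
    decide +kernel
  obtain ⟨x, hx⟩ := (sp a).surjective u'
  have h := key x
  simp only [Bool.or_eq_true, Bool.not_eq_true', decide_eq_false_iff_not, List.any_eq_true, decide_eq_true_eq] at h
  rcases h with h | ⟨w, hw, hwx⟩
  · exact absurd (by rw [← (sp_lin a).herm, hx]; exact hu'') h
  have hc := List.all_eq_true.mp centres_ok w hw
  rw [decide_eq_true_eq] at hc
  have hw0 : ∀ w ∈ centres, w ≠ 0 := by decide +kernel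
  exact ⟨sp a w, fun e => hw0 w hw ((sp a).injective (e.trans (Semi.zero (Or.inl (sp_lin a))).symm)),
    by rw [(sp_lin a).herm]; exact hc.1, by rw [← ha, (sp_lin a).herm, ← star_herm, hc.2, star_zero],
    by rw [← hx, (sp_lin a).herm]; exact hwx⟩

theorem card_isotropic : {v : V | v ≠ 0 ∧ herm v v = 0}.ncard = 135 := card_singular

variable {G : Type w} [Group G] [Finite G] {D : Set G} (L : Loc D)
include L

theorem Loc.line_nb {x y w : G} (hx : x ∈ D) (hy : y ∈ nb D x) (hw : w ∈ line D x y) (hne : w ≠ x) :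
    w ∈ nb D x ∧ line D x w = line D x y := by
  obtain ⟨S, hS⟩ := L.str x hx
  obtain ⟨hwn, he⟩ := ((mem_line_iff L hx hS hy).mp hw).resolve_left hne
  refine ⟨hwn, Set.ext fun v => ?_⟩
  rw [mem_line_iff L hx hS hwn, mem_line_iff L hx hS hy, he]

/-- a line is determined by any two of its members -/
theorem Loc.line_eq {x y a b : G} (hx : x ∈ D) (hy : y ∈ nb D x) (ha : a ∈ line D x y) (hb : b ∈ line D x y)
    (hab : a ≠ b) : line D a b = line D x y := by
  by_cases hax : a = x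
  · subst hax
    exact (L.line_nb hx hy hb hab.symm).2
  obtain ⟨ha1, ha2⟩ := L.line_nb hx hy ha hax
  have hxa : x ∈ nb D a := ⟨hx, ha1.2.1.symm, ha1.2.2.symm⟩
  have e : line D a x = line D x y := by rw [line_symm, ha2]
  have hbl : b ∈ line D a x := by rw [e]; exact hb
  rw [(L.line_nb ha1.1 hxa hbl hab.symm).2, e]

/-- members on a line commute -/
theorem Loc.line_comm {x y a b : G} (hx : x ∈ D) (hy : y ∈ nb D x) (ha : a ∈ line D x y) (hb : b ∈ line D x y) :
    Commute a b := by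
  refine hb.2 a ha.1 ?_ ?_
  · by_cases hax : a = x
    · rw [hax]
    · exact (L.line_nb hx hy ha hax).1.2.2
  · exact (ha.2 y hy.1 hy.2.2 (Commute.refl y)).symm

/-- a line through one member of a pair meets the neighbours of a member at distance two -/
theorem key {z a b c : G} (haD : a ∈ D) (hzD : z ∈ D) (hz : z ∈ nb D a) (hb : b ∈ nb D a) (hzb : ¬ Commute z b)
    (hca : c ∈ nb D a) (hcb : c ∈ nb D b) : ∃ e ∈ line D b c, Commute e z ∧ e ≠ b := by
  classical
  have hab : a ∈ nb D b := ⟨haD, hb.2.1.symm, hb.2.2.symm⟩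
  by_cases hc : c ∈ line D a b
  · refine ⟨a, ?_, hz.2.2.symm, hab.2.1⟩
    obtain ⟨-, he⟩ := L.line_nb haD hb hc hca.2.1
    have h : line D b c = line D a b :=
      L.line_eq haD hb ⟨hb.1, fun v _ _ h => h⟩ hc hcb.2.1.symm
    rw [h]
    exact ⟨haD, fun v _ h _ => h⟩
  obtain ⟨S, hS⟩ := L.str a haD
  obtain ⟨pz, hpz⟩ := point L haD hS hz
  obtain ⟨pb, hpb⟩ := point L haD hS hb
  obtain ⟨pc, hpc⟩ := point L haD hS hca
  have hbc : herm pb pc = 0 := (commute_iff L haD hS hb hpb hca hpc).mp hcb.2.2.symm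
  have hzb' : herm pz pb ≠ 0 := fun h => hzb ((commute_iff L haD hS hz hpz hb hpb).mpr h)
  have hne : ∀ k : F4, pc ≠ k • pb := fun k e =>
    hc ((mem_line_iff L haD hS hb).mpr (Or.inr ⟨hca, (act_eq_iff L haD hS hb hpb hca hpc).mpr ⟨k, e⟩⟩))
  obtain ⟨k, hk⟩ : ∃ k, k = herm pz pc * (herm pz pb)⁻¹ := ⟨_, rfl⟩
  have hpe0 : pc + k • pb ≠ 0 := fun e => hne k (add_cancel' e)
  have hpee : herm (pc + k • pb) (pc + k • pb) = 0 := by
    rw [q_add, hpc.iso, B, herm_smul_left, herm_smul_right, herm_smul_left, herm_smul_right, hpb.iso,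
      ← star_herm pb pc, hbc]
    simp
  obtain ⟨f, hf, hpf⟩ := exists_over L haD hS hpe0 hpee
  have hfz : Commute z f := (commute_iff L haD hS hz hpz hf hpf).mpr (by
    rw [herm_add_right, herm_smul_right, hk, mul_assoc, inv_mul_cancel₀ hzb', mul_one, CharTwo.add_self_eq_zero])
  have hfb : Commute b f := (commute_iff L haD hS hb hpb hf hpf).mpr (by
    rw [herm_add_right, herm_smul_right, hbc, hpb.iso, mul_zero, add_zero])
  have hfc : Commute c f := (commute_iff L haD hS hca hpc hf hpf).mpr (by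
    rw [herm_add_right, herm_smul_right, hpc.iso, ← star_herm pb pc, hbc, star_zero, mul_zero, add_zero])
  have hΛz : ∀ w ∈ line D a f, Commute z w := fun w hw => hw.2 z hzD hz.2.2 hfz
  have hΛb : ∀ w ∈ line D a f, Commute b w := fun w hw => hw.2 b hb.1 hb.2.2 hfb
  have hΛc : ∀ w ∈ line D a f, Commute c w := fun w hw => hw.2 c hca.1 hca.2.2 hfc
  have hbΛ : b ∉ line D a f := fun h => hzb (hΛz b h)
  have hnb : ∀ w ∈ line D a f, w ∈ nb D b := fun w hw => ⟨hw.1, fun e => hbΛ (e ▸ hw), (hΛb w hw).symm⟩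
  obtain ⟨T, hT⟩ := L.str b hb.1
  obtain ⟨qa, hqa⟩ := point L hb.1 hT hab
  obtain ⟨qc, hqc⟩ := point L hb.1 hT hcb
  have hac : herm qa qc = 0 := (commute_iff L hb.1 hT hab hqa hcb hqc).mp hca.2.2.symm
  have hne' : ∀ k : F4, qc ≠ k • qa := fun k e => by
    refine hc ?_
    rw [line_symm]
    exact (mem_line_iff L hb.1 hT hab).mpr (Or.inr ⟨hcb, (act_eq_iff L hb.1 hT hab hqa hcb hqc).mpr ⟨k, e⟩⟩)
  -- five reference vectors
  let R : Finset V := insert qa (Finset.univ.image fun k : F4 => qc + k • qa)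
  have hR : R.card ≤ 5 := (Finset.card_insert_le _ _).trans
    (Nat.succ_le_succ (Finset.card_image_le.trans (by rw [Finset.card_univ, F4.card])))
  have hrep : ∀ w ∈ line D a f, ∃ r ∈ R, ∀ v, T.π w v = v + herm r v • r := by
    intro w hw
    obtain ⟨p, hp⟩ := point L hb.1 hT (hnb w hw)
    have h1 : Commute a w := hw.2 a haD (Commute.refl a) hf.2.2.symm
    obtain ⟨x, y, hxy⟩ := mem_span_two hqa.ne hqa.iso hqc.iso hac hne' hp.iso
      ((commute_iff L hb.1 hT hab hqa (hnb w hw) hp).mp h1)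
      ((commute_iff L hb.1 hT hcb hqc (hnb w hw) hp).mp (hΛc w hw))
    by_cases hy : y = 0
    · refine ⟨qa, Finset.mem_insert_self _ _, fun v => ?_⟩
      rw [hy, zero_smul, add_zero] at hxy
      have hx : x ≠ 0 := fun h => hp.ne (by rw [hxy, h, zero_smul])
      rw [hp.act, tv_same hx hxy]
    · refine ⟨qc + (y⁻¹ * x) • qa, Finset.mem_insert_of_mem (Finset.mem_image.mpr ⟨_, Finset.mem_univ _, rfl⟩),
        fun v => ?_⟩
      rw [hp.act, tv_same hy]
      rw [hxy, smul_add, smul_smul, ← mul_assoc, mul_inv_cancel₀ hy, one_mul, add_comm]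
  choose r hr hrv using hrep
  have hinj : ∀ w (hw : w ∈ line D a f) w' (hw' : w' ∈ line D a f), r w hw = r w' hw' → w = w' := by
    intro w hw w' hw' e
    by_contra hne
    refine hbΛ ?_
    have hsame : T.π w' = T.π w := Equiv.ext fun v => by rw [hrv w' hw', hrv w hw, e]
    have hmem : w' ∈ line D b w := (mem_line_iff L hb.1 hT (hnb w hw)).mpr (Or.inr ⟨hnb w' hw', hsame⟩)
    have e1 : line D w w' = line D a f := L.line_eq haD hf hw hw' hne
    have e2 : line D w w' = line D b w :=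
      L.line_eq hb.1 (hnb w hw) ⟨hw.1, fun v _ _ h => h⟩ hmem hne
    rw [← e1, e2]
    exact ⟨hb.1, fun v _ h _ => h⟩
  let Λ : Finset G := (Set.toFinite (line D a f)).toFinset
  have hmemΛ : ∀ {w}, w ∈ Λ → w ∈ line D a f := fun h => (Set.Finite.mem_toFinset _).mp h
  have hΛ5 : Λ.card = 5 := by
    rw [← Set.ncard_eq_toFinset_card _ (Set.toFinite _)]
    exact line_card L haD hS hf
  have hsub : Λ.attach.image (fun w => r w.1 (hmemΛ w.2)) = R := by
    refine Finset.eq_of_subset_of_card_le (Finset.image_subset_iff.mpr fun w _ => hr _ _) ?_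
    rw [Finset.card_image_of_injective _ fun w w' e => Subtype.ext (hinj _ _ _ _ e), Finset.card_attach, hΛ5]
    exact hR
  have hqcR : qc ∈ R := Finset.mem_insert_of_mem (Finset.mem_image.mpr ⟨0, Finset.mem_univ _, by simp⟩)
  rw [← hsub, Finset.mem_image] at hqcR
  obtain ⟨⟨w, hw⟩, -, e⟩ := hqcR
  refine ⟨w, (mem_line_iff L hb.1 hT hcb).mpr (Or.inr ⟨hnb w (hmemΛ hw), Equiv.ext fun v => ?_⟩),
    (hΛz w (hmemΛ hw)).symm, fun h => hbΛ (h ▸ hmemΛ hw)⟩
  rw [hrv w (hmemΛ hw), e, hqc.act]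

/-- every line at a member at distance two has a neighbour of the member -/
theorem cover {z b : G} (hzD : z ∈ D) (hbD : b ∈ D) (hzb : ¬ Commute z b)
    (h : ∃ a ∈ nb D z, Commute a b) {c : G} (hc : c ∈ nb D b) :
    ∃ e ∈ line D b c, Commute e z ∧ e ≠ b := by
  obtain ⟨a, ha, hab⟩ := h
  obtain ⟨T, hT⟩ := L.str b hbD
  have nbsymm : ∀ {x y : G}, x ∈ D → y ∈ nb D x → x ∈ nb D y := fun hx hy => ⟨hx, hy.2.1.symm, hy.2.2.symm⟩
  have hab' : a ≠ b := fun e => hzb (e ▸ ha.2.2.symm)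
  have han : a ∈ nb D b := ⟨ha.1, hab', hab⟩
  have step : ∀ {p d : G}, p ∈ nb D z → p ∈ nb D b → d ∈ nb D b → Commute p d →
      ∃ e ∈ line D b d, Commute e z ∧ e ≠ b := by
    intro p d hp hpb hd hcomm
    by_cases hdp : d = p
    · exact ⟨p, hdp ▸ ⟨hd.1, fun v _ _ h => h⟩, hp.2.2, hpb.2.1⟩
    exact key L hp.1 hzD (nbsymm hzD hp) (nbsymm hbD hpb) hzb ⟨hd.1, hdp, hcomm.symm⟩ hd
  obtain ⟨pa, hpa⟩ := point L hbD hT han
  obtain ⟨pc, hpc⟩ := point L hbD hT hc
  obtain ⟨w, hw0, hww, hwa, hwc⟩ := exists_common hpa.ne hpa.iso hpc.iso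
  obtain ⟨d, hd, hpd⟩ := exists_over L hbD hT hw0 hww
  obtain ⟨e, he, hez, heb⟩ := step ha han hd ((commute_iff L hbD hT han hpa hd hpd).mpr hwa)
  obtain ⟨hen, hel⟩ := L.line_nb hbD hd he heb
  have hene : e ≠ z := fun h => hzb (h ▸ hen.2.2)
  refine step ⟨hen.1, hene, hez⟩ hen hc ?_
  obtain ⟨-, heq⟩ := ((mem_line_iff L hbD hT hd).mp he).resolve_left heb
  exact (commute_iff L hbD hT hen (u := w) ⟨hw0, hww, fun v => by rw [heq]; exact hpd.act v⟩ hc hpc).mpr hwc

/-- members joined by a path are at distance at most two -/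
theorem closed {z b y : G} (hzD : z ∈ D) (hb : b ∈ D) (h : b = z ∨ ∃ a ∈ nb D z, Commute a b) (hy : y ∈ D)
    (hby : Commute b y) : y = z ∨ ∃ a ∈ nb D z, Commute a y := by
  by_cases hbz : b = z
  · subst hbz
    by_cases hyz : y = b
    · exact Or.inl hyz
    · exact Or.inr ⟨y, ⟨hy, hyz, hby.symm⟩, Commute.refl y⟩
  have h' := h.resolve_left hbz
  by_cases hzb : Commute z b
  · exact Or.inr ⟨b, ⟨hb, hbz, hzb.symm⟩, hby⟩
  by_cases hyb : y = b
  · exact Or.inr (by rw [hyb]; exact h')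
  obtain ⟨e, he, hez, heb⟩ := cover L hzD hb hzb h' (c := y) ⟨hy, hyb, hby.symm⟩
  by_cases hez' : e = z
  · exact absurd ((L.line_nb hb ⟨hy, hyb, hby.symm⟩ he heb).1.2.2) (fun h => hzb (hez' ▸ h))
  exact Or.inr ⟨e, ⟨he.1, hez', hez⟩, (he.2 y hy hby.symm (Commute.refl y)).symm⟩

end Cfsg.Agent.Spor.CHZ
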