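import Cfsg.Agent.Lib.Spor.CHZ.SplitB

/-!
A fixed plane and three planes: the action of an involution.
-/

set_option autoImplicit false
set_option maxRecDepth 100000
set_option maxHeartbeats 400000
set_option linter.unusedSectionVars false

namespace Cfsg.Agent.Spor.CHZ

open Cfsg.Agent.Spor.SpFour Cfsg.Agent.Small.Unitary

universe w

theorem fn_sw0 : ∀ a : A3, fn (kW 0) (swA 0 a) = fn (kW 0) a := by decide +kernel

theorem fn_sw02 : ∀ a : A3, fn (kW 0) (swA 0 (swA 2 a)) = fn (kW 0) a ∧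
    ∀ j : Fin 3, j ≠ 0 → fn (kW j) (swA 0 (swA 2 a)) + fn (kW j) a = 0 := by decide +kernel

theorem pf_sw02 : ∀ (j : Fin 3) (a : A3), pf (kW j) (swA 0 (swA 2 a)) = pf (kW j) a := by decide +kernel

theorem sw02_sq : sw 0 * sw 2 * (sw 0 * sw 2) = 1 :=
  Cfsg.Agent.Classical.URoot.eq_of_act fun v => funext fun i => by
    simp only [act_mul, act_sw, act_one]
    congr 1
    revert i
    decide +kernel

theorem sw02_dg (a : A3) : sw 0 * sw 2 * dg a = dg (swA 0 (swA 2 a)) * (sw 0 * sw 2) := by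
  rw [mul_assoc, sw_dg, ← mul_assoc, sw_dg, mul_assoc]

namespace Rep

variable {M : Type w} [AddCommGroup M] [Module (ZMod 2) M] [Finite M] (R : Rep M)

/-- one plus an element -/
def dI (g : L) : M →+ M := AddMonoidHom.mk' (fun x => x + R.ρ g x) fun x y => by rw [R.add]; abel

theorem dI_apply (g : L) (x : M) : R.dI g x = x + R.ρ g x := rfl

theorem mem_ker_dI {g : L} {x : M} : x ∈ (R.dI g).ker ↔ R.ρ g x = x := by
  show x + R.ρ g x = 0 ↔ _
  constructor
  · intro h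
    calc R.ρ g x = x + (x + R.ρ g x) := by rw [← add_assoc, R.self_add, zero_add]
      _ = x := by rw [h, add_zero]
  · intro h
    rw [h, R.self_add]

theorem card_fix_move (g : L) : Nat.card (R.dI g).ker * Nat.card (R.dI g).range = 256 := by
  have h := (R.dI g).ker.card_mul_index
  rwa [AddSubgroup.index_ker, R.card] at h

variable (hB : (∀ k : Fin 14, ((k : ℕ) = 0 ∨ 11 ≤ (k : ℕ)) → (R.piece k).ncard = 4) ∧
      ∀ k : Fin 14, 1 ≤ (k : ℕ) → (k : ℕ) ≤ 10 → (R.piece k).ncard = 1)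
include hB

/-- an involution commuting with the rotation of a plane fixes it -/
theorem plane_invol {g : L} (hg : g * g = 1) {σ : A3 → A3} (hσ : ∀ a, g * dg a = dg (σ a) * g) {j : Fin 3}
    (hfn : ∀ a, fn (kW j) (σ a) = fn (kW j) a) (hmem : ∀ x ∈ R.piece (kW j), R.ρ g x ∈ R.piece (kW j))
    {x : M} (hx : x ∈ R.piece (kW j)) : R.ρ g x = x := by
  by_cases hx0 : x = 0
  · rw [hx0, R.ρ_zero]
  obtain ⟨a, ha, h⟩ := R.plane_four hB hx hx0 (hmem x hx)
  have hcom : ∀ v ∈ R.piece (kW j), R.ρ g (R.ρ (dg a) v) = R.ρ (dg a) (R.ρ g v) := by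
    intro v hv
    rw [← R.mul, hσ, R.mul]
    have e : σ a = a + (σ a - a) := by abel
    rw [e, dg_add, R.mul, R.fixed (k := kW j) ?_ (hmem v hv)]
    have h2 := fn_add (kW j) a (σ a - a)
    rw [← e, hfn] at h2
    exact left_eq_add.mp h2
  have h2 : R.ρ g (R.ρ g x) = x := by rw [← R.mul, hg, R.one]
  have hx1 := R.piece_dg a hx
  have hne : ∀ v ∈ R.piece (kW j), v ≠ 0 → R.ρ (dg a) v ≠ v := fun v hv hv0 e =>
    hv0 (R.free (kW_ne j) (by rw [ha]; decide) hv e)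
  have h3 : ∀ v, R.ρ (dg a) (R.ρ (dg a) (R.ρ (dg a) v)) = v := fun v => by
    rw [← R.mul, ← R.mul, ← dg_add, ← dg_add, three_smul', dg_zero, R.one]
  rcases h with e | e | e | e
  · exact absurd (R.ρ_inj g (e.trans (R.ρ_zero g).symm)) hx0
  · exact e
  · exfalso
    rw [e, hcom x hx, e] at h2
    exact hne x hx hx0 ((congrArg (R.ρ (dg a)) h2.symm).trans (h3 x))
  · exfalso
    rw [e, hcom _ hx1, hcom x hx, e] at h2
    refine hne x hx hx0 ?_
    rw [h3] at h2
    exact h2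

/-- an involution inverting the rotation of a plane moves it into one vector -/
theorem plane_anti {g : L} (hg : g * g = 1) {σ : A3 → A3} (hσ : ∀ a, g * dg a = dg (σ a) * g) {j : Fin 3}
    (hfn : ∀ a, fn (kW j) (σ a) + fn (kW j) a = 0) (hmem : ∀ x ∈ R.piece (kW j), R.ρ g x ∈ R.piece (kW j)) :
    ∃ r ∈ R.piece (kW j), r ≠ 0 ∧ (∃ x ∈ R.piece (kW j), R.dI g x = r) ∧
      ∀ y ∈ R.piece (kW j), R.dI g y = 0 ∨ R.dI g y = r := by
  classical
  obtain ⟨x, hx, hne⟩ : ∃ x ∈ R.piece (kW j), R.ρ g x ≠ x := by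
    by_contra hno
    push Not at hno
    obtain ⟨a, ha, -⟩ := kW_dual j
    obtain ⟨v, hv, hv0⟩ : ∃ v ∈ R.piece (kW j), v ≠ 0 := by
      by_contra hall
      push Not at hall
      have h4 := hB.1 (kW j) (kW_high j)
      rw [show R.piece (kW j) = {0} from Set.eq_singleton_iff_unique_mem.mpr ⟨R.zero_mem _, hall⟩,
        Set.ncard_singleton] at h4
      omega
    have e := hno _ (R.piece_dg a hv)
    rw [← R.mul, hσ, R.mul, hno v hv] at e
    have hb : fn (kW j) (σ a - a) ≠ 0 := by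
      intro h0
      have h2 := fn_add (kW j) a (σ a - a)
      rw [add_sub_cancel] at h2
      have h3 := hfn a
      rw [h2, h0, add_zero, ha] at h3
      exact absurd h3 (by decide)
    refine hv0 ?_
    have hsum : σ a = a + (σ a - a) := by abel
    rw [hsum, dg_add, R.mul] at e
    exact R.free (kW_ne j) hb hv (R.ρ_inj _ e)
  obtain ⟨r, hr⟩ : ∃ r, r = R.dI g x := ⟨_, rfl⟩
  have hfx := hmem x hx
  have hrm : r ∈ R.piece (kW j) := hr ▸ R.add_mem hx hfx
  have hr0 : r ≠ 0 := fun e => hne ((R.mem_ker_dI (g := g)).mp (hr.symm.trans e))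
  have hx0 : x ≠ 0 := fun e => hne (by rw [e, R.ρ_zero])
  have hfx0 : R.ρ g x ≠ 0 := fun e => hx0 (R.ρ_inj g (e.trans (R.ρ_zero g).symm))
  refine ⟨r, hrm, hr0, ⟨x, hx, hr.symm⟩, fun y hy => ?_⟩
  have hsub : (({0, x, R.ρ g x, r} : Finset M) : Set M) ⊆ R.piece (kW j) := by
    intro v hv
    simp only [Finset.coe_insert, Finset.coe_singleton, Set.mem_insert_iff, Set.mem_singleton_iff] at hv
    rcases hv with rfl | rfl | rfl | rfl
    exacts [R.zero_mem _, hx, hfx, hrm]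
  have d1 : x ≠ r := fun e => hfx0 (by
    rw [hr, R.dI_apply] at e
    exact left_eq_add.mp e)
  have d2 : R.ρ g x ≠ r := fun e => hx0 (by
    rw [hr, R.dI_apply] at e
    exact right_eq_add.mp e)
  have hc : (({0, x, R.ρ g x, r} : Finset M) : Set M).ncard = 4 := by
    rw [Set.ncard_coe_finset, Finset.card_insert_of_notMem (by simp [Ne.symm hx0, Ne.symm hfx0, Ne.symm hr0]),
      Finset.card_insert_of_notMem (by simp [Ne.symm hne, d1]), Finset.card_insert_of_notMem (by simp [d2]),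
      Finset.card_singleton]
  rw [← Set.eq_of_subset_of_ncard_le hsub (by rw [hc, hB.1 (kW j) (kW_high j)]) (Set.toFinite _)] at hy
  simp only [Finset.coe_insert, Finset.coe_singleton, Set.mem_insert_iff, Set.mem_singleton_iff] at hy
  rcases hy with e | e | e | e <;> rw [e]
  · exact Or.inl (map_zero _)
  · exact Or.inr hr.symm
  · right
    rw [R.dI_apply, ← R.mul, hg, R.one, hr, R.dI_apply, add_comm]
  · left
    rw [hr, R.dI_apply, R.dI_apply, R.add, ← R.mul, hg, R.one, add_comm (R.ρ g x) x, R.self_add]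

/-- the facts of an involution -/
theorem std_zero : Nat.card (R.dI (sw 0)).range = 4 ∧ ∃ s ∈ (R.dI (sw 0)).range, s ≠ 0 ∧ R.q s = 0 := by
  classical
  obtain ⟨g, hg⟩ : ∃ g, g = sw 0 := ⟨_, rfl⟩
  have hmove : ∀ k, ∀ x ∈ R.piece (kW k), R.ρ g x ∈ R.piece (kW (swW 0 k)) := fun k x hx =>
    hg ▸ R.move_mem (Function.Involutive.bijective (swA_invol 0)) (sw_dg 0) (swW_spec 0 k) hx
  have hsq : g * g = 1 := hg ▸ sw_sq 0
  have h0 : ∀ x ∈ R.piece (kW 0), R.ρ g x = x := fun x hx => R.plane_invol hB hsq (hg ▸ sw_dg 0) fn_sw0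
    (fun v hv => hmove 0 v hv) hx
  let f : ↥(R.piece (kW 1)) → ↥(R.dI g).range := fun u => ⟨R.dI g u, ⟨u, rfl⟩⟩
  have hf : Function.Bijective f := by
    refine ⟨fun u v h => Subtype.ext ?_, fun y => ?_⟩
    · have e : R.dI g u = R.dI g v := congrArg Subtype.val h
      have e2 := congrArg (R.S (pf (kW 1))) e
      rw [R.dI_apply, R.dI_apply, R.S_add, R.S_add, u.2, v.2,
        R.proj_other (by decide +kernel) (hmove 1 _ u.2), R.proj_other (by decide +kernel) (hmove 1 _ v.2),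
        add_zero, add_zero] at e2
      exact e2
    · obtain ⟨x, hx⟩ := y.2
      obtain ⟨x1, hx1⟩ : ∃ x1, x1 = R.S (pf (kW 1)) x := ⟨_, rfl⟩
      obtain ⟨x2, hx2⟩ : ∃ x2, x2 = R.S (pf (kW 2)) x := ⟨_, rfl⟩
      refine ⟨⟨x1 + R.ρ g x2, R.add_mem (hx1 ▸ R.proj_mem _ x) (hmove 2 _ (hx2 ▸ R.proj_mem _ x))⟩, Subtype.ext ?_⟩
      show R.dI g (x1 + R.ρ g x2) = y
      rw [← hx]
      conv_rhs => rw [← R.split_sum hB x, Fin.sum_univ_three, map_add, map_add, map_add, ← hx1, ← hx2,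
        R.dI_apply g (R.S (pf 0) x), R.fixed_u hB g (R.proj_mem 0 x), R.self_add, zero_add,
        R.dI_apply g (R.S (pf (kW 0)) x), h0 _ (R.proj_mem _ x), R.self_add, zero_add]
      rw [map_add, R.dI_apply g (R.ρ g x2), ← R.mul, hsq, R.one, R.dI_apply g x2, add_comm (R.ρ g x2) x2]
  rw [← hg]
  refine ⟨by rw [← Nat.card_eq_of_bijective f hf, Nat.card_coe_set_eq, hB.1 _ (kW_high 1)], ?_⟩
  obtain ⟨v, hv, hv0⟩ : ∃ v ∈ R.piece (kW 1), v ≠ 0 := by
    by_contra hall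
    push Not at hall
    have h4 := hB.1 (kW 1) (kW_high 1)
    rw [show R.piece (kW 1) = {0} from Set.eq_singleton_iff_unique_mem.mpr ⟨R.zero_mem _, hall⟩,
      Set.ncard_singleton] at h4
    omega
  refine ⟨R.dI g v, ⟨v, rfl⟩, fun e => hv0 ?_, ?_⟩
  · have e2 : f ⟨v, hv⟩ = f ⟨0, R.zero_mem _⟩ := Subtype.ext (e.trans (map_zero (R.dI g)).symm)
    exact congrArg Subtype.val (hf.1 e2)
  · rw [R.dI_apply, R.q_add_eq hB, R.q_act, R.orth_W (i := 1) (j := swW 0 1) (by decide +kernel) hv (hmove 1 v hv),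
      add_zero, CharTwo.add_self_eq_zero]

theorem std_one : Nat.card (R.dI (sw 0 * sw 2)).range = 4 ∧
    ∃ s ∈ (R.dI (sw 0 * sw 2)).range, s ≠ 0 ∧ R.q s = 0 := by
  classical
  obtain ⟨g, hg⟩ : ∃ g, g = sw 0 * sw 2 := ⟨_, rfl⟩
  have hσb : Function.Bijective fun a => swA 0 (swA 2 a) :=
    (Function.Involutive.bijective (swA_invol 0)).comp (Function.Involutive.bijective (swA_invol 2))
  have hmem : ∀ j, ∀ x ∈ R.piece (kW j), R.ρ g x ∈ R.piece (kW j) := fun j x hx =>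
    hg ▸ R.move_mem hσb sw02_dg (pf_sw02 j) hx
  have hsq : g * g = 1 := hg ▸ sw02_sq
  have h0 : ∀ x ∈ R.piece (kW 0), R.ρ g x = x := fun x hx =>
    R.plane_invol hB hsq (hg ▸ sw02_dg) (fun a => (fn_sw02 a).1) (hmem 0) hx
  obtain ⟨r1, hr1, hr10, ⟨y1, hy1, e1⟩, all1⟩ := R.plane_anti hB hsq (hg ▸ sw02_dg)
    (fun a => (fn_sw02 a).2 1 (by decide)) (hmem 1)
  obtain ⟨r2, hr2, hr20, ⟨y2, hy2, e2⟩, all2⟩ := R.plane_anti hB hsq (hg ▸ sw02_dg)
    (fun a => (fn_sw02 a).2 2 (by decide)) (hmem 2)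
  have hset : ((R.dI g).range : Set M) = (({0, r1, r2, r1 + r2} : Finset M) : Set M) := by
    ext y
    simp only [Finset.coe_insert, Finset.coe_singleton, Set.mem_insert_iff, Set.mem_singleton_iff]
    constructor
    · rintro ⟨x, rfl⟩
      rw [← R.split_sum hB x, Fin.sum_univ_three, map_add, map_add, map_add,
        R.dI_apply g (R.S (pf 0) x), R.fixed_u hB g (R.proj_mem 0 x), R.self_add, zero_add,
        R.dI_apply g (R.S (pf (kW 0)) x), h0 _ (R.proj_mem _ x), R.self_add, zero_add]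
      rcases all1 _ (R.proj_mem (kW 1) x) with a | a <;> rcases all2 _ (R.proj_mem (kW 2) x) with c | c <;>
        rw [a, c] <;> simp
    · rintro (rfl | rfl | rfl | rfl)
      exacts [(R.dI g).range.zero_mem, ⟨y1, e1⟩, ⟨y2, e2⟩, ⟨y1 + y2, by rw [map_add, e1, e2]⟩]
  have d12 : r1 ≠ r2 := fun e => hr10 (by
    rw [← hr1, e, R.proj_other (by decide +kernel) hr2])
  have d0 : r1 + r2 ≠ 0 := fun e => d12 (by
    calc r1 = r1 + (r2 + r2) := by rw [R.self_add, add_zero]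
      _ = r2 := by rw [← add_assoc, e, zero_add])
  rw [← hg]
  refine ⟨?_, r1 + r2, ⟨y1 + y2, by rw [map_add, e1, e2]⟩, d0, ?_⟩
  · show Nat.card ↥((R.dI g).range : Set M) = 4
    rw [hset, Nat.card_coe_set_eq, Set.ncard_coe_finset,
      Finset.card_insert_of_notMem (by simp [Ne.symm hr10, Ne.symm hr20, Ne.symm d0]),
      Finset.card_insert_of_notMem (by simp [d12, hr20]), Finset.card_insert_of_notMem (by simp [hr10]),
      Finset.card_singleton]
  · rw [R.q_add_eq hB, R.q_plane hB hr1 hr10, R.q_plane hB hr2 hr20, R.orth_W (by decide) hr1 hr2, add_zero,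
      CharTwo.add_self_eq_zero]

/-- every involution: commutators of order four, containing a singular vector, the fixed vectors their complement -/
theorem involution_facts {i : L} (hi : i * i = 1) (hi1 : i ≠ 1) :
    Nat.card (R.dI i).range = 4 ∧ Nat.card (R.dI i).ker = 64 ∧
      (∃ s ∈ (R.dI i).range, s ≠ 0 ∧ R.q s = 0) ∧ R.perp (R.dI i).ker = (R.dI i).range := by
  classical
  obtain ⟨g, hg⟩ := Two.involution_std hi hi1
  obtain ⟨j, hj, hcard, s, hs, hs0, hsq⟩ : ∃ j, g * i * g⁻¹ = j ∧ Nat.card (R.dI j).range = 4 ∧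
      ∃ s ∈ (R.dI j).range, s ≠ 0 ∧ R.q s = 0 := by
    rcases hg with e | e
    · exact ⟨_, e, R.std_zero hB⟩
    · exact ⟨_, e, R.std_one hB⟩
  have hmap : ∀ x, R.ρ g (R.dI i x) = R.dI j (R.ρ g x) := fun x => by
    rw [R.dI_apply, R.dI_apply, R.add, ← hj, ← R.mul, ← R.mul, inv_mul_cancel_right]
  have hrange : Nat.card (R.dI i).range = 4 := by
    rw [← hcard]
    refine Nat.card_eq_of_bijective (fun y => ⟨R.ρ g y, by obtain ⟨x, hx⟩ := y.2; exact ⟨R.ρ g x, by rw [← hmap, hx]⟩⟩)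
      ⟨fun a c h => Subtype.ext (R.ρ_inj g (congrArg Subtype.val h)), fun y => ?_⟩
    obtain ⟨x, hx⟩ := y.2
    refine ⟨⟨R.dI i (R.ρ g⁻¹ x), ⟨_, rfl⟩⟩, Subtype.ext ?_⟩
    show R.ρ g (R.dI i (R.ρ g⁻¹ x)) = y
    rw [hmap, R.act_inv, hx]
  have hker : Nat.card (R.dI i).ker = 64 := by
    have h := R.card_fix_move i
    rw [hrange] at h
    omega
  refine ⟨hrange, hker, ⟨R.ρ g⁻¹ s, ?_, fun e => hs0 ?_, by rw [R.q_act, hsq]⟩, ?_⟩
  · obtain ⟨x, hx⟩ := hs
    refine ⟨R.ρ g⁻¹ x, R.ρ_inj g ?_⟩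
    rw [hmap, R.act_inv, hx, R.act_inv]
  · rw [← R.act_inv g s, e, R.ρ_zero]
  · refine (AddSubgroup.eq_of_le_of_card_ge ?_ ?_).symm
    · rintro _ ⟨x, rfl⟩ h hh
      rw [R.dI_apply, R.b_add_right]
      have : R.b h (R.ρ i x) = R.b h x := by
        conv_lhs => rw [← (R.mem_ker_dI).mp hh]
        rw [R.b_act]
      rw [this, CharTwo.add_self_eq_zero]
    · have h := R.card_perp (R.dI i).ker
      rw [hker] at h
      omega

end Rep

end Cfsg.Agent.Spor.CHZ
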