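import Cfsg.Agent.Lib.Spor.CHZ.Model

/-!
The involutory semilinear isometries of the four-dimensional Hermitian space, and bounds on groups of
isometries moving a large set very little.
-/

set_option autoImplicit false
set_option maxRecDepth 100000
set_option linter.unusedSectionVars false

namespace Cfsg.Agent.Spor.CHZ

open Cfsg.Agent.Spor.SpFour Cfsg.Agent.Small.Unitary

variable {f : Equiv.Perm V}

theorem image_fixed (hf : Semi f) (h2 : f * f = 1) (x : V) : f (f x + x) = f x + x := by
  rw [hf.add, ← Equiv.Perm.mul_apply, h2, Equiv.Perm.one_apply, add_comm]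

theorem B_image_fix (hf : Semi f) {y : V} (hy : f y = y) (x : V) : B (f x + x) y = 0 := by
  rw [B_add_left]
  conv_lhs => arg 1; rw [← hy, hf.B]
  exact CharTwo.add_self_eq_zero _

theorem Lin.herm_image_fix (hf : Lin f) {y : V} (hy : f y = y) (x : V) : Small.Unitary.herm (f x + x) y = 0 := by
  rw [herm_add_left]
  conv_lhs => arg 1; rw [← hy, hf.herm]
  exact CharTwo.add_self_eq_zero _

theorem range_le_fix (hf : Semi f) (h2 : f * f = 1) : (Set.range fun x => f x + x) ⊆ fixS f := by
  rintro _ ⟨x, rfl⟩
  exact image_fixed hf h2 x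

theorem Anti.fix_range (hf : Anti f) (h2 : f * f = 1) :
    (fixS f).ncard = 16 ∧ (Set.range fun x => f x + x) = fixS f := by
  have hs : Semi f := Or.inr hf
  have h := card_kernel_image hs
  have hle := Set.ncard_le_ncard (range_le_fix hs h2)
  have h16 := hf.card_fix
  have hk : (fixS f).ncard = 16 := by nlinarith
  refine ⟨hk, Set.eq_of_subset_of_ncard_le (range_le_fix hs h2) ?_⟩
  rw [hk] at h
  omega

/-- a linear involution moves every vector into its fixed space, totally isotropic of order 16, or is a
transvection -/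
theorem Lin.invol_cases (hf : Lin f) (h2 : f * f = 1) (h1 : f ≠ 1) :
    ((fixS f).ncard = 16 ∧ (Set.range fun x => f x + x) = fixS f) ∨
      ∃ u : V, u ≠ 0 ∧ Small.Unitary.herm u u = 0 ∧ ∀ x, f x = x + Small.Unitary.herm u x • u := by
  have hs : Semi f := Or.inl hf
  have h := card_kernel_image hs
  have hle := Set.ncard_le_ncard (range_le_fix hs h2)
  by_cases hbig : 9 ≤ (Set.range fun x => f x + x).ncard
  · left
    have h28 : (fixS f).ncard ≤ 28 := by nlinarith
    have h16 : 16 ≤ (fixS f).ncard := by nlinarith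
    have hd : (fixS f).ncard ∣ 256 := ⟨_, h.symm⟩
    obtain ⟨j, hj, hj'⟩ := (Nat.dvd_prime_pow Nat.prime_two).mp (show (fixS f).ncard ∣ 2 ^ 8 from hd)
    have hj4 : j = 4 := by
      interval_cases j <;> omega
    rw [hj', hj4] at h
    refine ⟨by rw [hj', hj4]; norm_num, Set.eq_of_subset_of_ncard_le (range_le_fix hs h2) ?_⟩
    rw [hj', hj4]
    omega
  · right
    obtain ⟨x0, hx0⟩ : ∃ x, f x + x ≠ 0 := by
      by_contra hall
      push Not at hall
      exact h1 (Equiv.ext fun x => add_cancel' (hall x))
    obtain ⟨u, hu⟩ : ∃ u, u = f x0 + x0 := ⟨_, rfl⟩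
    have hu0 : u ≠ 0 := hu ▸ hx0
    have hline : ∀ x, ∃ c : F4, f x + x = c • u := by
      intro x
      by_contra hno
      push Not at hno
      have hinj : Function.Injective fun p : F4 × F4 =>
          (⟨f (p.1 • x0 + p.2 • x) + (p.1 • x0 + p.2 • x), _, rfl⟩ : ↥(Set.range fun x => f x + x)) := by
        rintro ⟨a, b⟩ ⟨a', b'⟩ e
        have e' : a • u + b • (f x + x) = a' • u + b' • (f x + x) := by
          have e'' := congrArg Subtype.val e
          dsimp only at e''
          simp only [hf.add, hf.smul] at e''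
          rw [hu, smul_add, smul_add, smul_add, smul_add]
          calc _ = a • f x0 + b • f x + (a • x0 + b • x) := by abel
            _ = _ := e''
            _ = _ := by abel
        have e2 := swap_sum e'
        rw [← add_smul, ← add_smul] at e2
        have hb : b = b' := by
          by_contra hne
          have h0 : b + b' ≠ 0 := fun h0 => hne (CharTwo.add_eq_zero.mp h0)
          exact hno ((b + b')⁻¹ * (a + a')) (by rw [mul_smul, e2, smul_smul, inv_mul_cancel₀ h0, one_smul])
        subst hb
        rw [CharTwo.add_self_eq_zero, zero_smul, smul_eq_zero] at e2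
        exact Prod.ext (CharTwo.add_eq_zero.mp (e2.resolve_right hu0)) rfl
      have hc := Nat.card_le_card_of_injective _ hinj
      rw [Nat.card_prod, Nat.card_eq_fintype_card, F4.card, Nat.card_coe_set_eq] at hc
      omega
    have hfu : f u = u := hu ▸ image_fixed hs h2 x0
    have huu : Small.Unitary.herm u u = 0 := by
      have := hf.herm_image_fix hfu x0
      rwa [← hu] at this
    refine ⟨u, hu0, huu, ?_⟩
    have hfx : ∀ {x : V} {c : F4}, f x + x = c • u → f x = x + c • u := fun {x c} h => by
      rw [← h, add_comm (f x), ← add_assoc, add_self, zero_add]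
    have e0 : f x0 = x0 + u := by rw [hu, add_comm (f x0), ← add_assoc, add_self, zero_add]
    have key : ∀ (x : V) (c : F4), f x = x + c • u →
        Small.Unitary.herm x u + star c * Small.Unitary.herm u x0 = 0 := by
      intro x c hc
      have := hf.herm x x0
      rw [e0, hc] at this
      simp only [herm_add_left, herm_add_right, herm_smul_left, huu, mul_zero, add_zero] at this
      linear_combination this
    obtain ⟨a, ha⟩ : ∃ a, a = Small.Unitary.herm u x0 := ⟨_, rfl⟩
    have ha1 : a = 1 := by
      have := key x0 1 (by rw [one_smul]; exact e0)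
      rw [star_one, one_mul, ← ha, ← star_herm, ← ha] at this
      rcases F4_fixed a (CharTwo.add_eq_zero.mp this) with e | e
      · exfalso
        obtain ⟨w, hw⟩ := exists_herm_ne hu0
        obtain ⟨c, hc⟩ := hline w
        have := key w c (hfx hc)
        rw [← ha, e, mul_zero, add_zero] at this
        rw [← star_herm, this, star_zero] at hw
        exact hw rfl
      · exact e
    intro x
    obtain ⟨c, hc⟩ := hline x
    have := key x c (hfx hc)
    rw [← ha, ha1, mul_one, CharTwo.add_eq_zero, ← star_herm] at this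
    rw [hfx hc, star_injective this]

/-! ### bounds -/

/-- a real form spans: sixteen vectors fixed by a conjugate linear map give every vector -/
theorem Anti.span (hf : Anti f) (hc : (fixS f).ncard = 16) (x : V) :
    ∃ a b : V, f a = a ∧ f b = b ∧ x = a + F4.w • b := by
  have hinj : Function.Injective fun p : ↥(fixS f) × ↥(fixS f) => (p.1 : V) + F4.w • (p.2 : V) := by
    rintro ⟨a, b⟩ ⟨a', b'⟩ e
    have e2 := swap_sum e
    rw [← smul_add] at e2
    have hb : (b : V) + b' = 0 := by
      by_contra hne
      have h1 : f ((b : V) + b') = (b : V) + b' := by rw [hf.add, b.2, b'.2]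
      have h2 : f (F4.w • ((b : V) + b')) = F4.w • ((b : V) + b') := by rw [← e2, hf.add, a.2, a'.2]
      exact absurd (hf.fix_meet h1 h2 hne) (by decide +kernel)
    have hb' : b = b' := Subtype.ext (add_cancel' hb)
    rw [hb, smul_zero] at e2
    exact Prod.ext (Subtype.ext (add_cancel' e2)) hb'
  have hb := (Nat.bijective_iff_injective_and_card _).mpr ⟨hinj, by
    rw [Nat.card_prod, Nat.card_coe_set_eq, hc, card_V]⟩
  obtain ⟨⟨a, b⟩, h⟩ := hb.2 x
  exact ⟨a, b, a.2, b.2, h.symm⟩

/-- linear maps fixing vectors which with one further vector give everything: at most four -/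
theorem card_fixing {X : Set (Equiv.Perm V)} {H : Set V} {y0 : V} (hL : ∀ g ∈ X, Lin g)
    (hfix : ∀ g ∈ X, ∀ y ∈ H, g y = y) (hgen : ∀ x, ∃ y ∈ H, ∃ c : F4, x = y + c • y0) : X.ncard ≤ 4 := by
  have hd : ∀ g ∈ X, ∀ y ∈ H, Small.Unitary.herm (g y0 + y0) y = 0 := fun g hg y hy =>
    (hL g hg).herm_image_fix (hfix g hg y hy) y0
  have key : ∀ u, (∀ y ∈ H, Small.Unitary.herm u y = 0) → Small.Unitary.herm u y0 = 0 → u = 0 := by
    intro u h1 h2
    by_contra hu
    obtain ⟨w, hw⟩ := exists_herm_ne hu
    obtain ⟨y, hy, c, rfl⟩ := hgen w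
    rw [herm_add_right, herm_smul_right, h1 y hy, h2, mul_zero, add_zero] at hw
    exact hw rfl
  rw [← Nat.card_coe_set_eq, ← F4.card, ← Nat.card_eq_fintype_card]
  refine Nat.card_le_card_of_injective (fun g : X => Small.Unitary.herm (g.1 y0 + y0) y0) ?_
  intro g g' e
  dsimp only at e
  have h0 : (g.1 y0 + y0) + (g'.1 y0 + y0) = 0 := key _
    (fun y hy => by rw [herm_add_left, hd _ g.2 y hy, hd _ g'.2 y hy, add_zero])
    (by rw [herm_add_left, e, CharTwo.add_self_eq_zero])
  have e1 : g.1 y0 = g'.1 y0 := add_right_cancel (add_cancel' h0)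
  refine Subtype.ext (Equiv.ext fun x => ?_)
  obtain ⟨y, hy, c, rfl⟩ := hgen x
  rw [(hL _ g.2).add, (hL _ g'.2).add, (hL _ g.2).smul, (hL _ g'.2).smul, hfix _ g.2 y hy, hfix _ g'.2 y hy, e1]

end Cfsg.Agent.Spor.CHZ
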