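import Cfsg.Agent.Lib.Spor.CHZ.Outside
import Cfsg.Agent.Lib.Spor.CHZ.TwoTv
import Cfsg.Agent.Lib.Spor.CHZ.Auto

/-!
With linear actions a conjugate outside the subgroup acts as a transvection, is unchanged by the vectors
orthogonal to its centre and is not conjugate to its product with the central involution.
-/

set_option autoImplicit false
set_option maxRecDepth 100000
set_option linter.unusedSectionVars false

namespace Cfsg.Agent.Spor.CHZ

open Cfsg.Agent.Spor.SpFour Cfsg.Agent.Small.Unitary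

universe w

/-- linear isometries fixing a totally isotropic space of order 16: at most 16 -/
theorem card_line {X : Set (Equiv.Perm V)} (hL : ∀ g ∈ X, Lin g) {a : L}
    (hfix : ∀ g ∈ X, g (sp a v0) = sp a v0 ∧ g (sp a w0) = sp a w0) : X.ncard ≤ 16 := by
  classical
  let Y : Set (Equiv.Perm V) := (fun g => sp a⁻¹ * g * sp a) '' X
  have hY : X.ncard = Y.ncard := (Set.ncard_image_of_injective _ fun g g' e => by simpa using e).symm
  have hYp : ∀ g ∈ Y, Lin g ∧ g v0 = v0 ∧ g w0 = w0 := by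
    rintro _ ⟨g, hg, rfl⟩
    obtain ⟨e1, e2⟩ := hfix g hg
    refine ⟨((sp_lin _).mul (hL g hg)).mul (sp_lin a), ?_, ?_⟩ <;>
      simp [map_inv, e1, e2]
  let y1 : V := ![F4.w, F4.v, 0, 0]
  let y2 : V := ![0, 0, F4.w, F4.v]
  let f : Y → Bool × Bool × F4 := fun g => (decide (herm y1 (g.1 y1 + y1) = 0),
    decide (herm y2 (g.1 y2 + y2) = 0), herm y1 (g.1 y2 + y2))
  have hinj : Function.Injective f := by
    rintro ⟨g, hg⟩ ⟨g', hg'⟩ e
    obtain ⟨hgl, hg1, hg2⟩ := hYp g hg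
    obtain ⟨hgl', hg1', hg2'⟩ := hYp g' hg'
    simp only [f, Prod.mk.injEq, decide_eq_decide] at e
    obtain ⟨ea, eb, ec⟩ := e
    have hperp : ∀ {k : Equiv.Perm V}, Lin k → k v0 = v0 → k w0 = w0 → ∀ y, herm (k y + y) v0 = 0 ∧
        herm (k y + y) w0 = 0 := fun hk h1 h2 y => ⟨hk.herm_image_fix h1 y, hk.herm_image_fix h2 y⟩
    have hsub : ∀ v : V, herm v v0 = 0 → herm v w0 = 0 → ∀ v' : V, herm v' v0 = 0 → herm v' w0 = 0 →
        herm v v' = 0 := by
      have key : ∀ v : V, herm v v0 = 0 → herm v w0 = 0 → v ∈ line0 := by decide +kernel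
      have key2 : ∀ v ∈ line0, ∀ v' ∈ line0, herm v v' = 0 := by decide +kernel
      exact fun v h1 h2 v' h3 h4 => key2 v (key v h1 h2) v' (key v' h3 h4)
    have key : ∀ {k : Equiv.Perm V}, Lin k → k v0 = v0 → k w0 = w0 → ∀ y y',
        herm y (k y' + y') = star (herm y' (k y + y)) := by
      intro k hk h1 h2 y y'
      have h := hk.herm y y'
      obtain ⟨u, hu⟩ : ∃ u, u = k y + y := ⟨_, rfl⟩
      obtain ⟨u', hu'⟩ : ∃ u', u' = k y' + y' := ⟨_, rfl⟩
      have e1 : k y = u + y := by rw [hu, add_assoc, add_self, add_zero]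
      have e2 : k y' = u' + y' := by rw [hu', add_assoc, add_self, add_zero]
      rw [← hu, ← hu']
      have hp := hperp hk h1 h2 y
      have hp' := hperp hk h1 h2 y'
      rw [← hu] at hp
      rw [← hu'] at hp'
      rw [e1, e2, herm_add_left, herm_add_right, herm_add_right, hsub _ hp.1 hp.2 _ hp'.1 hp'.2,
        zero_add] at h
      rw [star_herm]
      exact (CharTwo.add_eq_zero.mp (show herm u y' + herm y u' = 0 by linear_combination h)).symm
    have real : ∀ {k : Equiv.Perm V}, Lin k → k v0 = v0 → k w0 = w0 → ∀ y,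
        herm y (k y + y) = 0 ∨ herm y (k y + y) = 1 :=
      fun hk h1 h2 y => F4_fixed _ (key hk h1 h2 y y).symm
    have two : ∀ {a b : F4}, (a = 0 ∨ a = 1) → (b = 0 ∨ b = 1) → (a = 0 ↔ b = 0) → a = b := by decide +kernel
    have e11 : herm y1 (g y1 + y1) = herm y1 (g' y1 + y1) := two (real hgl hg1 hg2 _) (real hgl' hg1' hg2' _) ea
    have e22 : herm y2 (g y2 + y2) = herm y2 (g' y2 + y2) := two (real hgl hg1 hg2 _) (real hgl' hg1' hg2' _) eb
    have e21 : herm y2 (g y1 + y1) = herm y2 (g' y1 + y1) := by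
      rw [key hgl hg1 hg2 y2 y1, key hgl' hg1' hg2' y2 y1, ec]
    have hdet : ∀ v : V, herm v v0 = 0 → herm v w0 = 0 → herm y1 v = 0 → herm y2 v = 0 → v = 0 := by
      decide +kernel
    have heq : ∀ y, herm y1 (g y + y) = herm y1 (g' y + y) → herm y2 (g y + y) = herm y2 (g' y + y) →
        g y = g' y := by
      intro y h1 h2
      have h0 := hdet ((g y + y) + (g' y + y))
        (by rw [herm_add_left, (hperp hgl hg1 hg2 y).1, (hperp hgl' hg1' hg2' y).1, add_zero])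
        (by rw [herm_add_left, (hperp hgl hg1 hg2 y).2, (hperp hgl' hg1' hg2' y).2, add_zero])
        (by rw [herm_add_right, h1, CharTwo.add_self_eq_zero])
        (by rw [herm_add_right, h2, CharTwo.add_self_eq_zero])
      exact add_right_cancel (add_cancel' h0)
    have hbasis : ∀ v : V, v = herm y1 v • v0 + herm v0 v • y1 + herm y2 v • w0 + herm w0 v • y2 := by
      decide +kernel
    refine Subtype.ext (Equiv.ext fun v => ?_)
    rw [hbasis v]
    simp only [hgl.add, hgl.smul, hgl'.add, hgl'.smul, hg1, hg2, hg1', hg2', heq y1 e11 e21, heq y2 ec e22]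
  have h := Nat.card_le_card_of_injective f hinj
  rw [Nat.card_coe_set_eq, Nat.card_eq_fintype_card] at h
  simp only [Fintype.card_prod, Fintype.card_bool, F4.card] at h
  omega

namespace Two

variable {G : Type w} [Group G] [Finite G] {z t : G} {S : Setup z} {T : Setup t} (P : Two S T)
  (hl : Lin (S.π t)) (hlz : Lin (T.π z))
include P hlz

/-- the image of the other centraliser -/
theorem image_large {n : ℕ} (hn : Nat.card ↥(S.Q ⊓ T.Q) ≤ n) :
    32 ≤ n * (S.π '' (T.CQ z : Set G)).ncard := by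
  have h32 := P.symm.card_CQ_ge hlz
  let φ : ↥(T.CQ z) →* Equiv.Perm V := MonoidHom.mk' (fun r => S.π r)
    fun a b => S.π_mul _ _ (T.mem_CQ.mp a.2).2 (T.mem_CQ.mp b.2).2
  have hk : Nat.card φ.ker ≤ n := le_trans (Nat.card_le_card_of_injective
    (fun r => (⟨r.1.1, (S.π_iff _ (T.mem_CQ.mp r.1.2).2).mp r.2, (T.mem_CQ.mp r.1.2).1⟩ : ↥(S.Q ⊓ T.Q)))
    fun a b e => Subtype.ext (Subtype.ext (congrArg Subtype.val e :))) hn
  have hr : Nat.card φ.range = (S.π '' (T.CQ z : Set G)).ncard := by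
    rw [← Nat.card_coe_set_eq]
    refine Nat.card_congr (Equiv.setCongr (Set.ext fun x => ⟨?_, ?_⟩))
    · rintro ⟨r, rfl⟩; exact ⟨r, r.2, rfl⟩
    · rintro ⟨r, hr, rfl⟩; exact ⟨⟨r, hr⟩, rfl⟩
  have h := φ.ker.card_mul_index
  rw [Subgroup.index_ker, hr] at h
  nlinarith

include hl

/-- the involution is no product of two transvections -/
theorem not_sixteen (h16 : (fixS (S.π t)).ncard = 16)
    (hrange : (Set.range fun x => S.π t x + x) = fixS (S.π t)) : False := by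
  have hpre : ∀ v, S.π t v = v → ∃ q ∈ S.CQ t, S.ν q = v := fun v hv => by
    obtain ⟨q, hq, rfl⟩ := S.ν_surj v
    exact ⟨q, S.mem_CQ.mpr ⟨hq, P.sixteen_comm hl hrange hq hv⟩, rfl⟩
  obtain ⟨a, ha⟩ := exists_frame hl P.sq h16
  have hfa : ∀ v, tau0 v = v → S.π t (sp a v) = sp a v := fun v hv => by rw [ha, hv]
  have h0fix : tau0 v0 = v0 ∧ tau0 w0 = w0 := by decide +kernel
  -- the meet is trivial
  suffices hD : ∀ d ∈ S.Q ⊓ T.Q, d = 1 by
    have hb : S.Q ⊓ T.Q = ⊥ := (Subgroup.eq_bot_iff_forall _).mpr hD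
    have h := P.image_large hlz (n := 1) (by rw [hb]; simp)
    have hcomm : ∀ g ∈ S.π '' (T.CQ z : Set G), ∀ v, S.π t v = v → g v = v := by
      rintro _ ⟨r, hr, rfl⟩ v hv
      obtain ⟨y, hy, rfl⟩ := hpre v hv
      obtain ⟨d, hd, hdv⟩ := P.moves hy hr
      rw [hD d hd, S.ν_one] at hdv
      exact add_cancel' hdv
    have := card_line (X := S.π '' (T.CQ z : Set G)) (a := a) (fun g hg => by
        obtain ⟨r, hr, rfl⟩ := id hg
        refine auto_lin (S.π_semi r (T.mem_CQ.mp hr).2) (H := fixS (S.π t)) (fun x hx y hy => ?_)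
          (fun c x hx => ?_) (n := 16) (m := 16) (le_of_eq h16) (by norm_num) ?_
        · show S.π t (x + y) = x + y
          rw [hl.add, show S.π t x = x from hx, show S.π t y = y from hy]
        · show S.π t (c • x) = c • x
          rw [hl.smul, show S.π t x = x from hx]
        · rw [show fixS (S.π t) ∩ fixS (S.π r) = fixS (S.π t) from Set.inter_eq_left.mpr fun x hx => hcomm _ hg x hx, h16])
      fun g hg => ⟨hcomm g hg _ (hfa _ h0fix.1), hcomm g hg _ (hfa _ h0fix.2)⟩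
    omega
  by_cases hfull : IsConj z (t * z)
  · intro d hd
    obtain ⟨y, hy⟩ : S.ν d ∈ Set.range fun x => S.π t x + x := hrange ▸ P.meet_fix hd
    exact P.full_meet hfull hd hy.symm
  -- invariance
  have hinv : ∀ g : L, (∀ x, S.π t (sp g x) = sp g (S.π t x)) →
      ∀ d ∈ S.Q ⊓ T.Q, ∃ d' ∈ S.Q ⊓ T.Q, S.ν d' = sp g (S.ν d) := by
    intro g hg d hd
    obtain ⟨c, hc, hcg⟩ := S.π_surj g
    have hct : Commute (c * t * c⁻¹) z := (hc.mul_left P.comm).mul_left hc.inv_left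
    have hπ : S.π (c * t * c⁻¹) = S.π t := by
      rw [S.π_mul _ _ (hc.mul_left P.comm) hc.inv_left, S.π_mul _ _ hc P.comm, S.π_inv hc, hcg, mul_inv_eq_iff_eq_mul]
      exact Equiv.ext fun x => (hg x).symm
    obtain ⟨q, hq, hqe⟩ : ∃ q ∈ S.Q, c * t * c⁻¹ = t * q := by
      refine ⟨t⁻¹ * (c * t * c⁻¹), (S.π_iff _ (P.comm.inv_left.mul_left hct)).mp ?_, by group⟩
      rw [S.π_mul _ _ P.comm.inv_left hct, hπ, S.π_inv P.comm, inv_mul_cancel]
    have hinv2 : t * q * (t * q) = 1 := by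
      rw [← hqe, show c * t * c⁻¹ * (c * t * c⁻¹) = c * (t * t) * c⁻¹ by group, T.z2]; group
    have hqfix : S.π t (S.ν q) = S.ν q := by
      have h1 : t * q * t⁻¹ = q⁻¹ := by
        rw [T.z_inv]
        exact eq_inv_of_mul_eq_one_left (by rw [mul_assoc]; exact hinv2)
      rw [← S.ν_act t P.comm q hq, h1, S.ν_inv hq]
    obtain ⟨y, hy⟩ : S.ν q ∈ Set.range fun x => S.π t x + x := hrange ▸ hqfix
    obtain ⟨p, hp, rfl⟩ := S.ν_surj y
    obtain ⟨hx, hxν, -⟩ := P.comm_conj hp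
    have hcase : q = t * p * t * p⁻¹ := by
      refine (S.ν_eq hq hx (hy.symm.trans hxν.symm)).resolve_right fun e => hfull ?_
      have h1 : IsConj z (t * q) := P.conj.trans (isConj_iff.mpr ⟨c, hqe⟩)
      refine h1.trans (isConj_iff.mpr ⟨p⁻¹, ?_⟩)
      rw [e, show t * (t * p * t * p⁻¹ * z) = t * t * (p * t * (p⁻¹ * z)) by group, T.z2, one_mul,
        ((S.cent p hp).inv_left).eq]
      group
    obtain ⟨c', hc'⟩ : ∃ c', c' = p⁻¹ * c := ⟨_, rfl⟩
    have hc'z : Commute c' z := hc' ▸ (S.cent p hp).inv_left.mul_left hc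
    have hc't : Commute c' t := by
      refine mul_inv_eq_iff_eq_mul.mp ?_
      rw [hc', show p⁻¹ * c * t * (p⁻¹ * c)⁻¹ = p⁻¹ * (c * t * c⁻¹) * p by group, hqe, hcase,
        show p⁻¹ * (t * (t * p * t * p⁻¹)) * p = p⁻¹ * (t * t) * p * t by group, T.z2]
      group
    refine ⟨c' * d * c'⁻¹, ⟨S.normal c' hc'z d hd.1, T.normal c' hc't d hd.2⟩, ?_⟩
    rw [S.ν_act c' hc'z d hd.1, hc', S.π_mul _ _ (S.cent p hp).inv_left hc,
      (S.π_iff _ (S.cent p hp).inv_left).mpr (S.Q.inv_mem hp), one_mul, hcg]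
  have hconj : ∀ (g0 : L) (f : V → V), (∀ x, sp g0 x = f x) → (∀ x, f (tau0 x) = tau0 (f x)) →
      ∀ d ∈ S.Q ⊓ T.Q, ∀ w, S.ν d = sp a w → ∃ d' ∈ S.Q ⊓ T.Q, S.ν d' = sp a (f w) := by
    intro g0 f hf hfc d hd w hw
    have hg : ∀ x, S.π t (sp (a * g0 * a⁻¹) x) = sp (a * g0 * a⁻¹) (S.π t x) := by
      intro x
      obtain ⟨x', rfl⟩ := (sp a).surjective x
      simp only [map_mul, map_inv, Equiv.Perm.mul_apply, Equiv.Perm.inv_def, Equiv.symm_apply_apply, ha, hf, hfc]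
    obtain ⟨d', hd', he⟩ := hinv _ hg d hd
    exact ⟨d', hd', by rw [he, hw, ← hf]; simp [map_mul, map_inv]⟩
  intro d hd
  by_contra hd1
  have hinj : ∀ e ∈ S.Q ⊓ T.Q, ∀ e' ∈ S.Q ⊓ T.Q, S.ν e = S.ν e' → e = e' := fun e he e' he' h =>
    (S.ν_eq he.1 he'.1 h).resolve_right fun hz => P.meet_z (by
      have := (S.Q ⊓ T.Q).mul_mem ((S.Q ⊓ T.Q).inv_mem he') he
      simpa [hz] using this)
  obtain ⟨w, hwl, hw⟩ : ∃ w ∈ line0, S.ν d = sp a w := by
    obtain ⟨w, hw⟩ := (sp a).surjective (S.ν d)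
    refine ⟨w, line0_ok w ((sp a).injective ?_), hw.symm⟩
    rw [← ha, hw, P.meet_fix hd]
  have hw0 : w ≠ 0 := fun e => hd1 (hinj d hd 1 (S.Q ⊓ T.Q).one_mem
    (by rw [hw, e, Semi.zero (Or.inl (sp_lin a)), S.ν_one]))
  obtain ⟨d2, hd2, he2⟩ := hconj rotL rot sp_rot rot_comm d hd w hw
  have hne : rot w ≠ w := fun e => hw0 (rot_moves w hwl e)
  have hd2d : d2 ≠ d := fun e => hne ((sp a).injective (by rw [← he2, e, hw]))
  have hl2 : rot w ∈ line0 := line0_ok _ (by rw [← rot_comm]; exact congrArg rot ((sp a).injective (by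
    rw [← ha, ← hw, P.meet_fix hd])))
  obtain ⟨y, hy⟩ : ∃ y, y ∈ pre0 w := List.exists_mem_of_ne_nil _ (pre0_ok w hwl)
  have hy' : tau0 y + y = w := by
    simp only [pre0, List.mem_flatMap, List.mem_filter, decide_eq_true_eq] at hy
    obtain ⟨-, -, -, h⟩ := hy
    exact h
  have he2' : d2 ≠ 1 := fun e => hne (by
    have : S.ν d2 = 0 := by rw [e, S.ν_one]
    rw [he2] at this
    have h0 := (sp a).injective (this.trans (Semi.zero (Or.inl (sp_lin a))).symm)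
    have hz : ∀ v : V, rot v = 0 → v = 0 := by decide +kernel
    exact absurd (hz w h0) hw0)
  -- only four elements
  have prodrel : ∀ e1 ∈ S.Q ⊓ T.Q, ∀ e2 ∈ S.Q ⊓ T.Q, e1 ≠ 1 → e2 ≠ 1 → e1 * e2 ≠ 1 →
      ∀ y, S.ν e1 = S.π t y + y → B y (S.ν e2) ≠ 0 := by
    intro e1 h1 e2 h2 n1 n2 n12 y hy hB
    obtain ⟨y1, hy1, rfl⟩ := S.ν_surj y
    obtain ⟨y2', hy2'⟩ : S.ν e2 ∈ Set.range fun x => S.π t x + x := hrange ▸ P.meet_fix h2
    obtain ⟨y2, hy2, rfl⟩ := S.ν_surj y2'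
    obtain ⟨hx1, hn1, hc1⟩ := P.comm_conj hy1
    obtain ⟨hx2, hn2, hc2⟩ := P.comm_conj hy2
    obtain ⟨hx12, hn12, hc12⟩ := P.comm_conj (S.Q.mul_mem hy1 hy2)
    have sel : ∀ {e x}, e ∈ S.Q ⊓ T.Q → e ≠ 1 → x ∈ S.Q → IsConj z (t * x) → S.ν e = S.ν x → e = x * z :=
      fun he hne hx hc h => (S.ν_eq he.1 hx h).resolve_left fun e' => P.meet_not_conj he hne (e' ▸ hc)
    have f1 := sel h1 n1 hx1 hc1 (hy.trans hn1.symm)
    have f2 := sel h2 n2 hx2 hc2 (hy2'.symm.trans hn2.symm)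
    have f12 := sel ((S.Q ⊓ T.Q).mul_mem h1 h2) n12 hx12 hc12 (by
      rw [hn12, S.ν_mul y1 hy1 y2 hy2, S.ν_mul e1 h1.1 e2 h2.1, hy, ← hy2', hl.add]
      abel)
    have hcm : Commute y1 (t * y2 * t * y2⁻¹) := (S.ν_comm y1 hy1 _ hx2).mpr (by
      rw [hn2]; exact (show S.π t (S.ν y2) + S.ν y2 = S.ν e2 from hy2') ▸ hB)
    have key : t * (y1 * y2) * t * (y1 * y2)⁻¹ = (t * y1 * t * y1⁻¹) * (t * y2 * t * y2⁻¹) := by
      have hid : t * y1 * t * y1⁻¹ * (y1 * (t * y2 * t * y2⁻¹) * y1⁻¹) =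
          t * (y1 * ((t * t) * y2) * t * (y1 * y2)⁻¹) := by group
      rw [T.z2, one_mul, hcm.eq, mul_inv_cancel_right] at hid
      rw [hid]; group
    refine S.z1 ?_
    rw [key, f1, f2] at f12
    rw [show t * y1 * t * y1⁻¹ * z * (t * y2 * t * y2⁻¹ * z) =
        t * y1 * t * y1⁻¹ * (z * (t * y2 * t * y2⁻¹)) * z by group, (S.cent _ hx2).symm.eq,
      show t * y1 * t * y1⁻¹ * (t * y2 * t * y2⁻¹ * z) * z =
        t * y1 * t * y1⁻¹ * (t * y2 * t * y2⁻¹) * (z * z) by group, S.z2, mul_one] at f12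
    exact left_eq_mul.mp f12
  have hνw : S.ν d = S.π t (sp a y) + sp a y := by rw [ha, ← (sp_lin a).add, hy', hw]
  have hd12 : d * d2 ≠ 1 := fun e => hd2d (hinj d2 hd2 d hd (by
    rw [show d2 = d⁻¹ from eq_inv_of_mul_eq_one_right e, S.ν_inv hd.1]))
  have hB : B y (rot w) ≠ 0 := by
    have h := prodrel d hd d2 hd2 hd1 he2' hd12 _ hνw
    rwa [he2, Semi.B (Or.inl (sp_lin a))] at h
  refine no_plane w hwl (rot w) hl2 y hy hw0 (fun e => he2' (hinj d2 hd2 1 (S.Q ⊓ T.Q).one_mem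
    (by rw [he2, e, Semi.zero (Or.inl (sp_lin a)), S.ν_one]))) hne.symm hB ?_
  have hmem : ∀ e ∈ S.Q ⊓ T.Q, ∀ v, S.ν e = sp a v → v ≠ 0 → v ∈ [w, rot w, w + rot w] := by
    intro e he v hv hv0
    by_contra hv'
    simp only [List.mem_cons, List.not_mem_nil, or_false, not_or] at hv'
    have hen : ∀ {e : G} {v : V}, e ∈ S.Q ⊓ T.Q → S.ν e = sp a v → v ≠ 0 → e ≠ 1 := fun {e v} _ hv hv0 e' =>
      hv0 ((sp a).injective (by rw [← hv, e', S.ν_one, Semi.zero (Or.inl (sp_lin a))]))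
    have h12 : S.ν (d2 * e) = sp a (rot w + v) := by rw [S.ν_mul _ hd2.1 _ he.1, he2, hv, (sp_lin a).add]
    have h2v : rot w + v ≠ 0 := fun e' => hv'.2.1 (add_cancel' e').symm
    have a1 := prodrel d hd e he hd1 (hen he hv hv0) (hen ((S.Q ⊓ T.Q).mul_mem hd he) (v := w + v)
      (by rw [S.ν_mul _ hd.1 _ he.1, hw, hv, (sp_lin a).add]) fun e' => hv'.1 (add_cancel' e').symm) _ hνw
    have a2 := prodrel d hd (d2 * e) ((S.Q ⊓ T.Q).mul_mem hd2 he) hd1 (hen ((S.Q ⊓ T.Q).mul_mem hd2 he) h12 h2v)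
      (hen ((S.Q ⊓ T.Q).mul_mem hd ((S.Q ⊓ T.Q).mul_mem hd2 he)) (v := w + (rot w + v))
        (by rw [S.ν_mul _ hd.1 _ (S.Q.mul_mem hd2.1 he.1), h12, hw, ← (sp_lin a).add]) fun e' =>
          hv'.2.2 (by rw [← add_assoc] at e'; exact (add_cancel' e').symm)) _ hνw
    rw [hv, Semi.B (Or.inl (sp_lin a))] at a1
    rw [h12, Semi.B (Or.inl (sp_lin a)), B_add_right] at a2
    have real : ∀ a b : V, B a b = 0 ∨ B a b = 1 := fun a b =>
      F4_fixed _ (by rw [B_eq, star_add, star_star, add_comm])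
    rw [(real _ _).resolve_left hB, (real _ _).resolve_left a1, CharTwo.add_self_eq_zero] at a2
    exact a2 rfl
  have hz : ∀ v : V, (rot v = 0 → v = 0) ∧ (swp v = 0 → v = 0) := by decide +kernel
  have hr0 : rot w ≠ 0 := fun e => hw0 ((hz w).1 e)
  obtain ⟨f1, h1, g1⟩ := hconj rotL rot sp_rot rot_comm d hd w hw
  obtain ⟨f2, h2, g2⟩ := hconj rotL rot sp_rot rot_comm d2 hd2 _ he2
  obtain ⟨f3, h3, g3⟩ := hconj swpL swp sp_swp swp_comm d hd w hw
  obtain ⟨f4, h4, g4⟩ := hconj swpL swp sp_swp swp_comm d2 hd2 _ he2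
  exact ⟨hmem f1 h1 _ g1 hr0, hmem f2 h2 _ g2 fun e => hr0 ((hz _).1 e),
    hmem f3 h3 _ g3 fun e => hw0 ((hz _).2 e), hmem f4 h4 _ g4 fun e => hr0 ((hz _).2 e)⟩

end Two

end Cfsg.Agent.Spor.CHZ
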