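import Cfsg.Agent.Lib.Spor.CHZ.Residue

/-!
Lines of five members and the products of two neighbours.
-/

set_option autoImplicit false
set_option maxRecDepth 100000
set_option linter.unusedSectionVars false

namespace Cfsg.Agent.Spor.CHZ

open Cfsg.Agent.Spor.SpFour Cfsg.Agent.Small.Unitary

universe w

theorem tv_same {u u' : V} {c : F4} (hc : c ≠ 0) (e : u' = c • u) (v : V) :
    herm u' v • u' = herm u v • u := by
  rw [e, herm_smul_left, smul_smul, mul_right_comm, (by decide +kernel : ∀ c : F4, c ≠ 0 → star c * c = 1) c hc,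
    one_mul]

/-- singular vectors orthogonal to one point span enough to tell it from the others -/
theorem exists_perp_not {u u' : V} (hu : u ≠ 0) (huu : herm u u = 0) (hne : ∀ c : F4, u' ≠ c • u) :
    ∃ w, w ≠ 0 ∧ herm w w = 0 ∧ herm w u = 0 ∧ herm w u' ≠ 0 := by
  obtain ⟨a, ha⟩ := exists_move v0_ok.1 v0_ok.2 hu huu
  have key : ∀ x : V, (centres.any fun w => decide (herm w x ≠ 0)) = true ∨
      [F4.o, F4.i, F4.w, F4.v].any (fun c => decide (x = c • v0)) = true := by decide +kernel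
  obtain ⟨x, hx⟩ := (sp a).surjective u'
  rcases key x with h | h
  · simp only [List.any_eq_true, decide_eq_true_eq] at h
    obtain ⟨w, hw, hwx⟩ := h
    have hc := List.all_eq_true.mp centres_ok w hw
    rw [decide_eq_true_eq] at hc
    have hw0 : w ≠ 0 := fun e => hwx (by rw [e, herm_zero_left])
    exact ⟨sp a w, fun e => hw0 ((sp a).injective (e.trans (Semi.zero (Or.inl (sp_lin a))).symm)),
      by rw [(sp_lin a).herm]; exact hc.1, by rw [← ha, (sp_lin a).herm]; exact hc.2,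
      by rw [← hx, (sp_lin a).herm]; exact hwx⟩
  · simp only [List.any_eq_true, decide_eq_true_eq] at h
    obtain ⟨c, -, rfl⟩ := h
    exact absurd (by rw [← hx, (sp_lin a).smul, ha]) (hne c)

/-- the members commuting with everything which commutes with both -/
def line {G : Type w} [Group G] (D : Set G) (x y : G) : Set G :=
  {w | w ∈ D ∧ ∀ v ∈ D, Commute v x → Commute v y → Commute v w}

theorem line_symm {G : Type w} [Group G] (D : Set G) (x y : G) : line D x y = line D y x :=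
  Set.ext fun _ => ⟨fun h => ⟨h.1, fun v hv a b => h.2 v hv b a⟩, fun h => ⟨h.1, fun v hv a b => h.2 v hv b a⟩⟩

variable {G : Type w} [Group G] [Finite G] {D : Set G} (L : Loc D)
include L

theorem Loc.sq {x : G} (hx : x ∈ D) : x * x = 1 := by
  obtain ⟨T, -⟩ := L.str x hx
  exact T.z2

theorem Loc.inv {x : G} (hx : x ∈ D) : x⁻¹ = x := inv_eq_of_mul_eq_one_right (L.sq hx)

variable {z : G} (hz : z ∈ D) {S : Setup z} (hS : Full S)
include hz hS

theorem act_eq_iff {t : G} (ht : t ∈ nb D z) {u : V} (hu : Pt S t u) {t' : G} (ht' : t' ∈ nb D z) {u' : V}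
    (hu' : Pt S t' u') : S.π t' = S.π t ↔ ∃ c : F4, u' = c • u := by
  constructor
  · intro e
    exact tv_unique hu'.ne fun v => add_left_cancel
      ((hu'.act v).symm.trans ((congrArg (fun f => f v) e).trans (hu.act v)))
  · rintro ⟨c, e⟩
    have hc : c ≠ 0 := fun h => hu'.ne (by rw [e, h, zero_smul])
    exact Equiv.ext fun v => by rw [hu.act, hu'.act, tv_same hc e]

/-- a member commuting with the one neighbour and not with the other -/
theorem exists_sep {t : G} (ht : t ∈ nb D z) {t' : G} (ht' : t' ∈ nb D z) (hne : S.π t' ≠ S.π t) :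
    ∃ w ∈ nb D z, Commute w t ∧ ¬ Commute w t' := by
  obtain ⟨u, hu⟩ := point L hz hS ht
  obtain ⟨u', hu'⟩ := point L hz hS ht'
  obtain ⟨w, hw0, hww, hwu, hwu'⟩ := exists_perp_not hu.ne hu.iso (u' := u') fun c e =>
    hne ((act_eq_iff L hz hS ht hu ht' hu').mpr ⟨c, e⟩)
  obtain ⟨m, hm, hmw⟩ := exists_over L hz hS hw0 hww
  exact ⟨m, hm, (commute_iff L hz hS hm hmw ht hu).mpr hwu,
    fun h => hwu' ((commute_iff L hz hS hm hmw ht' hu').mp h)⟩

theorem mem_line_iff {y : G} (hy : y ∈ nb D z) {w : G} :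
    w ∈ line D z y ↔ w = z ∨ (w ∈ nb D z ∧ S.π w = S.π y) := by
  constructor
  · intro h
    by_cases hwz : w = z
    · exact Or.inl hwz
    have hc : Commute z w := h.2 z hz (Commute.refl z) hy.2.2.symm
    have hw : w ∈ nb D z := ⟨h.1, hwz, hc.symm⟩
    refine Or.inr ⟨hw, ?_⟩
    by_contra hne
    obtain ⟨v, hv, hvy, hvw⟩ := exists_sep L hz hS hy hw hne
    exact hvw (h.2 v hv.1 hv.2.2 hvy)
  · rintro (rfl | ⟨hw, he⟩)
    · exact ⟨hz, fun v _ h _ => h⟩
    refine ⟨hw.1, fun v hv hvz hvy => ?_⟩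
    by_cases hvz' : v = z
    · rw [hvz']; exact hw.2.2.symm
    obtain ⟨u, hu⟩ := point L hz hS hy
    have hu' : Pt S w u := ⟨hu.ne, hu.iso, fun x => by rw [he]; exact hu.act x⟩
    obtain ⟨p, hp⟩ := point L hz hS (t := v) ⟨hv, hvz', hvz⟩
    exact (commute_iff L hz hS ⟨hv, hvz', hvz⟩ hp hw hu').mpr
      ((commute_iff L hz hS ⟨hv, hvz', hvz⟩ hp hy hu).mp hvy)

/-- the members over a point -/
theorem card_over {t : G} (ht : t ∈ nb D z) : {w | w ∈ nb D z ∧ S.π w = S.π t}.ncard = 4 := by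
  classical
  obtain ⟨u, hu⟩ := point L hz hS ht
  have hti := L.inv ht.1
  have ht2 := L.sq ht.1
  obtain ⟨x0, hx0⟩ := exists_herm_val hu.ne 1
  choose y hy hyν using fun c : F4 => S.ν_surj (c • x0)
  have hzc : ∀ c, y c * z * (y c)⁻¹ = z := fun c => mul_inv_eq_iff_eq_mul.mpr (S.cent _ (hy c)).eq
  let F : F4 → ↥{w | w ∈ nb D z ∧ S.π w = S.π t} := fun c => ⟨y c * t * (y c)⁻¹,
    ⟨L.conj _ t ht.1, fun e => ht.2.1 ((MulAut.conj (y c)).injective (e.trans (hzc c).symm)),
      ((S.cent _ (hy c)).mul_left ht.2.2).mul_left (S.cent _ (hy c)).inv_left⟩, by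
    rw [S.π_mul _ _ ((S.cent _ (hy c)).mul_left ht.2.2) (S.cent _ (hy c)).inv_left,
      S.π_mul _ _ (S.cent _ (hy c)) ht.2.2, (S.π_iff _ (S.cent _ (hy c))).mpr (hy c),
      (S.π_iff _ (S.cent _ (hy c)).inv_left).mpr (S.Q.inv_mem (hy c)), one_mul, mul_one]⟩
  have hν : ∀ p ∈ S.Q, S.ν (t * p * t * p⁻¹) = herm u (S.ν p) • u := fun p hp => by
    have h := S.ν_act t ht.2.2 p hp
    have h1 := S.normal t ht.2.2 p hp
    rw [hti] at h h1
    rw [S.ν_mul _ h1 _ (S.Q.inv_mem hp), S.ν_inv hp, h, hu.act, add_comm (S.ν p), add_assoc, add_self, add_zero]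
  have hb : Function.Bijective F := by
    constructor
    · intro c c' e
      have e' : y c * t * (y c)⁻¹ = y c' * t * (y c')⁻¹ := congrArg Subtype.val e
      have e2 : t * y c * t * (y c)⁻¹ = t * y c' * t * (y c')⁻¹ := by
        calc _ = t * (y c * t * (y c)⁻¹) := by group
          _ = t * (y c' * t * (y c')⁻¹) := by rw [e']
          _ = _ := by group
      have h := congrArg S.ν e2
      rw [hν _ (hy c), hν _ (hy c'), hyν, hyν, herm_smul_right, herm_smul_right, hx0, mul_one, mul_one] at h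
      exact smul_left_injective F4 hu.ne h
    · rintro ⟨w, hw, he⟩
      obtain ⟨p, hp, e⟩ := over_same L hz hS ht hu hw he
      refine ⟨herm u (S.ν p), Subtype.ext ?_⟩
      show y _ * t * (y _)⁻¹ = w
      obtain ⟨c, hc⟩ : ∃ c, c = herm u (S.ν p) := ⟨_, rfl⟩
      rw [← hc, e]
      have hk : Commute ((y c)⁻¹ * p) t := by
        refine commutes_orth L hz hS ht hu (S.Q.mul_mem (S.Q.inv_mem (hy c)) hp) ?_
        rw [S.ν_mul _ (S.Q.inv_mem (hy c)) _ hp, S.ν_inv (hy c), herm_add_right, hyν, herm_smul_right, hx0, mul_one,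
          hc, CharTwo.add_self_eq_zero]
      calc y c * t * (y c)⁻¹ = y c * (((y c)⁻¹ * p) * t * ((y c)⁻¹ * p)⁻¹) * (y c)⁻¹ := by
            rw [hk.eq, mul_inv_cancel_right]
        _ = p * t * p⁻¹ := by group
  have h := Nat.card_eq_of_bijective F hb
  rw [Nat.card_eq_fintype_card, F4.card, Nat.card_coe_set_eq] at h
  exact h.symm

theorem line_card {y : G} (hy : y ∈ nb D z) : (line D z y).ncard = 5 := by
  have e : line D z y = {z} ∪ {w | w ∈ nb D z ∧ S.π w = S.π y} := Set.ext fun w => mem_line_iff L hz hS hy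
  have hd : Disjoint ({z} : Set G) {w | w ∈ nb D z ∧ S.π w = S.π y} :=
    Set.disjoint_singleton_left.mpr fun h => h.1.2.1 rfl
  rw [e, Set.ncard_union_eq hd, Set.ncard_singleton, card_over L hz hS hy]

/-- two neighbours which do not commute braid -/
theorem braid {t : G} (ht : t ∈ nb D z) {t' : G} (ht' : t' ∈ nb D z) (hn : ¬ Commute t t') :
    (t * t') ^ 3 = 1 := by
  obtain ⟨u, hu⟩ := point L hz hS ht
  obtain ⟨u', hu'⟩ := point L hz hS ht'
  have hne : herm u u' ≠ 0 := fun h => hn ((commute_iff L hz hS ht hu ht' hu').mpr h)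
  have hti := L.inv ht.1
  have hti' := L.inv ht'.1
  -- the two conjugates in between
  have h1 := point_conj L hz hS ht' ht.2.2 hu'
  have h2 := point_conj L hz hS ht ht'.2.2 hu
  rw [hti] at h1; rw [hti'] at h2
  have hsame : S.π (t * t' * t) = S.π (t' * t * t') := by
    refine ((act_eq_iff L hz hS h2.1 h2.2 h1.1 h1.2).mpr ⟨herm u u', ?_⟩)
    rw [hu.act, hu'.act, smul_add, smul_smul, (by decide +kernel : ∀ c : F4, c ≠ 0 → c * star c = 1) (herm u u') hne |>
      (fun e => show herm u u' * herm u' u = 1 by rw [← star_herm u u']; exact e), one_smul, add_comm]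
  obtain ⟨i, hi⟩ : ∃ i, i = (t * t') ^ 3 := ⟨_, rfl⟩
  have hiz : Commute i z := hi ▸ (ht.2.2.mul_left ht'.2.2).pow_left 3
  have hiQ : i ∈ S.Q := (S.π_iff i hiz).mp (by
    rw [hi, show (t * t') ^ 3 = t * t' * t * (t' * t * t') by simp [pow_succ, mul_assoc],
      S.π_mul _ _ h1.1.2.2 h2.1.2.2, hsame, ← S.π_mul _ _ h2.1.2.2 h2.1.2.2, L.sq h2.1.1, S.π_one])
  -- both products with it are members
  have hmem : ∀ {a b : G} {p : V}, a ∈ nb D z → Pt S a p → b ∈ nb D z → (a * b) ^ 3 ∈ S.Q →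
      ∃ c : F4, S.ν ((a * b) ^ 3) = c • p ∧ a * (a * b) ^ 3 ∈ D ∧ Commute (a * (a * b) ^ 3) z := by
    intro a b p ha hp hb hq
    have hm : a * (a * b) ^ 3 = (b * a) * b * (b * a)⁻¹ := by
      rw [mul_inv_rev, L.inv ha.1, L.inv hb.1, show a * (a * b) ^ 3 = (a * a) * (b * a * b * a * b) by
        simp [pow_succ, mul_assoc], L.sq ha.1, one_mul]
      simp [mul_assoc]
    have hD : a * (a * b) ^ 3 ∈ D := hm ▸ L.conj _ b hb.1
    have hcz : Commute (a * (a * b) ^ 3) z := ha.2.2.mul_left ((ha.2.2.mul_left hb.2.2).pow_left 3)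
    have hne : a * (a * b) ^ 3 ≠ z := fun e => by
      have h := congrArg S.π e
      rw [S.π_mul _ _ ha.2.2 ((ha.2.2.mul_left hb.2.2).pow_left 3),
        (S.π_iff _ ((ha.2.2.mul_left hb.2.2).pow_left 3)).mpr hq, mul_one,
        (S.π_iff z (Commute.refl z)).mpr S.zQ] at h
      obtain ⟨v, hv⟩ := exists_herm_val hp.ne 1
      have := congrArg (fun f => f v) h
      simp only [hp.act, hv, one_smul, Equiv.Perm.one_apply, add_eq_left] at this
      exact hp.ne this
    obtain ⟨y, hy, e⟩ := over_same L hz hS ha hp (t' := a * (a * b) ^ 3) ⟨hD, hne, hcz⟩ (by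
      rw [S.π_mul _ _ ha.2.2 ((ha.2.2.mul_left hb.2.2).pow_left 3),
        (S.π_iff _ ((ha.2.2.mul_left hb.2.2).pow_left 3)).mpr hq, mul_one])
    refine ⟨herm p (S.ν y), ?_, hD, hcz⟩
    have h1 := S.normal a ha.2.2 y hy
    have h2 := S.ν_act a ha.2.2 y hy
    rw [L.inv ha.1] at h1 h2
    have e2 : (a * b) ^ 3 = a * y * a * y⁻¹ := by
      calc (a * b) ^ 3 = a * (a * (a * b) ^ 3) := by rw [← mul_assoc, L.sq ha.1, one_mul]
        _ = _ := by rw [e]; group
    rw [e2, S.ν_mul _ h1 _ (S.Q.inv_mem hy), S.ν_inv hy, h2, hp.act, add_comm (S.ν y), add_assoc, add_self,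
      add_zero]
  obtain ⟨c, hc, hcD, hcz⟩ := hmem ht hu ht' (hi ▸ hiQ)
  have hinv : (t' * t) ^ 3 = i⁻¹ := by rw [hi, ← inv_pow, mul_inv_rev, hti, hti']
  obtain ⟨c', hc', -, -⟩ := hmem ht' hu' ht (hinv ▸ S.Q.inv_mem hiQ)
  rw [hinv, S.ν_inv hiQ, hi, hc] at hc'
  have hc0 : c = 0 := by
    have h := congrArg (fun v => herm u v) hc'
    simp only [herm_smul_right, hu.iso, mul_zero] at h
    rw [(mul_eq_zero.mp h.symm).resolve_right hne, zero_smul] at hc'
    exact (smul_eq_zero.mp hc').resolve_right hu.ne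
  rw [hc0, zero_smul] at hc
  rcases (S.ν_zero _ (hi ▸ hiQ)).mp hc with e | e
  · exact e
  · exact absurd (e ▸ hcD) (half_at L hz hS ht)

end Cfsg.Agent.Spor.CHZ
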