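import Cfsg.Agent.Lib.Spor.CHZ.Trans

/-!
The structures at all conjugates at once.
-/

set_option autoImplicit false
set_option maxRecDepth 100000
set_option linter.unusedSectionVars false

namespace Cfsg.Agent.Spor.CHZ

open Cfsg.Agent.Spor.SpFour Cfsg.Agent.Small.Unitary

universe w

namespace Setup

variable {G : Type w} [Group G] [Finite G] {z : G} (S : Setup z)
include S

theorem conj_comm_back {g c : G} (hc : Commute c (g * z * g⁻¹)) : Commute (g⁻¹ * c * g) z := by
  simpa [mul_assoc] using hc.map (MulAut.conj g⁻¹).toMonoidHom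

theorem conj_comm_to {g c : G} (hc : Commute c z) : Commute (g * c * g⁻¹) (g * z * g⁻¹) :=
  hc.map (MulAut.conj g).toMonoidHom

theorem rsize_conj (g : G) : (S.conj g).rsize = S.rsize := by
  refine Nat.card_congr (Equiv.setCongr (Set.ext fun x => ⟨?_, ?_⟩))
  · rintro ⟨c, rfl⟩
    exact ⟨⟨g⁻¹ * c * g, Subgroup.mem_centralizer_singleton_iff.mpr
      (S.conj_comm_back (Subgroup.mem_centralizer_singleton_iff.mp c.2))⟩, rfl⟩
  · rintro ⟨c, rfl⟩
    refine ⟨⟨g * c * g⁻¹, Subgroup.mem_centralizer_singleton_iff.mpr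
      (S.conj_comm_to (Subgroup.mem_centralizer_singleton_iff.mp c.2))⟩, ?_⟩
    show S.π (g⁻¹ * (g * (c : G) * g⁻¹) * g) = S.π c
    simp [mul_assoc]

theorem lin_conj (hl : ∀ c, Commute c z → Lin (S.π c)) (g : G) :
    ∀ c, Commute c (g * z * g⁻¹) → Lin ((S.conj g).π c) := fun _ hc => hl _ (S.conj_comm_back hc)

end Setup

/-- the structure at an element, with linear action and the given size -/
def LinAt {G : Type w} [Group G] (n : ℕ) (x : G) : Prop :=
  ∃ S : Setup x, (∀ c, Commute c x → Lin (S.π c)) ∧ S.rsize = n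

namespace Setup

variable {G : Type w} [Group G] [Finite G] {z : G} (S : Setup z) (hl : ∀ c, Commute c z → Lin (S.π c))
include S hl

theorem linAt {x : G} (hx : IsConj z x) : LinAt S.rsize x := by
  obtain ⟨g, rfl⟩ := isConj_iff.mp hx
  exact ⟨S.conj g, S.lin_conj hl g, S.rsize_conj g⟩

theorem noQ : NoQ S := by
  intro x hx hconj
  by_contra hne
  obtain ⟨T, hlT, hsz⟩ := S.linAt hl hconj
  exact S.both_in T hx (S.mixed T hsz.symm hx hne) hne

/-- two commuting different conjugates -/
theorem two {t : G} (T : Setup t) (hlT : ∀ c, Commute c t → Lin (T.π c)) (hconj : IsConj z t)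
    (hc : Commute t z) (hne : t ≠ z) : Two S T :=
  ⟨hc, fun h => hne (S.noQ hl t h hconj), fun h => hne (T.noQ hlT z h hconj.symm).symm, S.noQ hl,
    T.noQ hlT, hconj⟩

theorem shape {t : G} (T : Setup t) (hlT : ∀ c, Commute c t → Lin (T.π c)) (hconj : IsConj z t)
    (hc : Commute t z) (hne : t ≠ z) : ∃ u, Shape S T u :=
  (S.two hl T hlT hconj hc hne).shape (hl t hc) (hlT z hc.symm)

end Setup

end Cfsg.Agent.Spor.CHZ
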