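import Cfsg.Agent.Lib.Spor.CHZ.Recognise
import Cfsg.Agent.Lib.Spor.CHZ.Core
import Cfsg.Agent.Lib.Spor.CHZ.Isolated

/-!
The theorem when the space is the Hermitian space.
-/

set_option autoImplicit false
set_option linter.unusedSectionVars false

namespace Cfsg.Agent.Spor.CHZ

open Cfsg.Agent.Spor.SpFour Cfsg.Agent.Small.Unitary

universe w

variable {G : Type w} [Group G] [Finite G] {z : G}

theorem loc_of {S : Setup z} (hS : Full S) {y : G} (hy : IsConj z y) (hne : y ≠ z) (hc : Commute y z) :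
    Loc (conjugatesOf z) where
  conj g x hx := hx.trans (isConj_iff.mpr ⟨g, rfl⟩)
  cls x hx y hy := hx.symm.trans hy
  str x hx := by
    obtain ⟨g, rfl⟩ := isConj_iff.mp hx
    exact ⟨S.conj g, hS.conj g⟩
  nbr x hx := by
    obtain ⟨g, rfl⟩ := isConj_iff.mp hx
    exact ⟨g * y * g⁻¹, hy.trans (isConj_iff.mpr ⟨g, rfl⟩), fun e => hne ((MulAut.conj g).injective e),
      hc.map (MulAut.conj g).toMonoidHom⟩

theorem main_setup {S : Setup z} (hS : Full S) (hz : orderOf z = 2) {F : Type*} [Field F] [Fintype F]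
    (hF : Fintype.card F = 4) :
    Nonempty (G ≃* Cfsg.PSU 6 F 2) ∨ Subgroup.centralizer ({z} : Set G) ⊔ Cfsg.oddCore G = ⊤ := by
  by_cases h : ∀ g : G, Commute z (g * z * g⁻¹) → g * z * g⁻¹ = z
  · exact Or.inr (sup_eq_top_of_isolated hz h)
  push Not at h
  obtain ⟨g, hc, hne⟩ := h
  exact Or.inl (recognise (loc_of hS (isConj_iff.mpr ⟨g, rfl⟩) hne hc.symm) hS hF)

end Cfsg.Agent.Spor.CHZ
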