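import Cfsg.Agent.Lib.Spor.CHZ.Setup
import Cfsg.Agent.Lib.Spor.CHZ.Auto
import Cfsg.Agent.Lib.Spor.CHZ.HermPerp

/-!
No two commuting conjugates lie in each other's normal extraspecial subgroups, and being in the other's
is a symmetric relation.
-/

set_option autoImplicit false
set_option maxRecDepth 100000
set_option linter.unusedSectionVars false

namespace Cfsg.Agent.Spor.CHZ

open Cfsg.Agent.Spor.SpFour Cfsg.Agent.Small.Unitary

universe w

/-- the joint centraliser of two elements -/
def joint {G : Type w} [Group G] (z x : G) : Subgroup G :=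
  Subgroup.centralizer ({z} : Set G) ⊓ Subgroup.centralizer ({x} : Set G)

namespace Setup

variable {G : Type w} [Group G] [Finite G] {z t : G} (S : Setup z) (T : Setup t)
include S

/-- the centraliser of an element in the normal subgroup -/
def CQ (x : G) : Subgroup G := S.Q ⊓ Subgroup.centralizer ({x} : Set G)

theorem mem_CQ {x y : G} : y ∈ S.CQ x ↔ y ∈ S.Q ∧ Commute y x := by
  rw [CQ, Subgroup.mem_inf, Subgroup.mem_centralizer_singleton_iff]
  rfl

theorem CQ_le (x : G) : S.CQ x ≤ S.Q := inf_le_left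

/-- all the vectors are taken -/
theorem card_pre (A : Set V) : {x | x ∈ S.Q ∧ S.ν x ∈ A}.ncard = 2 * A.ncard := by
  classical
  choose s hs hsv using S.ν_surj
  let F : ↥A × Bool → ↥{x | x ∈ S.Q ∧ S.ν x ∈ A} := fun p =>
    ⟨s p.1 * (if p.2 then z else 1), S.Q.mul_mem (hs _) (by cases p.2 <;> simp [S.zQ]), by
      rw [S.ν_mul _ (hs _) _ (by cases p.2 <;> simp [S.zQ]), hsv]
      cases p.2 <;> simp [S.ν_z, S.ν_one]⟩
  have hb : Function.Bijective F := by
    constructor
    · rintro ⟨v, a⟩ ⟨v', a'⟩ e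
      have e' : s v * (if a then z else 1) = s v' * (if a' then z else 1) := congrArg Subtype.val e
      have hv : v = v' := Subtype.ext <| by
        have := congrArg S.ν e'
        rw [S.ν_mul _ (hs _) _ (by cases a <;> simp [S.zQ]), S.ν_mul _ (hs _) _ (by cases a' <;> simp [S.zQ]),
          hsv, hsv] at this
        cases a <;> cases a' <;> simpa [S.ν_z, S.ν_one] using this
      subst hv
      have e2 := mul_left_cancel e'
      cases a <;> cases a' <;> simp_all [S.z1, Ne.symm S.z1]
    · rintro ⟨x, hx, hxA⟩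
      rcases S.ν_eq hx (hs (S.ν x)) (hsv _).symm with e | e
      · exact ⟨(⟨S.ν x, hxA⟩, false), Subtype.ext (by simpa [F] using e.symm)⟩
      · exact ⟨(⟨S.ν x, hxA⟩, true), Subtype.ext (by simpa [F] using e.symm)⟩
  have := Nat.card_eq_of_bijective F hb
  rw [Nat.card_prod, Nat.card_coe_set_eq, Nat.card_coe_set_eq, Nat.card_eq_fintype_card (α := Bool),
    Fintype.card_bool] at this
  omega

theorem ν_singular {x : G} (hx : x ∈ S.Q) (hx2 : x * x = 1) : herm (S.ν x) (S.ν x) = 0 := (S.ν_sq x hx).mp hx2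

theorem ν_ne {x : G} (hx : x ∈ S.Q) (hx1 : x ≠ 1) (hxz : x ≠ z) : S.ν x ≠ 0 := fun h =>
  ((S.ν_zero x hx).mp h).elim hx1 hxz

/-- an element of the centraliser acting as given and fixing a given singular element -/
theorem exists_lift_fix {x : G} (hx : x ∈ S.Q) (hν : S.ν x ≠ 0) (g : L) (hg : sp g (S.ν x) = S.ν x) :
    ∃ c, Commute c z ∧ Commute c x ∧ S.π c = sp g := by
  obtain ⟨c, hc, hcg⟩ := S.π_surj g
  have h : S.ν (c * x * c⁻¹) = S.ν x := by rw [S.ν_act c hc x hx, hcg, hg]
  rcases S.ν_eq (S.normal c hc x hx) hx h with e | e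
  · exact ⟨c, hc, mul_inv_eq_iff_eq_mul.mp e, hcg⟩
  obtain ⟨v, hv⟩ := exists_B_ne hν
  obtain ⟨y, hy, rfl⟩ := S.ν_surj v
  have hyc : y * x * y⁻¹ = x * z := S.conj_Q_ne hx hy (by rwa [B_comm])
  refine ⟨y * c, (S.cent y hy).mul_left hc, mul_inv_eq_iff_eq_mul.mp ?_, ?_⟩
  · calc y * c * x * (y * c)⁻¹ = y * (c * x * c⁻¹) * y⁻¹ := by group
      _ = y * x * y⁻¹ * (y * z * y⁻¹) := by rw [e]; group
      _ = x := by rw [hyc, (S.cent y hy).eq, mul_inv_cancel_right, mul_assoc, S.z2, mul_one]
  · rw [S.π_mul _ _ (S.cent y hy) hc, (S.π_iff y (S.cent y hy)).mpr hy, one_mul, hcg]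

/-- the size of the image of the centraliser -/
noncomputable def rsize : ℕ := Nat.card S.πHom.range

theorem card_cent : Nat.card ↥(Subgroup.centralizer ({z} : Set G)) = 512 * S.rsize := by
  have h := S.πHom.ker.card_mul_index
  rw [Subgroup.index_ker] at h
  have hk : Nat.card S.πHom.ker = Nat.card S.Q := Nat.card_congr
    { toFun := fun c => ⟨c.1.1, (S.π_iff _ (Subgroup.mem_centralizer_singleton_iff.mp c.1.2)).mp c.2⟩
      invFun := fun q => ⟨⟨q.1, Subgroup.mem_centralizer_singleton_iff.mpr (S.cent _ q.2)⟩,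
        (S.π_iff _ (S.cent _ q.2)).mpr q.2⟩
      left_inv := fun c => rfl
      right_inv := fun q => rfl }
  rw [hk, S.card_Q] at h
  exact h.symm

theorem card_joint (x : G) : ∃ i, i ∣ S.rsize ∧ Nat.card (joint z x) = Nat.card (S.CQ x) * i := by
  let φ : ↥(joint z x) →* Equiv.Perm V := S.πHom.comp (Subgroup.inclusion inf_le_left)
  refine ⟨Nat.card φ.range, Subgroup.card_dvd_of_le (by rintro _ ⟨c, rfl⟩; exact ⟨_, rfl⟩), ?_⟩
  have h := φ.ker.card_mul_index
  rw [Subgroup.index_ker] at h
  rw [← h]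
  congr 1
  refine Nat.card_congr
    { toFun := fun c => ⟨c.1.1, S.mem_CQ.mpr
        ⟨(S.π_iff _ (Subgroup.mem_centralizer_singleton_iff.mp (Subgroup.mem_inf.mp c.1.2).1)).mp c.2,
          Subgroup.mem_centralizer_singleton_iff.mp (Subgroup.mem_inf.mp c.1.2).2⟩⟩
      invFun := fun q => ⟨⟨q.1, Subgroup.mem_inf.mpr
        ⟨Subgroup.mem_centralizer_singleton_iff.mpr (S.cent _ (S.mem_CQ.mp q.2).1),
          Subgroup.mem_centralizer_singleton_iff.mpr (S.mem_CQ.mp q.2).2⟩⟩,
        (S.π_iff _ (S.cent _ (S.mem_CQ.mp q.2).1)).mpr (S.mem_CQ.mp q.2).1⟩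
      left_inv := fun c => rfl
      right_inv := fun q => rfl }

/-- the class of a non-central involution of the normal subgroup has 270 members -/
theorem card_cent_of_mem (ht : t ∈ S.Q) (ht2 : t * t = 1) (ht1 : t ≠ 1) (htz : t ≠ z) :
    Nat.card ↥(Subgroup.centralizer ({z} : Set G)) = 270 * Nat.card (joint z t) := by
  classical
  set C := Subgroup.centralizer ({z} : Set G)
  let O : Set G := {x | x ∈ S.Q ∧ S.ν x ∈ {v : V | v ≠ 0 ∧ herm v v = 0}}
  have hO : O.ncard = 270 := by rw [S.card_pre, card_singular]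
  letI : MulAction ↥C G := MulAction.compHom G (ConjAct.toConjAct.toMonoidHom.comp C.subtype)
  have hsmul : ∀ (c : ↥C) (x : G), c • x = (c : G) * x * (c : G)⁻¹ := fun c x => rfl
  have horb : MulAction.orbit ↥C t = O := by
    ext x
    constructor
    · rintro ⟨c, rfl⟩
      have hc := Subgroup.mem_centralizer_singleton_iff.mp c.2
      show c • t ∈ O
      rw [hsmul]
      refine ⟨S.normal _ hc t ht, ?_, ?_⟩
      · refine S.ν_ne (S.normal _ hc t ht) (fun e => ht1 (conj_eq_one_iff.mp e)) fun e => htz ?_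
        have hcz : (c : G) * z * (c : G)⁻¹ = z := mul_inv_eq_iff_eq_mul.mpr hc
        exact (MulAut.conj (c : G)).injective (e.trans hcz.symm)
      · rw [S.ν_act _ hc t ht, Semi.q (S.π_semi _ hc)]
        exact S.ν_singular ht ht2
    · rintro ⟨hx, hx0, hxq⟩
      obtain ⟨g, hg⟩ := exists_move (S.ν_ne ht ht1 htz) (S.ν_singular ht ht2) hx0 hxq
      obtain ⟨c, hc, hcg⟩ := S.π_surj g
      have h : S.ν (c * t * c⁻¹) = S.ν x := by rw [S.ν_act c hc t ht, hcg, hg]
      rcases S.ν_eq (S.normal c hc t ht) hx h with e | e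
      · exact ⟨⟨c, Subgroup.mem_centralizer_singleton_iff.mpr hc⟩, e⟩
      obtain ⟨v, hv⟩ := exists_B_ne hx0
      obtain ⟨y, hy, rfl⟩ := S.ν_surj v
      refine ⟨⟨y * c, Subgroup.mem_centralizer_singleton_iff.mpr ((S.cent y hy).mul_left hc)⟩, ?_⟩
      show y * c * t * (y * c)⁻¹ = x
      calc y * c * t * (y * c)⁻¹ = y * (c * t * c⁻¹) * y⁻¹ := by group
        _ = y * x * y⁻¹ * (y * z * y⁻¹) := by rw [e]; group
        _ = x := by
          rw [S.conj_Q_ne hx hy (by rwa [B_comm]), (S.cent y hy).eq, mul_inv_cancel_right, mul_assoc, S.z2, mul_one]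
  have h1 := (MulAction.stabilizer ↥C t).card_mul_index
  rw [MulAction.index_stabilizer, horb, hO] at h1
  have h2 : Nat.card (MulAction.stabilizer ↥C t) = Nat.card (joint z t) := Nat.card_congr
    { toFun := fun c => ⟨c.1.1, Subgroup.mem_inf.mpr ⟨c.1.2,
        Subgroup.mem_centralizer_singleton_iff.mpr (mul_inv_eq_iff_eq_mul.mp ((hsmul c.1 t).symm.trans c.2))⟩⟩
      invFun := fun k => ⟨⟨k.1, (Subgroup.mem_inf.mp k.2).1⟩, (hsmul _ t).trans
        (mul_inv_eq_iff_eq_mul.mpr (Subgroup.mem_centralizer_singleton_iff.mp (Subgroup.mem_inf.mp k.2).2))⟩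
      left_inv := fun c => rfl
      right_inv := fun k => rfl }
  rw [← h2, ← h1, mul_comm]

theorem card_CQ_dvd {x : G} (hx : Commute x z) (hxQ : x ∉ S.Q) : Nat.card (S.CQ x) ∣ 128 := by
  have hzm : z ∈ S.CQ x := S.mem_CQ.mpr ⟨S.zQ, hx.symm⟩
  have hsub : S.ν '' (S.CQ x : Set G) ⊆ fixS (S.π x) := by
    rintro _ ⟨y, hy, rfl⟩
    obtain ⟨hy, hyx⟩ := S.mem_CQ.mp hy
    show S.π x (S.ν y) = S.ν y
    rw [← S.ν_act x hx y hy, hyx.symm.eq, mul_inv_cancel_right]
  have hle : (fixS (S.π x)).ncard ≤ 64 := by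
    rcases S.π_semi x hx with h | h
    · exact h.card_fix fun e => hxQ ((S.π_iff x hx).mp e)
    · exact h.card_fix.trans (by norm_num)
  have h1 := S.card_of_mem (S.CQ_le x) hzm
  have h2 := Set.ncard_le_ncard hsub
  have h3 : Nat.card (S.CQ x) ∣ 2 ^ 9 := by
    rw [show 2 ^ 9 = Nat.card S.Q by rw [S.card_Q]; norm_num]
    exact Subgroup.card_dvd_of_le (S.CQ_le x)
  obtain ⟨k, hk, hk'⟩ := (Nat.dvd_prime_pow Nat.prime_two).mp h3
  rw [hk'] at h1 ⊢
  have hk7 : k ≤ 7 := by
    by_contra hne
    have : 2 ^ 8 ≤ 2 ^ k := Nat.pow_le_pow_right (by norm_num) (by omega)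
    omega
  exact Nat.pow_dvd_pow 2 hk7

include T

omit S T in
theorem joint_symm : joint z t = joint t z := inf_comm _ _

/-- lying in the subgroup is symmetric -/
theorem mixed (hsz : S.rsize = T.rsize) (ht : t ∈ S.Q) (htz : t ≠ z) : z ∈ T.Q := by
  by_contra hz
  have hc : Commute z t := (S.cent t ht).symm
  have h270 := S.card_cent_of_mem ht T.z2 T.z1 htz
  obtain ⟨i, ⟨j, hj⟩, hi⟩ := T.card_joint z
  obtain ⟨k, hk, hk'⟩ := (Nat.dvd_prime_pow Nat.prime_two).mp (show Nat.card (T.CQ z) ∣ 2 ^ 7 from T.card_CQ_dvd hc hz)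
  rw [S.card_cent, hsz, joint_symm, hi, hk', hj] at h270
  have hi0 : 0 < i := by
    refine Nat.pos_of_ne_zero fun e => ?_
    have h0 : 0 < T.rsize := Nat.card_pos
    rw [hj, e, zero_mul] at h0
    exact lt_irrefl 0 h0
  have h : 512 * j = 270 * 2 ^ k := Nat.eq_of_mul_eq_mul_left hi0 (by linear_combination h270)
  interval_cases k <;> omega

/-- two commuting different conjugates are not in each other's subgroups -/
theorem both_in (ht : t ∈ S.Q) (hzT : z ∈ T.Q) (htz : t ≠ z) : False := by
  classical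
  obtain ⟨v, hv⟩ : ∃ v, v = S.ν t := ⟨_, rfl⟩
  have hv0 : v ≠ 0 := hv ▸ S.ν_ne ht T.z1 htz
  have hvv : herm v v = 0 := hv ▸ S.ν_singular ht T.z2
  let D := S.Q ⊓ T.Q
  have hDS : D ≤ S.Q := inf_le_left
  let I := S.img D hDS
  have hvI : v ∈ I := ⟨t, ⟨ht, T.zQ⟩, hv.symm⟩
  have hinv : ∀ g : L, sp g v = v → ∀ y ∈ I, sp g y ∈ I := by
    rintro g hg _ ⟨y, ⟨hy, hy'⟩, rfl⟩
    obtain ⟨c, hc, hct, hcg⟩ := S.exists_lift_fix ht (hv ▸ hv0) g (hv ▸ hg)
    exact ⟨c * y * c⁻¹, ⟨S.normal c hc y hy, T.normal c hct y hy'⟩, by rw [S.ν_act c hc y hy, hcg]⟩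
  -- the centraliser of z in the other subgroup
  let R := T.CQ z
  have hRz : ∀ r ∈ R, Commute r z := fun r hr => (T.mem_CQ.mp hr).2
  have hR : 256 ≤ Nat.card R := by
    have hzm : t ∈ R := T.mem_CQ.mpr ⟨T.zQ, S.cent t ht⟩
    have himg : T.ν '' (R : Set G) = {y | B (T.ν z) y = 0} := by
      ext y
      constructor
      · rintro ⟨r, hr, rfl⟩
        obtain ⟨hr, hrz⟩ := T.mem_CQ.mp hr
        exact (T.ν_comm z hzT r hr).mp hrz.symm
      · intro hy
        obtain ⟨r, hr, rfl⟩ := T.ν_surj y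
        exact ⟨r, T.mem_CQ.mpr ⟨hr, ((T.ν_comm z hzT r hr).mpr hy).symm⟩, rfl⟩
    rw [T.card_of_mem (T.CQ_le z) hzm, himg]
    have hw0 : T.ν z ≠ 0 := T.ν_ne hzT S.z1 (Ne.symm htz)
    obtain ⟨y0, hy0⟩ := exists_B_ne hw0
    have hcover : (Set.univ : Set V) ⊆ {y | B (T.ν z) y = 0} ∪ (fun y => y + y0) '' {y | B (T.ν z) y = 0} := by
      intro y _
      by_cases h : B (T.ν z) y = 0
      · exact Or.inl h
      refine Or.inr ⟨y + y0, ?_, by show y + y0 + y0 = y; rw [add_assoc, add_self, add_zero]⟩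
      have e : ∀ b : V, B (T.ν z) b ≠ 0 → B (T.ν z) b = 1 := fun b hb =>
        (F4_fixed _ (by rw [B_eq, star_add, star_star, add_comm])).resolve_left hb
      show B _ (y + y0) = 0
      rw [B_add_right, e y h, e y0 hy0, CharTwo.add_self_eq_zero]
    have h := (Set.ncard_le_ncard hcover).trans (Set.ncard_union_le _ _)
    rw [Set.ncard_univ, card_V, Set.ncard_image_of_injective _ (add_left_injective _)] at h
    omega
  -- commutators fall into the meet
  have hcomm : ∀ r ∈ R, ∀ y ∈ S.Q, B v (S.ν y) = 0 → S.π r (S.ν y) + S.ν y ∈ I := by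
    intro r hr y hy hB
    obtain ⟨hr, hrz⟩ := T.mem_CQ.mp hr
    have hyt : Commute y t := ((S.ν_comm t ht y hy).mpr (hv ▸ hB)).symm
    refine ⟨r * y * r⁻¹ * y⁻¹, ⟨S.Q.mul_mem (S.normal r hrz y hy) (S.Q.inv_mem hy), ?_⟩, ?_⟩
    · rw [show r * y * r⁻¹ * y⁻¹ = r * (y * r⁻¹ * y⁻¹) by group]
      exact T.Q.mul_mem hr (T.normal y hyt _ (T.Q.inv_mem hr))
    · rw [S.ν_mul _ (S.normal r hrz y hy) _ (S.Q.inv_mem hy), S.ν_inv hy, S.ν_act r hrz y hy]
  -- the meet lies on the line
  have hsing : ∀ x ∈ I, herm x x = 0 := by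
    rintro _ ⟨y, ⟨hy, hy'⟩, rfl⟩
    refine (S.ν_sq y hy).mp ?_
    rcases S.ν_eq (S.Q.mul_mem hy hy) S.Q.one_mem (by rw [S.ν_mul y hy y hy, add_self, S.ν_one]) with e | e
    · exact e
    · exfalso
      rcases T.ν_eq (T.Q.mul_mem hy' hy') T.Q.one_mem (by rw [T.ν_mul y hy' y hy', add_self, T.ν_one]) with e' | e'
      · exact S.z1 (by rw [e', one_mul] at e; exact e.symm)
      · rw [e, one_mul, one_mul] at e'
        exact htz e'.symm
  have hiso : ∀ x ∈ I, ∀ y ∈ I, B x y = 0 := fun x hx y hy => by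
    have h := q_add x y
    rw [hsing x hx, hsing y hy, hsing _ (I.add_mem hx hy), zero_add, zero_add] at h
    exact h.symm
  have hvx : ∀ x ∈ I, herm v x = 0 := by
    intro x hx'
    have hB := hiso v hvI x hx'
    by_contra h0
    have h1 : herm v x = 1 := by
      refine (F4_fixed _ ?_).resolve_left h0
      have := hB
      rw [B_eq] at this
      exact (CharTwo.add_eq_zero.mp this).symm
    have hw : F4.w • v ∈ I := reach hv0 hvv I hvI hinv hx' hB
      (fun e => by rw [e, herm_zero_right] at h1; exact zero_ne_one h1)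
      (fun e => by rw [e, hvv] at h1; exact zero_ne_one h1)
    have h2 := hiso _ hw x hx'
    rw [B_eq, herm_smul_left, h1, mul_one, star_star] at h2
    exact absurd h2 (by decide +kernel)
  have hIl : ∀ x ∈ I, ∃ c : F4, x = c • v := by
    intro x hx'
    by_contra hno
    push Not at hno
    obtain ⟨p, hp, r, hr, hxp, hpr⟩ := off_line hv0 hvv I hinv hx' (hvx x hx') (hsing x hx') hno
    have hw : F4.w • v ∈ I := reach hv0 hvv I hvI hinv hx' (hiso v hvI x hx')
      (fun e => hno 0 (by rw [e, zero_smul])) (fun e => hno 1 (by rw [e, one_smul]))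
    have hline : ∀ c : F4, c • v ∈ I := fun c => by
      rcases F4_cases c with rfl | rfl | rfl | rfl
      · rw [zero_smul]; exact I.zero_mem
      · rw [one_smul]; exact hvI
      · exact hw
      · rw [show F4.v = F4.w + 1 by decide +kernel, add_smul, one_smul]; exact I.add_mem hw hvI
    have h16 : 16 ≤ Nat.card I := by
      let f : F4 × Bool × Bool → I := fun q => ⟨q.1 • v + ((if q.2.1 then p else 0) + if q.2.2 then r else 0),
        I.add_mem (hline _) (I.add_mem (by split_ifs <;> simp [hp]) (by split_ifs <;> simp [hr]))⟩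
      have hf : Function.Injective f := by
        rintro ⟨c, a, b⟩ ⟨c', a', b'⟩ e
        have e2 := swap_sum (congrArg Subtype.val e)
        rw [← add_smul] at e2
        have hx2 : ∀ (y : V) (a a' : Bool), ((if a then y else 0) + if a' then y else 0) =
            if xor a a' then y else 0 := fun y a a' => by cases a <;> cases a' <;> simp [add_self]
        rw [add_add_add_comm, hx2, hx2] at e2
        obtain ⟨n1, n2, n3⟩ := hpr (c + c')
        cases hA : xor a a' <;> cases hB : xor b b' <;> rw [hA, hB] at e2 <;>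
          simp only [Bool.false_eq_true, if_false, if_true, add_zero, zero_add] at e2
        · rw [CharTwo.add_eq_zero.mp ((smul_eq_zero.mp e2).resolve_right hv0)]
          cases a <;> cases a' <;> simp_all
        all_goals first | exact absurd e2.symm n1 | exact absurd e2.symm n2 | exact absurd e2.symm n3
      have := Nat.card_le_card_of_injective f hf
      simp only [Nat.card_eq_fintype_card (α := F4 × Bool × Bool), Fintype.card_prod, F4.card, Fintype.card_bool] at this
      omega
    -- the image on the other side is its own orthogonal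
    have hDT : D ≤ T.Q := inf_le_right
    have hJiso : ∀ a ∈ T.img D hDT, ∀ b ∈ T.img D hDT, B a b = 0 := by
      rintro _ ⟨a, ha, rfl⟩ _ ⟨b, hb, rfl⟩
      exact (T.ν_comm a (hDT ha) b (hDT hb)).mp ((S.ν_comm a ha.1 b hb.1).mpr (hiso _ ⟨a, ha, rfl⟩ _ ⟨b, hb, rfl⟩))
    have hJ16 : 16 ≤ Nat.card (T.img D hDT) := by
      have h1 := S.card_of_mem hDS ⟨S.zQ, hzT⟩
      have h2 := T.card_of_mem hDT ⟨ht, T.zQ⟩
      rw [← Nat.card_coe_set_eq] at h1 h2
      have e1 : Nat.card ↥(S.ν '' (D : Set G)) = Nat.card I := rfl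
      have e2 : Nat.card ↥(T.ν '' (D : Set G)) = Nat.card (T.img D hDT) := rfl
      omega
    have hK : ∀ m ∈ R, (∀ y ∈ I, S.π m y = y) → S.π m = 1 := by
      intro m hm hfix'
      obtain ⟨hmT, hmz⟩ := T.mem_CQ.mp hm
      refine (S.π_iff m hmz).mpr ?_
      have hν : T.ν m ∈ T.img D hDT := by
        refine B_self_perp _ hJiso hJ16 ?_
        rintro _ ⟨d, hd, rfl⟩
        refine (T.ν_comm d hd.2 m hmT).mp ?_
        have h1 : S.ν (m * d * m⁻¹) = S.ν d := by rw [S.ν_act m hmz d hd.1]; exact hfix' _ ⟨d, hd, rfl⟩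
        rcases S.ν_eq (S.normal m hmz d hd.1) hd.1 h1 with e | e
        · exact (mul_inv_eq_iff_eq_mul.mp e).symm
        rcases T.conj_Q hd.2 hmT with e' | e'
        · exact (mul_inv_eq_iff_eq_mul.mp e').symm
        · rw [e] at e'
          exact absurd (mul_left_cancel e').symm htz
      obtain ⟨d, hd, hde⟩ := hν
      rcases T.ν_eq hmT hd.2 hde.symm with e | e <;> rw [e]
      · exact hd.1
      · exact S.Q.mul_mem hd.1 ht
    -- a linear element moving the orthogonal
    obtain ⟨n, hn, hnl, hn1⟩ : ∃ n ∈ R, Lin (S.π n) ∧ S.π n ≠ 1 := by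
      let φ : ↥R →* Equiv.Perm V :=
        MonoidHom.mk' (fun r => S.π r) fun a b => S.π_mul _ _ (hRz a a.2) (hRz b b.2)
      have hker : Nat.card φ.ker ≤ Nat.card D := Nat.card_le_card_of_injective
        (fun r => ⟨r.1.1, (S.π_iff _ (hRz _ r.1.2)).mp r.2, (T.mem_CQ.mp r.1.2).1⟩)
        fun a b e => Subtype.ext (Subtype.ext (congrArg Subtype.val e :))
      have hD32 : Nat.card D ≤ 32 := by
        have h1 := S.card_of_mem hDS ⟨S.zQ, hzT⟩
        rw [← Nat.card_coe_set_eq] at h1
        have e1 : Nat.card ↥(S.ν '' (D : Set G)) = Nat.card I := rfl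
        have := B_isotropic_le I hiso
        omega
      by_contra hno'
      push Not at hno'
      have hle : Nat.card φ.range ≤ 2 := by
        show Nat.card ↥(φ.range : Set (Equiv.Perm V)) ≤ 2
        rw [Nat.card_coe_set_eq]
        refine (two_classes (S := Lin) (n := 1) ?_ ?_).trans (by norm_num) <;> rw [Set.ncard_le_one] <;>
          rintro g ⟨⟨a, rfl⟩, hl⟩ g' ⟨⟨b, rfl⟩, hl'⟩
        · exact (hno' a a.2 hl).trans (hno' b b.2 hl').symm
        · have hab : Lin (φ (a⁻¹ * b)) := by
            rw [map_mul, map_inv]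
            exact ((S.π_semi a (hRz a a.2)).resolve_left hl).inv.mul ((S.π_semi b (hRz b b.2)).resolve_left hl')
          have h1 : φ (a⁻¹ * b) = 1 := hno' _ (a⁻¹ * b).2 hab
          rw [map_mul, map_inv, inv_mul_eq_one] at h1
          exact h1
      have h := φ.ker.card_mul_index
      rw [Subgroup.index_ker] at h
      nlinarith
    have hnz := hRz n hn
    have hnv : S.π n v = v := by
      rw [hv, ← S.ν_act n hnz t ht, (T.cent n (T.mem_CQ.mp hn).1).eq, mul_inv_cancel_right]
    -- it moves the orthogonal along the line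
    have hmove : ∀ y, herm v y = 0 → ∃ c : F4, S.π n y + y = c • v := by
      intro y hy
      have hmem : ∀ c : F4, c • (S.π n y + y) ∈ I := fun c => by
        obtain ⟨q, hq, hqν⟩ := S.ν_surj (c • y)
        have h := hcomm n hn q hq (by rw [hqν, B_eq, herm_smul_right, hy, mul_zero, star_zero, add_zero])
        rwa [hqν, hnl.smul, ← smul_add] at h
      by_contra hno2
      push Not at hno2
      obtain ⟨e, he⟩ : ∃ e, e = S.π n y + y := ⟨_, rfl⟩
      rw [← he] at hmem hno2
      have he1 : e ∈ I := by simpa using hmem 1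
      obtain ⟨p', hp', _, _, hep, -⟩ := off_line hv0 hvv I hinv he1 (hvx e he1) (hsing e he1) hno2
      obtain ⟨c, hc⟩ : ∃ c : F4, star c * herm e p' = F4.w := by
        refine ⟨star (F4.w * (herm e p')⁻¹), ?_⟩
        rw [star_star, mul_assoc, inv_mul_cancel₀ hep, mul_one]
      have h3 := hiso _ (hmem c) _ hp'
      rw [B_eq, herm_smul_left, hc] at h3
      exact absurd h3 (by decide +kernel)
    obtain ⟨u, huu, hvu, l, hl, hl0⟩ : ∃ u, herm u u = 0 ∧ herm v u = 0 ∧
        ∃ l : F4, S.π n u = u + l • v ∧ l ≠ 0 := by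
      by_contra hno2
      push Not at hno2
      have hall : ∀ y, herm v y = 0 → S.π n y = y := by
        intro y hy
        obtain ⟨b, hb⟩ := hmove y hy
        refine add_cancel' ?_
        obtain ⟨y0, hy0⟩ := exists_herm_val hv0 1
        by_contra hne
        obtain ⟨k, hk⟩ := hyper_span hv0 hvv (x := S.π n y0 + y0) (by
          conv_lhs => arg 1; rw [← hnv]
          rw [herm_add_right, hnl.herm]
          conv_lhs => arg 2; rw [show S.π n v = v from hnv]
          exact CharTwo.add_self_eq_zero _) fun u hu1 hu2 => by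
          obtain ⟨c, hc⟩ := hmove u hu2
          have hc0 : S.π n u = u := by
            rcases eq_or_ne c 0 with rfl | hc0
            · exact add_cancel' (by rw [hc, zero_smul])
            · exact absurd (hno2 u hu1 hu2 c (by rw [← hc, add_left_comm, add_self, add_zero])) hc0
          rw [← star_herm, hnl.herm_image_fix hc0 y0, star_zero]
        -- moving only along the line means fixed
        have h := hnl.herm y y0
        have e1 : S.π n y = y + b • v := by rw [← hb, add_left_comm, add_self, add_zero]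
        have e0 : S.π n y0 = y0 + k • v := by rw [← hk, add_left_comm, add_self, add_zero]
        rw [e1, e0] at h
        simp only [herm_add_left, herm_add_right, herm_smul_left, herm_smul_right, hvv, mul_zero, add_zero, hy0,
          mul_one] at h
        rw [← star_herm v y, hy, star_zero, mul_zero, add_zero] at h
        have hb0 : star b = 0 := by linear_combination h
        exact hne (by rw [hb, star_eq_zero.mp hb0, zero_smul])
      exact hn1 (hK n hn fun y hy => hall y (hvx y hy))
    obtain ⟨c, hc⟩ : ∃ c : F4, star c * l = F4.w := ⟨star (F4.w * l⁻¹), by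
      rw [star_star, mul_assoc, inv_mul_cancel₀ hl0, mul_one]⟩
    have hu2v : herm (u + c • v) (u + c • v) = 0 := by
      simp only [herm_add_left, herm_add_right, herm_smul_left, herm_smul_right, hvv, huu, hvu, mul_zero, add_zero,
        zero_add]
      rw [← star_herm, hvu, star_zero, mul_zero]
    have huv : herm u v = 0 := by rw [← star_herm, hvu, star_zero]
    obtain ⟨g, hg⟩ : ∃ g, g = tvL (u + c • v) hu2v * tvL u huu := ⟨_, rfl⟩
    have hgx : ∀ y, sp g y = y + (herm u y * c + star c * herm v y * c) • v + (star c * herm v y) • u := by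
      intro y
      rw [hg, map_mul, Equiv.Perm.mul_apply, sp_tvL, sp_tvL]
      simp only [herm_add_left, herm_add_right, herm_smul_left, herm_smul_right, huu, hvu, mul_zero, add_zero,
        smul_add, add_smul, smul_smul]
      simp only [add_mul, add_smul]
      calc _ = y + ((herm u y * c) • v + (star c * herm v y * c) • v) + (star c * herm v y) • u +
            (herm u y • u + herm u y • u) := by abel
        _ = _ := by rw [add_self, add_zero]
    have hgv : sp g v = v := by
      rw [hgx, huv, hvv]; simp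
    obtain ⟨k, hkz, hkt, hkg⟩ := S.exists_lift_fix ht (hv ▸ hv0) g (hv ▸ hgv)
    have hkR : ∀ r ∈ R, k * r * k⁻¹ ∈ R := fun r hr => by
      obtain ⟨hrT, hrz⟩ := T.mem_CQ.mp hr
      exact T.mem_CQ.mpr ⟨T.normal k hkt r hrT, (hkz.mul_left hrz).mul_left hkz.inv_left⟩
    have hmR : n * (k * n⁻¹ * k⁻¹) ∈ R := R.mul_mem hn (hkR _ (R.inv_mem hn))
    have hπm : S.π (n * (k * n⁻¹ * k⁻¹)) = S.π n * (sp g * (S.π n)⁻¹ * (sp g)⁻¹) := by
      rw [S.π_mul _ _ hnz ((hkz.mul_left hnz.inv_left).mul_left hkz.inv_left),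
        S.π_mul _ _ (hkz.mul_left hnz.inv_left) hkz.inv_left, S.π_mul _ _ hkz hnz.inv_left, S.π_inv hnz,
        S.π_inv hkz, hkg]
    have hcm : S.π n * sp g = sp g * S.π n := by
      have h1 := hK _ hmR fun y hy => by
        rw [hπm]
        have hI' : ∀ y ∈ I, S.π n (sp g y) = sp g (S.π n y) := fun y hy => by
          obtain ⟨b, hb⟩ := hmove y (hvx y hy)
          have e1 : S.π n y = y + b • v := by rw [← hb, add_left_comm, add_self, add_zero]
          rw [hgx, hgx, e1, hvx y hy, herm_add_right, herm_smul_right, huv, herm_add_right, herm_smul_right, hvv,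
            hvx y hy]
          simp only [mul_zero, zero_mul, add_zero, zero_smul, hnl.add, hnl.smul, e1, hnv]
        have hy2 : sp g⁻¹ y ∈ I := hinv g⁻¹ (by rw [map_inv]; conv_lhs => rw [← hgv]; simp) y hy
        have hy3 : (S.π n)⁻¹ (sp g⁻¹ y) ∈ I := by
          have : (S.π n)⁻¹ = S.π n⁻¹ := (S.π_inv hnz).symm
          rw [this]
          obtain ⟨d, hd, e⟩ := hy2
          exact ⟨n⁻¹ * d * n⁻¹⁻¹, ⟨S.normal _ hnz.inv_left d hd.1,
            T.normal _ (T.cent n (T.mem_CQ.mp hn).1).inv_left d hd.2⟩,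
            by rw [S.ν_act _ hnz.inv_left d hd.1, e]⟩
        rw [map_inv] at hy3
        simp only [Equiv.Perm.mul_apply]
        rw [hI' _ hy3]
        simp
      rw [hπm] at h1
      have h2 : S.π n * sp g * (S.π n)⁻¹ * (sp g)⁻¹ = 1 := by rw [← h1]; group
      rw [mul_inv_eq_one, mul_inv_eq_iff_eq_mul] at h2
      exact h2
    obtain ⟨x1, hx1⟩ := exists_herm_val hv0 1
    obtain ⟨N, hN⟩ : ∃ N, N = S.π n x1 + x1 := ⟨_, rfl⟩
    have enx : S.π n x1 = x1 + N := by rw [hN, add_left_comm, add_self, add_zero]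
    have hvN : herm v N = 0 := by
      have h := hnl.herm v x1
      rw [hnv, enx, herm_add_right] at h
      exact add_eq_left.mp h
    have huN : herm u N = star l := by
      have h := hnl.herm u x1
      rw [hl, enx] at h
      simp only [herm_add_left, herm_add_right, herm_smul_left, hx1, hvN, mul_one, mul_zero, add_zero] at h
      have h' : herm u N + star l = 0 := by linear_combination h
      exact CharTwo.add_eq_zero.mp h'
    have h := congrArg (fun f : Equiv.Perm V => f x1) hcm
    simp only [Equiv.Perm.mul_apply] at h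
    rw [hgx, hgx, hnl.add, hnl.add, hnl.smul, hnl.smul, hnv, hl, enx, herm_add_right, herm_add_right, hvN, huN,
      hx1, add_zero, smul_add, smul_smul] at h
    have h2 : (star c * 1 * l + star l * c) • v = 0 := by
      have e3 := congrArg (fun q => q + (x1 + N + ((herm u x1 + star l) * c + star c * 1 * c) • v +
        (star c * 1) • u)) h
      simp only [add_self] at e3
      rw [← e3]
      simp only [add_smul, add_mul]
      calc _ = (star c * 1 * l) • v + (star l * c) • v + ((x1 + x1) + (N + N) +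
            ((herm u x1 * c) • v + (herm u x1 * c) • v) + ((star c * 1 * c) • v + (star c * 1 * c) • v) +
            ((star c * 1) • u + (star c * 1) • u)) := by simp only [add_self, add_zero]
        _ = _ := by abel
    rw [mul_one, hc, show star l * c = star F4.w by rw [← hc, star_mul, star_star]] at h2
    exact hv0 ((smul_eq_zero.mp h2).resolve_left (by decide +kernel))
  have hlin : ∀ r ∈ R, Lin (S.π r) := by
    intro r hr
    refine auto_lin_line (S.π_semi r (hRz r hr)) hv0 fun y hy => ?_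
    obtain ⟨q, hq, rfl⟩ := S.ν_surj y
    exact hIl _ (hcomm r hr q hq (by rw [B_eq, hy, star_zero, add_zero]))
  by_cases hx : ∃ x ∈ I, x ≠ 0 ∧ x ≠ v ∧ B v x = 0
  · obtain ⟨x, hx, hx0, hx1, hB⟩ := hx
    obtain ⟨m, ⟨hm, hm'⟩, hmv⟩ := reach hv0 hvv I hvI hinv hx hB hx0 hx1
    have hall : ∀ r ∈ R, Commute m r := by
      intro r hr
      obtain ⟨hrT, hrz⟩ := T.mem_CQ.mp hr
      rcases T.conj_Q hm' hrT with e | e
      · exact (mul_inv_eq_iff_eq_mul.mp e).symm
      exfalso
      have h := congrArg S.ν e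
      rw [S.ν_act r hrz m hm, S.ν_mul m hm t ht, ← hv, hmv, (hlin r hr).smul] at h
      have hfix : S.π r v = v := by
        rw [hv, ← S.ν_act r hrz t ht, (T.cent r hrT).eq, mul_inv_cancel_right]
      rw [hfix] at h
      exact hv0 (left_eq_add.mp h)
    have hperp : ∀ y, B (T.ν z) y = 0 → B (T.ν m) y = 0 := by
      intro y hy
      obtain ⟨r, hr, rfl⟩ := T.ν_surj y
      exact (T.ν_comm m hm' r hr).mp (hall r (T.mem_CQ.mpr ⟨hr, ((T.ν_comm z hzT r hr).mpr hy).symm⟩))
    have hcases : S.ν m = 0 ∨ S.ν m = v := by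
      rcases B_perp_perp hperp with e | e
      · rcases (T.ν_zero m hm').mp e with e' | e'
        · exact Or.inl (by rw [e', S.ν_one])
        · exact Or.inr (by rw [e', hv])
      · rcases T.ν_eq hm' hzT e with e' | e'
        · exact Or.inl (by rw [e', S.ν_z])
        · exact Or.inr (by rw [e', S.ν_mul z S.zQ t ht, S.ν_z, zero_add, hv])
    rw [hmv] at hcases
    rcases hcases with e | e
    · rcases smul_eq_zero.mp e with e | e
      · exact absurd e (by decide +kernel)
      · exact hv0 e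
    · have : (F4.w + 1) • v = 0 := by rw [add_smul, one_smul, e, add_self]
      rcases smul_eq_zero.mp this with e | e
      · exact absurd e (by decide +kernel)
      · exact hv0 e
  push Not at hx
  have hI : ∀ x ∈ I, B v x = 0 → x = 0 ∨ x = v := fun x hx' hB => by
    by_contra h
    push Not at h
    exact hx x hx' h.1 h.2 hB
  have hBI : ∀ x ∈ I, B v x = 0 := by
    rintro _ ⟨y, ⟨hy, hy'⟩, rfl⟩
    rw [hv]
    exact (S.ν_comm t ht y hy).mp (T.cent y hy').symm
  have hfix : ∀ r ∈ R, ∀ y, herm v y = 0 → S.π r y = y := by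
    intro r hr y hy
    have key : ∀ y', herm v y' = 0 → S.π r y' + y' = 0 ∨ S.π r y' + y' = v := by
      intro y' hy'
      obtain ⟨q, hq, rfl⟩ := S.ν_surj y'
      have h := hcomm r hr q hq (by rw [B_eq, hy', star_zero, add_zero])
      exact hI _ h (hBI _ h)
    rcases key y hy with e | e
    · exact add_cancel' e
    exfalso
    have e2 := key (F4.w • y) (by rw [herm_smul_right, hy, mul_zero])
    rw [(hlin r hr).smul, ← smul_add, e] at e2
    rcases e2 with e2 | e2
    · rcases smul_eq_zero.mp e2 with e | e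
      · exact absurd e (by decide +kernel)
      · exact hv0 e
    · have : (F4.w + 1) • v = 0 := by rw [add_smul, one_smul, e2, add_self]
      rcases smul_eq_zero.mp this with e | e
      · exact absurd e (by decide +kernel)
      · exact hv0 e
  obtain ⟨y0, hy0⟩ := exists_herm_val hv0 1
  let φ : ↥R →* Equiv.Perm V :=
    MonoidHom.mk' (fun r => S.π r) fun a b => S.π_mul _ _ (hRz a a.2) (hRz b b.2)
  have hrange : (φ.range : Set (Equiv.Perm V)).ncard ≤ 4 := by
    refine card_fixing (H := {y | herm v y = 0}) (y0 := y0) ?_ ?_ fun x => ?_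
    · rintro _ ⟨r, rfl⟩
      exact hlin r r.2
    · rintro _ ⟨r, rfl⟩ y hy
      exact hfix r r.2 y hy
    · exact ⟨x + herm v x • y0, by
        show herm v _ = 0
        rw [herm_add_right, herm_smul_right, hy0, mul_one, CharTwo.add_self_eq_zero],
        herm v x, by rw [add_assoc, add_self, add_zero]⟩
  have hker : Nat.card φ.ker ≤ Nat.card D := Nat.card_le_card_of_injective
    (fun r => ⟨r.1.1, (S.π_iff _ (hRz _ r.1.2)).mp r.2, (T.mem_CQ.mp r.1.2).1⟩)
    fun a b e => Subtype.ext (Subtype.ext (congrArg Subtype.val e :))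
  have hD : Nat.card D ≤ 4 := by
    rw [S.card_of_mem hDS ⟨S.zQ, hzT⟩]
    have : S.ν '' (D : Set G) ⊆ ({0, v} : Set V) := fun x hx' => by
      rcases hI x hx' (hBI x hx') with e | e <;> simp [e]
    have h2 := (Set.ncard_le_ncard this).trans (Set.ncard_insert_le _ _)
    rw [Set.ncard_singleton] at h2
    omega
  have h := φ.ker.card_mul_index
  rw [Subgroup.index_ker] at h
  rw [show Nat.card φ.range = (φ.range : Set (Equiv.Perm V)).ncard from (Nat.card_coe_set_eq _)] at h
  nlinarith

end Setup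

end Cfsg.Agent.Spor.CHZ
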