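import Cfsg.Agent.Lib.Spor.SUSixPoints
import Cfsg.Agent.Lib.Spor.UnitaryTransvection

/-!
The four-dimensional Hermitian space over the field with four elements as a quadratic space over the
field with two elements, with its semilinear isometries.
-/

set_option autoImplicit false
set_option maxRecDepth 100000
set_option linter.unusedSectionVars false

namespace Cfsg.Agent.Spor.CHZ

open Cfsg.Agent.Spor.SpFour Cfsg.Agent.Small.Unitary

instance charP_F4 : CharP F4 2 := CharTwo.of_one_ne_zero_of_two_eq_zero (by decide +kernel) (by decide +kernel)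

/-- the space -/
abbrev V : Type := Fin 4 → F4

/-- the group -/
abbrev L : Type := Cfsg.SU 4 F4 2

theorem hstar : ∀ x : F4, star x = x ^ 2 := F4.star_eq_pow

theorem hF : Fintype.card F4 = 4 := F4.card

theorem card_V : Nat.card V = 256 := by
  rw [Nat.card_eq_fintype_card, Fintype.card_fun, F4.card, Fintype.card_fin]
  norm_num

/-- the symplectic form over two elements -/
def B (u v : V) : F4 := herm u v + herm v u

theorem B_eq (u v : V) : B u v = herm u v + star (herm u v) := by rw [B, star_herm]

theorem B_comm (u v : V) : B u v = B v u := add_comm _ _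

theorem B_self (u : V) : B u u = 0 := CharTwo.add_self_eq_zero _

theorem B_add_right (u v w : V) : B u (v + w) = B u v + B u w := by
  simp only [B, herm_add_right, herm_add_left]; ring

theorem B_add_left (u v w : V) : B (u + v) w = B u w + B v w := by
  simp only [B, herm_add_right, herm_add_left]; ring

theorem B_zero_right (u : V) : B u 0 = 0 := by simp [B, herm_zero_left, herm_zero_right]

theorem F4_fixed : ∀ c : F4, star c = c → c = 0 ∨ c = 1 := by decide +kernel

theorem F4_cases : ∀ c : F4, c = 0 ∨ c = 1 ∨ c = F4.w ∨ c = F4.v := by decide +kernel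

theorem add_self (x : V) : x + x = 0 := funext fun _ => CharTwo.add_self_eq_zero _

theorem add_cancel' {x y : V} (h : x + y = 0) : x = y := by
  rw [← add_zero x, ← add_self y, ← add_assoc, h, zero_add]

theorem swap_sum {a b a' b' : V} (h : a + b = a' + b') : a + a' = b + b' :=
  add_cancel' (by rw [add_add_add_comm, h, add_self])

theorem neg_eq' (x : V) : -x = x := funext fun _ => CharTwo.neg_eq _

theorem q_fixed (u : V) : star (herm u u) = herm u u := star_herm u u

theorem q_cases (u : V) : herm u u = 0 ∨ herm u u = 1 := F4_fixed _ (q_fixed u)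

theorem q_add (u v : V) : herm (u + v) (u + v) = herm u u + herm v v + B u v := by
  simp only [B, herm_add_right, herm_add_left]; ring

theorem q_smul (c : F4) (hc : c ≠ 0) (u : V) : herm (c • u) (c • u) = herm u u := by
  rw [herm_smul_left, herm_smul_right, ← mul_assoc]
  have h : ∀ c : F4, c ≠ 0 → star c * c = 1 := by decide +kernel
  rw [h c hc, one_mul]

theorem exists_herm_ne {u : V} (hu : u ≠ 0) : ∃ w, herm u w ≠ 0 := by
  obtain ⟨k, hk⟩ := Function.ne_iff.mp hu
  exact ⟨Pi.single k 1, by rw [herm_single_right, mul_one]; exact star_ne_zero.mpr hk⟩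

theorem exists_herm_val {u : V} (hu : u ≠ 0) (c : F4) : ∃ w, herm u w = c := by
  obtain ⟨w, hw⟩ := exists_herm_ne hu
  exact ⟨(c * (herm u w)⁻¹) • w, by rw [herm_smul_right, mul_assoc, inv_mul_cancel₀ hw, mul_one]⟩

theorem exists_B_ne {u : V} (hu : u ≠ 0) : ∃ w, B u w ≠ 0 := by
  obtain ⟨w, hw⟩ := exists_herm_val hu F4.w
  exact ⟨w, by rw [B_eq, hw]; decide +kernel⟩

/-! ### semilinear isometries -/

/-- linear isometries -/
structure Lin (f : Equiv.Perm V) : Prop where
  add : ∀ x y, f (x + y) = f x + f y
  smul : ∀ (c : F4) x, f (c • x) = c • f x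
  herm : ∀ x y, herm (f x) (f y) = herm x y

/-- conjugate linear isometries -/
structure Anti (f : Equiv.Perm V) : Prop where
  add : ∀ x y, f (x + y) = f x + f y
  smul : ∀ (c : F4) x, f (c • x) = star c • f x
  herm : ∀ x y, herm (f x) (f y) = star (Small.Unitary.herm x y)

/-- semilinear isometries -/
def Semi (f : Equiv.Perm V) : Prop := Lin f ∨ Anti f

theorem Lin.one : Lin 1 := ⟨fun _ _ => rfl, fun _ _ => rfl, fun _ _ => rfl⟩

theorem Lin.mul {f g : Equiv.Perm V} (hf : Lin f) (hg : Lin g) : Lin (f * g) :=
  ⟨fun x y => by simp [hg.add, hf.add], fun c x => by simp [hg.smul, hf.smul],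
    fun x y => by simp [hf.herm, hg.herm]⟩

theorem Lin.inv {f : Equiv.Perm V} (hf : Lin f) : Lin f⁻¹ :=
  ⟨fun x y => f.injective (by simp [hf.add]), fun c x => f.injective (by simp [hf.smul]),
    fun x y => by rw [← hf.herm (f⁻¹ x) (f⁻¹ y)]; simp⟩

theorem Anti.mul {f g : Equiv.Perm V} (hf : Anti f) (hg : Anti g) : Lin (f * g) :=
  ⟨fun x y => by simp [hg.add, hf.add], fun c x => by simp [hg.smul, hf.smul],
    fun x y => by simp [hf.herm, hg.herm]⟩

theorem Semi.add {f : Equiv.Perm V} (hf : Semi f) (x y : V) : f (x + y) = f x + f y :=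
  hf.elim (fun h => h.add x y) fun h => h.add x y

theorem Semi.zero {f : Equiv.Perm V} (hf : Semi f) : f 0 = 0 := by
  have h := hf.add 0 0
  rw [add_zero] at h
  exact left_eq_add.mp h

theorem Semi.q {f : Equiv.Perm V} (hf : Semi f) (x : V) :
    Small.Unitary.herm (f x) (f x) = Small.Unitary.herm x x :=
  hf.elim (fun h => h.herm x x) fun h => (h.herm x x).trans (q_fixed x)

theorem Semi.B {f : Equiv.Perm V} (hf : Semi f) (x y : V) : CHZ.B (f x) (f y) = CHZ.B x y := by
  rcases hf with h | h
  · simp [CHZ.B, h.herm]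
  · rw [CHZ.B, h.herm, h.herm, star_herm, star_herm, CHZ.B, add_comm]

/-- the permutation of a group element -/
def sp : L →* Equiv.Perm V :=
  MonoidHom.mk' (fun g => ⟨act g, act g⁻¹, act_inv_act g, act_act_inv g⟩)
    fun a b => Equiv.ext fun x => act_mul a b x

theorem sp_apply (g : L) (x : V) : sp g x = act g x := rfl

theorem sp_lin (g : L) : Lin (sp g) :=
  ⟨fun x y => act_add g x y, fun c x => act_smul g c x, fun x y => herm_act hstar g x y⟩

theorem sp_inj : Function.Injective sp := fun a b h =>
  Cfsg.Agent.Classical.URoot.eq_of_act fun x => congrFun (congrArg DFunLike.coe h) x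

/-- the fixed vectors -/
def fixS (f : Equiv.Perm V) : Set V := {x | f x = x}

/-- two vectors and a multiplier determine a vector when the multiples avoid the set -/
theorem card_mul_le {S T : Set V} (F : ↥S → ↥T → V) (hF : Function.Injective2 F) :
    S.ncard * T.ncard ≤ 256 := by
  rw [← Nat.card_coe_set_eq, ← Nat.card_coe_set_eq, ← Nat.card_prod, ← card_V]
  exact Nat.card_le_card_of_injective (fun p => F p.1 p.2) fun p p' h => Prod.ext (hF h).1 (hF h).2

theorem Anti.fix_meet {f : Equiv.Perm V} (hf : Anti f) {c : F4} {x : V} (hx : f x = x)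
    (hcx : f (c • x) = c • x) (h0 : x ≠ 0) : c = 0 ∨ c = 1 := by
  refine F4_fixed c ?_
  rw [hf.smul, hx] at hcx
  exact smul_left_injective F4 h0 hcx

theorem Anti.card_fix {f : Equiv.Perm V} (hf : Anti f) : (fixS f).ncard ≤ 16 := by
  have h := card_mul_le (S := fixS f) (T := fixS f) (fun x y => (x : V) + F4.w • (y : V)) ?_
  · nlinarith
  intro x x' y y' h
  have hyy : ((y : V) + y') = 0 := by
    by_contra hne
    have e : F4.w • ((y : V) + y') = (x : V) + x' := by
      rw [smul_add]
      exact (swap_sum h).symm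
    have h2 : f (F4.w • ((y : V) + y')) = F4.w • ((y : V) + y') := by
      rw [e, hf.add, x.2, x'.2]
    have := hf.fix_meet (by rw [hf.add, y.2, y'.2]) h2 hne
    exact absurd this (by decide +kernel)
  have hy : (y : V) = y' := add_cancel' hyy
  dsimp only at h
  rw [hy, add_left_inj] at h
  exact ⟨Subtype.ext h, Subtype.ext hy⟩

theorem Lin.card_fix {f : Equiv.Perm V} (hf : Lin f) (hf1 : f ≠ 1) : (fixS f).ncard ≤ 64 := by
  obtain ⟨x, hx⟩ : ∃ x, f x ≠ x := by
    by_contra h
    push Not at h
    exact hf1 (Equiv.ext h)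
  have h := card_mul_le (S := fixS f) (T := (Set.univ : Set F4).image (fun c => c • x)) (fun y c => (y : V) + c) ?_
  · rw [Set.ncard_image_of_injective _ (smul_left_injective F4 (fun h0 => hx (by rw [h0, Semi.zero (Or.inl hf)]))),
      Set.ncard_univ, Nat.card_eq_fintype_card, F4.card] at h
    omega
  intro y y' s s' heq
  obtain ⟨c, _, hca⟩ := s.2
  obtain ⟨c', _, hca'⟩ := s'.2
  change (y : V) + (s : V) = y' + (s' : V) at heq
  dsimp only at hca hca'
  rw [← hca, ← hca'] at heq
  have e : (c + c') • x = (y : V) + y' := by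
    rw [add_smul]
    exact (swap_sum heq).symm
  have hc : c = c' := by
    by_contra hne
    have h0 : c + c' ≠ 0 := fun h0 => hne (CharTwo.add_eq_zero.mp h0)
    have h2 : f ((c + c') • x) = (c + c') • x := by rw [e, hf.add, y.2, y'.2]
    rw [hf.smul] at h2
    exact hx (smul_right_injective V h0 h2)
  subst hc
  exact ⟨Subtype.ext (add_right_cancel heq), Subtype.ext (hca.symm.trans hca')⟩

theorem card_kernel_image {f : Equiv.Perm V} (hf : Semi f) :
    (fixS f).ncard * (Set.range fun x => f x + x).ncard = 256 := by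
  let φ : V →+ V := AddMonoidHom.mk' (fun x => f x + x) fun x y => by rw [hf.add]; abel
  have hk : (φ.ker : Set V) = fixS f := Set.ext fun x => ⟨fun h => add_cancel' h, fun h => by
    show f x + x = 0
    rw [show f x = x from h, add_self]⟩
  have h := φ.ker.card_mul_index
  rw [AddSubgroup.index_ker, card_V] at h
  rw [← hk]
  rw [← Nat.card_coe_set_eq, ← Nat.card_coe_set_eq]
  exact h

end Cfsg.Agent.Spor.CHZ
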