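import Cfsg.Agent.Lib.Spor.CHZ.Model

/-!
The diagonal and monomial elements of the group and one further element of order three.
-/

set_option autoImplicit false
set_option maxRecDepth 100000

namespace Cfsg.Agent.Spor.CHZ

open Cfsg.Agent.Spor.SpFour Cfsg.Agent.Small.Unitary

/-- the parameters of the diagonal subgroup -/
abbrev A3 : Type := Fin 3 → ZMod 3

/-- the four exponents -/
def co (a : A3) (i : Fin 4) : ZMod 3 := ![a 0, a 1, a 2, -(a 0 + a 1 + a 2)] i

/-- powers of the third root of unity -/
def wpow (k : ZMod 3) : F4 := if k = 1 then F4.w else if k = 2 then F4.v else F4.i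

/-- a diagonal matrix -/
def dgM (a : A3) : Matrix (Fin 4) (Fin 4) F4 := Matrix.diagonal fun i => wpow (co a i)

theorem dgM_unitary : ∀ a : A3, (dgM a).conjTranspose * dgM a = 1 := by decide +kernel

theorem dgM_det (a : A3) : (dgM a).det = 1 := by
  rw [dgM, Matrix.det_diagonal]
  revert a
  decide +kernel

/-- a diagonal element -/
def dg (a : A3) : L := mkSU hstar (dgM a) (dgM_unitary a) (dgM_det a)

theorem act_dg (a : A3) (v : V) (i : Fin 4) : act (dg a) v i = wpow (co a i) * v i := by
  show (dgM a).mulVec v i = _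
  rw [dgM, Matrix.mulVec_diagonal]

theorem wpow_add : ∀ a b : ZMod 3, wpow (a + b) = wpow a * wpow b := by decide +kernel

theorem co_add : ∀ a b : A3, ∀ i, co (a + b) i = co a i + co b i := by decide +kernel

theorem dg_add (a b : A3) : dg (a + b) = dg a * dg b :=
  Cfsg.Agent.Classical.URoot.eq_of_act fun v => funext fun i => by
    rw [act_mul, act_dg, act_dg, act_dg, co_add, wpow_add, mul_assoc]

theorem dg_zero : dg 0 = 1 :=
  Cfsg.Agent.Classical.URoot.eq_of_act fun v => funext fun i => by
    rw [act_one, act_dg, show ∀ i, co 0 i = 0 by decide +kernel]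
    exact one_mul _

/-- the vectors of the three neighbouring transpositions -/
def sV (j : Fin 3) : V := fun i => if (i : ℕ) = j ∨ (i : ℕ) = j + 1 then 1 else 0

theorem sV_iso : ∀ j : Fin 3, herm (sV j) (sV j) = 0 := by decide +kernel

/-- a transposition of two coordinates -/
noncomputable def sw (j : Fin 3) : L := UnitaryTrans.tv hstar (sV j) (sV_iso j)

/-- the exchanged index -/
def swI (j : Fin 3) (i : Fin 4) : Fin 4 := Equiv.swap (Fin.castSucc j) j.succ i

theorem tv_swap_key : ∀ (j : Fin 3) (v : V) (i : Fin 4), (v + herm (sV j) v • sV j) i = v (swI j i) := by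
  decide +kernel

theorem act_sw (j : Fin 3) (v : V) (i : Fin 4) : act (sw j) v i = v (swI j i) := by
  rw [sw, UnitaryTrans.act_tv]
  exact tv_swap_key j v i

/-- the exchanged parameters -/
def swA (j : Fin 3) (a : A3) : A3 := fun k => co a (swI j (Fin.castSucc k))

theorem co_swA : ∀ (j : Fin 3) (a : A3) (i : Fin 4), co (swA j a) i = co a (swI j i) := by decide +kernel

theorem swI_self : ∀ (j : Fin 3) (i : Fin 4), swI j (swI j i) = i := by decide +kernel

theorem sw_dg (j : Fin 3) (a : A3) : sw j * dg a = dg (swA j a) * sw j :=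
  Cfsg.Agent.Classical.URoot.eq_of_act fun v => funext fun i => by
    rw [act_mul, act_mul, act_sw, act_dg, act_dg, act_sw, co_swA]

/-- the further element: a reflection of three coordinates and a scalar on the last -/
def kkM : Matrix (Fin 4) (Fin 4) F4 := !![F4.w, F4.v, F4.v, 0; F4.v, F4.w, F4.v, 0; F4.v, F4.v, F4.w, 0; 0, 0, 0, F4.v]

theorem kkM_unitary : kkM.conjTranspose * kkM = 1 := by decide +kernel

theorem kkM_det : kkM.det = 1 := by decide +kernel

/-- the further element -/
def kk : L := mkSU hstar kkM kkM_unitary kkM_det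

theorem act_kk (v : V) : act kk v = kkM.mulVec v := rfl

theorem kk_cube : kk * kk * kk = 1 :=
  Cfsg.Agent.Classical.URoot.eq_of_act fun v => by
    rw [act_mul, act_mul, act_one, act_kk, act_kk, act_kk]
    revert v
    decide +kernel

/-- the element of the diagonal group with trivial last entry acting as a scalar on the others -/
def cA : A3 := fun _ => 1

theorem kk_cA : kk * dg cA = dg cA * kk :=
  Cfsg.Agent.Classical.URoot.eq_of_act fun v => by
    rw [act_mul, act_mul, show ∀ v, act (dg cA) v = (dgM cA).mulVec v from fun _ => rfl, act_kk, act_kk]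
    revert v
    decide +kernel

/-! ### generation -/

/-- the weight -/
def wt (v : V) : ℕ := (Finset.univ.filter fun i => v i ≠ 0).card

/-- first vector of weight two -/
def v2 : V := sV 0

/-- vector of weight four -/
def v4 : V := kkM.mulVec ![1, 0, 0, 1]

theorem iso_orbit : ∀ v : V, v ≠ 0 → herm v v = 0 → wt v = 2 ∨ wt v = 4 := by decide +kernel

theorem wt_four : ∀ v : V, wt v = 4 → ∃ a : A3, ∃ c : F4, c ≠ 0 ∧ ∀ i, v i = c * (wpow (co a i) * v4 i) := by
  decide +kernel

/-- transvections at the vectors of weight two are words in swaps and diagonal elements -/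
theorem wt_two : ∀ v : V, wt v = 2 → herm v v = 0 → ∃ l : List (Fin 3), ∃ a : A3, ∃ c : F4, c ≠ 0 ∧
    l ∈ ([[], [1], [1, 0], [1, 2], [1, 2, 0], [1, 2, 0, 1]] : List (List (Fin 3))) ∧
    ∀ i, v i = c * (wpow (co a i) * sV 0 (l.foldr (fun j k => swI j k) i)) := by
  have h : ∀ v : V, (!decide (wt v = 2) || (([[], [1], [1, 0], [1, 2], [1, 2, 0], [1, 2, 0, 1]] :
      List (List (Fin 3))).any fun l => decide (∃ a : A3, ∃ c : F4, c ≠ 0 ∧
        ∀ i, v i = c * (wpow (co a i) * sV 0 (l.foldr (fun j k => swI j k) i))))) = true := by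
    decide +kernel
  intro v hv _
  have h' := h v
  rw [Bool.or_eq_true, Bool.not_eq_true', decide_eq_false_iff_not, List.any_eq_true] at h'
  obtain ⟨l, hl, h'⟩ := h'.resolve_left (not_not_intro hv)
  obtain ⟨a, c, hc, he⟩ := of_decide_eq_true h'
  exact ⟨l, a, c, hc, hl, he⟩

/-- the group is generated by diagonal elements, swaps and the further element -/
theorem generated {M : Subgroup L} (hd : ∀ a, dg a ∈ M) (hs : ∀ j, sw j ∈ M) (hk : kk ∈ M) : M = ⊤ := by
  have hgen := (UnitaryTrans.isClass (F := F4) (n := 4) hstar hF le_rfl).2.2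
  refine eq_top_iff.mpr ?_
  rw [← hgen, Subgroup.closure_le]
  intro τ hτ
  obtain ⟨v, hv, hv0, rfl⟩ := UnitaryTrans.exists_tv hstar τ hτ
  have conjM : ∀ g ∈ M, ∀ (u : V) (hu : herm u u = 0), UnitaryTrans.tv hstar u hu ∈ M →
      ∀ c : F4, c ≠ 0 → v = c • act g u → UnitaryTrans.tv hstar v hv ∈ M := by
    intro g hg u hu ht c hc e
    have hu' : herm (act g u) (act g u) = 0 := by rw [herm_act hstar]; exact hu
    rw [UnitaryTrans.tv_congr hstar e hv (e ▸ hv), UnitaryTrans.tv_smul hstar hF hc _ hu',
      ← UnitaryTrans.tv_conj hstar g u hu]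
    exact M.mul_mem (M.mul_mem hg ht) (M.inv_mem hg)
  rcases iso_orbit v hv0 hv with h2 | h4
  · obtain ⟨l, a, c, hc, -, he⟩ := wt_two v h2 hv
    refine conjM (dg a * (l.reverse.map sw).prod) (M.mul_mem (hd a) (M.list_prod_mem (by
      intro g hg
      obtain ⟨j, -, rfl⟩ := List.mem_map.mp hg
      exact hs j))) (sV 0) (sV_iso 0) (hs 0) c hc (funext fun i => ?_)
    have hl : ∀ (l : List (Fin 3)) (u : V) (i : Fin 4), act (l.reverse.map sw).prod u i =
        u (l.foldr (fun j k => swI j k) i) := by
      intro l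
      induction l with
      | nil => intro u i; simp [act_one]
      | cons j l ih =>
        intro u i
        rw [List.reverse_cons, List.map_append, List.prod_append, act_mul, ih]
        simp only [List.map_cons, List.map_nil, List.prod_cons, List.prod_nil, mul_one, List.foldr_cons]
        exact act_sw j u _
    rw [Pi.smul_apply, smul_eq_mul, act_mul, act_dg, hl, he]
  · obtain ⟨a, c, hc, he⟩ := wt_four v h4
    obtain ⟨g, hg, u0⟩ : ∃ g ∈ M, act g (sV 0) = ![1, 0, 0, 1] :=
      ⟨sw 2 * sw 1, M.mul_mem (hs 2) (hs 1), funext fun i => by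
        rw [act_mul, act_sw, act_sw]; revert i; decide +kernel⟩
    refine conjM (dg a * (kk * g)) (M.mul_mem (hd a) (M.mul_mem hk hg)) (sV 0) (sV_iso 0) (hs 0) c hc
      (funext fun i => ?_)
    rw [Pi.smul_apply, smul_eq_mul, act_mul, act_dg, act_mul, u0, act_kk, he]
    rfl

end Cfsg.Agent.Spor.CHZ
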