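import Cfsg.Agent.Lib.Spor.CHZ.InvB
import Mathlib.GroupTheory.Perm.Cycle.Type

/-!
A fixed plane and three planes: stabilisers of vectors contain elements of order five.
-/

set_option autoImplicit false
set_option maxRecDepth 100000
set_option maxHeartbeats 400000
set_option linter.unusedSectionVars false

namespace Cfsg.Agent.Spor.CHZ

open Cfsg.Agent.Spor.SpFour Cfsg.Agent.Small.Unitary

universe w

/-- the support -/
def suppW (c : Fin 3 → F4) : Fin 3 → Bool := fun j => decide (c j ≠ 0)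

/-- parity of a support -/
def parW (p : Fin 3 → Bool) : ZMod 2 := ∑ j, if p j then 1 else 0

set_option synthInstance.maxSize 2000 in
set_option synthInstance.maxHeartbeats 400000 in
theorem supp_count : ∀ Ss : Finset (Fin 3 → Bool), Ss.Nonempty → (∀ p ∈ Ss, ∃ j, p j = true) →
    (∀ p ∈ Ss, ∀ r ∈ Ss, parW p = parW r) → (∀ (i : Fin 3), ∀ p ∈ Ss, (fun j => p (swW i j)) ∈ Ss) →
    ¬ 5 ∣ (Finset.univ.filter fun c : Fin 3 → F4 => suppW c ∈ Ss).card := by
  decide +kernel

theorem swW_invol : ∀ i j : Fin 3, swW i (swW i j) = j := by decide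

/-- scalars in a plane -/
def scW {M : Type w} [AddCommGroup M] [Module (ZMod 2) M] (R : Rep M) (a : A3) (c : F4) (x : M) : M :=
  if c = 0 then 0 else if c = F4.w then R.ρ (dg a) x else if c = F4.v then R.ρ (dg (a + a)) x else x

namespace Rep

variable {M : Type w} [AddCommGroup M] [Module (ZMod 2) M] [Finite M] (R : Rep M)

theorem scW_mem {a : A3} {c : F4} {k : Fin 14} {x : M} (hx : x ∈ R.piece k) : scW R a c x ∈ R.piece k := by
  rw [scW]
  split_ifs
  exacts [R.zero_mem _, R.piece_dg _ hx, R.piece_dg _ hx, hx]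

/-- an element of order five fixes a set of size congruent to the whole -/
theorem five_count {g : L} (hg : g ^ 5 = 1) (H : Set M) (hH : ∀ x ∈ H, R.ρ g x ∈ H) :
    H.ncard ≡ {x | x ∈ H ∧ R.ρ g x = x}.ncard [MOD 5] := by
  classical
  haveI : Fact (Nat.Prime 5) := ⟨by norm_num⟩
  haveI : Fintype ↥H := Fintype.ofFinite _
  let f : Function.End ↥H := fun x => ⟨R.ρ g x, hH x x.2⟩
  have hpow : ∀ (n : ℕ) (x : ↥H), (((f ^ n : Function.End ↥H) x : ↥H) : M) = R.ρ (g ^ n) x := by
    intro n
    induction n with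
    | zero => intro x; rw [pow_zero, pow_zero, R.one]; rfl
    | succ n ih =>
      intro x
      rw [pow_succ', pow_succ', R.mul, ← ih]
      rfl
  have hf : f ^ 5 ^ 1 = 1 := funext fun x => Subtype.ext (by rw [hpow, pow_one, hg, R.one]; rfl)
  have h := Equiv.Perm.card_fixedPoints_modEq hf
  rw [← Nat.card_eq_fintype_card, ← Nat.card_eq_fintype_card, Nat.card_coe_set_eq] at h
  refine h.trans ?_
  rw [← Nat.card_coe_set_eq ({x | x ∈ H ∧ R.ρ g x = x} : Set M)]
  rw [Nat.card_congr (β := ↥({x | x ∈ H ∧ R.ρ g x = x} : Set M))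
    { toFun := fun x => ⟨x.1.1, x.1.2, congrArg Subtype.val x.2⟩
      invFun := fun x => ⟨⟨x.1, x.2.1⟩, Subtype.ext x.2.2⟩
      left_inv := fun _ => rfl
      right_inv := fun _ => rfl }]

variable (hB : (∀ k : Fin 14, ((k : ℕ) = 0 ∨ 11 ≤ (k : ℕ)) → (R.piece k).ncard = 4) ∧
      ∀ k : Fin 14, 1 ≤ (k : ℕ) → (k : ℕ) ≤ 10 → (R.piece k).ncard = 1)
include hB

/-- coordinates on the moved part -/
theorem exists_coord : ∃ Γ : (Fin 3 → F4) → M, Function.Injective Γ ∧ (∀ x, R.S (pf 0) x = 0 → ∃ c, Γ c = x) ∧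
    (∀ c, R.S (pf 0) (Γ c) = 0) ∧ (∀ c, R.q (Γ c) = parW (suppW c)) ∧
    (∀ c j, (R.S (pf (kW j)) (Γ c) = 0 ↔ c j = 0)) ∧
    (∀ c c', suppW c = suppW c' → ∃ g, R.ρ g (Γ c) = Γ c') := by
  classical
  have hne : ∀ j, ∃ x ∈ R.piece (kW j), x ≠ 0 := fun j => by
    by_contra hall
    push Not at hall
    have h4 := hB.1 (kW j) (kW_high j)
    rw [show R.piece (kW j) = {0} from Set.eq_singleton_iff_unique_mem.mpr ⟨R.zero_mem _, hall⟩,
      Set.ncard_singleton] at h4
    omega
  choose e he he0 using hne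
  choose a ha ha' using kW_dual
  obtain ⟨Γ, hΓ⟩ : ∃ Γ : (Fin 3 → F4) → M, ∀ c, Γ c = ∑ j, scW R (a j) (c j) (e j) := ⟨_, fun _ => rfl⟩
  have ha0 : ∀ j, fn (kW j) (a j) ≠ 0 := fun j => by rw [ha]; decide
  have ha2 : ∀ j, fn (kW j) (a j + a j) ≠ 0 := fun j => by rw [fn_add, ha]; decide
  have sc0 : ∀ (j : Fin 3) (c : F4), scW R (a j) c (e j) = 0 → c = 0 := by
    intro j c h
    by_contra hc
    simp only [scW, if_neg hc] at h
    split_ifs at h
    · exact he0 j (R.ρ_inj _ (h.trans (R.ρ_zero _).symm))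
    · exact he0 j (R.ρ_inj _ (h.trans (R.ρ_zero _).symm))
    · exact he0 j h
  have scinj : ∀ (j : Fin 3) (c d : F4), scW R (a j) c (e j) = scW R (a j) d (e j) → c = d := by
    intro j c d h
    have f1 : R.ρ (dg (a j)) (e j) ≠ e j := fun h' => he0 j (R.free (kW_ne j) (ha0 j) (he j) h')
    have f2 : R.ρ (dg (a j + a j)) (e j) ≠ e j := fun h' => he0 j (R.free (kW_ne j) (ha2 j) (he j) h')
    have f3 : R.ρ (dg (a j)) (e j) ≠ R.ρ (dg (a j + a j)) (e j) := fun h' => f1 (R.ρ_inj (dg (a j)) (by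
      rw [← R.mul (dg (a j)) (dg (a j)), ← dg_add, ← h']))
    by_cases hc : c = 0
    · exact hc.trans (sc0 j d (by rw [← h, hc]; simp [scW])).symm
    by_cases hd : d = 0
    · exact (sc0 j c (by rw [h, hd]; simp [scW])).trans hd.symm
    rcases F4_cases c with rfl | rfl | rfl | rfl <;> rcases F4_cases d with rfl | rfl | rfl | rfl
    all_goals first
      | rfl
      | exact absurd rfl hc
      | exact absurd rfl hd
      | (exfalso
         simp only [scW, if_neg (show (1 : F4) ≠ 0 by decide), if_neg (show (1 : F4) ≠ F4.w by decide),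
           if_neg (show (1 : F4) ≠ F4.v by decide), if_neg (show F4.w ≠ 0 by decide),
           if_neg (show F4.v ≠ 0 by decide), if_neg (show F4.v ≠ F4.w by decide), if_true] at h
         first
           | exact f1 h
           | exact f1 h.symm
           | exact f2 h
           | exact f2 h.symm
           | exact f3 h
           | exact f3 h.symm)
  have hproj : ∀ c j, R.S (pf (kW j)) (Γ c) = scW R (a j) (c j) (e j) := fun c j => by
    rw [hΓ, R.S_sum, Finset.sum_eq_single j (fun i _ hi => R.proj_other (fun e' => hi (kW_inj e').symm)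
      (R.scW_mem (he i))) (fun h => absurd (Finset.mem_univ j) h)]
    exact R.scW_mem (he j)
  have hinj : Function.Injective Γ := fun c d h => funext fun j => scinj j _ _ (by rw [← hproj, ← hproj, h])
  have h0 : ∀ c, R.S (pf 0) (Γ c) = 0 := fun c => by
    rw [hΓ, R.S_sum]
    exact Finset.sum_eq_zero fun i _ => R.proj_other (kW_ne i).symm (R.scW_mem (he i))
  have scsurj : ∀ (j : Fin 3) (x : M), x ∈ R.piece (kW j) → ∃ c, scW R (a j) c (e j) = x := by
    intro j x hx
    have hsub : (fun c => scW R (a j) c (e j)) '' Set.univ ⊆ R.piece (kW j) := by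
      rintro _ ⟨c, -, rfl⟩
      exact R.scW_mem (he j)
    have heq := Set.eq_of_subset_of_ncard_le hsub (by
      rw [Set.ncard_image_of_injective _ (fun c d h => scinj j c d h), Set.ncard_univ, Nat.card_eq_fintype_card,
        F4.card, hB.1 _ (kW_high j)])
    obtain ⟨c, -, hc⟩ : x ∈ (fun c => scW R (a j) c (e j)) '' Set.univ := heq.symm ▸ hx
    exact ⟨c, hc⟩
  have hqsum : ∀ c, R.q (Γ c) = parW (suppW c) := by
    intro c
    rw [hΓ, parW]
    have main : ∀ s : Finset (Fin 3), R.q (∑ j ∈ s, scW R (a j) (c j) (e j)) =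
        ∑ j ∈ s, if suppW c j then 1 else 0 := by
      intro s
      induction s using Finset.induction with
      | empty => simp [R.q_zero]
      | insert j s hj ih =>
        rw [Finset.sum_insert hj, Finset.sum_insert hj, R.q_add_eq hB, ih, R.b_sum_right,
          Finset.sum_eq_zero fun i hi => R.orth_W (fun e' => hj (by rw [e']; exact hi)) (R.scW_mem (he j))
            (R.scW_mem (he i)), add_zero]
        by_cases hc : c j = 0
        · simp [suppW, hc, scW, R.q_zero]
        · rw [if_pos (by simp [suppW, hc]), R.q_plane hB (R.scW_mem (he j)) (fun e' => hc (sc0 j _ e'))]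
    exact main Finset.univ
  refine ⟨Γ, hinj, fun x hx => ?_, h0, hqsum, fun c j => ⟨fun h => sc0 j _ (by rw [← hproj]; exact h),
    fun h => by rw [hproj, h]; simp [scW]⟩, fun c c' hs => ?_⟩
  · choose cc hcc using fun j => scsurj j _ (R.proj_mem (kW j) x)
    refine ⟨cc, ?_⟩
    rw [hΓ]
    have h := R.split_sum hB x
    rw [hx, zero_add] at h
    rw [← h]
    exact Finset.sum_congr rfl fun j _ => hcc j
  · -- phases
    have step : ∀ j : Fin 3, ∃ t : A3, (∀ i, i ≠ j → fn (kW i) t = 0) ∧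
        R.ρ (dg t) (scW R (a j) (c j) (e j)) = scW R (a j) (c' j) (e j) := by
      intro j
      have hz : c j = 0 ↔ c' j = 0 := by
        have h := congrFun hs j
        simp only [suppW, decide_eq_decide] at h
        exact not_iff_not.mp h
      have h3 : a j + a j + a j = 0 := three_smul' _
      by_cases hc : c j = 0
      · exact ⟨0, fun i _ => fn_zero _, by rw [hc, hz.mp hc, dg_zero, R.one]⟩
      have hc' : c' j ≠ 0 := fun h => hc (hz.mpr h)
      have f0 : ∀ i, i ≠ j → fn (kW i) (a j) = 0 := fun i hi => ha' j i hi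
      have f2 : ∀ i, i ≠ j → fn (kW i) (a j + a j) = 0 := fun i hi => by rw [fn_add, f0 i hi, add_zero]
      have r : ∀ t x, R.ρ (dg t) (R.ρ (dg x) (e j)) = R.ρ (dg (t + x)) (e j) := fun t x => by rw [dg_add, R.mul]
      rcases F4_cases (c j) with h | h | h | h
      · exact absurd h hc
      all_goals rcases F4_cases (c' j) with h' | h' | h' | h'
      all_goals first
        | exact absurd h' hc'
        | (rw [h, h']
           simp only [scW, if_neg (show (1 : F4) ≠ 0 by decide), if_neg (show (1 : F4) ≠ F4.w by decide),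
             if_neg (show (1 : F4) ≠ F4.v by decide), if_neg (show F4.w ≠ 0 by decide),
             if_neg (show F4.v ≠ 0 by decide), if_neg (show F4.v ≠ F4.w by decide), if_true]
           first
             | exact ⟨a j, f0, rfl⟩
             | exact ⟨a j + a j, f2, rfl⟩
             | (refine ⟨0, fun i _ => fn_zero _, ?_⟩; rw [dg_zero, R.one]; done)
             | (refine ⟨a j, f0, ?_⟩; rw [r]; done)
             | (refine ⟨a j + a j, f2, ?_⟩; rw [r, h3, dg_zero, R.one]; done)
             | (refine ⟨a j, f0, ?_⟩; rw [r, ← add_assoc, h3, dg_zero, R.one]; done)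
             | (refine ⟨a j + a j, f2, ?_⟩; rw [r, ← add_assoc, h3, zero_add]; done))
    choose t ht htj using step
    refine ⟨dg (t 0 + t 1 + t 2), ?_⟩
    rw [hΓ, hΓ, R.ρ_sum]
    refine Finset.sum_congr rfl fun j _ => ?_
    rw [← htj j]
    have hd : fn (kW j) (t 0 + t 1 + t 2 - t j) = 0 := by
      have h := fn_add (kW j) (t j) (t 0 + t 1 + t 2 - t j)
      rw [add_sub_cancel, fn_add, fn_add] at h
      rcases (show j = 0 ∨ j = 1 ∨ j = 2 by omega) with rfl | rfl | rfl
      · rw [ht 1 0 (by decide), ht 2 0 (by decide), add_zero, add_zero] at h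
        exact left_eq_add.mp h
      · rw [ht 0 1 (by decide), ht 2 1 (by decide), zero_add, add_zero] at h
        exact left_eq_add.mp h
      · rw [ht 0 2 (by decide), ht 1 2 (by decide), zero_add, zero_add] at h
        exact left_eq_add.mp h
    rw [show t 0 + t 1 + t 2 = t j + (t 0 + t 1 + t 2 - t j) by abel, dg_add, R.mul,
      R.fixed hd (R.scW_mem (he j))]

/-- the stabiliser of a vector outside the fixed plane has an element of order five -/
theorem five_stab {v : M} (hv : v ∉ R.piece 0) : ∃ g : L, orderOf g = 5 ∧ R.ρ g v = v := by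
  classical
  obtain ⟨Γ, hinj, hsurj, h0, hq, hproj, hphase⟩ := R.exists_coord hB
  obtain ⟨w, hw⟩ : ∃ w, w = R.wpart v := ⟨_, rfl⟩
  have hw0 : w ≠ 0 := fun e => hv (R.wpart_eq_zero.mp (hw ▸ e))
  obtain ⟨O, hO⟩ : ∃ O : Set M, O = Set.range fun g => R.ρ g w := ⟨_, rfl⟩
  obtain ⟨C, hC⟩ : ∃ C : Finset (Fin 3 → F4), C = Finset.univ.filter fun c => Γ c ∈ O := ⟨_, rfl⟩
  have hOW : ∀ y ∈ O, R.S (pf 0) y = 0 := by
    rw [hO]
    rintro _ ⟨g, rfl⟩
    show R.S (pf 0) (R.ρ g w) = 0
    rw [hw, ← R.wpart_act hB, R.wpart_proj]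
  have hOC : O = Γ '' (C : Set (Fin 3 → F4)) := by
    ext y
    constructor
    · intro hy
      obtain ⟨c, rfl⟩ := hsurj y (hOW y hy)
      exact ⟨c, by rw [hC]; simpa using hy, rfl⟩
    · rintro ⟨c, hc, rfl⟩
      rw [hC] at hc
      simpa using hc
  have hclosed : ∀ g, ∀ y ∈ O, R.ρ g y ∈ O := by
    rw [hO]
    rintro g _ ⟨h, rfl⟩
    exact ⟨g * h, R.mul g h w⟩
  obtain ⟨Ss, hSs⟩ : ∃ Ss : Finset (Fin 3 → Bool), Ss = C.image suppW := ⟨_, rfl⟩
  have hCmem : ∀ c, c ∈ C ↔ Γ c ∈ O := fun c => by rw [hC]; simp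
  have hCS : C = Finset.univ.filter fun c : Fin 3 → F4 => suppW c ∈ Ss := by
    ext c
    rw [Finset.mem_filter, hSs, Finset.mem_image]
    constructor
    · exact fun h => ⟨Finset.mem_univ _, c, h, rfl⟩
    · rintro ⟨-, d, hd, e⟩
      obtain ⟨g, hg⟩ := hphase d c e
      rw [hCmem, ← hg]
      exact hclosed g _ ((hCmem d).mp hd)
  have hne : Ss.Nonempty := by
    obtain ⟨c, hc⟩ := hsurj w (hw ▸ R.wpart_proj v)
    exact ⟨suppW c, hSs ▸ Finset.mem_image_of_mem _ ((hCmem c).mpr (by rw [hc, hO]; exact ⟨1, R.one w⟩))⟩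
  have hnz : ∀ p ∈ Ss, ∃ j, p j = true := by
    intro p hp
    rw [hSs, Finset.mem_image] at hp
    obtain ⟨c, hc, rfl⟩ := hp
    by_contra hno
    push Not at hno
    have hc0 : c = 0 := funext fun j => by simpa [suppW] using hno j
    have h := (hCmem c).mp hc
    rw [hO] at h
    obtain ⟨g, hg⟩ := h
    refine hw0 (R.ρ_inj g (hg.trans ?_))
    rw [R.ρ_zero]
    have hz : ∀ j, R.S (pf (kW j)) (Γ c) = 0 := fun j => (hproj c j).mpr (by rw [hc0]; rfl)
    rw [← R.split_sum hB (Γ c), h0, zero_add]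
    exact Finset.sum_eq_zero fun j _ => hz j
  have hpar : ∀ p ∈ Ss, ∀ r ∈ Ss, parW p = parW r := by
    intro p hp r hr
    rw [hSs, Finset.mem_image] at hp hr
    obtain ⟨c, hc, rfl⟩ := hp
    obtain ⟨d, hd, rfl⟩ := hr
    rw [← hq, ← hq]
    have hc' := (hCmem c).mp hc
    have hd' := (hCmem d).mp hd
    rw [hO] at hc' hd'
    obtain ⟨g, hg⟩ := hc'
    obtain ⟨g', hg'⟩ := hd'
    rw [← hg, ← hg', R.q_act, R.q_act]
  have hperm : ∀ (i : Fin 3), ∀ p ∈ Ss, (fun j => p (swW i j)) ∈ Ss := by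
    intro i p hp
    rw [hSs, Finset.mem_image] at hp ⊢
    obtain ⟨c, hc, rfl⟩ := hp
    have hy := hclosed (sw i) _ ((hCmem c).mp hc)
    obtain ⟨d, hd⟩ := hsurj _ (hOW _ hy)
    refine ⟨d, (hCmem d).mpr (hd ▸ hy), funext fun j => ?_⟩
    have hiff : d j = 0 ↔ c (swW i j) = 0 := by
      rw [← hproj d j, hd, ← hproj c (swW i j)]
      have hb := Function.Involutive.bijective (swA_invol i)
      have hinv : swW i (swW i j) = j := swW_invol i j
      have e : R.S (pf (kW j)) (R.ρ (sw i) (Γ c)) = R.ρ (sw i) (R.S (pf (kW (swW i j))) (Γ c)) := by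
        conv_lhs => rw [← R.split_sum hB (Γ c), h0, zero_add, R.ρ_sum, R.S_sum]
        rw [Finset.sum_eq_single (swW i j) (fun k _ hk => ?_) (fun h => absurd (Finset.mem_univ _) h)]
        · have := R.move_mem hb (sw_dg i) (swW_spec i (swW i j)) (R.proj_mem (kW (swW i j)) (Γ c))
          rw [hinv] at this
          exact this
        · refine R.proj_other (fun e' => hk ?_) (R.move_mem hb (sw_dg i) (swW_spec i k) (R.proj_mem _ _))
          rw [kW_inj e', swW_invol i k]
      rw [e]
      exact ⟨fun h => R.ρ_inj (sw i) (h.trans (R.ρ_zero _).symm), fun h => by rw [h, R.ρ_zero]⟩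
    simp only [suppW, decide_eq_decide]
    exact not_congr hiff
  have h5 : ¬ 5 ∣ O.ncard := by
    rw [hOC, Set.ncard_image_of_injective _ hinj, Set.ncard_coe_finset, hCS]
    exact supp_count Ss hne hnz hpar hperm
  -- the stabiliser
  letI : MulAction L M := { smul := R.ρ, one_smul := R.one, mul_smul := R.mul }
  haveI : Fact (Nat.Prime 5) := ⟨by norm_num⟩
  have horb : (MulAction.orbit L w).ncard = O.ncard := by rw [hO]; rfl
  have hidx := MulAction.index_stabilizer L w
  have hmul := (MulAction.stabilizer L w).card_mul_index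
  rw [hidx, horb, (Classical.UFourTwo.card_su (F := F4) hF).1] at hmul
  have hdvd : 5 ∣ Nat.card (MulAction.stabilizer L w) := by
    have hp : (5 : ℕ).Prime := by norm_num
    exact (hp.dvd_mul.mp (by rw [hmul]; norm_num)).resolve_right h5
  obtain ⟨g, hg⟩ := exists_prime_orderOf_dvd_card' (G := MulAction.stabilizer L w) 5 hdvd
  refine ⟨g, by rw [Subgroup.orderOf_coe, hg], ?_⟩
  have hgw : R.ρ g w = w := g.2
  have e : v = R.S (pf 0) v + R.wpart v := by rw [wpart, add_left_comm, R.self_add, add_zero]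
  rw [e, R.add, R.fixed_u hB _ (R.proj_mem 0 v), ← hw, hgw]

/-- an element of order five fixes exactly a nondegenerate plane outside the fixed one -/
theorem five_fix {g : L} (hg : orderOf g = 5) :
    {x | R.S (pf 0) x = 0 ∧ R.ρ g x = x}.ncard = 4 ∧
      ∀ w, R.S (pf 0) w = 0 → R.ρ g w = w → w ≠ 0 → ∃ y, R.S (pf 0) y = 0 ∧ R.ρ g y = y ∧ R.b w y = 1 := by
  classical
  have hg5 : g ^ 5 = 1 := hg ▸ pow_orderOf_eq_one g
  let W : AddSubgroup M :=
    { carrier := {x | R.S (pf 0) x = 0}
      zero_mem' := R.S_zero _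
      add_mem' := fun {a b} (ha : R.S (pf 0) a = 0) (hb : R.S (pf 0) b = 0) => by
        show R.S (pf 0) (a + b) = 0
        rw [R.S_add, ha, hb, add_zero]
      neg_mem' := fun {a} (ha : R.S (pf 0) a = 0) => by
        show R.S (pf 0) (-a) = 0
        rw [show -a = a from neg_eq_of_add_eq_zero_left (R.self_add a)]
        exact ha }
  let Fx : AddSubgroup M :=
    { carrier := {x | R.S (pf 0) x = 0 ∧ R.ρ g x = x}
      zero_mem' := ⟨R.S_zero _, R.ρ_zero _⟩
      add_mem' := fun {a b} ha hb => ⟨W.add_mem ha.1 hb.1, by rw [R.add, ha.2, hb.2]⟩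
      neg_mem' := fun {a} ha => by
        have e : -a = a := neg_eq_of_add_eq_zero_left (R.self_add a)
        rw [e]; exact ha }
  have hW64 : (W : Set M).ncard = 64 := by
    obtain ⟨Γ, hinj, hsurj, h0, -, -, -⟩ := R.exists_coord hB
    have e : (W : Set M) = Γ '' Set.univ := Set.ext fun x =>
      ⟨fun hx => by obtain ⟨c, hc⟩ := hsurj x hx; exact ⟨c, trivial, hc⟩, by rintro ⟨c, -, rfl⟩; exact h0 c⟩
    rw [e, Set.ncard_image_of_injective _ hinj, Set.ncard_univ, Nat.card_eq_fintype_card, Fintype.card_fun,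
      F4.card, Fintype.card_fin]
    norm_num
  have hmod := R.five_count hg5 (W : Set M) fun x (hx : R.S (pf 0) x = 0) => by
    show R.S (pf 0) _ = 0
    rw [R.proj_equivariant hB, hx]
  rw [hW64] at hmod
  change 64 ≡ (Fx : Set M).ncard [MOD 5] at hmod
  have hdvd : Nat.card Fx ∣ Nat.card W := AddSubgroup.card_dvd_of_le fun x hx => hx.1
  rw [show Nat.card W = (W : Set M).ncard from Nat.card_coe_set_eq _, hW64] at hdvd
  have hcases : Nat.card Fx = 4 ∨ Nat.card Fx = 64 := by
    have hm : 64 % 5 = Nat.card Fx % 5 := by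
      rw [show Nat.card Fx = (Fx : Set M).ncard from Nat.card_coe_set_eq _]; exact hmod
    have := Nat.le_of_dvd (by norm_num) hdvd
    have hpos : 0 < Nat.card Fx := Nat.card_pos
    interval_cases h : Nat.card Fx <;> simp_all
  have hF4' : Nat.card Fx = 4 := by
    refine hcases.resolve_right fun h64 => ?_
    have heq : Fx = W := AddSubgroup.eq_of_le_of_card_ge (fun x hx => hx.1) (by
      rw [h64, show Nat.card W = (W : Set M).ncard from Nat.card_coe_set_eq _, hW64])
    have h1 : g = 1 := R.faithful g fun x => by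
      have e : x = R.S (pf 0) x + R.wpart x := by rw [wpart, add_left_comm, R.self_add, add_zero]
      have hwx : R.wpart x ∈ Fx := by rw [heq]; exact R.wpart_proj x
      conv_lhs => rw [e, R.add, R.fixed_u hB g (R.proj_mem 0 x), hwx.2, ← e]
    rw [h1, orderOf_one] at hg
    omega
  refine ⟨by rw [← hF4']; exact (Nat.card_coe_set_eq _).symm, fun w hw hgw hw0 => ?_⟩
  by_contra hno
  obtain ⟨y, hy⟩ := R.nondeg w hw0
  change R.b w y = 1 at hy
  obtain ⟨y', hy'⟩ : ∃ y', y' = R.wpart y := ⟨_, rfl⟩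
  obtain ⟨s, hs⟩ : ∃ s, s = y' + R.ρ g y' + R.ρ (g ^ 2) y' + R.ρ (g ^ 3) y' + R.ρ (g ^ 4) y' := ⟨_, rfl⟩
  have hwy : R.b w y' = 1 := by
    rw [hy', ← hy, R.wpart_b hB w y, hw, R.b_zero_left, zero_add, show R.wpart w = w by rw [wpart, hw, add_zero]]
  have hinv : ∀ n : ℕ, R.b w (R.ρ (g ^ n) y') = 1 := by
    intro n
    induction n with
    | zero => rw [pow_zero, R.one]; exact hwy
    | succ n ih =>
      rw [pow_succ', R.mul]
      conv_lhs => rw [← hgw, R.b_act]
      exact ih
  refine hno ⟨s, ?_, ?_, ?_⟩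
  · have h := R.wpart_proj y
    rw [← hy'] at h
    rw [hs]
    simp only [R.S_add, R.proj_equivariant hB, h, add_zero]
  · rw [hs]
    simp only [R.add, ← R.mul, ← pow_succ', ← pow_two]
    rw [show g ^ (4 + 1) = 1 from hg5, R.one]
    abel
  · rw [hs]
    simp only [R.b_add_right, hwy, hinv 2, hinv 3, hinv 4]
    rw [show R.b w (R.ρ g y') = 1 by simpa using hinv 1]
    decide

end Rep

end Cfsg.Agent.Spor.CHZ
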