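import Cfsg.Agent.Lib.Spor.CHZ.Mixed

/-!
A conjugate in the centraliser which lies outside the normal extraspecial subgroup: what its centraliser
there and the meet of the two subgroups look like.
-/

set_option autoImplicit false
set_option maxRecDepth 100000
set_option linter.unusedSectionVars false

namespace Cfsg.Agent.Spor.CHZ

open Cfsg.Agent.Spor.SpFour Cfsg.Agent.Small.Unitary

universe w

/-- no conjugate of the centre lies in the subgroup apart from itself -/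
def NoQ {G : Type w} [Group G] {z : G} (S : Setup z) : Prop := ∀ x ∈ S.Q, IsConj z x → x = z

/-- two commuting different conjugates, neither in the other's subgroup -/
structure Two {G : Type w} [Group G] {z t : G} (S : Setup z) (T : Setup t) : Prop where
  comm : Commute t z
  tQ : t ∉ S.Q
  zQ : z ∉ T.Q
  nzQ : NoQ S
  ntQ : NoQ T
  conj : IsConj z t

namespace Two

variable {G : Type w} [Group G] [Finite G] {z t : G} {S : Setup z} {T : Setup t} (P : Two S T)
include P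

theorem symm : Two T S := ⟨P.comm.symm, P.zQ, P.tQ, P.ntQ, P.nzQ, P.conj.symm⟩

theorem semi : Semi (S.π t) := S.π_semi t P.comm

theorem sq : S.π t * S.π t = 1 := by rw [← S.π_mul t t P.comm P.comm, T.z2, S.π_one]

theorem ne_one : S.π t ≠ 1 := fun e => P.tQ ((S.π_iff t P.comm).mp e)

/-- the element made by a commutator with t -/
theorem comm_conj {y : G} (hy : y ∈ S.Q) : t * y * t * y⁻¹ ∈ S.Q ∧
    S.ν (t * y * t * y⁻¹) = S.π t (S.ν y) + S.ν y ∧ IsConj z (t * (t * y * t * y⁻¹)) := by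
  have ht : t⁻¹ = t := T.z_inv
  have h1 : t * y * t ∈ S.Q := by
    have := S.normal t P.comm y hy
    rwa [ht] at this
  refine ⟨S.Q.mul_mem h1 (S.Q.inv_mem hy), ?_, ?_⟩
  · rw [S.ν_mul _ h1 _ (S.Q.inv_mem hy), S.ν_inv hy]
    have := S.ν_act t P.comm y hy
    rw [ht] at this
    rw [this]
  · rw [show t * (t * y * t * y⁻¹) = t * t * (y * t * y⁻¹) by group, T.z2, one_mul]
    exact P.conj.trans (isConj_iff.mpr ⟨y, rfl⟩)

theorem meet_z : z ∉ S.Q ⊓ T.Q := fun h => P.zQ h.2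

theorem meet_t : t ∉ S.Q ⊓ T.Q := fun h => P.tQ h.1

/-- no member times an element of the meet -/
theorem meet_not_conj {d : G} (hd : d ∈ S.Q ⊓ T.Q) (hd1 : d ≠ 1) : ¬ IsConj z (t * d) := fun h =>
  hd1 (mul_eq_left.mp (P.ntQ _ (T.Q.mul_mem T.zQ hd.2) (P.conj.symm.trans h)))

theorem meet_comm {d y : G} (hd : d ∈ S.Q ⊓ T.Q) (hy : y ∈ S.CQ t) : Commute y d := by
  obtain ⟨hy, hyt⟩ := S.mem_CQ.mp hy
  rcases S.conj_Q hd.1 hy with e | e
  · exact mul_inv_eq_iff_eq_mul.mp e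
  exfalso
  refine P.zQ ?_
  have : d * z ∈ T.Q := e ▸ T.normal y hyt d hd.2
  simpa using T.Q.mul_mem (T.Q.inv_mem hd.2) this

theorem meet_fix {d : G} (hd : d ∈ S.Q ⊓ T.Q) : S.π t (S.ν d) = S.ν d := by
  rw [← S.ν_act t P.comm d hd.1, (T.cent d hd.2).symm.eq, mul_inv_cancel_right]

theorem CQ_fix {y : G} (hy : y ∈ S.CQ t) : S.π t (S.ν y) = S.ν y := by
  obtain ⟨hy, hyt⟩ := S.mem_CQ.mp hy
  rw [← S.ν_act t P.comm y hy, hyt.symm.eq, mul_inv_cancel_right]

/-- commutators of the two centralisers lie in the meet -/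
theorem moves {y r : G} (hy : y ∈ S.CQ t) (hr : r ∈ T.CQ z) :
    ∃ d ∈ S.Q ⊓ T.Q, S.π r (S.ν y) + S.ν y = S.ν d := by
  obtain ⟨hy, hyt⟩ := S.mem_CQ.mp hy
  obtain ⟨hr, hrz⟩ := T.mem_CQ.mp hr
  refine ⟨r * y * r⁻¹ * y⁻¹, ⟨S.Q.mul_mem (S.normal r hrz y hy) (S.Q.inv_mem hy), ?_⟩, ?_⟩
  · rw [show r * y * r⁻¹ * y⁻¹ = r * (y * r⁻¹ * y⁻¹) by group]
    exact T.Q.mul_mem hr (T.normal y hyt _ (T.Q.inv_mem hr))
  · rw [S.ν_mul _ (S.normal r hrz y hy) _ (S.Q.inv_mem hy), S.ν_inv hy, S.ν_act r hrz y hy]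

theorem moves_meet {d r : G} (hd : d ∈ S.Q ⊓ T.Q) (hr : r ∈ T.CQ z) : S.π r (S.ν d) = S.ν d := by
  have h : Commute r d := P.symm.meet_comm ⟨hd.2, hd.1⟩ hr
  obtain ⟨hr, hrz⟩ := T.mem_CQ.mp hr
  rw [← S.ν_act r hrz d hd.1, h.eq, mul_inv_cancel_right]

/-- if t times the centre is a conjugate then so is t times everything over a commutator -/
theorem full (hfull : IsConj z (t * z)) {x : G} (hx : x ∈ S.Q) {y : V} (hxy : S.ν x = S.π t y + y) :
    IsConj z (t * x) := by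
  obtain ⟨q, hq, rfl⟩ := S.ν_surj y
  obtain ⟨hc, hν, hconj⟩ := P.comm_conj hq
  rcases S.ν_eq hx hc (hxy.trans hν.symm) with e | e
  · rw [e]; exact hconj
  · rw [e, show t * (t * q * t * q⁻¹ * z) = t * t * (q * t * (q⁻¹ * z)) by group, T.z2, one_mul,
      ((S.cent q hq).inv_left).eq, show q * t * (z * q⁻¹) = q * (t * z) * q⁻¹ by group]
    exact hfull.trans (isConj_iff.mpr ⟨q, rfl⟩)

theorem full_meet (hfull : IsConj z (t * z)) {d : G} (hd : d ∈ S.Q ⊓ T.Q) {y : V}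
    (hdy : S.ν d = S.π t y + y) : d = 1 :=
  by_contra fun h => P.meet_not_conj hd h (P.full hfull hd.1 hdy)

theorem full_of_flip {q : G} (hq : q ∈ S.Q) (hfix : S.π t (S.ν q) = S.ν q) (hne : ¬ Commute q t) :
    IsConj z (t * z) := by
  have h : S.ν (t * q * t⁻¹) = S.ν q := by rw [S.ν_act t P.comm q hq, hfix]
  rcases S.ν_eq (S.normal t P.comm q hq) hq h with e | e
  · exact absurd (mul_inv_eq_iff_eq_mul.mp e).symm hne
  · refine P.conj.trans (isConj_iff.mpr ⟨q, ?_⟩)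
    have h2 : t * q = q * t * z := by
      rw [mul_inv_eq_iff_eq_mul.mp e, mul_assoc q z t, P.comm.symm.eq, mul_assoc]
    rw [mul_inv_eq_iff_eq_mul, mul_assoc t z q, ← (S.cent q hq).eq, ← mul_assoc, h2, mul_assoc, S.z2, mul_one]

/-- on a set of singular commutators a full class forces commuting -/
theorem full_comm (hfull : IsConj z (t * z)) {q : G} (hq : q ∈ S.Q) (hfix : S.π t (S.ν q) = S.ν q)
    (hsing : herm (S.ν q) (S.ν q) = 0) {y : V} (hy : S.ν q = S.π t y + y) : Commute q t := by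
  obtain ⟨g, hg⟩ := isConj_iff.mp (P.full hfull hq hy)
  have hinv : t * q * (t * q) = 1 := by
    rw [← hg, show g * z * g⁻¹ * (g * z * g⁻¹) = g * (z * z) * g⁻¹ by group, S.z2]; group
  have hq2 : q * q = 1 := (S.ν_sq q hq).mpr hsing
  show q * t = t * q
  calc q * t = t * t * q * t * (q * q) := by rw [T.z2, hq2, one_mul, mul_one]
    _ = t * (t * q * (t * q)) * q := by group
    _ = t * q := by rw [hinv, mul_one]

theorem linear_cases (hl : Lin (S.π t)) :
    ((fixS (S.π t)).ncard = 16 ∧ (Set.range fun x => S.π t x + x) = fixS (S.π t)) ∨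
      ∃ u : V, u ≠ 0 ∧ herm u u = 0 ∧ ∀ x, S.π t x = x + herm u x • u :=
  hl.invol_cases P.sq P.ne_one

theorem sixteen_comm (hl : Lin (S.π t)) (h16 : (Set.range fun x => S.π t x + x) = fixS (S.π t)) {q : G}
    (hq : q ∈ S.Q) (hfix : S.π t (S.ν q) = S.ν q) : Commute q t := by
  by_contra hne
  obtain ⟨y, hy⟩ : S.ν q ∈ Set.range fun x => S.π t x + x := h16 ▸ hfix
  have hs : herm (S.ν q) (S.ν q) = 0 := by
    conv_lhs => arg 1; rw [← hy]
    exact hl.herm_image_fix hfix y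
  exact hne (P.full_comm (P.full_of_flip hq hfix hne) hq hfix hs hy.symm)

theorem z_mem_CQ : z ∈ S.CQ t := S.mem_CQ.mpr ⟨S.zQ, P.comm.symm⟩

/-- the centraliser has at least 32 elements -/
theorem card_CQ_ge (hl : Lin (S.π t)) : 32 ≤ Nat.card (S.CQ t) := by
  rw [S.card_of_mem (S.CQ_le t) P.z_mem_CQ]
  rcases P.linear_cases hl with ⟨h16, hr⟩ | ⟨u, hu0, huu, hf⟩
  · have hsub : fixS (S.π t) ⊆ S.ν '' (S.CQ t : Set G) := fun v hv => by
      obtain ⟨q, hq, rfl⟩ := S.ν_surj v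
      exact ⟨q, S.mem_CQ.mpr ⟨hq, P.sixteen_comm hl hr hq hv⟩, rfl⟩
    have := Set.ncard_le_ncard hsub
    omega
  · obtain ⟨x0, hx0⟩ := exists_herm_val hu0 1
    have h64 : 64 ≤ (fixS (S.π t)).ncard := by
      have hs : Semi (S.π t) := Or.inl hl
      have h := card_kernel_image hs
      have hle : (Set.range fun x => S.π t x + x) ⊆ (fun c : F4 => c • u) '' Set.univ := by
        rintro _ ⟨x, rfl⟩
        exact ⟨herm u x, trivial, by simp only; rw [hf, add_comm, ← add_assoc, add_self, zero_add]⟩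
      have h2 := (Set.ncard_le_ncard hle).trans (Set.ncard_image_le (Set.toFinite _))
      rw [Set.ncard_univ, Nat.card_eq_fintype_card, F4.card] at h2
      nlinarith
    by_cases hall : ∀ q ∈ S.Q, S.π t (S.ν q) = S.ν q → Commute q t
    · have hsub : fixS (S.π t) ⊆ S.ν '' (S.CQ t : Set G) := fun v hv => by
        obtain ⟨q, hq, rfl⟩ := S.ν_surj v
        exact ⟨q, S.mem_CQ.mpr ⟨hq, hall q hq hv⟩, rfl⟩
      have := Set.ncard_le_ncard hsub
      omega
    push Not at hall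
    obtain ⟨q0, hq0, hfix0, hne0⟩ := hall
    have hcover : fixS (S.π t) ⊆ S.ν '' (S.CQ t : Set G) ∪ (· + S.ν q0) '' (S.ν '' (S.CQ t : Set G)) := by
      intro v hv
      obtain ⟨q, hq, rfl⟩ := S.ν_surj v
      by_cases hc : Commute q t
      · exact Or.inl ⟨q, S.mem_CQ.mpr ⟨hq, hc⟩, rfl⟩
      refine Or.inr ⟨S.ν (q * q0), ⟨q * q0, S.mem_CQ.mpr ⟨S.Q.mul_mem hq hq0, ?_⟩, rfl⟩, ?_⟩
      · have key : ∀ q ∈ S.Q, S.π t (S.ν q) = S.ν q → ¬ Commute q t → t * q * t⁻¹ = q * z := by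
          intro q hq hf hn
          refine (S.ν_eq (S.normal t P.comm q hq) hq (by rw [S.ν_act t P.comm q hq, hf])).resolve_left ?_
          exact fun e => hn (mul_inv_eq_iff_eq_mul.mp e).symm
        refine (mul_inv_eq_iff_eq_mul.mp ?_).symm
        calc t * (q * q0) * t⁻¹ = (t * q * t⁻¹) * (t * q0 * t⁻¹) := by group
          _ = q * z * (q0 * z) := by rw [key q hq hv hc, key q0 hq0 hfix0 hne0]
          _ = q * q0 := by
            rw [mul_assoc, ← mul_assoc z, (S.cent q0 hq0).symm.eq, mul_assoc, S.z2, mul_one]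
      · show S.ν (q * q0) + S.ν q0 = S.ν q
        rw [S.ν_mul q hq q0 hq0, add_assoc, add_self, add_zero]
    have := (Set.ncard_le_ncard hcover).trans (Set.ncard_union_le _ _)
    rw [Set.ncard_image_of_injective _ (add_left_injective _)] at this
    omega

end Two

end Cfsg.Agent.Spor.CHZ
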