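import Cfsg.Agent.Lib.Spor.CHZ.Types
import Cfsg.Agent.Lib.Classical.Frame.Grp

/-!
The centraliser of the product of two commuting members stabilises their component.
-/

set_option autoImplicit false
set_option maxRecDepth 100000
set_option maxHeartbeats 400000
set_option linter.unusedSectionVars false

namespace Cfsg.Agent.Spor.CHZ

open Cfsg.Agent.Spor.SpFour Cfsg.Agent.Small.Unitary

universe w

/-- the members within distance two -/
def comp {G : Type w} [Group G] (D : Set G) (z : G) : Set G := {b | b ∈ D ∧ (b = z ∨ ∃ a ∈ nb D z, Commute a b)}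

variable {G : Type w} [Group G] [Finite G] {D : Set G} (L : Loc D)
include L

theorem Loc.mem_comp_self {z : G} (hz : z ∈ D) : z ∈ comp D z := ⟨hz, Or.inl rfl⟩

theorem Loc.comp_step {z b y : G} (hz : z ∈ D) (hb : b ∈ comp D z) (hy : y ∈ D) (h : Commute b y) : y ∈ comp D z :=
  ⟨hy, closed L hz hb.1 hb.2 hy h⟩

theorem Loc.comp_symm {z b : G} (hz : z ∈ D) (hb : b ∈ comp D z) : z ∈ comp D b := by
  obtain ⟨hbD, rfl | ⟨a, ha, hab⟩⟩ := hb
  · exact L.mem_comp_self hbD
  by_cases h : a = b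
  · subst h
    exact L.comp_step hbD (L.mem_comp_self hbD) hz ha.2.2
  · exact ⟨hz, Or.inr ⟨a, ⟨ha.1, h, hab⟩, ha.2.2⟩⟩

theorem Loc.comp_le {z b : G} (hz : z ∈ D) (hb : b ∈ comp D z) : comp D b ⊆ comp D z := by
  rintro y ⟨hy, rfl | ⟨a, ha, hay⟩⟩
  · exact hb
  · exact L.comp_step hz (L.comp_step hz hb ha.1 ha.2.2.symm) hy hay

theorem Loc.comp_eq {z b : G} (hz : z ∈ D) (hb : b ∈ comp D z) : comp D b = comp D z :=
  Set.Subset.antisymm (L.comp_le hz hb) (L.comp_le hb.1 (L.comp_symm hz hb))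

theorem Loc.comp_conj {z b g : G} (hb : b ∈ comp D z) : g * b * g⁻¹ ∈ comp D (g * z * g⁻¹) := by
  obtain ⟨hbD, rfl | ⟨a, ha, hab⟩⟩ := hb
  · exact ⟨L.conj g b hbD, Or.inl rfl⟩
  · exact ⟨L.conj g b hbD, Or.inr ⟨g * a * g⁻¹, L.nb_conj ha, hab.map (MulAut.conj g).toMonoidHom⟩⟩

/-- the stabiliser of a component -/
def Loc.stab {z : G} (hz : z ∈ D) : Subgroup G where
  carrier := {g | g * z * g⁻¹ ∈ comp D z}
  one_mem' := by simpa using L.mem_comp_self hz
  mul_mem' := by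
    intro g h hg hh
    have e := L.comp_conj (g := g) hh
    rw [L.comp_eq hz hg] at e
    show g * h * z * (g * h)⁻¹ ∈ comp D z
    simpa [mul_assoc] using e
  inv_mem' := by
    intro g hg
    have h := L.comp_conj (g := g⁻¹) (L.comp_symm hz hg)
    simpa [mul_assoc] using h

theorem Loc.mem_stab {z g : G} (hz : z ∈ D) : g ∈ L.stab hz ↔ g * z * g⁻¹ ∈ comp D z := Iff.rfl

theorem Loc.stab_map {z b g : G} (hz : z ∈ D) (hg : g ∈ L.stab hz) (hb : b ∈ comp D z) :
    g * b * g⁻¹ ∈ comp D z := L.comp_eq hz hg ▸ L.comp_conj hb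

theorem Loc.cent_stab {z b g : G} (hz : z ∈ D) (hb : b ∈ comp D z) (hg : Commute g b) : g ∈ L.stab hz := by
  rw [L.mem_stab]
  have e : g * b * g⁻¹ = b := by rw [hg.eq, mul_inv_cancel_right]
  have h := L.comp_conj (g := g) (L.comp_symm hz hb)
  rw [e, L.comp_eq hz hb] at h
  exact h

/-- an involution stabilising a component fixes a member of it -/
theorem Loc.fixed_member {z y : G} (hz : z ∈ D) (hy2 : y * y = 1) (hyK : y ∈ L.stab hz) :
    ∃ b ∈ comp D z, Commute y b := by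
  classical
  haveI : Fintype ↥(comp D z) := Fintype.ofFinite _
  let f : ↥(comp D z) → ↥(comp D z) := fun b => ⟨y * b * y⁻¹, L.stab_map hz hyK b.2⟩
  have hf : Function.Involutive f := fun b => Subtype.ext (by
    show y * (y * b * y⁻¹) * y⁻¹ = b
    rw [show y * (y * (b : G) * y⁻¹) * y⁻¹ = (y * y) * b * (y * y)⁻¹ by group, hy2]
    simp)
  have hodd : ¬ 2 ∣ Fintype.card ↥(comp D z) := by
    rw [← Nat.card_eq_fintype_card, Nat.card_coe_set_eq,
      show (comp D z).ncard = 693 from card_component L hz]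
    decide
  haveI : Fact (Nat.Prime 2) := ⟨Nat.prime_two⟩
  obtain ⟨b, hb⟩ := Equiv.Perm.exists_fixed_point_of_prime (p := 2) (n := 1) hodd (σ := hf.toPerm f)
    (Equiv.ext fun b => by rw [pow_one, pow_two, Equiv.Perm.mul_apply]; exact hf b)
  have e : y * (b : G) * y⁻¹ = b := congrArg Subtype.val hb
  exact ⟨b, b.2, mul_inv_eq_iff_eq_mul.mp e⟩

/-- a member stabilising a component lies in it -/
theorem Loc.member_stab {z y : G} (hz : z ∈ D) (hy : y ∈ D) (hyK : y ∈ L.stab hz) : y ∈ comp D z := by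
  obtain ⟨b, hb, hc⟩ := L.fixed_member hz (L.sq hy) hyK
  exact L.comp_step hz hb hy hc.symm

/-- products inside a component -/
theorem Loc.prod_comp {x y : G} (hx : x ∈ D) (hy : y ∈ comp D x) (hn : ¬ Commute x y) : (x * y) ^ 3 = 1 := by
  obtain ⟨hyD, rfl | ⟨a, ha, hay⟩⟩ := hy
  · exact absurd (Commute.refl y) hn
  obtain ⟨S, hS⟩ := L.str a ha.1
  exact braid L ha.1 hS ⟨hx, ha.2.1.symm, ha.2.2.symm⟩
    ⟨hyD, fun e => hn (e ▸ ha.2.2.symm), hay.symm⟩ hn

omit [Finite G] L in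
theorem three_product {a x p1 p2 p3 : G} (ha : a * a = 1) (hx : x * x = 1) (hax : Commute a x) (c1 : Commute a p1)
    (c2 : Commute a p2) (x1 : Commute p1 x) (x2 : Commute p2 x) (o2 : p2 * p2 = 1)
    (o3 : (p1 * p2 * x) * (p1 * p2 * x) = 1) (h3 : p3 = p1 * p2 * x) :
    (a * p1) * (a * p2) * (a * p3) = x * a := by
  have h12 : p1 * p2 * (p1 * p2) = 1 := by
    have e : p1 * p2 * x * (p1 * p2 * x) = p1 * p2 * (p1 * p2) * (x * x) := by
      rw [mul_assoc (p1 * p2) x, ← mul_assoc x (p1 * p2), ((x1.mul_left x2).symm).eq]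
      group
    rwa [e, hx, mul_one] at o3
  have c12 : Commute a (p1 * p2) := c1.mul_right c2
  subst h3
  calc (a * p1) * (a * p2) * (a * (p1 * p2 * x)) = a * (p1 * a) * p2 * a * (p1 * p2 * x) := by group
    _ = a * a * (p1 * p2 * a) * (p1 * p2 * x) := by rw [← c1.eq]; group
    _ = a * (p1 * p2 * (p1 * p2)) * x := by rw [ha, ← c12.eq]; group
    _ = x * a := by rw [h12, mul_one, hax.eq]

/-- the product of the remaining three members on a line -/
theorem Loc.line_five {x a : G} (hx : x ∈ D) (ha : a ∈ nb D x) : ∃ p q r : G, p ∈ line D x a ∧ q ∈ line D x a ∧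
    r ∈ line D x a ∧ p ≠ x ∧ p ≠ a ∧ q ≠ x ∧ q ≠ a ∧ r ≠ x ∧ r ≠ a ∧ p ≠ q ∧ p * q * r = x * a := by
  classical
  obtain ⟨S, hS⟩ := L.str x hx
  obtain ⟨u, hu⟩ := point L hx hS ha
  obtain ⟨x0, hx0⟩ := exists_herm_val hu.ne 1
  choose y hy hyν using fun c : F4 => S.ν_surj (c • x0)
  have hν : ∀ c, a * y c * a * (y c)⁻¹ ∈ S.Q ∧ S.ν (a * y c * a * (y c)⁻¹) = c • u := fun c => by
    have h1 := S.normal a ha.2.2 _ (hy c)
    have h := S.ν_act a ha.2.2 _ (hy c)
    rw [L.inv ha.1] at h1 h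
    exact ⟨S.Q.mul_mem h1 (S.Q.inv_mem (hy c)), by
      rw [S.ν_mul _ h1 _ (S.Q.inv_mem (hy c)), S.ν_inv (hy c), h, hu.act, hyν, herm_smul_right, hx0, mul_one,
        add_comm (c • x0), add_assoc, add_self, add_zero]⟩
  obtain ⟨b, hb⟩ : ∃ b : F4 → G, ∀ c, b c = a * (a * y c * a * (y c)⁻¹) := ⟨_, fun _ => rfl⟩
  have hbe : ∀ c, b c = y c * a * (y c)⁻¹ := fun c => by
    rw [hb, show a * (a * y c * a * (y c)⁻¹) = a * a * (y c * a * (y c)⁻¹) by group, L.sq ha.1, one_mul]
  have hbl : ∀ c, b c ∈ line D x a ∧ b c ≠ x := fun c => by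
    have hc := S.cent _ (hy c)
    have hxy : y c * x * (y c)⁻¹ = x := mul_inv_eq_iff_eq_mul.mpr hc.eq
    have hne : b c ≠ x := fun e => ha.2.1 ((MulAut.conj (y c)).injective
      ((hbe c).symm.trans (e.trans hxy.symm)))
    refine ⟨(mem_line_iff L hx hS ha).mpr (Or.inr ⟨⟨?_, hne, ?_⟩, ?_⟩), hne⟩
    · rw [hbe]; exact L.conj _ a ha.1
    · rw [hbe]; exact (hc.mul_left ha.2.2).mul_left hc.inv_left
    · rw [hbe, S.π_mul _ _ (hc.mul_left ha.2.2) hc.inv_left, S.π_mul _ _ hc ha.2.2, S.π_inv hc,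
        (S.π_iff _ hc).mpr (hy c), inv_one, one_mul, mul_one]
  have haline : a ∈ line D x a := ⟨ha.1, fun v _ _ h => h⟩
  have hne : ∀ c, c ≠ 0 → b c ≠ a := fun c hc e => by
    have h : a * y c * a * (y c)⁻¹ = 1 := mul_eq_left.mp ((hb c).symm.trans e)
    have := (hν c).2
    rw [h, S.ν_one] at this
    exact hu.ne ((smul_eq_zero.mp this.symm).resolve_left hc)
  refine ⟨b F4.i, b F4.w, b F4.v, (hbl _).1, (hbl _).1, (hbl _).1, (hbl _).2, hne _ (by decide +kernel),
    (hbl _).2, hne _ (by decide +kernel), (hbl _).2, hne _ (by decide +kernel), fun e => ?_, ?_⟩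
  · rw [hb, hb] at e
    have h := congrArg S.ν (mul_left_cancel e)
    rw [(hν _).2, (hν _).2] at h
    exact absurd (smul_left_injective F4 hu.ne h) (by decide +kernel)
  have hcomm : ∀ c, Commute a (a * y c * a * (y c)⁻¹) := fun c => by
    have h : Commute a (b c) := L.line_comm hx ha haline (hbl c).1
    have h2 : Commute a (a * b c) := (Commute.refl a).mul_right h
    rwa [hb, ← mul_assoc a a, L.sq ha.1, one_mul] at h2
  have hB : B (S.ν (y F4.i)) (S.ν (a * y F4.w * a * (y F4.w)⁻¹)) ≠ 0 := by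
    rw [(hν _).2, hyν, B_eq, show (F4.i : F4) = 1 from rfl, one_smul, herm_smul_right, ← star_herm, hx0, star_one,
      mul_one]
    decide +kernel
  have hflip : y F4.i * (a * y F4.w * a * (y F4.w)⁻¹) * (y F4.i)⁻¹ = a * y F4.w * a * (y F4.w)⁻¹ * x :=
    S.conj_Q_ne (hν _).1 (hy _) hB
  have hsum : a * y F4.v * a * (y F4.v)⁻¹ =
      (a * y F4.i * a * (y F4.i)⁻¹) * (a * y F4.w * a * (y F4.w)⁻¹) * x := by
    have hk : Commute ((y F4.v)⁻¹ * (y F4.i * y F4.w)) a := by
      refine commutes_orth L hx hS ha hu (S.Q.mul_mem (S.Q.inv_mem (hy _)) (S.Q.mul_mem (hy _) (hy _))) ?_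
      rw [S.ν_mul _ (S.Q.inv_mem (hy _)) _ (S.Q.mul_mem (hy _) (hy _)), S.ν_inv (hy _), S.ν_mul _ (hy _) _ (hy _),
        hyν, hyν, hyν, herm_add_right, herm_add_right, herm_smul_right, herm_smul_right, herm_smul_right, hx0,
        mul_one, mul_one, mul_one]
      decide +kernel
    have e : a * (y F4.i * y F4.w) * a * (y F4.i * y F4.w)⁻¹ = a * y F4.v * a * (y F4.v)⁻¹ := by
      calc a * (y F4.i * y F4.w) * a * (y F4.i * y F4.w)⁻¹
          = a * y F4.v * (((y F4.v)⁻¹ * (y F4.i * y F4.w)) * a * ((y F4.v)⁻¹ * (y F4.i * y F4.w))⁻¹) *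
              (y F4.v)⁻¹ := by group
        _ = a * y F4.v * a * (y F4.v)⁻¹ := by rw [hk.eq, mul_inv_cancel_right]
    rw [← e, mul_assoc _ _ x, ← hflip,
      show a * y F4.i * a * (y F4.i)⁻¹ * (y F4.i * (a * y F4.w * a * (y F4.w)⁻¹) * (y F4.i)⁻¹) =
        a * y F4.i * (a * a) * (y F4.w * a * (y F4.w)⁻¹ * (y F4.i)⁻¹) by group, L.sq ha.1]
    group
  have hord : ∀ c, (a * y c * a * (y c)⁻¹) * (a * y c * a * (y c)⁻¹) = 1 := fun c => by
    refine (S.ν_sq _ (hν c).1).mpr ?_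
    rw [(hν c).2, herm_smul_left, herm_smul_right, hu.iso, mul_zero, mul_zero]
  rw [hb, hb, hb]
  exact three_product (L.sq ha.1) (L.sq hx) ha.2.2 (hcomm _) (hcomm _) (S.cent _ (hν _).1)
    (S.cent _ (hν _).1) (hord _) (hsum ▸ hord _) hsum

/-- a member of the component commuting with the product commutes with both -/
theorem Loc.commute_pair {x a s : G} (hx : x ∈ D) (ha : a ∈ nb D x) (hs : s ∈ comp D x) (h : Commute s (x * a)) :
    Commute s x := by
  by_contra hn
  obtain ⟨hsD, rfl | ⟨b, hb, hbs⟩⟩ := hs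
  · exact hn (Commute.refl s)
  have hbs' : b ≠ s := fun e => hn (e ▸ hb.2.2)
  obtain ⟨e, he, hes, hex⟩ := cover L hsD hx hn ⟨b, ⟨hb.1, hbs', hbs⟩, hb.2.2⟩ ha
  have hea : e ≠ a := by
    rintro rfl
    have h1 := h.mul_right hes.symm
    rw [mul_assoc, L.sq he.1, mul_one] at h1
    exact hn h1
  obtain ⟨hen, hel⟩ := L.line_nb hx ha he hex
  have hxe : x ∈ nb D e := ⟨hx, hex.symm, hen.2.2.symm⟩
  have hae : a ∈ line D e x := by
    rw [line_symm, hel]
    exact ⟨ha.1, fun v _ _ hv => hv⟩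
  have hse : s ∈ nb D e := ⟨hsD, fun e' => hn (e' ▸ hen.2.2), hes.symm⟩
  obtain ⟨S, hS⟩ := L.str e he.1
  obtain ⟨han, hπ⟩ := ((mem_line_iff L he.1 hS hxe).mp hae).resolve_left hea.symm
  obtain ⟨u, hu⟩ := point L he.1 hS hse
  obtain ⟨p, hp⟩ := point L he.1 hS hxe
  obtain ⟨y, hy, hya⟩ := over_same L he.1 hS hxe hp han hπ
  have hiQ : x * a ∈ S.Q := (S.π_iff _ (hxe.2.2.mul_left han.2.2)).mp (by
    rw [S.π_mul _ _ hxe.2.2 han.2.2, hπ, ← S.π_mul _ _ hxe.2.2 hxe.2.2, L.sq hx, S.π_one])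
  have hi1 : x * a ≠ 1 := fun e' => ha.2.1 (by
    rw [← one_mul a, ← L.sq hx, mul_assoc, e', mul_one])
  have hie : x * a ≠ e := fun e' => by
    obtain ⟨T, hT⟩ := L.str x hx
    refine half_at L hx hT ha ?_
    rw [ha.2.2.eq, e']
    exact he.1
  have hν : S.ν (x * a) = herm p (S.ν y) • p := by
    have h1 := S.ν_act x hxe.2.2 y hy
    rw [L.inv hx] at h1
    have hm : x * y * x ∈ S.Q := by simpa [L.inv hx] using S.normal x hxe.2.2 y hy
    rw [hya, show x * (y * x * y⁻¹) = x * y * x * y⁻¹ by group, S.ν_mul _ hm _ (S.Q.inv_mem hy), S.ν_inv hy, h1,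
      hp.act, add_comm (S.ν y), add_assoc, add_self, add_zero]
  have hν0 := S.ν_ne hiQ hi1 hie
  rw [hν] at hν0
  have hfix : herm u (S.ν (x * a)) = 0 := by
    have h1 := S.ν_act s hse.2.2 _ hiQ
    rw [h.eq, mul_inv_cancel_right, hu.act] at h1
    exact (smul_eq_zero.mp (left_eq_add.mp h1)).resolve_right hu.ne
  rw [hν, herm_smul_right] at hfix
  refine hn ((commute_iff L he.1 hS hse hu hxe hp).mpr ?_)
  exact (mul_eq_zero.mp hfix).resolve_left fun h0 => hν0 (by rw [h0, zero_smul])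

/-- no third member is moved to a member by the product -/
theorem Loc.not_third {x a s : G} (hx : x ∈ D) (ha : a ∈ nb D x) (hs : s ∈ D) (h1 : Commute s x)
    (h2 : Commute s a) (h : s * (x * a) ∈ D) : s = x ∨ s = a := by
  by_contra hne
  rw [not_or] at hne
  obtain ⟨S, hS⟩ := L.str s hs
  have hxs : x ∈ nb D s := ⟨hx, Ne.symm hne.1, h1.symm⟩
  have has : a ∈ nb D s := ⟨ha.1, Ne.symm hne.2, h2.symm⟩
  have hcomm : Commute (x * a) s := h1.symm.mul_left h2.symm
  have ht : s * (x * a) ∈ nb D s := ⟨h, fun e => ha.2.1 (by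
    rw [← one_mul a, ← L.sq hx, mul_assoc, mul_eq_left.mp e, mul_one]), (Commute.refl s).mul_left hcomm⟩
  have hπ : S.π (s * (x * a)) = S.π x * S.π a := by
    rw [S.π_mul _ _ (Commute.refl s) hcomm, (S.π_iff s (Commute.refl s)).mpr S.zQ, one_mul,
      S.π_mul _ _ h1.symm h2.symm]
  by_cases hsame : S.π x = S.π a
  · refine π_ne_one L hs hS ht ?_
    rw [hπ, ← hsame, ← S.π_mul _ _ h1.symm h1.symm, L.sq hx, S.π_one]
  · exact (not_tv_mul L hs hS hxs has ha.2.2.symm hsame ht).1 hπ.symm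

/-- the centraliser of the product stabilises the component -/
theorem Loc.pair_le {x a c : G} (hx : x ∈ D) (ha : a ∈ nb D x) (hc : Commute c (x * a)) : c ∈ L.stab hx := by
  obtain ⟨p, q, r, hp, hq, hr, hpx, hpa, hqx, hqa, hrx, hra, -, hpqr⟩ := L.line_five hx ha
  obtain ⟨i, hi⟩ : ∃ i, i = x * a := ⟨_, rfl⟩
  rw [← hi] at hc hpqr
  let C : Subgroup G := Subgroup.centralizer {i}
  have hC : ∀ {g}, g ∈ C ↔ Commute g i := Subgroup.mem_centralizer_singleton_iff
  let iC : C := ⟨i, hC.mpr (Commute.refl i)⟩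
  have hxl : x ∈ line D x a := ⟨hx, fun v _ hv _ => hv⟩
  have hal : a ∈ line D x a := ⟨ha.1, fun v _ _ hv => hv⟩
  have hlc : ∀ {d}, d ∈ line D x a → d ∈ C := fun hd => hC.mpr (hi ▸
    (L.line_comm hx ha hd hxl).mul_right (L.line_comm hx ha hd hal))
  have hii : i * i = 1 := by
    rw [hi, show x * a * (x * a) = x * (a * x) * a by group, ha.2.2.eq,
      show x * (x * a) * a = (x * x) * (a * a) by group, L.sq hx, L.sq ha.1, one_mul]
  let N : Subgroup C := Subgroup.zpowers iC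
  haveI : N.Normal := by
    refine ⟨fun n hn g => ?_⟩
    obtain ⟨k, rfl⟩ := Subgroup.mem_zpowers_iff.mp hn
    have hg : Commute g iC := Subtype.ext (hC.mp g.2).eq
    rw [(hg.zpow_right k).eq, mul_inv_cancel_right]
    exact hn
  have hN : ∀ n ∈ N, (n : G) = 1 ∨ (n : G) = i := by
    intro n hn
    obtain ⟨k, rfl⟩ := Subgroup.mem_zpowers_iff.mp hn
    have h2 : iC * iC = 1 := Subtype.ext hii
    rcases Int.even_or_odd' k with ⟨j, rfl | rfl⟩
    · left
      rw [zpow_mul, zpow_two, h2, one_zpow]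
      rfl
    · right
      rw [zpow_add, zpow_mul, zpow_two, h2, one_zpow, one_mul, zpow_one]
  let φ : C →* C ⧸ N := QuotientGroup.mk' N
  have hφ : ∀ {u v : C}, φ u = φ v ↔ (v : G) = u ∨ (v : G) = u * i := by
    intro u v
    rw [QuotientGroup.mk'_apply, QuotientGroup.mk'_apply, QuotientGroup.eq]
    constructor
    · intro h
      rcases hN _ h with e | e
      · exact Or.inl (inv_mul_eq_one.mp e).symm
      · exact Or.inr (inv_mul_eq_iff_eq_mul.mp e)
    · rintro (e | e)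
      · rw [Subtype.ext e, inv_mul_cancel]
        exact N.one_mem
      · rw [show v = u * iC from Subtype.ext e, inv_mul_cancel_left]
        exact Subgroup.mem_zpowers iC
  let M : Subgroup (C ⧸ N) := ((L.stab hx).comap C.subtype).map φ
  have hiM : i ∈ L.stab hx := L.cent_stab hx (L.mem_comp_self hx) (hi ▸ (Commute.refl x).mul_left ha.2.2)
  have mem_M : ∀ {c : C}, φ c ∈ M → (c : G) ∈ L.stab hx := by
    rintro c ⟨d, hd, e⟩
    rcases hφ.mp e with e' | e'
    · rw [e']; exact hd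
    · rw [e']; exact Subgroup.mul_mem _ hd hiM
  have hlD : ∀ {d}, d ∈ line D x a → d ∈ comp D x := fun hd =>
    L.comp_step hx (L.mem_comp_self hx) hd.1 (L.line_comm hx ha hxl hd)
  let el : {d // d ∈ line D x a} → C ⧸ N := fun d => φ ⟨d.1, hlc d.2⟩
  have hsq : ∀ d, el d * el d = 1 := fun d => by
    show φ _ * φ _ = 1
    rw [← map_mul, ← map_one φ]
    exact congrArg φ (Subtype.ext (L.sq d.2.1))
  have hco : ∀ d d', el d * el d' = el d' * el d := fun d d' => by
    show φ _ * φ _ = φ _ * φ _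
    rw [← map_mul, ← map_mul]
    exact congrArg φ (Subtype.ext (L.line_comm hx ha d.2 d'.2).eq)
  let X := el ⟨x, hxl⟩
  let P := el ⟨p, hp⟩
  let Q := el ⟨q, hq⟩
  -- centralisers of the four images
  have cen : ∀ {d} (hd : d ∈ line D x a), (d = x ∨ (d ≠ x ∧ d ≠ a)) →
      ∀ h : C ⧸ N, el ⟨d, hd⟩ * h = h * el ⟨d, hd⟩ → h ∈ M := by
    intro d hd hcase h
    obtain ⟨g, rfl⟩ := QuotientGroup.mk'_surjective N h
    intro e
    refine ⟨g, ?_, rfl⟩
    show (g : G) ∈ L.stab hx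
    have e' : φ (g * ⟨d, hlc hd⟩ * g⁻¹) = φ ⟨d, hlc hd⟩ := by
      rw [map_mul, map_mul, map_inv]
      exact mul_inv_eq_iff_eq_mul.mpr e.symm
    have hgi : Commute (g : G) i := hC.mp g.2
    rcases hφ.mp e'.symm with e1 | e1
    · refine L.cent_stab hx (hlD hd) ?_
      exact mul_inv_eq_iff_eq_mul.mp e1
    have e1' : (g : G) * d * (g : G)⁻¹ = d * i := e1
    rcases hcase with rfl | ⟨h1, h2⟩
    · rw [L.mem_stab, e1', hi, ← mul_assoc, L.sq hx, one_mul]
      exact hlD hal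
    · rcases L.not_third hx ha hd.1 (L.line_comm hx ha hd hxl) (L.line_comm hx ha hd hal) (by
        rw [← hi, ← e1']; exact L.conj g d hd.1) with e2 | e2
      · exact absurd e2 h1
      · exact absurd e2 h2
  have iso : ∀ g : C ⧸ N, Commute X (g * X * g⁻¹) → g * X * g⁻¹ = X := by
    intro h
    obtain ⟨g, rfl⟩ := QuotientGroup.mk'_surjective N h
    intro hcom
    obtain ⟨y, hy⟩ : ∃ y : C, y = g * ⟨x, hlc hxl⟩ * g⁻¹ := ⟨_, rfl⟩
    have hyX : φ y = φ g * X * (φ g)⁻¹ := by rw [hy, map_mul, map_mul, map_inv]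
    change φ g * X * (φ g)⁻¹ = X
    change Commute X (φ g * X * (φ g)⁻¹) at hcom
    rw [← hyX] at hcom ⊢
    have hyD : (y : G) ∈ D := by rw [hy]; exact L.conj g x hx
    have hxy : φ (⟨x, hlc hxl⟩ * y) = φ (y * ⟨x, hlc hxl⟩) := by rw [map_mul, map_mul]; exact hcom
    have hyi : Commute (y : G) i := hC.mp y.2
    rcases hφ.mp hxy with e1 | e1
    · have hyx : Commute (y : G) x := e1
      have hya : Commute (y : G) a := by
        have h1 := hyx.mul_right hyi
        rwa [hi, ← mul_assoc, L.sq hx, one_mul] at h1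
      have hthird : (y : G) * (x * a) ∈ D := by
        have ei : (g : G) * i * (g : G)⁻¹ = i := mul_inv_eq_iff_eq_mul.mpr (hC.mp g.2).eq
        have e : (y : G) * i = (g : G) * a * (g : G)⁻¹ := by
          calc (y : G) * i = (g : G) * x * (g : G)⁻¹ * ((g : G) * i * (g : G)⁻¹) := by rw [hy, ei]; rfl
            _ = (g : G) * (x * i) * (g : G)⁻¹ := by group
            _ = (g : G) * a * (g : G)⁻¹ := by rw [hi, ← mul_assoc x, L.sq hx, one_mul]
        rw [← hi, e]
        exact L.conj g a ha.1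
      refine hφ.mpr ?_
      rcases L.not_third hx ha hyD hyx hya hthird with e2 | e2
      · exact Or.inl e2.symm
      · refine Or.inr ?_
        show x = (y : G) * i
        rw [e2, hi, ← mul_assoc, ha.2.2.eq, mul_assoc, L.sq ha.1, mul_one]
    · exfalso
      have e2 : (y : G) * x = x * y * i := e1
      have e3 : (y : G) * x * (y : G)⁻¹ = a := by
        rw [e2, mul_assoc x, hyi.eq, ← mul_assoc, mul_inv_cancel_right, hi, ← mul_assoc, L.sq hx, one_mul]
      have hst : (y : G) ∈ L.stab hx := by rw [L.mem_stab, e3]; exact hlD hal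
      have hyx := L.commute_pair hx ha (L.member_stab hx hyD hst) (hi ▸ hyi)
      rw [hyx.eq, mul_inv_cancel_right] at e3
      exact ha.2.1 e3.symm
  have hX1 : X ≠ 1 := fun e => by
    rcases hφ.mp (e.trans (map_one φ).symm).symm with e1 | e1
    · obtain ⟨T, -⟩ := L.str x hx
      exact T.z1 e1
    · have e2 : x = i := e1.trans (one_mul i)
      obtain ⟨T, -⟩ := L.str a ha.1
      exact T.z1 (mul_eq_left.mp (hi ▸ e2).symm)
  have hPQ : X * P * (X * Q) = el ⟨r, hr⟩ := by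
    have e1 : X * P * (X * Q) = P * Q := by
      rw [hco ⟨x, hxl⟩ ⟨p, hp⟩, mul_assoc, ← mul_assoc X X, hsq, one_mul]
    rw [e1]
    show φ _ * φ _ = φ _
    rw [← map_mul]
    refine hφ.mpr (Or.inr ?_)
    show r = p * q * i
    have hcr : Commute r (p * q) := (L.line_comm hx ha hr hp).mul_right (L.line_comm hx ha hr hq)
    have hpq : p * q * (p * q) = 1 := by
      rw [show p * q * (p * q) = p * (q * p) * q by group, (L.line_comm hx ha hq hp).eq,
        show p * (p * q) * q = (p * p) * (q * q) by group, L.sq hp.1, L.sq hq.1, one_mul]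
    rw [← hpqr, ← mul_assoc (p * q) (p * q) r, hpq, one_mul]
  have hcX : ∀ h, X * h = h * X → h ∈ M := cen hxl (Or.inl rfl)
  have top : (⊤ : Subgroup (C ⧸ N)) ≤ M := by
    refine Classical.Frame.le_of_isolated (a := X) (b := P) (Subgroup.mem_top _) (Subgroup.mem_top _) (hsq _) hX1
      (hsq _) (hco _ _) (fun g _ => iso g) (fun h _ => hcX h) (fun h _ => cen hp (Or.inr ⟨hpx, hpa⟩) h) ?_
    intro h _ hh
    have hle : Subgroup.centralizer {X * P} ≤ M := by
      have hXP : X ∈ Subgroup.centralizer {X * P} := Subgroup.mem_centralizer_singleton_iff.mpr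
        ((Commute.refl X).mul_right (hco _ _)).eq
      have hQP : Q ∈ Subgroup.centralizer {X * P} := Subgroup.mem_centralizer_singleton_iff.mpr
        (Commute.mul_right (hco _ _) (hco _ _) : Commute Q (X * P)).eq
      refine Classical.Frame.le_of_isolated (a := X) (b := Q) hXP hQP (hsq _) hX1
        (hsq _) (hco _ _) (fun g _ => iso g) (fun h _ => hcX h) (fun h _ => cen hq (Or.inr ⟨hqx, hqa⟩) h) ?_
      intro h hh1 hh2
      refine cen hr (Or.inr ⟨hrx, hra⟩) h ?_
      rw [← hPQ]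
      exact (Commute.mul_left ((Subgroup.mem_centralizer_singleton_iff.mp hh1).symm : Commute (X * P) h) hh2).eq
    exact hle (Subgroup.mem_centralizer_singleton_iff.mpr hh.symm)
  exact mem_M (c := ⟨c, hC.mpr hc⟩) (top (Subgroup.mem_top _))

end Cfsg.Agent.Spor.CHZ
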