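import Cfsg.Agent.Lib.Spor.CHZ.SemiShape
import Cfsg.Agent.Lib.Spor.CHZ.MainA
import Mathlib.GroupTheory.Transfer

/-!
Semilinear actions: linearity is carried by the transfer into the centraliser, so a subgroup of index two
carries the linear structure.
-/

set_option autoImplicit false
set_option maxRecDepth 100000
set_option linter.unusedSectionVars false

namespace Cfsg.Agent.Spor.CHZ

open Cfsg.Agent.Spor.SpFour Cfsg.Agent.Small.Unitary

universe w

theorem Lin.conj_iff {f g : Equiv.Perm V} (hg : Semi g) (hf : Semi f) : Lin (g * f * g⁻¹) ↔ Lin f := by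
  have hAL : ∀ {a b : Equiv.Perm V}, Anti a → Lin b → Anti (a * b) := fun {a b} ha hb =>
    ⟨fun x y => by simp [hb.add, ha.add], fun c x => by simp [hb.smul, ha.smul],
      fun x y => by simp [hb.herm, ha.herm]⟩
  have hLA : ∀ {a b : Equiv.Perm V}, Lin a → Anti b → Anti (a * b) := fun {a b} ha hb =>
    ⟨fun x y => by simp [hb.add, ha.add], fun c x => by simp [hb.smul, ha.smul],
      fun x y => by simp [hb.herm, ha.herm]⟩
  rcases hf with hf | hf <;> rcases hg with hg | hg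
  · exact iff_of_true ((hg.mul hf).mul hg.inv) hf
  · exact iff_of_true ((hAL hg hf).mul hg.inv) hf
  · exact iff_of_false (hAL (hLA hg hf) hg.inv).not_lin hf.not_lin
  · exact iff_of_false (hLA (hg.mul hf) hg.inv).not_lin hf.not_lin

theorem Semi.lin_mul {f g : Equiv.Perm V} (hf : Semi f) (hg : Semi g) : Lin (f * g) ↔ (Lin f ↔ Lin g) := by
  have key : ∀ {f g : Equiv.Perm V}, Lin f → Lin (f * g) → Lin g := fun {f g} h1 h2 => by
    have := h1.inv.mul h2
    rwa [inv_mul_cancel_left] at this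
  have key' : ∀ {f g : Equiv.Perm V}, Lin g → Lin (f * g) → Lin f := fun {f g} h1 h2 => by
    have := h2.mul h1.inv
    rwa [mul_inv_cancel_right] at this
  constructor
  · exact fun h => ⟨fun h1 => key h1 h, fun h1 => key' h1 h⟩
  · intro h
    rcases hf with hf | hf
    · exact hf.mul (h.mp hf)
    · exact hf.mul (hg.resolve_left fun hl => hf.not_lin (h.mpr hl))

namespace Setup

variable {G : Type w} [Group G] [Finite G] {z : G} (S : Setup z)
include S

/-- the elements centralising the subgroup -/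
theorem self' {k : G} (hk : Commute k z) (h : ∀ x ∈ S.Q, Commute k x) : k = 1 ∨ k = z := by
  have hkQ : k ∈ S.Q := (S.π_iff k hk).mp (Equiv.ext fun v => by
    obtain ⟨x, hx, rfl⟩ := S.ν_surj v
    rw [← S.ν_act k hk x hx, (h x hx).eq, mul_inv_cancel_right]
    rfl)
  refine (S.ν_zero k hkQ).mp ?_
  by_contra hne
  obtain ⟨v, hv⟩ := exists_B_ne hne
  obtain ⟨x, hx, rfl⟩ := S.ν_surj v
  exact hv ((S.ν_comm k hkQ x hx).mp (h x hx))

/-- a Sylow subgroup of the centraliser is one of the group -/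
theorem exists_sylow : ∃ P : Sylow 2 G, ∀ x ∈ (P : Subgroup G), Commute x z := by
  classical
  haveI : Fact (Nat.Prime 2) := ⟨Nat.prime_two⟩
  have hQp : IsPGroup 2 S.Q := IsPGroup.of_card (n := 9) (by rw [S.card_Q]; norm_num)
  -- a maximal two-subgroup of the centraliser
  obtain ⟨R, ⟨hRp, hRc, hRQ⟩, hmax⟩ : ∃ R : Subgroup G, (IsPGroup 2 R ∧ R ≤ Subgroup.centralizer {z} ∧ S.Q ≤ R) ∧
      ∀ R' : Subgroup G, IsPGroup 2 R' → R' ≤ Subgroup.centralizer {z} → R ≤ R' → R' ≤ R := by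
    haveI : Finite (Subgroup G) := inferInstance
    obtain ⟨R, hR⟩ := (Set.toFinite {R : Subgroup G | IsPGroup 2 R ∧ R ≤ Subgroup.centralizer {z} ∧ S.Q ≤ R}).exists_maximal
      ⟨S.Q, hQp, fun x hx => Subgroup.mem_centralizer_singleton_iff.mpr (S.cent x hx).eq, le_rfl⟩
    exact ⟨R, hR.1, fun R' h1 h2 h3 => hR.2 ⟨h1, h2, hR.1.2.2.trans h3⟩ h3⟩
  have hcR : ∀ x ∈ R, Commute x z := fun x hx => Subgroup.mem_centralizer_singleton_iff.mp (hRc hx)
  obtain ⟨P, hP⟩ := hRp.exists_le_sylow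
  refine ⟨P, fun x hx => hcR x ?_⟩
  suffices hPR : (P : Subgroup G) ≤ R from hPR hx
  by_contra hlt
  haveI : Group.IsNilpotent ↥(P : Subgroup G) := P.isPGroup'.isNilpotent
  have hne : R.subgroupOf P < ⊤ := lt_top_iff_ne_top.mpr fun e => hlt (Subgroup.subgroupOf_eq_top.mp e)
  obtain ⟨n, hn, hnR⟩ := SetLike.exists_of_lt (Group.normalizerCondition_of_isNilpotent _ hne)
  have hconj : ∀ x ∈ R, (n : G) * x * (n : G)⁻¹ ∈ R := fun x hx => by
    have h := (Subgroup.mem_normalizer_iff.mp hn ⟨x, hP hx⟩).mp hx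
    exact h
  have hconj' : ∀ x ∈ R, (n : G)⁻¹ * x * (n : G) ∈ R := fun x hx => by
    have h := (Subgroup.mem_normalizer_iff.mp hn ⟨(n : G)⁻¹ * x * n,
      (P : Subgroup G).mul_mem ((P : Subgroup G).mul_mem ((P : Subgroup G).inv_mem n.2) (hP hx)) n.2⟩).mpr (by
        show (n : G) * ((n : G)⁻¹ * x * n) * (n : G)⁻¹ ∈ R
        rw [show (n : G) * ((n : G)⁻¹ * x * n) * (n : G)⁻¹ = x by group]
        exact hx)
    exact h
  have hzz : Commute (n : G) z := by
    have hy : ∀ x ∈ R, Commute ((n : G) * z * (n : G)⁻¹) x := fun x hx => by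
      have h := ((hcR _ (hconj' x hx)).symm).map (MulAut.conj (n : G)).toMonoidHom
      simpa [mul_assoc] using h
    rcases S.self' (hy z (hRQ S.zQ)) (fun x hx => hy x (hRQ hx)) with e | e
    · exact absurd (conj_eq_one_iff.mp e) S.z1
    · exact mul_inv_eq_iff_eq_mul.mp e
  refine hnR (hmax (R ⊔ Subgroup.zpowers (n : G)) ?_ ?_ le_sup_left (Subgroup.mem_sup_right (Subgroup.mem_zpowers _)))
  · exact P.isPGroup'.to_le (sup_le hP (Subgroup.zpowers_le.mpr n.2))
  · exact sup_le hRc (Subgroup.zpowers_le.mpr (Subgroup.mem_centralizer_singleton_iff.mpr hzz.eq))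

theorem index_odd : Odd (Subgroup.centralizer ({z} : Set G)).index := by
  haveI : Fact (Nat.Prime 2) := ⟨Nat.prime_two⟩
  obtain ⟨P, hP⟩ := S.exists_sylow
  have hle : (P : Subgroup G) ≤ Subgroup.centralizer {z} := fun x hx =>
    Subgroup.mem_centralizer_singleton_iff.mpr (hP x hx).eq
  rw [Nat.odd_iff]
  by_contra h
  have h2 : 2 ∣ (Subgroup.centralizer ({z} : Set G)).index := by omega
  exact P.not_dvd_index (h2.trans (Subgroup.index_dvd_of_le hle))

/-- every two-subgroup centralises a conjugate -/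
theorem exists_central {H : Subgroup G} (hH : IsPGroup 2 H) : ∃ a : G, ∀ x ∈ H, Commute x (a * z * a⁻¹) := by
  haveI : Fact (Nat.Prime 2) := ⟨Nat.prime_two⟩
  obtain ⟨P, hP⟩ := S.exists_sylow
  obtain ⟨P', hP'⟩ := hH.exists_le_sylow
  obtain ⟨a, ha⟩ := MulAction.exists_smul_eq G P P'
  refine ⟨a, fun x hx => ?_⟩
  have hx' : x ∈ ((a • P : Sylow 2 G) : Subgroup G) := ha ▸ hP' hx
  obtain ⟨y, hy, rfl⟩ := hx'
  exact (hP y hy).map (MulAut.conj a).toMonoidHom

theorem lin_link {a b c : G} (hab : Commute (a * z * a⁻¹) (b * z * b⁻¹)) (hca : Commute c (a * z * a⁻¹))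
    (hcb : Commute c (b * z * b⁻¹)) : Lin (S.π (a⁻¹ * c * a)) ↔ Lin (S.π (b⁻¹ * c * b)) := by
  have hc1 : Commute (a⁻¹ * c * a) z := S.conj_comm_back hca
  obtain ⟨g, hg⟩ : ∃ g, g = a⁻¹ * b := ⟨_, rfl⟩
  have hgz : Commute (g * z * g⁻¹) z := by
    have h := hab.symm.map (MulAut.conj a⁻¹).toMonoidHom
    rw [hg]
    simpa [mul_assoc] using h
  have hc2 : Commute (a⁻¹ * c * a) (g * z * g⁻¹) := by
    have h := hcb.map (MulAut.conj a⁻¹).toMonoidHom
    rw [hg]
    simpa [mul_assoc] using h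
  have e : b⁻¹ * c * b = g⁻¹ * (a⁻¹ * c * a) * g := by rw [hg]; group
  rw [e]
  by_cases hne : g * z * g⁻¹ = z
  · have hgc : Commute g z := mul_inv_eq_iff_eq_mul.mp hne
    rw [S.π_mul _ _ (hgc.inv_left.mul_left hc1) hgc, S.π_mul _ _ hgc.inv_left hc1, S.π_inv hgc]
    have h := (Lin.conj_iff (g := (S.π g)⁻¹) (S.π_semi g hgc).inv (S.π_semi _ hc1)).symm
    rwa [inv_inv] at h
  · exact (S.two' hgz hne).lin_agree hc1 hc2

/-- linearity does not depend on the conjugate -/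
theorem lin_fixed {c g : G} (hc2 : IsPGroup 2 (Subgroup.zpowers c)) (hcz : Commute c z)
    (hcg : Commute c (g * z * g⁻¹)) : Lin (S.π c) ↔ Lin (S.π (g⁻¹ * c * g)) := by
  classical
  haveI : Fact (Nat.Prime 2) := ⟨Nat.prime_two⟩
  obtain ⟨H, hH⟩ : ∃ H, H = Subgroup.centralizer ({c} : Set G) := ⟨_, rfl⟩
  have hmem : ∀ {x}, Commute x c → x ∈ H := fun hx => hH ▸ Subgroup.mem_centralizer_singleton_iff.mpr hx.eq
  have hcen : ∀ x : ↥H, Commute (x : G) c := fun x =>
    Subgroup.mem_centralizer_singleton_iff.mp (hH ▸ x.2 : (x : G) ∈ Subgroup.centralizer ({c} : Set G))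
  have hord : ∀ {x : ↥H}, (x : G) * x = 1 → IsPGroup 2 (Subgroup.zpowers x) := fun {x} hx => by
    obtain ⟨k, -, hk⟩ := (Nat.dvd_prime_pow Nat.prime_two).mp (show orderOf x ∣ 2 ^ 1 from
      orderOf_dvd_of_pow_eq_one (Subtype.ext (by rw [pow_one, pow_two]; exact hx)))
    exact IsPGroup.of_card (n := k) (by rw [Nat.card_zpowers]; exact hk)
  have hy2 : g * z * g⁻¹ * (g * z * g⁻¹) = 1 := by
    rw [show g * z * g⁻¹ * (g * z * g⁻¹) = g * (z * z) * g⁻¹ by group, S.z2]; group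
  obtain ⟨z1, hz1⟩ : ∃ z1 : ↥H, (z1 : G) = z := ⟨⟨z, hmem hcz.symm⟩, rfl⟩
  obtain ⟨y1, hy1⟩ : ∃ y1 : ↥H, (y1 : G) = g * z * g⁻¹ := ⟨⟨_, hmem hcg.symm⟩, rfl⟩
  obtain ⟨P1, hP1⟩ := (hord (x := z1) (by rw [hz1]; exact S.z2)).exists_le_sylow
  obtain ⟨P2, hP2⟩ := (hord (x := y1) (by rw [hy1]; exact hy2)).exists_le_sylow
  obtain ⟨h, hh⟩ := MulAction.exists_smul_eq ↥H P1 P2
  obtain ⟨c1, hc1⟩ : ∃ c1 : ↥H, (c1 : G) = c := ⟨⟨c, hmem (Commute.refl c)⟩, rfl⟩
  have hcP : c1 ∈ (P2 : Subgroup ↥H) := by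
    have hcn : (Subgroup.zpowers c1).Normal := ⟨fun x hx k => by
      obtain ⟨i, rfl⟩ := Subgroup.mem_zpowers_iff.mp hx
      have e : Commute k c1 := Subtype.ext (by rw [Subgroup.coe_mul, Subgroup.coe_mul, hc1]; exact (hcen k).eq)
      rw [(e.zpow_right i).eq, mul_inv_cancel_right]
      exact Subgroup.zpow_mem _ (Subgroup.mem_zpowers c1) i⟩
    have hcp : IsPGroup 2 (Subgroup.zpowers c1) := by
      obtain ⟨k, hk⟩ := hc2.exists_card_eq
      rw [Nat.card_zpowers] at hk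
      exact IsPGroup.of_card (n := k) (by rw [Nat.card_zpowers, ← Subgroup.orderOf_coe, hc1, hk])
    have h1 : IsPGroup 2 ↥((P2 : Subgroup ↥H) ⊔ Subgroup.zpowers c1) := P2.isPGroup'.to_sup_of_normal_right hcp
    rw [← P2.is_maximal' h1 le_sup_left]
    exact Subgroup.mem_sup_right (Subgroup.mem_zpowers _)
  obtain ⟨W, hW⟩ : ∃ W : Subgroup G, W = (P2 : Subgroup ↥H).map H.subtype := ⟨_, rfl⟩
  have hWp : IsPGroup 2 W := hW ▸ P2.isPGroup'.map _
  have hzW : (h : G) * z * (h : G)⁻¹ ∈ W := by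
    have e : h * z1 * h⁻¹ ∈ ((h • P1 : Sylow 2 ↥H) : Subgroup ↥H) :=
      ⟨z1, hP1 (Subgroup.mem_zpowers _), rfl⟩
    rw [hh] at e
    rw [hW]
    exact ⟨_, e, by rw [← hz1]; rfl⟩
  have hyW : g * z * g⁻¹ ∈ W := hW ▸ ⟨y1, hP2 (Subgroup.mem_zpowers _), hy1⟩
  have hcW : c ∈ W := hW ▸ ⟨c1, hcP, hc1⟩
  obtain ⟨a, ha⟩ := S.exists_central hWp
  have hhc : Commute c (h : G) := (hcen h).symm
  have e1 : (h : G)⁻¹ * c * h = c := by rw [mul_assoc, hhc.eq, inv_mul_cancel_left]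
  have hchz : Commute c ((h : G) * z * (h : G)⁻¹) :=
    (hhc.mul_right hcz).mul_right hhc.inv_right
  have l1 := S.lin_link (a := a) (b := (h : G)) (c := c) (ha _ hzW).symm (ha c hcW) hchz
  have l2 := S.lin_link (a := a) (b := g) (c := c) (ha _ hyW).symm (ha c hcW) hcg
  rw [e1] at l1
  exact l1.symm.trans l2

/-- parity of linearity -/
noncomputable def parity : ↥(Subgroup.centralizer ({z} : Set G)) →* Multiplicative (ZMod 2) :=
  haveI := fun c : G => _root_.Classical.dec (Lin (S.π c))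
  MonoidHom.mk' (fun c => if Lin (S.π c) then 1 else Multiplicative.ofAdd 1) fun a b => by
    have ha := Subgroup.mem_centralizer_singleton_iff.mp a.2
    have hb := Subgroup.mem_centralizer_singleton_iff.mp b.2
    have key : (Multiplicative.ofAdd (1 : ZMod 2)) * Multiplicative.ofAdd 1 = 1 := by decide
    have h : Lin (S.π (((a * b : ↥(Subgroup.centralizer ({z} : Set G))) : G))) ↔
        (Lin (S.π (a : G)) ↔ Lin (S.π (b : G))) := by
      rw [Subgroup.coe_mul, S.π_mul _ _ ha hb]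
      exact Semi.lin_mul (S.π_semi _ ha) (S.π_semi _ hb)
    simp only [Subgroup.coe_mul] at h
    by_cases h1 : Lin (S.π (a : G)) <;> by_cases h2 : Lin (S.π (b : G)) <;>
      simp only [h1, h2, iff_true, iff_false, true_iff, not_true, not_false_iff] at h <;>
      simp [h1, h2, h, key]

theorem parity_eq_one (c : ↥(Subgroup.centralizer ({z} : Set G))) : S.parity c = 1 ↔ Lin (S.π c) := by
  classical
  show (if Lin (S.π c) then (1 : Multiplicative (ZMod 2)) else Multiplicative.ofAdd 1) = 1 ↔ _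
  split_ifs with h <;> simp [h]

/-- the transfer carries linearity -/
theorem exists_hom : ∃ χ : G →* Multiplicative (ZMod 2), ∀ c, Commute c z → (χ c = 1 ↔ Lin (S.π c)) := by
  classical
  haveI : (Subgroup.centralizer ({z} : Set G)).FiniteIndex := Subgroup.finiteIndex_of_finite_quotient
  refine ⟨MonoidHom.transfer S.parity, fun c hc => ?_⟩
  have hodd : ∀ (m : ℕ) (x : Multiplicative (ZMod 2)), Odd m → x ^ m = x := fun m x hm => by
    obtain ⟨k, rfl⟩ := hm
    have h2 : x ^ 2 = 1 := by revert x; decide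
    rw [pow_succ, pow_mul, h2, one_pow, one_mul]
  -- two-elements first
  have main : ∀ v, ∀ hv : Commute v z, IsPGroup 2 (Subgroup.zpowers v) →
      MonoidHom.transfer S.parity v = S.parity ⟨v, Subgroup.mem_centralizer_singleton_iff.mpr hv.eq⟩ := by
    intro v hv hv2
    letI := (Subgroup.centralizer ({z} : Set G)).fintypeQuotientOfFiniteIndex
    rw [MonoidHom.transfer_eq_prod_quotient_orbitRel_zpowers_quot]
    obtain ⟨φv, hφv⟩ : ∃ φv, φv = S.parity ⟨v, Subgroup.mem_centralizer_singleton_iff.mpr hv.eq⟩ := ⟨_, rfl⟩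
    rw [← hφv]
    calc _ = ∏ q : Quotient (MulAction.orbitRel (Subgroup.zpowers v) (G ⧸ Subgroup.centralizer ({z} : Set G))),
          φv ^ Function.minimalPeriod (v • ·) q.out := by
          refine Finset.prod_congr rfl fun q _ => ?_
          obtain ⟨r, hr⟩ : ∃ r, r = Function.minimalPeriod (v • ·) q.out := ⟨_, rfl⟩
          have hmem := Subgroup.mem_centralizer_singleton_iff.mp
            (QuotientGroup.out_conj_pow_minimalPeriod_mem (Subgroup.centralizer ({z} : Set G)) v q.out)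
          rw [hφv, ← map_pow]
          have hbool : ∀ x y : Multiplicative (ZMod 2), (x = 1 ↔ y = 1) → x = y := by decide
          refine hbool _ _ ?_
          rw [S.parity_eq_one, S.parity_eq_one, Subgroup.coe_pow]
          refine (S.lin_fixed (g := q.out.out) ?_ (hv.pow_left _) ?_).symm
          · exact hv2.to_le (Subgroup.zpowers_le.mpr (Subgroup.pow_mem _ (Subgroup.mem_zpowers v) _))
          · have h := (show Commute _ z from hmem).map (MulAut.conj q.out.out).toMonoidHom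
            simpa [mul_assoc] using h
      _ = φv := by
        rw [Finset.prod_pow_eq_pow_sum, ← Subgroup.index_eq_sum_minimalPeriod]
        exact hodd _ _ S.index_odd
  obtain ⟨k, m, hm, hcm⟩ : ∃ k m, Odd m ∧ orderOf c = 2 ^ k * m := Nat.exists_eq_two_pow_mul_odd (orderOf_pos c).ne'
  have hc2 : IsPGroup 2 (Subgroup.zpowers (c ^ m)) := IsPGroup.of_card (n := k) (by
    rw [Nat.card_zpowers, orderOf_pow_of_dvd (Nat.pos_of_ne_zero (fun e => by simp [e] at hm)).ne'
      ⟨2 ^ k, by rw [hcm]; ring⟩, hcm, Nat.mul_div_cancel _ (Nat.pos_of_ne_zero fun e => by simp [e] at hm)])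
  rw [← hodd m (MonoidHom.transfer S.parity c) hm, ← map_pow, main _ (hc.pow_left m) hc2]
  have e : (⟨c ^ m, Subgroup.mem_centralizer_singleton_iff.mpr (hc.pow_left m).eq⟩ :
      ↥(Subgroup.centralizer ({z} : Set G))) = (⟨c, Subgroup.mem_centralizer_singleton_iff.mpr hc.eq⟩ :
      ↥(Subgroup.centralizer ({z} : Set G))) ^ m := Subtype.ext rfl
  rw [e, map_pow, hodd m _ hm, S.parity_eq_one]

end Setup

/-- the statement with semilinear action -/
theorem main_semi {G : Type w} [Group G] [Finite G] {z : G} (S : Setup z) (hz : orderOf z = 2)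
    (hanti : ∃ c, Commute c z ∧ ¬ Lin (S.π c))
    (hdet : ∀ c, Commute c z → Lin (S.π c) → ∃ g : L, S.π c = sp g)
    {F : Type*} [Field F] [Fintype F] (hF : Fintype.card F = 4) :
    (∃ G₀ : Subgroup G, G₀.index = 2 ∧ Nonempty (↥G₀ ≃* Cfsg.PSU 6 F 2) ∧
      Subgroup.centralizer (G₀ : Set G) = ⊥) ∨
    Subgroup.centralizer ({z} : Set G) ⊔ Cfsg.oddCore G = ⊤ := by
  classical
  by_cases hiso : ∀ g : G, Commute z (g * z * g⁻¹) → g * z * g⁻¹ = z
  · exact Or.inr (sup_eq_top_of_isolated hz hiso)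
  obtain ⟨χ, hχ⟩ := S.exists_hom
  obtain ⟨c0, hc0, hc0L⟩ := hanti
  obtain ⟨G₀, hG₀⟩ : ∃ G₀, G₀ = χ.ker := ⟨_, rfl⟩
  have hmem : ∀ {c}, Commute c z → (c ∈ G₀ ↔ Lin (S.π c)) := fun hc => by rw [hG₀, MonoidHom.mem_ker, hχ _ hc]
  have hχ0 : χ c0 ≠ 1 := fun e => hc0L ((hχ c0 hc0).mp e)
  have hidx : G₀.index = 2 := by
    rw [hG₀, Subgroup.index_ker, show χ.range = ⊤ from eq_top_iff.mpr fun x _ => ?_, Subgroup.card_top]
    · simp
    · have key : ∀ a b : Multiplicative (ZMod 2), a ≠ 1 → b = 1 ∨ b = a := by decide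
      rcases key (χ c0) x hχ0 with h | h
      · exact ⟨1, by rw [map_one, h]⟩
      · exact ⟨c0, h.symm⟩
  have hQ0 : ∀ x ∈ S.Q, x ∈ G₀ := fun x hx => (hmem (S.cent x hx)).mpr (by
    rw [(S.π_iff x (S.cent x hx)).mpr hx]; exact Lin.one)
  obtain ⟨z0, hz0⟩ : ∃ z0 : ↥G₀, (z0 : G) = z := ⟨⟨z, hQ0 z S.zQ⟩, rfl⟩
  have hcm : ∀ {x : ↥G₀}, Commute x z0 → Commute (x : G) z := fun {x} h => by
    have := h.map G₀.subtype
    simpa [hz0] using this
  let S0 : Setup z0 :=
    { Q := S.Q.subgroupOf G₀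
      ν := fun x => S.ν x
      π := fun c => S.π c
      z1 := fun e => S.z1 (by rw [← hz0, e]; rfl)
      z2 := Subtype.ext (by rw [Subgroup.coe_mul, hz0]; exact S.z2)
      cent := fun x hx => Subtype.ext (by rw [Subgroup.coe_mul, Subgroup.coe_mul, hz0]; exact (S.cent _ hx).eq)
      normal := fun c hc x hx => S.normal _ (hcm hc) _ hx
      zQ := by show (z0 : G) ∈ S.Q; rw [hz0]; exact S.zQ
      π_mul := fun c d hc hd => S.π_mul _ _ (hcm hc) (hcm hd)
      π_semi := fun c hc => S.π_semi _ (hcm hc)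
      π_iff := fun c hc => S.π_iff _ (hcm hc)
      π_surj := fun g => by
        obtain ⟨c, hc, hcg⟩ := S.π_surj g
        exact ⟨⟨c, (hmem hc).mpr (hcg ▸ sp_lin g)⟩, Subtype.ext (by
          rw [Subgroup.coe_mul, Subgroup.coe_mul, hz0]; exact hc.eq), hcg⟩
      ν_mul := fun x hx y hy => S.ν_mul _ hx _ hy
      ν_zero := fun x hx => by
        exact (S.ν_zero _ hx).trans (or_congr (OneMemClass.coe_eq_one) (by rw [← hz0]; exact Subtype.coe_inj))
      ν_surj := fun v => by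
        obtain ⟨x, hx, e⟩ := S.ν_surj v
        exact ⟨⟨x, hQ0 x hx⟩, hx, e⟩
      ν_sq := fun x hx => Subtype.coe_inj.symm.trans (S.ν_sq _ hx)
      ν_comm := fun x hx y hy => Iff.trans ⟨fun h => h.map G₀.subtype, fun h => Subtype.ext h.eq⟩
        (S.ν_comm _ hx _ hy)
      ν_act := fun c hc x hx => S.ν_act _ (hcm hc) _ hx }
  have hfull : Full S0 := fun c hc => hdet _ (hcm hc) ((hmem (hcm hc)).mp c.2)
  have hz0o : orderOf z0 = 2 := by rw [← Subgroup.orderOf_coe, hz0, hz]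
  haveI hn : G₀.Normal := hG₀ ▸ MonoidHom.normal_ker χ
  have hGC : ∀ g : G, ∃ c, Commute c z ∧ g * c⁻¹ ∈ G₀ := by
    intro g
    by_cases hg : g ∈ G₀
    · exact ⟨1, Commute.one_left z, by simpa using hg⟩
    · refine ⟨c0, hc0, ?_⟩
      rw [hG₀, MonoidHom.mem_ker, map_mul, map_inv]
      have key : ∀ a b : Multiplicative (ZMod 2), a ≠ 1 → b ≠ 1 → a * b⁻¹ = 1 := by decide
      exact key _ _ (fun e => hg (hG₀ ▸ e)) hχ0
  rcases main_setup hfull hz0o hF with ⟨⟨e⟩⟩ | htop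
  · refine Or.inl ⟨G₀, hidx, ⟨e⟩, (Subgroup.eq_bot_iff_forall _).mpr fun k hk => ?_⟩
    have hkc : ∀ x ∈ G₀, Commute k x := fun x hx => (Subgroup.mem_centralizer_iff.mp hk x hx).symm
    rcases S.self' (hkc z (hQ0 z S.zQ)) (fun x hx => hkc x (hQ0 x hx)) with rfl | rfl
    · rfl
    · exfalso
      refine hiso fun g _ => ?_
      obtain ⟨c, hc, hgc⟩ := hGC g
      have h1 := hkc _ hgc
      calc g * k * g⁻¹ = (g * c⁻¹) * (c * k * c⁻¹) * (g * c⁻¹)⁻¹ := by group
        _ = (g * c⁻¹) * k * (g * c⁻¹)⁻¹ := by rw [hc.eq, mul_inv_cancel_right]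
        _ = k := by rw [← h1.eq, mul_inv_cancel_right]
  · refine Or.inr ?_
    refine eq_top_iff.mpr fun g _ => ?_
    obtain ⟨c, hc, hgc⟩ := hGC g
    rw [show g = g * c⁻¹ * c by group]
    refine Subgroup.mul_mem _ ?_ (Subgroup.mem_sup_left (Subgroup.mem_centralizer_singleton_iff.mpr hc.eq))
    have hle : (Subgroup.centralizer ({z0} : Set ↥G₀) ⊔ Cfsg.oddCore ↥G₀).map G₀.subtype ≤
        Subgroup.centralizer ({z} : Set G) ⊔ Cfsg.oddCore G := by
      rw [Subgroup.map_sup]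
      refine sup_le_sup ?_ ?_
      · rintro _ ⟨x, hx, rfl⟩
        exact Subgroup.mem_centralizer_singleton_iff.mpr (hcm (Subgroup.mem_centralizer_singleton_iff.mp hx)).eq
      · haveI : (Cfsg.oddCore ↥G₀).Characteristic := Fusion.pPrimeCore_characteristic
        refine Fusion.le_pPrimeCore (Nat.coprime_two_right.mpr ?_)
        rw [Subgroup.card_map_of_injective Subtype.val_injective]
        exact Char.card_oddCore_odd _
    refine hle ⟨⟨_, hgc⟩, ?_, rfl⟩
    rw [htop]; exact Subgroup.mem_top _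

end Cfsg.Agent.Spor.CHZ
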