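import Cfsg.Agent.Lib.Spor.CHZ.Generate
import Cfsg.Agent.Lib.Fischer.Twin.Main
import Cfsg.Agent.Lib.Spor.PSUTransfer
import Cfsg.Agent.S0280

/-!
A group with such a class is the six-dimensional unitary group over four elements.
-/

set_option autoImplicit false
set_option maxRecDepth 100000
set_option maxHeartbeats 400000
set_option linter.unusedSectionVars false

namespace Cfsg.Agent.Spor.CHZ

open Cfsg.Agent.Spor.SpFour Cfsg.Agent.Small.Unitary

universe w

theorem exists_pair_ne : ∀ v : V, v ≠ 0 → ∃ a : V, B v a ≠ 0 := by decide +kernel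

theorem exists_isotropic_ne : ∀ v : V, v ≠ 0 → ∃ a : V, herm a a = 0 ∧ herm a v ≠ 0 := by decide +kernel

variable {G : Type w} [Group G] [Finite G] {z : G} (L : Loc (conjugatesOf z)) {S : Setup z} (hS : Full S)
include L hS

theorem no_abelian_normal {A : Subgroup G} (hA : A.Normal) (hab : ∀ a ∈ A, ∀ b ∈ A, Commute a b) : A = ⊥ := by
  have hz : z ∈ conjugatesOf z := mem_conjugatesOf_self
  have hbad : z ∉ A := fun h => by
    obtain ⟨y, hy, hyz, -⟩ := L.nbr z hz
    have hD : conjugatesOf z ⊆ (A : Set G) := by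
      intro x hx
      obtain ⟨g, rfl⟩ := isConj_iff.mp hx
      exact hA.conj_mem z h g
    have htop : A = ⊤ := eq_top_iff.mpr ((closure_eq_top L hz hS).symm.le.trans ((Subgroup.closure_le A).mpr hD))
    obtain ⟨g, rfl⟩ := isConj_iff.mp hy
    exact hyz (mul_inv_eq_iff_eq_mul.mpr (hab g (htop ▸ Subgroup.mem_top g) z h).eq)
  by_contra hne
  by_cases hfix : ∃ a ∈ A, a ≠ 1 ∧ Commute a z
  · obtain ⟨a, haA, ha1, haz⟩ := hfix
    obtain ⟨w, hwA, hwQ, hw1⟩ : ∃ w ∈ A, w ∈ S.Q ∧ w ≠ 1 := by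
      by_cases haQ : a ∈ S.Q
      · exact ⟨a, haA, haQ, ha1⟩
      have hπ : S.π a ≠ 1 := fun e => haQ ((S.π_iff a haz).mp e)
      obtain ⟨v, hv⟩ : ∃ v, S.π a v ≠ v := by
        by_contra hno
        push Not at hno
        exact hπ (Equiv.ext hno)
      obtain ⟨y, hy, hyν⟩ := S.ν_surj v
      have h1 : a * y * a⁻¹ ∈ S.Q := S.normal a haz y hy
      refine ⟨a * y * a⁻¹ * y⁻¹, ?_, S.Q.mul_mem h1 (S.Q.inv_mem hy), fun e => hv ?_⟩
      · rw [show a * y * a⁻¹ * y⁻¹ = a * (y * a⁻¹ * y⁻¹) by group]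
        exact A.mul_mem haA (hA.conj_mem _ (A.inv_mem haA) y)
      · rw [mul_inv_eq_one] at e
        have h2 := S.ν_act a haz y hy
        rw [e, hyν] at h2
        exact h2.symm
    by_cases hwz : w = z
    · exact hbad (hwz ▸ hwA)
    obtain ⟨v, hv⟩ := exists_pair_ne _ (S.ν_ne hwQ hw1 hwz)
    obtain ⟨y, hy, hyν⟩ := S.ν_surj v
    have hflip : y * w * y⁻¹ = w * z := S.conj_Q_ne hwQ hy (by rw [hyν, B_comm]; exact hv)
    refine hbad ?_
    rw [show z = w⁻¹ * (y * w * y⁻¹) by rw [hflip, inv_mul_cancel_left]]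
    exact A.mul_mem (A.inv_mem hwA) (hA.conj_mem w hwA y)
  · push Not at hfix
    have hinv : ∀ x ∈ conjugatesOf z, ∀ a ∈ A, x * a * x⁻¹ = a⁻¹ := by
      intro x hx a ha
      have hx2 := L.sq hx
      have hb : a * (x * a * x⁻¹) ∈ A := A.mul_mem ha (hA.conj_mem a ha x)
      have hbx : Commute (a * (x * a * x⁻¹)) x := by
        have e : x * (a * (x * a * x⁻¹)) * x⁻¹ = a * (x * a * x⁻¹) := by
          calc x * (a * (x * a * x⁻¹)) * x⁻¹ = (x * a * x⁻¹) * ((x * x) * a * (x * x)⁻¹) := by group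
            _ = a * (x * a * x⁻¹) := by
              rw [hx2, inv_one, one_mul, mul_one]
              exact (hab _ (hA.conj_mem a ha x) a ha).eq
        exact (mul_inv_eq_iff_eq_mul.mp e).symm
      obtain ⟨g, rfl⟩ := isConj_iff.mp hx
      have h1 : g⁻¹ * (a * (g * z * g⁻¹ * a * (g * z * g⁻¹)⁻¹)) * g⁻¹⁻¹ = 1 := by
        by_contra h1
        refine hfix _ (hA.conj_mem _ hb g⁻¹) h1 ?_
        simpa [mul_assoc] using hbx.map (MulAut.conj g⁻¹).toMonoidHom
      rw [conj_eq_one_iff] at h1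
      exact eq_inv_of_mul_eq_one_right h1
    obtain ⟨t, ht, htz, htc⟩ := L.nbr z hz
    obtain ⟨p, q, r, hp, hq, hr, -, -, -, -, -, -, -, hpqr⟩ := L.line_five hz (a := t) ⟨ht, htz, htc⟩
    refine hne ((Subgroup.eq_bot_iff_forall _).mpr fun a ha => ?_)
    have e1 : (z * t) * a * (z * t)⁻¹ = a := by
      calc (z * t) * a * (z * t)⁻¹ = z * (t * a * t⁻¹) * z⁻¹ := by group
        _ = a := by rw [hinv t ht a ha, hinv z hz _ (A.inv_mem ha), inv_inv]
    have e2 : (z * t) * a * (z * t)⁻¹ = a⁻¹ := by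
      calc (z * t) * a * (z * t)⁻¹ = p * (q * (r * a * r⁻¹) * q⁻¹) * p⁻¹ := by rw [← hpqr]; group
        _ = a⁻¹ := by
          rw [hinv r hr.1 a ha, hinv q hq.1 _ (A.inv_mem ha), inv_inv, hinv p hp.1 a ha]
    by_contra ha1
    refine hfix a ha ha1 (mul_inv_eq_iff_eq_mul.mp ?_).symm
    rw [hinv z hz a ha, ← e2, e1]

theorem no_solvable (N : Subgroup G) (hN : N.Normal) (hs : Group.IsSolvable ↥N) : N = ⊥ := by
  classical
  by_contra hne
  haveI := hs
  have h : ∃ n, derivedSeries ↥N n = ⊥ := (Group.isSolvable_def ↥N).1 inferInstance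
  have h0 : Nat.find h ≠ 0 := fun h0 => by
    have h1 := Nat.find_spec h
    rw [h0, derivedSeries_zero] at h1
    haveI := (Subgroup.nontrivial_iff_ne_bot N).mpr hne
    exact top_ne_bot h1
  obtain ⟨k, hk⟩ := Nat.exists_eq_succ_of_ne_zero h0
  haveI := hN
  have hbot := no_abelian_normal L hS (A := (derivedSeries ↥N k).map N.subtype) inferInstance ?_
  · refine Nat.find_min h (show k < Nat.find h by omega) ?_
    exact (Subgroup.map_eq_bot_iff_of_injective _ N.subtype_injective).mp hbot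
  rintro _ ⟨a, ha, rfl⟩ _ ⟨b, hb, rfl⟩
  have h1 := Nat.find_spec h
  rw [hk, derivedSeries_succ, Subgroup.commutator_eq_bot_iff_le_centralizer] at h1
  exact (Commute.symm (Subgroup.mem_centralizer_iff.1 (h1 ha) b hb)).map N.subtype

theorem commutator_top : commutator G = ⊤ := by
  have hz : z ∈ conjugatesOf z := mem_conjugatesOf_self
  have hall : ∀ x ∈ conjugatesOf z, Abelianization.of x = Abelianization.of z := by
    intro x hx
    obtain ⟨g, rfl⟩ := isConj_iff.mp hx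
    rw [map_mul, map_mul, map_inv, mul_comm (Abelianization.of g), mul_inv_cancel_right]
  obtain ⟨t, ht, htz, htc⟩ := L.nbr z hz
  obtain ⟨p, q, r, hp, hq, hr, -, -, -, -, -, -, -, hpqr⟩ := L.line_five hz (a := t) ⟨ht, htz, htc⟩
  have he : Abelianization.of z = 1 := by
    have h := congrArg (Abelianization.of (G := G)) hpqr
    rw [map_mul, map_mul, map_mul, hall p hp.1, hall q hq.1, hall r hr.1, hall t ht] at h
    exact mul_eq_left.mp h
  rw [← Abelianization.ker_of, eq_top_iff, ← closure_eq_top L hz hS, Subgroup.closure_le]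
  intro x hx
  rw [SetLike.mem_coe, MonoidHom.mem_ker, hall x hx, he]

theorem core_not_central :
    ¬ Cfsg.pCore 2 ↥(Subgroup.closure (Fischer.nbr (conjugatesOf z) z)) ≤
      Subgroup.center ↥(Subgroup.closure (Fischer.nbr (conjugatesOf z) z)) := by
  intro hle
  have hz : z ∈ conjugatesOf z := mem_conjugatesOf_self
  obtain ⟨H, hH⟩ : ∃ H, H = Subgroup.closure (Fischer.nbr (conjugatesOf z) z) := ⟨_, rfl⟩
  rw [← hH] at hle
  have hHc : ∀ g ∈ H, Commute g z := by
    intro g hg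
    have : H ≤ Subgroup.centralizer {z} := by
      rw [hH, Subgroup.closure_le]
      intro x hx
      exact Subgroup.mem_centralizer_singleton_iff.mpr hx.2.2.symm.eq
    exact Subgroup.mem_centralizer_singleton_iff.mp (this hg)
  have hmem : ∀ t ∈ nb (conjugatesOf z) z, t ∈ H := fun t ht =>
    hH ▸ Subgroup.subset_closure (show t ∈ Fischer.nbr _ z from ⟨ht.1, ht.2.1, ht.2.2.symm⟩)
  let P : Subgroup H := S.Q.subgroupOf H
  haveI : P.Normal := ⟨fun n hn g => S.normal g (hHc g g.2) _ hn⟩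
  haveI : Fact (Nat.Prime 2) := ⟨Nat.prime_two⟩
  have hP : IsPGroup 2 P := by
    have hQ : IsPGroup 2 S.Q := IsPGroup.of_card (n := 9) (by rw [S.card_Q]; norm_num)
    exact (hQ.to_le inf_le_left).of_equiv ((Subgroup.inf_subgroupOf_right S.Q H) ▸
      Subgroup.subgroupOfEquivOfLe (inf_le_right (a := S.Q) (b := H))).symm
  obtain ⟨t, htD, htz, htc⟩ := L.nbr z hz
  have ht : t ∈ nb (conjugatesOf z) z := ⟨htD, htz, htc⟩
  obtain ⟨u, hu⟩ := point L hz hS ht
  obtain ⟨a, ha, hau⟩ := exists_isotropic_ne u hu.ne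
  obtain ⟨t', ht', hp'⟩ := exists_over L hz hS (show a ≠ 0 from fun e => hau (by rw [e, herm_zero_left])) ha
  obtain ⟨x0, hx0⟩ := exists_herm_val hu.ne 1
  obtain ⟨y, hy, hyν⟩ := S.ν_surj x0
  have hyz : y * z * y⁻¹ = z := mul_inv_eq_iff_eq_mul.mpr (S.cent y hy).eq
  have hn : y * t * y⁻¹ ∈ nb (conjugatesOf z) z := by
    have := L.nb_conj (g := y) ht
    rwa [hyz] at this
  obtain ⟨m, hm⟩ : ∃ m, m = t * (y * t * y⁻¹) := ⟨_, rfl⟩
  have hmH : m ∈ H := hm ▸ H.mul_mem (hmem t ht) (hmem _ hn)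
  have h1 : t * y * t⁻¹ ∈ S.Q := S.normal t ht.2.2 y hy
  have h2 := S.ν_act t ht.2.2 y hy
  rw [L.inv ht.1] at h1 h2
  have hmQ : m ∈ S.Q := by
    rw [hm, show t * (y * t * y⁻¹) = t * y * t * y⁻¹ by group]
    exact S.Q.mul_mem h1 (S.Q.inv_mem hy)
  have hmν : S.ν m = u := by
    rw [hm, show t * (y * t * y⁻¹) = t * y * t * y⁻¹ by group, S.ν_mul _ h1 _ (S.Q.inv_mem hy), S.ν_inv hy, h2,
      hu.act, hyν, hx0, one_smul, add_comm x0, add_assoc, add_self, add_zero]
  have hc := hle (Solv.normal_le_pCore hP (show (⟨m, hmH⟩ : H) ∈ P from hmQ))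
  have e : t' * m = m * t' := congrArg Subtype.val (Subgroup.mem_center_iff.mp hc ⟨t', hmem t' ht'⟩)
  have h := S.ν_act t' ht'.2.2 m hmQ
  rw [e, mul_inv_cancel_right, hmν, hp'.act] at h
  exact hau ((smul_eq_zero.mp (left_eq_add.mp h)).resolve_right hp'.ne)

/-- the identification -/
theorem recognise {K : Type*} [Field K] [Fintype K] (hK : Fintype.card K = 4) :
    Nonempty (G ≃* Cfsg.PSU 6 K 2) := by
  have hz : z ∈ conjugatesOf z := mem_conjugatesOf_self
  have hsol := no_solvable L hS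
  have hperf : ⁅commutator G, commutator G⁆ = commutator G := by
    rw [commutator_top L hS]
    exact commutator_top L hS
  have hcls : Cfsg.IsThreeTranspositionClass (conjugatesOf z) := by
    refine ⟨⟨fun d hd => ?_, fun d hd e he => L.prod_pow hd he⟩, ⟨z, hz, rfl⟩, closure_eq_top L hz hS⟩
    obtain ⟨T, -⟩ := L.str d hd
    exact orderOf_eq_prime (by rw [pow_two]; exact T.z2) T.z1
  have hh := Fischer.hyp_of_no_solvable hcls hsol hperf
  have hp : Fischer.Twin.Polar (conjugatesOf z) :=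
    Fischer.Twin.polar_of_core hh hz (core_not_central L hS)
  obtain ⟨y, hy, hzy⟩ := Fischer.Twin.exists_partner hh hz
  obtain ⟨t, htD, htz, htc⟩ := L.nbr z hz
  have ht : t ∈ Fischer.nbr (conjugatesOf z) z := ⟨htD, htz, htc.symm⟩
  have h5 : (Fischer.Twin.ln (conjugatesOf z) z t).ncard = 5 := line_card L hz hS ⟨htD, htz, htc⟩
  obtain ⟨F, hF, hFf, hcard⟩ := Fischer.Twin.exists_F4
  let T : Fischer.Twin.Five (conjugatesOf z) z y :=
    ⟨hp, fun a ha e he => (hp.ln_ncard ha he hz ht).trans h5, hz, hy, hzy⟩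
  obtain ⟨co, γ, hco⟩ := T.exists_coord F hcard
  obtain ⟨n, hn, ⟨e⟩, -⟩ :=
    (⟨T, hcard, co, γ, hco⟩ : Fischer.Twin.UData (conjugatesOf z) z y F).psu_case (Fischer.Twin.center_bot hsol)
  have hord := S0280.result (F := F) (q := 2) (by rw [hcard]; norm_num) n (by omega)
  rw [← Nat.card_congr e.toEquiv, card_group L hz hS rfl] at hord
  have hn6 : n * (n - 1) / 2 = 15 := by
    have hodd : Odd (∏ i ∈ Finset.range n, (if Even i then (2 : ℕ) ^ (i + 1) + 1 else 2 ^ (i + 1) - 1)) := by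
      refine Finset.prod_induction _ Odd (fun a b => Odd.mul) odd_one fun i _ => ?_
      split_ifs
      · exact Even.add_one (Nat.even_pow.mpr ⟨even_two, by omega⟩)
      · exact Nat.Even.sub_odd (Nat.one_le_two_pow) (Nat.even_pow.mpr ⟨even_two, by omega⟩) odd_one
    have hg : Odd (Nat.gcd n (2 + 1) * ((2 + 1) * (693 * 405))) :=
      (Odd.of_dvd_nat (by decide) (Nat.gcd_dvd_right n (2 + 1))).mul (by decide)
    generalize n * (n - 1) / 2 = k at hord ⊢
    generalize (∏ i ∈ Finset.range n, (if Even i then (2 : ℕ) ^ (i + 1) + 1 else 2 ^ (i + 1) - 1)) = m at hord hodd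
    have h15 : 2 ^ 15 * (Nat.gcd n (2 + 1) * ((2 + 1) * (693 * 405))) = 2 ^ k * m := by rw [← hord]; ring
    rcases Nat.lt_trichotomy k 15 with hlt | heq | hlt
    · obtain ⟨j, hj⟩ := Nat.exists_eq_add_of_lt hlt
      rw [hj, show k + j + 1 = k + (j + 1) from rfl, pow_add, mul_assoc] at h15
      rw [← Nat.eq_of_mul_eq_mul_left (by positivity) h15] at hodd
      exact absurd hodd (Nat.not_odd_iff_even.mpr (Nat.even_mul.mpr (Or.inl (Nat.even_pow.mpr ⟨even_two, by omega⟩))))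
    · exact heq
    · obtain ⟨j, hj⟩ := Nat.exists_eq_add_of_lt hlt
      rw [hj, show 15 + j + 1 = 15 + (j + 1) from rfl, pow_add 2 15 (j + 1), mul_assoc (2 ^ 15)] at h15
      rw [Nat.eq_of_mul_eq_mul_left (by positivity) h15] at hg
      exact absurd hg (Nat.not_odd_iff_even.mpr (Nat.even_mul.mpr (Or.inl (Nat.even_pow.mpr ⟨even_two, by omega⟩))))
  have hn' : n = 6 := by
    have h2 : n ≤ 7 := by
      by_contra hh'
      have h28 : 8 * 7 ≤ n * (n - 1) := Nat.mul_le_mul (by omega) (by omega)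
      omega
    interval_cases n <;> simp_all
  subst hn'
  obtain ⟨φ⟩ : Nonempty (F ≃+* K) := ⟨FiniteField.ringEquivOfCardEq (by rw [hcard, hK])⟩
  obtain ⟨e'⟩ := PSUTransfer.psu_congr (n := 6) (q := 2) φ
  exact ⟨e.trans e'⟩

end Cfsg.Agent.Spor.CHZ
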