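import Cfsg.Agent.Lib.Spor.CHZ.Local

/-!
Around one member the other members commuting with it form, four on each point, a copy of the points of the
unitary polar space.
-/

set_option autoImplicit false
set_option maxRecDepth 100000
set_option linter.unusedSectionVars false

namespace Cfsg.Agent.Spor.CHZ

open Cfsg.Agent.Spor.SpFour Cfsg.Agent.Small.Unitary

universe w

/-- the action is exactly that of the special unitary group -/
def Full {G : Type w} [Group G] {x : G} (S : Setup x) : Prop := ∀ c, Commute c x → ∃ g : L, S.π c = sp g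

theorem Full.lin {G : Type w} [Group G] {x : G} {S : Setup x} (h : Full S) (c : G) (hc : Commute c x) :
    Lin (S.π c) := by
  obtain ⟨g, e⟩ := h c hc
  exact e ▸ sp_lin g

theorem Full.conj {G : Type w} [Group G] [Finite G] {x : G} {S : Setup x} (h : Full S) (g : G) : Full (S.conj g) :=
  fun _ hc => h _ (S.conj_comm_back hc)

/-- a class all of whose members have the structure -/
structure Loc {G : Type w} [Group G] (D : Set G) : Prop where
  conj : ∀ g : G, ∀ x ∈ D, g * x * g⁻¹ ∈ D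
  cls : ∀ x ∈ D, ∀ y ∈ D, IsConj x y
  str : ∀ x ∈ D, ∃ S : Setup x, Full S
  nbr : ∀ x ∈ D, ∃ y ∈ D, y ≠ x ∧ Commute y x

/-- the neighbours -/
def nb {G : Type w} [Group G] (D : Set G) (x : G) : Set G := {y | y ∈ D ∧ y ≠ x ∧ Commute y x}

/-- the point of a neighbour -/
structure Pt {G : Type w} [Group G] {x : G} (S : Setup x) (t : G) (u : V) : Prop where
  ne : u ≠ 0
  iso : herm u u = 0
  act : ∀ v, S.π t v = v + herm u v • u

theorem tv_unique {u u' : V} (hu : u ≠ 0) (h : ∀ v, herm u v • u = herm u' v • u') : ∃ c : F4, u = c • u' := by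
  obtain ⟨v, hv⟩ := exists_herm_val hu 1
  exact ⟨herm u' v, by rw [← h, hv, one_smul]⟩

theorem herm_zero_of_comm {u u' : V} (hu' : u' ≠ 0) (hiso : herm u' u' = 0)
    (h : ∀ v, (v + herm u' v • u') + herm u (v + herm u' v • u') • u =
      (v + herm u v • u) + herm u' (v + herm u v • u) • u') : herm u u' = 0 := by
  by_contra hne
  have key : ∀ v, herm u' v * herm u u' = 0 ∨ ∃ c : F4, u = c • u' := by
    intro v
    by_cases h0 : herm u' v * herm u u' = 0
    · exact Or.inl h0
    refine Or.inr ⟨(herm u' v * herm u u')⁻¹ * (herm u v * herm u' u), ?_⟩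
    have e : (herm u' v * herm u u') • u = (herm u v * herm u' u) • u' := by
      have := h v
      simp only [herm_add_right, herm_smul_right, add_smul] at this
      calc _ = (v + herm u' v • u' + (herm u v • u + (herm u' v * herm u u') • u)) +
            (v + herm u v • u + herm u' v • u') := by
              rw [show v + herm u' v • u' + (herm u v • u + (herm u' v * herm u u') • u) +
                (v + herm u v • u + herm u' v • u') = (v + v) + (herm u' v • u' + herm u' v • u') +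
                (herm u v • u + herm u v • u) + (herm u' v * herm u u') • u by abel]
              simp [add_self]
        _ = (v + herm u v • u + (herm u' v • u' + (herm u v * herm u' u) • u')) +
            (v + herm u v • u + herm u' v • u') := by rw [this]
        _ = _ := by
              rw [show v + herm u v • u + (herm u' v • u' + (herm u v * herm u' u) • u') +
                (v + herm u v • u + herm u' v • u') = (v + v) + (herm u v • u + herm u v • u) +
                (herm u' v • u' + herm u' v • u') + (herm u v * herm u' u) • u' by abel]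
              simp [add_self]
    rw [mul_smul, ← e, smul_smul, inv_mul_cancel₀ h0, one_smul]
  obtain ⟨v, hv⟩ := exists_herm_val hu' 1
  rcases key v with e | ⟨c, e⟩
  · rw [hv, one_mul] at e; exact hne e
  · exact hne (by rw [e, herm_smul_left, hiso, mul_zero])

variable {G : Type w} [Group G] [Finite G] {D : Set G} (L : Loc D) {z : G} (hz : z ∈ D)
  {S : Setup z} (hS : Full S)
include L hz hS

theorem shape_at {t : G} (ht : t ∈ nb D z) : ∃ (T : Setup t) (u : V), Full T ∧ Shape S T u := by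
  obtain ⟨T, hT⟩ := L.str t ht.1
  obtain ⟨u, hu⟩ := S.shape hS.lin T hT.lin (L.cls z hz t ht.1) ht.2.2 ht.2.1
  exact ⟨T, u, hT, hu⟩

theorem point {t : G} (ht : t ∈ nb D z) : ∃ u, Pt S t u := by
  obtain ⟨T, u, -, h⟩ := shape_at L hz hS ht
  exact ⟨u, h.ne, h.iso, h.act⟩

theorem commutes_orth {t : G} (ht : t ∈ nb D z) {u : V} (hu : Pt S t u) {q : G} (hq : q ∈ S.Q)
    (h : herm u (S.ν q) = 0) : Commute q t := by
  obtain ⟨T, u', -, hs⟩ := shape_at L hz hS ht
  obtain ⟨c, rfl⟩ := tv_unique hs.ne fun v => add_left_cancel ((hs.act v).symm.trans (hu.act v))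
  exact hs.comm q hq (by rw [herm_smul_left, h, mul_zero])

theorem half_at {t : G} (ht : t ∈ nb D z) : t * z ∉ D := fun h => by
  obtain ⟨T, u, -, hs⟩ := shape_at L hz hS ht
  exact hs.half (L.cls z hz _ h)

/-- the other members over the same point -/
theorem over_same {t : G} (ht : t ∈ nb D z) {u : V} (hu : Pt S t u) {t' : G} (ht' : t' ∈ nb D z)
    (he : S.π t' = S.π t) : ∃ y ∈ S.Q, t' = y * t * y⁻¹ := by
  obtain ⟨T, u', -, hs'⟩ := shape_at L hz hS ht'
  have hu'' : Pt S t' u := ⟨hu.ne, hu.iso, fun v => by rw [he]; exact hu.act v⟩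
  have ht2 : t * t = 1 := by
    obtain ⟨T, -⟩ := L.str t ht.1
    exact T.z2
  have hinv : t⁻¹ = t := inv_eq_of_mul_eq_one_right ht2
  obtain ⟨q, hq⟩ : ∃ q, q = t * t' := ⟨_, rfl⟩
  have hc : Commute (t * t') z := ht.2.2.mul_left ht'.2.2
  have hqQ : q ∈ S.Q := hq ▸ (S.π_iff _ hc).mp (by
    rw [S.π_mul _ _ ht.2.2 ht'.2.2, he, ← S.π_mul _ _ ht.2.2 ht.2.2, ht2, S.π_one])
  have e : t' = t * q := by rw [hq, ← mul_assoc, ht2, one_mul]
  have htq : t * q * t⁻¹ = q⁻¹ := by
    rw [hinv]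
    refine eq_inv_of_mul_eq_one_left ?_
    rw [mul_assoc (t * q), ← e]
    exact T.z2
  have hfix : herm u (S.ν q) = 0 := by
    have h := S.ν_act t ht.2.2 q hqQ
    rw [htq, S.ν_inv hqQ, hu.act] at h
    exact (smul_eq_zero.mp (left_eq_add.mp h)).resolve_right hu.ne
  have hperp : ∀ y, herm u y = 0 → herm (S.ν q) y = 0 := by
    intro y hy
    have key : ∀ x : F4, (∀ c : F4, c * x + star (c * x) = 0) → x = 0 := by decide +kernel
    refine key _ fun c => ?_
    obtain ⟨p, hp, hpν⟩ := S.ν_surj (c • y)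
    have h0 : herm u (S.ν p) = 0 := by rw [hpν, herm_smul_right, hy, mul_zero]
    have h1 := commutes_orth L hz hS ht hu hp h0
    have h2 := commutes_orth L hz hS ht' hu'' hp h0
    rw [← herm_smul_right, ← B_eq, ← hpν]
    exact (S.ν_comm q hqQ p hp).mp (hq ▸ (h1.mul_right h2).symm)
  obtain ⟨c, hc'⟩ := herm_perp_perp hu.ne hperp
  obtain ⟨x0, hx0⟩ := exists_herm_val hu.ne 1
  obtain ⟨y, hy, hyν⟩ := S.ν_surj (c • x0)
  obtain ⟨hx, hxν, -⟩ : t * y * t * y⁻¹ ∈ S.Q ∧ S.ν (t * y * t * y⁻¹) = S.π t (S.ν y) + S.ν y ∧ True := by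
    have h1 : t * y * t ∈ S.Q := by
      have := S.normal t ht.2.2 y hy
      rwa [hinv] at this
    refine ⟨S.Q.mul_mem h1 (S.Q.inv_mem hy), ?_, trivial⟩
    rw [S.ν_mul _ h1 _ (S.Q.inv_mem hy), S.ν_inv hy]
    have := S.ν_act t ht.2.2 y hy
    rw [hinv] at this
    rw [this]
  refine ⟨y, hy, ?_⟩
  have hν : S.ν q = S.ν (t * y * t * y⁻¹) := by
    rw [hxν, hu.act, hyν, herm_smul_right, hx0, mul_one, add_comm (c • x0), add_assoc, add_self, add_zero, hc']
  rcases S.ν_eq hqQ hx hν with e' | e'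
  · rw [e, e', show t * (t * y * t * y⁻¹) = t * t * (y * t * y⁻¹) by group, ht2, one_mul]
  · exfalso
    refine half_at L hz hS ht ?_
    have h1 : t' = y * (t * z) * y⁻¹ := by
      rw [e, e', show t * (t * y * t * y⁻¹ * z) = t * t * (y * t * (y⁻¹ * z)) by group, ht2, one_mul,
        ((S.cent y hy).inv_left).eq]
      group
    have h2 := L.conj y⁻¹ t' ht'.1
    rwa [h1, show y⁻¹ * (y * (t * z) * y⁻¹) * y⁻¹⁻¹ = t * z by group] at h2

/-- every point has members -/
theorem exists_over {u : V} (hu : u ≠ 0) (huu : herm u u = 0) : ∃ t ∈ nb D z, Pt S t u := by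
  obtain ⟨t0, h0, h1, h2⟩ := L.nbr z hz
  obtain ⟨u0, hu0⟩ := point L hz hS (t := t0) ⟨h0, h1, h2⟩
  obtain ⟨g, hg⟩ := exists_move hu0.ne hu0.iso hu huu
  obtain ⟨c, hc, hcg⟩ := S.π_surj g
  refine ⟨c * t0 * c⁻¹, ⟨L.conj c t0 h0, fun e => h1 ?_, (hc.mul_left h2).mul_left hc.inv_left⟩, hu, huu, fun v => ?_⟩
  · have hcz : c * z * c⁻¹ = z := mul_inv_eq_iff_eq_mul.mpr hc.eq
    exact (MulAut.conj c).injective (e.trans hcz.symm)
  · rw [S.π_mul _ _ (hc.mul_left h2) hc.inv_left, S.π_mul _ _ hc h2, S.π_inv hc, hcg, Equiv.Perm.mul_apply,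
      Equiv.Perm.mul_apply, hu0.act, (sp_lin g).add, (sp_lin g).smul, hg, ← hg, ← (sp_lin g).herm]
    simp

/-- a transvection conjugated by another -/
theorem point_conj {t : G} (ht : t ∈ nb D z) {c : G} (hc : Commute c z) {u : V} (hu : Pt S t u) :
    c * t * c⁻¹ ∈ nb D z ∧ Pt S (c * t * c⁻¹) (S.π c u) := by
  have hl := hS.lin c hc
  have hcz : c * z * c⁻¹ = z := mul_inv_eq_iff_eq_mul.mpr hc.eq
  refine ⟨⟨L.conj c t ht.1, fun e => ht.2.1 ((MulAut.conj c).injective (e.trans hcz.symm)),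
    (hc.mul_left ht.2.2).mul_left hc.inv_left⟩, fun e => hu.ne ((S.π c).injective (e.trans (Semi.zero (Or.inl hl)).symm)),
    (hl.herm u u).trans hu.iso, fun v => ?_⟩
  rw [S.π_mul _ _ (hc.mul_left ht.2.2) hc.inv_left, S.π_mul _ _ hc ht.2.2, S.π_inv hc, Equiv.Perm.mul_apply,
    Equiv.Perm.mul_apply, hu.act, hl.add, hl.smul]
  conv_rhs => arg 2; arg 1; rw [show v = S.π c ((S.π c)⁻¹ v) by simp, hl.herm]
  simp

/-- neighbours commute exactly when their points are orthogonal -/
theorem commute_iff {t : G} (ht : t ∈ nb D z) {u : V} (hu : Pt S t u) {t' : G} (ht' : t' ∈ nb D z) {u' : V}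
    (hu' : Pt S t' u') : Commute t t' ↔ herm u u' = 0 := by
  constructor
  · intro h
    refine herm_zero_of_comm hu'.ne hu'.iso fun v => ?_
    have e := congrArg (fun f => f v) ((S.π_mul t t' ht.2.2 ht'.2.2).symm.trans
      ((congrArg S.π h.eq).trans (S.π_mul t' t ht'.2.2 ht.2.2)))
    simpa [hu.act, hu'.act] using e
  · intro h
    have h' : herm u' u = 0 := by rw [← star_herm, h, star_zero]
    by_cases hsame : S.π t' = S.π t
    · obtain ⟨y, hy, e⟩ := over_same L hz hS ht hu ht' hsame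
      by_cases hne : t' = t
      · rw [hne]
      have hinv : t⁻¹ = t := by
        obtain ⟨T, -⟩ := L.str t ht.1
        exact inv_eq_of_mul_eq_one_right T.z2
      have hxQ : t * y * t⁻¹ * y⁻¹ ∈ S.Q := S.Q.mul_mem (S.normal t ht.2.2 y hy) (S.Q.inv_mem hy)
      have hx : herm u (S.ν (t * y * t⁻¹ * y⁻¹)) = 0 := by
        rw [S.ν_mul _ (S.normal t ht.2.2 y hy) _ (S.Q.inv_mem hy), S.ν_inv hy, S.ν_act t ht.2.2 y hy, hu.act,
          add_comm (S.ν y), add_assoc, add_self, add_zero, herm_smul_right, hu.iso, mul_zero]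
      have hc := commutes_orth L hz hS ht hu hxQ hx
      rw [hinv] at hc
      have e2 : t' = t * (t * y * t * y⁻¹) := by
        obtain ⟨T, -⟩ := L.str t ht.1
        rw [e, show t * (t * y * t * y⁻¹) = t * t * (y * t * y⁻¹) by group, T.z2, one_mul]
      rw [e2]
      exact (Commute.refl t).mul_right hc.symm
    obtain ⟨hm, hmu⟩ := point_conj L hz hS ht' ht.2.2 hu'
    have hfix : S.π t u' = u' := by rw [hu.act, h, zero_smul, add_zero]
    rw [hfix] at hmu
    obtain ⟨y, hy, e⟩ := over_same L hz hS ht' hu' hm (Equiv.ext fun v => by rw [hmu.act, hu'.act])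
    obtain ⟨hm', hmu'⟩ := point_conj L hz hS ht ht'.2.2 hu
    have hfix' : S.π t' u = u := by rw [hu'.act, h', zero_smul, add_zero]
    rw [hfix'] at hmu'
    obtain ⟨y', hy', e'⟩ := over_same L hz hS ht hu hm' (Equiv.ext fun v => by rw [hmu'.act, hu.act])
    obtain ⟨T, -⟩ := L.str t ht.1
    obtain ⟨T', -⟩ := L.str t' ht'.1
    obtain ⟨q, hq⟩ : ∃ q, q = t * t' * t * t' := ⟨_, rfl⟩
    have hq1 : q = t' * (t' * y * t'⁻¹ * y⁻¹) * t' := by
      rw [hq, T'.z_inv, show t' * (t' * y * t' * y⁻¹) * t' = t' * t' * (y * t' * y⁻¹) * t' by group, T'.z2,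
        one_mul, ← e, T.z_inv]
    have hq2 : q⁻¹ = t * (t * y' * t⁻¹ * y'⁻¹) * t := by
      rw [hq, mul_inv_rev, mul_inv_rev, mul_inv_rev, T.z_inv, T'.z_inv,
        show t * (t * y' * t * y'⁻¹) * t = t * t * (y' * t * y'⁻¹) * t by group, T.z2, one_mul, ← e', T'.z_inv]
      group
    have hline : ∀ {a : G} {p : V}, a ∈ nb D z → Pt S a p → a * a = 1 → ∀ b ∈ S.Q,
        a * (a * b * a⁻¹ * b⁻¹) * a ∈ S.Q ∧ ∃ c : F4, S.ν (a * (a * b * a⁻¹ * b⁻¹) * a) = c • p := by
      intro a p ha hp ha2 b hb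
      have hai : a⁻¹ = a := inv_eq_of_mul_eq_one_right ha2
      have hx : a * b * a⁻¹ * b⁻¹ ∈ S.Q := S.Q.mul_mem (S.normal a ha.2.2 b hb) (S.Q.inv_mem hb)
      have h1 := S.ν_act a ha.2.2 _ hx
      have h2 := S.normal a ha.2.2 _ hx
      obtain ⟨c, hc⟩ : ∃ c : F4, S.ν (a * b * a⁻¹ * b⁻¹) = c • p := ⟨herm p (S.ν b), by
        rw [S.ν_mul _ (S.normal a ha.2.2 b hb) _ (S.Q.inv_mem hb), S.ν_inv hb, S.ν_act a ha.2.2 b hb, hp.act,
          add_comm (S.ν b), add_assoc, add_self, add_zero]⟩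
      rw [hc, hp.act, herm_smul_right, hp.iso, mul_zero, zero_smul, add_zero] at h1
      generalize a * b * a⁻¹ * b⁻¹ = x at h1 h2 ⊢
      rw [hai] at h1 h2
      exact ⟨h2, c, h1⟩
    obtain ⟨hqQ, c, hc⟩ := hline ht' hu' T'.z2 y hy
    obtain ⟨-, c', hc'⟩ := hline ht hu T.z2 y' hy'
    rw [← hq1] at hqQ hc
    rw [← hq2, S.ν_inv hqQ, hc] at hc'
    have hc0 : c = 0 := by
      by_contra hne
      refine hsame (Equiv.ext fun v => ?_)
      have e1 : u' = (c⁻¹ * c') • u := by rw [mul_smul, ← hc', smul_smul, inv_mul_cancel₀ hne, one_smul]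
      have hk : c⁻¹ * c' ≠ 0 := fun h0 => hu'.ne (by rw [e1, h0, zero_smul])
      rw [hu'.act, hu.act, e1, herm_smul_left, smul_smul, mul_right_comm,
        (by decide +kernel : ∀ c : F4, c ≠ 0 → star c * c = 1) _ hk, one_mul]
    rw [hc0, zero_smul] at hc
    have ett : t * t' * (t * t') = q := by rw [hq]; group
    rcases (S.ν_zero q hqQ).mp hc with e3 | e3
    · rw [e3] at ett
      show t * t' = t' * t
      have := inv_eq_of_mul_eq_one_right ett
      rwa [mul_inv_rev, T.z_inv, T'.z_inv, eq_comm] at this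
    · exfalso
      refine half_at L hz hS ht' ?_
      have h3 : t * t' * t⁻¹ = t' * z := by
        rw [T.z_inv]
        calc t * t' * t = t * t' * (t * t') * t' := by rw [mul_assoc, mul_assoc, mul_assoc, mul_assoc, T'.z2, mul_one]
          _ = t' * z := by rw [ett, e3, ht'.2.2.eq]
      exact h3 ▸ L.conj t t' ht'.1

end Cfsg.Agent.Spor.CHZ
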