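import Cfsg.Agent.Lib.Spor.CHZ.Local

/-!
Semilinear actions: two commuting conjugates act linearly on each other, their meet is a line, and linearity
of an element centralising both can be read off its action on the meet.
-/

set_option autoImplicit false
set_option maxRecDepth 100000
set_option maxHeartbeats 400000
set_option linter.unusedSectionVars false

namespace Cfsg.Agent.Spor.CHZ

open Cfsg.Agent.Spor.SpFour Cfsg.Agent.Small.Unitary

universe w

theorem pick_sq : ∀ l : F4, l ≠ 0 → ∀ a : F4, a ≠ 0 → (star a * l = a ↔ a = l * l) := by decide +kernel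

namespace Setup

variable {G : Type w} [Group G] [Finite G] {z : G} (S : Setup z)
include S

/-- no conjugate of the centre lies in the subgroup apart from itself -/
theorem noQ' : NoQ S := by
  intro x hx hconj
  by_contra hne
  obtain ⟨g, rfl⟩ := isConj_iff.mp hconj
  exact S.both_in (S.conj g) hx (S.mixed (S.conj g) (S.rsize_conj g).symm hx hne) hne

/-- two commuting different conjugates -/
theorem two' {g : G} (hc : Commute (g * z * g⁻¹) z) (hne : g * z * g⁻¹ ≠ z) : Two S (S.conj g) :=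
  ⟨hc, fun h => hne (S.noQ' _ h (isConj_iff.mpr ⟨g, rfl⟩)),
    fun h => hne ((S.conj g).noQ' z h (isConj_iff.mpr ⟨g⁻¹, by group⟩)).symm, S.noQ', (S.conj g).noQ',
    isConj_iff.mpr ⟨g, rfl⟩⟩

end Setup

namespace Two

variable {G : Type w} [Group G] [Finite G] {z t : G} {S : Setup z} {T : Setup t} (P : Two S T)
include P

/-- the image of the other centraliser -/
theorem image_ge : Nat.card (T.CQ z) ≤ Nat.card ↥(S.Q ⊓ T.Q) * (S.π '' (T.CQ z : Set G)).ncard := by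
  let φ : ↥(T.CQ z) →* Equiv.Perm V := MonoidHom.mk' (fun r => S.π r)
    fun a b => S.π_mul _ _ (T.mem_CQ.mp a.2).2 (T.mem_CQ.mp b.2).2
  have hk : Nat.card φ.ker ≤ Nat.card ↥(S.Q ⊓ T.Q) := Nat.card_le_card_of_injective
    (fun r => (⟨r.1.1, (S.π_iff _ (T.mem_CQ.mp r.1.2).2).mp r.2, (T.mem_CQ.mp r.1.2).1⟩ : ↥(S.Q ⊓ T.Q)))
    fun a b e => Subtype.ext (Subtype.ext (congrArg Subtype.val e :))
  have hr : Nat.card φ.range = (S.π '' (T.CQ z : Set G)).ncard := by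
    rw [← Nat.card_coe_set_eq]
    refine Nat.card_congr (Equiv.setCongr (Set.ext fun x => ⟨?_, ?_⟩))
    · rintro ⟨r, rfl⟩; exact ⟨r, r.2, rfl⟩
    · rintro ⟨r, hr, rfl⟩; exact ⟨⟨r, hr⟩, rfl⟩
  have h := φ.ker.card_mul_index
  rw [Subgroup.index_ker, hr] at h
  rw [← h]
  exact Nat.mul_le_mul hk le_rfl

theorem fix_ge : 16 ≤ (fixS (S.π t)).ncard := by
  have h := card_kernel_image P.semi
  have hle := Set.ncard_le_ncard (range_le_fix P.semi P.sq)
  nlinarith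

/-- the centraliser covers half the fixed vectors, all of them outside the full case -/
theorem fix_cover : (fixS (S.π t)).ncard ≤ Nat.card (S.CQ t) ∧
    (¬ IsConj z (t * z) → 2 * (fixS (S.π t)).ncard ≤ Nat.card (S.CQ t)) := by
  rw [S.card_of_mem (S.CQ_le t) P.z_mem_CQ]
  constructor
  · by_cases hall : ∀ q ∈ S.Q, S.π t (S.ν q) = S.ν q → Commute q t
    · have hsub : fixS (S.π t) ⊆ S.ν '' (S.CQ t : Set G) := fun v hv => by
        obtain ⟨q, hq, rfl⟩ := S.ν_surj v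
        exact ⟨q, S.mem_CQ.mpr ⟨hq, hall q hq hv⟩, rfl⟩
      have := Set.ncard_le_ncard hsub
      omega
    push Not at hall
    obtain ⟨q0, hq0, hfix0, hne0⟩ := hall
    have hcover : fixS (S.π t) ⊆ S.ν '' (S.CQ t : Set G) ∪ (· + S.ν q0) '' (S.ν '' (S.CQ t : Set G)) := by
      intro v hv
      obtain ⟨q, hq, rfl⟩ := S.ν_surj v
      by_cases hc : Commute q t
      · exact Or.inl ⟨q, S.mem_CQ.mpr ⟨hq, hc⟩, rfl⟩
      refine Or.inr ⟨S.ν (q * q0), ⟨q * q0, S.mem_CQ.mpr ⟨S.Q.mul_mem hq hq0, ?_⟩, rfl⟩, ?_⟩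
      · have key : ∀ q ∈ S.Q, S.π t (S.ν q) = S.ν q → ¬ Commute q t → t * q * t⁻¹ = q * z := by
          intro q hq hf hn
          refine (S.ν_eq (S.normal t P.comm q hq) hq (by rw [S.ν_act t P.comm q hq, hf])).resolve_left ?_
          exact fun e => hn (mul_inv_eq_iff_eq_mul.mp e).symm
        refine (mul_inv_eq_iff_eq_mul.mp ?_).symm
        calc t * (q * q0) * t⁻¹ = (t * q * t⁻¹) * (t * q0 * t⁻¹) := by group
          _ = q * z * (q0 * z) := by rw [key q hq hv hc, key q0 hq0 hfix0 hne0]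
          _ = q * q0 := by
            rw [mul_assoc, ← mul_assoc z, (S.cent q0 hq0).symm.eq, mul_assoc, S.z2, mul_one]
      · show S.ν (q * q0) + S.ν q0 = S.ν q
        rw [S.ν_mul q hq q0 hq0, add_assoc, add_self, add_zero]
    have := (Set.ncard_le_ncard hcover).trans (Set.ncard_union_le _ _)
    rw [Set.ncard_image_of_injective _ (add_left_injective _)] at this
    exact this.trans (le_of_eq (by ring))
  · intro hnf
    have hsub : fixS (S.π t) ⊆ S.ν '' (S.CQ t : Set G) := fun v hv => by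
      obtain ⟨q, hq, rfl⟩ := S.ν_surj v
      exact ⟨q, S.mem_CQ.mpr ⟨hq, by_contra fun hn => hnf (P.full_of_flip hq hv hn)⟩, rfl⟩
    have := Set.ncard_le_ncard hsub
    omega

/-- the action of the other is linear -/
theorem lin : Lin (S.π t) := by
  refine P.semi.resolve_right fun hA => ?_
  obtain ⟨h16, hr⟩ := hA.fix_range P.sq
  obtain ⟨hc1, hc2⟩ := P.fix_cover
  obtain ⟨hd1, hd2⟩ := P.symm.fix_cover
  have hf' := P.symm.fix_ge
  have himg := P.image_ge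
  have hsemi : ∀ g ∈ S.π '' (T.CQ z : Set G), Semi g := by
    rintro _ ⟨r, hr, rfl⟩
    exact S.π_semi r (T.mem_CQ.mp hr).2
  have hUle : (S.img (S.CQ t) (S.CQ_le t) : Set V) ⊆ fixS (S.π t) := by
    rintro _ ⟨q, hq, rfl⟩
    exact P.CQ_fix hq
  have hU8 : 8 ≤ Nat.card (S.img (S.CQ t) (S.CQ_le t)) := by
    rw [S.card_of_mem (S.CQ_le t) P.z_mem_CQ] at hc1
    have e : Nat.card ↥(S.ν '' (S.CQ t : Set G)) = Nat.card (S.img (S.CQ t) (S.CQ_le t)) := rfl
    rw [← e, Nat.card_coe_set_eq]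
    omega
  by_cases hfull : IsConj z (t * z)
  · have hD : ∀ d ∈ S.Q ⊓ T.Q, d = 1 := fun d hd => by
      obtain ⟨y, hy⟩ : S.ν d ∈ Set.range fun x => S.π t x + x := hr ▸ P.meet_fix hd
      exact P.full_meet hfull hd hy.symm
    have hD1 : Nat.card ↥(S.Q ⊓ T.Q) = 1 := by
      rw [show S.Q ⊓ T.Q = ⊥ from (Subgroup.eq_bot_iff_forall _).mpr hD, Subgroup.card_bot]
    have := bound_half hA h16 _ hUle hU8 hsemi fun g hg y hy => by
      obtain ⟨r, hr', rfl⟩ := hg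
      obtain ⟨q, hq, rfl⟩ := hy
      obtain ⟨d, hd, hdv⟩ := P.moves hq hr'
      rw [hD d hd, S.ν_one] at hdv
      exact add_cancel' hdv
    rw [hD1] at himg
    omega
  have hnf' : ¬ IsConj t (z * t) := fun h => hfull (P.conj.trans (P.comm.symm.eq.trans rfl ▸ h))
  have h32 : 32 ≤ Nat.card (T.CQ z) := le_trans (by omega) (hd2 hnf')
  have hall : ∀ v, S.π t v = v → ∃ q ∈ S.CQ t, S.ν q = v := fun v hv => by
    obtain ⟨q, hq, rfl⟩ := S.ν_surj v
    exact ⟨q, S.mem_CQ.mpr ⟨hq, by_contra fun hn => hfull (P.full_of_flip hq hv hn)⟩, rfl⟩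
  have hDle : S.Q ⊓ T.Q ≤ S.Q := inf_le_left
  obtain ⟨E, hE⟩ : ∃ E, E = S.img (S.Q ⊓ T.Q) hDle := ⟨_, rfl⟩
  have hcE : Nat.card ↥(S.Q ⊓ T.Q) = (E : Set V).ncard := by
    rw [hE]; exact S.card_of_notMem hDle P.meet_z
  have hmemE : ∀ {d}, d ∈ S.Q ⊓ T.Q → S.ν d ∈ E := fun hd => hE ▸ ⟨_, hd, rfl⟩
  have hEfix : ∀ e ∈ E, S.π t e = e := by
    rw [hE]
    rintro _ ⟨d, hd, rfl⟩
    exact P.meet_fix hd
  have hreal : ∀ a b, S.π t a = a → S.π t b = b → star (herm a b) = herm a b := fun a b ha hb => by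
    have h := hA.herm a b
    rw [ha, hb] at h
    exact h.symm
  -- different elements of the meet are not orthogonal
  have hpair : ∀ e1 ∈ E, ∀ e2 ∈ E, e1 ≠ 0 → e2 ≠ 0 → e1 ≠ e2 → herm e1 e2 = 1 := by
    intro e1 he1 e2 he2 n1 n2 n12
    refine (F4_fixed _ (hreal _ _ (hEfix e1 he1) (hEfix e2 he2))).resolve_left fun h0 => ?_
    obtain ⟨d1, hd1, rfl⟩ := (hE ▸ he1 : e1 ∈ S.img (S.Q ⊓ T.Q) hDle)
    obtain ⟨d2, hd2', rfl⟩ := (hE ▸ he2 : e2 ∈ S.img (S.Q ⊓ T.Q) hDle)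
    have hpre : ∀ e, S.π t e = e → S.π t (F4.w • e) + F4.w • e = e := fun e he => by
      rw [hA.smul, he, ← add_smul, show star F4.w + F4.w = (1 : F4) by decide +kernel, one_smul]
    obtain ⟨y1, hy1, hyν1⟩ := S.ν_surj (F4.w • S.ν d1)
    obtain ⟨y2, hy2, hyν2⟩ := S.ν_surj (F4.w • S.ν d2)
    obtain ⟨hx1, hn1, hc1'⟩ := P.comm_conj hy1
    obtain ⟨hx2, hn2, hc2'⟩ := P.comm_conj hy2
    obtain ⟨hx12, hn12, hc12⟩ := P.comm_conj (S.Q.mul_mem hy1 hy2)
    rw [hyν1, hpre _ (P.meet_fix hd1)] at hn1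
    rw [hyν2, hpre _ (P.meet_fix hd2')] at hn2
    rw [S.ν_mul y1 hy1 y2 hy2, hyν1, hyν2, ← smul_add, hpre _ (by
      rw [hA.add, P.meet_fix hd1, P.meet_fix hd2'])] at hn12
    have sel : ∀ {e x}, e ∈ S.Q ⊓ T.Q → e ≠ 1 → x ∈ S.Q → IsConj z (t * x) → S.ν e = S.ν x → e = x * z :=
      fun he hne hx hc h => (S.ν_eq he.1 hx h).resolve_left fun e' => P.meet_not_conj he hne (e' ▸ hc)
    have d1ne : d1 ≠ 1 := fun e => n1 (by rw [e, S.ν_one])
    have d2ne : d2 ≠ 1 := fun e => n2 (by rw [e, S.ν_one])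
    have d12ne : d1 * d2 ≠ 1 := fun e => n12 (add_cancel' (by rw [← S.ν_mul _ hd1.1 _ hd2'.1, e, S.ν_one]))
    have f1 := sel hd1 d1ne hx1 hc1' hn1.symm
    have f2 := sel hd2' d2ne hx2 hc2' hn2.symm
    have f12 := sel ((S.Q ⊓ T.Q).mul_mem hd1 hd2') d12ne hx12 hc12 (by rw [hn12, S.ν_mul _ hd1.1 _ hd2'.1])
    have hcm : Commute y1 (t * y2 * t * y2⁻¹) := (S.ν_comm y1 hy1 _ hx2).mpr (by
      rw [hn2, hyν1, B_eq, herm_smul_left, h0, mul_zero, star_zero, add_zero])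
    have key : t * (y1 * y2) * t * (y1 * y2)⁻¹ = (t * y1 * t * y1⁻¹) * (t * y2 * t * y2⁻¹) := by
      have hid : t * y1 * t * y1⁻¹ * (y1 * (t * y2 * t * y2⁻¹) * y1⁻¹) =
          t * (y1 * ((t * t) * y2) * t * (y1 * y2)⁻¹) := by group
      rw [T.z2, one_mul, hcm.eq, mul_inv_cancel_right] at hid
      rw [hid]; group
    refine S.z1 ?_
    rw [key, f1, f2] at f12
    rw [show t * y1 * t * y1⁻¹ * z * (t * y2 * t * y2⁻¹ * z) =
        t * y1 * t * y1⁻¹ * (z * (t * y2 * t * y2⁻¹)) * z by group, (S.cent _ hx2).symm.eq,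
      show t * y1 * t * y1⁻¹ * (t * y2 * t * y2⁻¹ * z) * z =
        t * y1 * t * y1⁻¹ * (t * y2 * t * y2⁻¹) * (z * z) by group, S.z2, mul_one] at f12
    exact left_eq_mul.mp f12
  by_cases hbig : ∃ e1 ∈ E, ∃ e2 ∈ E, e1 ≠ 0 ∧ e2 ≠ 0 ∧ e1 ≠ e2
  · obtain ⟨e1, he1, e2, he2, n1, n2, n12⟩ := hbig
    have h12 := hpair e1 he1 e2 he2 n1 n2 n12
    have h3 : e1 + e2 ≠ 0 := fun e => n12 (add_cancel' e)
    have hE4 : (E : Set V).ncard ≤ 4 := by
      refine le_trans (Set.ncard_le_ncard (t := (({0, e1, e2, e1 + e2} : Finset V) : Set V)) ?_)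
        ((Set.ncard_coe_finset _).le.trans Finset.card_le_four)
      intro e he
      by_contra hne
      simp only [Finset.coe_insert, Finset.coe_singleton, Set.mem_insert_iff, Set.mem_singleton_iff, not_or] at hne
      obtain ⟨m0, m1, m2, m3⟩ := hne
      have a := hpair e1 he1 e he n1 m0 (Ne.symm m1)
      have b := hpair e1 he1 (e2 + e) (E.add_mem he2 he) n1 (fun h => m2 (add_cancel' h).symm)
        (fun h => m3 (by rw [h, add_comm, ← add_assoc, add_self, zero_add]))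
      rw [herm_add_right, h12, a, CharTwo.add_self_eq_zero] at b
      exact zero_ne_one b
    have hX := bound_line hA h16 (d := 0) (by show S.π t 0 = 0; exact Semi.zero P.semi) (herm_zero_right 0) hsemi
      fun g hg y hy => by
        obtain ⟨r, hr', rfl⟩ := hg
        obtain ⟨q, hq, rfl⟩ := hall y hy
        obtain ⟨d, hd, hdv⟩ := P.moves hq hr'
        left
        refine add_cancel' ?_
        rw [hdv]
        by_contra hd0
        have horth : ∀ e ∈ E, herm e (S.ν d) = 0 := by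
          intro e he
          have hre : S.π r e = e := by
            obtain ⟨d', hd', rfl⟩ := (hE ▸ he : e ∈ S.img (S.Q ⊓ T.Q) hDle)
            exact P.moves_meet hd' hr'
          have h := hreal e (S.ν q) (hEfix e he) hy
          rw [← hdv, herm_add_right]
          conv_lhs => arg 1; arg 1; rw [← hre]
          rcases hsemi _ ⟨r, hr', rfl⟩ with hl | hl
          · rw [hl.herm]; exact CharTwo.add_self_eq_zero _
          · rw [hl.herm, h]; exact CharTwo.add_self_eq_zero _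
        obtain ⟨e, he, hne, he0⟩ : ∃ e ∈ E, e ≠ S.ν d ∧ e ≠ 0 := by
          by_cases h : e1 = S.ν d
          · exact ⟨e2, he2, fun e => n12 (h.trans e.symm), n2⟩
          · exact ⟨e1, he1, h, n1⟩
        exact zero_ne_one ((horth e he).symm.trans (hpair e he _ (hmemE hd) he0 hd0 hne))
    nlinarith
  push Not at hbig
  obtain ⟨d0, hd0, hd0E⟩ := AddSubgroup.two_elem (A := E) fun a ha b hb ha0 hb0 => hbig a ha b hb ha0 hb0
  have hE2 : (E : Set V).ncard ≤ 2 := (Set.ncard_le_ncard hd0).trans ((Set.ncard_insert_le _ _).trans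
    (by rw [Set.ncard_singleton]))
  have hsing : herm d0 d0 = 0 := by
    obtain ⟨d, hd, rfl⟩ := (hE ▸ hd0E : d0 ∈ S.img (S.Q ⊓ T.Q) hDle)
    have hdd : d * d = 1 := by
      rcases S.ν_eq (S.Q.mul_mem hd.1 hd.1) S.Q.one_mem (by rw [S.ν_mul d hd.1 d hd.1, add_self, S.ν_one]) with e | e
      · exact e
      · exact absurd ((S.Q ⊓ T.Q).mul_mem hd hd) (by rw [e, one_mul]; exact P.meet_z)
    exact (S.ν_sq d hd.1).mp hdd
  have hX := bound_line hA h16 (d := d0) (hEfix d0 hd0E) hsing hsemi fun g hg y hy => by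
    obtain ⟨r, hr', rfl⟩ := hg
    obtain ⟨q, hq, rfl⟩ := hall y hy
    obtain ⟨d, hd, hdv⟩ := P.moves hq hr'
    rcases hd0 (hmemE hd) with e | e
    · exact Or.inl (add_cancel' (hdv.trans e))
    · exact Or.inr (by
        rw [← show S.π r (S.ν q) + S.ν q = d0 from hdv.trans e, add_comm (S.ν q), add_assoc, add_self, add_zero])
  nlinarith

/-- the meet is the whole line -/
theorem meet_line : ∃ u : V, u ≠ 0 ∧ ∀ v, v ∈ S.ν '' ((S.Q ⊓ T.Q : Subgroup G) : Set G) ↔ ∃ c : F4, v = c • u := by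
  classical
  obtain ⟨u, hs⟩ := P.shape P.lin P.symm.lin
  obtain ⟨u', hs'⟩ := P.symm.shape P.symm.lin P.lin
  have h128 : 128 ≤ Nat.card (T.CQ z) := by
    rw [T.card_of_mem (T.CQ_le z) P.symm.z_mem_CQ]
    have hsub : {y : V | herm u' y = 0} ⊆ T.ν '' (T.CQ z : Set G) := fun y hy => by
      obtain ⟨q, hq, rfl⟩ := T.ν_surj y
      exact ⟨q, T.mem_CQ.mpr ⟨hq, hs'.comm q hq hy⟩, rfl⟩
    have := Set.ncard_le_ncard hsub
    rw [hyper_ncard hs'.ne] at this
    omega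
  refine ⟨u, hs.ne, fun v => ⟨?_, ?_⟩⟩
  · rintro ⟨d, hd, rfl⟩
    exact hs.meet d hd
  rintro ⟨c, rfl⟩
  by_contra hc
  have hDle : S.Q ⊓ T.Q ≤ S.Q := inf_le_left
  obtain ⟨E, hE⟩ : ∃ E, E = S.img (S.Q ⊓ T.Q) hDle := ⟨_, rfl⟩
  have hcE : Nat.card ↥(S.Q ⊓ T.Q) = (E : Set V).ncard := by
    rw [hE]; exact S.card_of_notMem hDle P.meet_z
  have hEl : ∀ e ∈ E, ∃ a : F4, e = a • u := by
    rw [hE]; rintro _ ⟨d, hd, rfl⟩; exact hs.meet d hd
  obtain ⟨d0, hd0, -⟩ := AddSubgroup.two_elem (A := E) fun a ha b hb ha0 hb0 => by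
    by_contra hab
    refine hc ?_
    have hmem : ∀ x ∈ E, x ∈ S.ν '' ((S.Q ⊓ T.Q : Subgroup G) : Set G) := fun x hx => (hE ▸ hx :)
    obtain ⟨p, rfl⟩ := hEl a ha
    obtain ⟨r, rfl⟩ := hEl b hb
    have hp : p ≠ 0 := fun e => ha0 (by rw [e, zero_smul])
    have hr : r ≠ 0 := fun e => hb0 (by rw [e, zero_smul])
    have key : ∀ p r c : F4, p ≠ 0 → r ≠ 0 → p ≠ r → c = 0 ∨ c = p ∨ c = r ∨ c = p + r := by decide +kernel
    rcases key p r c hp hr (fun e => hab (by rw [e])) with rfl | rfl | rfl | rfl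
    · exact hmem _ (by rw [zero_smul]; exact E.zero_mem)
    · exact hmem _ ha
    · exact hmem _ hb
    · exact hmem _ (by rw [add_smul]; exact E.add_mem ha hb)
  have hE2 : (E : Set V).ncard ≤ 2 := (Set.ncard_le_ncard hd0).trans ((Set.ncard_insert_le _ _).trans
    (by rw [Set.ncard_singleton]))
  obtain ⟨y0, hy0⟩ := exists_herm_val hs.ne 1
  have hmove : ∀ r ∈ T.CQ z, ∀ y, herm u y = 0 → S.π r y + y = 0 ∨ S.π r y + y = d0 := fun r hr y hy => by
    obtain ⟨q, hq, rfl⟩ := S.ν_surj y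
    obtain ⟨d, hd, hdv⟩ := P.moves (S.mem_CQ.mpr ⟨hq, hs.comm q hq hy⟩) hr
    rw [hdv]
    exact hd0 (hE ▸ ⟨d, hd, rfl⟩)
  have hlin : ∀ r ∈ T.CQ z, Lin (S.π r) := fun r hr => by
    refine auto_lin_line (S.π_semi r (T.mem_CQ.mp hr).2) hs.ne fun y hy => ?_
    obtain ⟨q, hq, rfl⟩ := S.ν_surj y
    obtain ⟨d, hd, hdv⟩ := P.moves (S.mem_CQ.mpr ⟨hq, hs.comm q hq hy⟩) hr
    exact ⟨_, hdv.trans (hs.meet d hd).choose_spec⟩
  have h4 := card_fixing (X := S.π '' (T.CQ z : Set G)) (H := {y | herm u y = 0}) (y0 := y0)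
    (by rintro _ ⟨r, hr, rfl⟩; exact hlin r hr)
    (by
      rintro _ ⟨r, hr, rfl⟩ y (hy : herm u y = 0)
      refine add_cancel' ?_
      rcases hmove r hr y hy with e | e
      · exact e
      by_cases hd00 : d0 = 0
      · rw [e, hd00]
      exfalso
      have h2 := hmove r hr (F4.w • y) (by rw [herm_smul_right, hy, mul_zero])
      rw [(hlin r hr).smul, ← smul_add, e] at h2
      rcases h2 with h2 | h2
      · exact hd00 ((smul_eq_zero.mp h2).resolve_left (by decide +kernel))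
      · have : (F4.w + 1) • d0 = 0 := by rw [add_smul, one_smul, h2, add_self]
        exact hd00 ((smul_eq_zero.mp this).resolve_left (by decide +kernel)))
    fun x => ⟨x + herm u x • y0, by
      show herm u _ = 0
      rw [herm_add_right, herm_smul_right, hy0, mul_one, CharTwo.add_self_eq_zero],
      herm u x, by rw [add_assoc, add_self, add_zero]⟩
  have h := P.image_ge
  nlinarith

/-- linearity read off the meet -/
theorem lin_iff {c : G} (hcz : Commute c z) (hct : Commute c t) :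
    Lin (S.π c) ↔ ¬ ∃! d, (d ∈ S.Q ⊓ T.Q ∧ d ≠ 1) ∧ Commute c d := by
  classical
  obtain ⟨u, hu, hline⟩ := P.meet_line
  have hD : ∀ a : F4, ∃ d ∈ S.Q ⊓ T.Q, S.ν d = a • u := fun a => (hline _).mpr ⟨a, rfl⟩
  have hinj : ∀ e ∈ S.Q ⊓ T.Q, ∀ e' ∈ S.Q ⊓ T.Q, S.ν e = S.ν e' → e = e' := fun e he e' he' h =>
    (S.ν_eq he.1 he'.1 h).resolve_right fun hz => P.meet_z (by
      have := (S.Q ⊓ T.Q).mul_mem ((S.Q ⊓ T.Q).inv_mem he') he
      simpa [hz] using this)
  have hcd : ∀ d ∈ S.Q ⊓ T.Q, c * d * c⁻¹ ∈ S.Q ⊓ T.Q := fun d hd =>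
    ⟨S.normal c hcz d hd.1, T.normal c hct d hd.2⟩
  have hfix : ∀ d ∈ S.Q ⊓ T.Q, (Commute c d ↔ S.π c (S.ν d) = S.ν d) := fun d hd => by
    rw [← S.ν_act c hcz d hd.1]
    constructor
    · intro h; rw [h.eq, mul_inv_cancel_right]
    · exact fun h => mul_inv_eq_iff_eq_mul.mp (hinj _ (hcd d hd) _ hd h)
  obtain ⟨d1, hd1, he1⟩ := hD 1
  obtain ⟨l, hl⟩ : ∃ l : F4, S.π c u = l • u := by
    obtain ⟨l, hl⟩ := (hline _).mp ⟨_, hcd d1 hd1, rfl⟩
    rw [S.ν_act c hcz d1 hd1.1, he1, one_smul] at hl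
    exact ⟨l, hl⟩
  have hl0 : l ≠ 0 := fun e => by
    rw [e, zero_smul] at hl
    exact hu ((S.π c).injective (hl.trans (Semi.zero (S.π_semi c hcz)).symm))
  have hne : ∀ {d} {a : F4}, d ∈ S.Q ⊓ T.Q → S.ν d = a • u → a ≠ 0 → d ≠ 1 := fun {d a} _ e ha e' => by
    rw [e', S.ν_one] at e
    exact ha ((smul_eq_zero.mp e.symm).resolve_right hu)
  constructor
  · intro hL ⟨d, ⟨⟨hd, hd1'⟩, hdc⟩, huniq⟩
    obtain ⟨a, ha⟩ := (hline _).mp ⟨d, hd, rfl⟩
    have ha0 : a ≠ 0 := fun e => hd1' (hinj d hd 1 (one_mem _) (by rw [ha, e, zero_smul, S.ν_one]))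
    have h := (hfix d hd).mp hdc
    rw [ha, hL.smul, hl, smul_smul] at h
    have hl1 : l = 1 := (mul_eq_left₀ ha0).mp (smul_left_injective F4 hu h)
    have hall : ∀ b : F4, ∀ e ∈ S.Q ⊓ T.Q, S.ν e = b • u → Commute c e := fun b e he hb =>
      (hfix e he).mpr (by rw [hb, hL.smul, hl, hl1, one_smul])
    obtain ⟨e2, he2, hν2⟩ := hD F4.w
    have := huniq e2 ⟨⟨he2, hne he2 hν2 (by decide +kernel)⟩, hall _ e2 he2 hν2⟩
    have h' := huniq d1 ⟨⟨hd1, hne hd1 he1 one_ne_zero⟩, hall _ d1 hd1 he1⟩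
    rw [← this] at h'
    rw [h', hν2] at he1
    exact absurd (smul_left_injective F4 hu he1) (by decide +kernel)
  · intro h
    refine (S.π_semi c hcz).resolve_right fun hA => h ?_
    obtain ⟨d, hd, hdν⟩ := hD (l * l)
    have hll : l * l ≠ 0 := mul_ne_zero hl0 hl0
    refine ⟨d, ⟨⟨hd, hne hd hdν hll⟩, (hfix d hd).mpr ?_⟩, ?_⟩
    · rw [hdν, hA.smul, hl, smul_smul, ((pick_sq l hl0 _ hll).mpr rfl)]
    · rintro e ⟨⟨he, he1'⟩, hec⟩
      obtain ⟨a, ha⟩ := (hline _).mp ⟨e, he, rfl⟩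
      have ha0 : a ≠ 0 := fun h => he1' (hinj e he 1 (one_mem _) (by rw [ha, h, zero_smul, S.ν_one]))
      have h' := (hfix e he).mp hec
      rw [ha, hA.smul, hl, smul_smul] at h'
      exact hinj e he d hd (by rw [ha, hdν, (pick_sq l hl0 a ha0).mp (smul_left_injective F4 hu h')])

theorem lin_agree {c : G} (hcz : Commute c z) (hct : Commute c t) : Lin (S.π c) ↔ Lin (T.π c) := by
  rw [P.lin_iff hcz hct, P.symm.lin_iff hct hcz, inf_comm]

end Two

end Cfsg.Agent.Spor.CHZ
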