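import Cfsg.Agent.Lib.Spor.CHZ.Bounds
import Cfsg.Agent.Lib.Spor.CentU62.Connect

/-!
An involution whose centraliser has a normal extraspecial subgroup of order 2^9 on which the quotient acts
as the unitary group in dimension four over the field with four elements.
-/

set_option autoImplicit false
set_option maxRecDepth 100000
set_option linter.unusedSectionVars false

namespace Cfsg.Agent.Spor.CHZ

open Cfsg.Agent.Spor.SpFour Cfsg.Agent.Small.Unitary

universe w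

/-- the coordinates of the centraliser -/
structure Setup {G : Type w} [Group G] (z : G) where
  Q : Subgroup G
  ν : G → V
  π : G → Equiv.Perm V
  z1 : z ≠ 1
  z2 : z * z = 1
  cent : ∀ x ∈ Q, Commute x z
  normal : ∀ c, Commute c z → ∀ x ∈ Q, c * x * c⁻¹ ∈ Q
  zQ : z ∈ Q
  π_mul : ∀ c d, Commute c z → Commute d z → π (c * d) = π c * π d
  π_semi : ∀ c, Commute c z → Semi (π c)
  π_iff : ∀ c, Commute c z → (π c = 1 ↔ c ∈ Q)
  π_surj : ∀ g : L, ∃ c, Commute c z ∧ π c = sp g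
  ν_mul : ∀ x ∈ Q, ∀ y ∈ Q, ν (x * y) = ν x + ν y
  ν_zero : ∀ x ∈ Q, (ν x = 0 ↔ x = 1 ∨ x = z)
  ν_surj : ∀ v, ∃ x ∈ Q, ν x = v
  ν_sq : ∀ x ∈ Q, (x * x = 1 ↔ herm (ν x) (ν x) = 0)
  ν_comm : ∀ x ∈ Q, ∀ y ∈ Q, (Commute x y ↔ B (ν x) (ν y) = 0)
  ν_act : ∀ c, Commute c z → ∀ x ∈ Q, ν (c * x * c⁻¹) = π c (ν x)

namespace Setup

variable {G : Type w} [Group G] {z : G} (S : Setup z)
include S

theorem z_inv : z⁻¹ = z := inv_eq_of_mul_eq_one_right S.z2

theorem ν_one : S.ν 1 = 0 := (S.ν_zero 1 S.Q.one_mem).mpr (Or.inl rfl)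

theorem ν_z : S.ν z = 0 := (S.ν_zero z S.zQ).mpr (Or.inr rfl)

theorem π_one : S.π 1 = 1 := (S.π_iff 1 (Commute.one_left z)).mpr S.Q.one_mem

theorem π_inv {c : G} (hc : Commute c z) : S.π c⁻¹ = (S.π c)⁻¹ :=
  eq_inv_of_mul_eq_one_left (by rw [← S.π_mul _ _ hc.inv_left hc, inv_mul_cancel, S.π_one])

theorem mul_z {x : G} (hx : x ∈ S.Q) : x * z ∈ S.Q := S.Q.mul_mem hx S.zQ

theorem ν_mulz {x : G} (hx : x ∈ S.Q) : S.ν (x * z) = S.ν x := by
  rw [S.ν_mul x hx z S.zQ, S.ν_z, add_zero]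

theorem ν_inv {x : G} (hx : x ∈ S.Q) : S.ν x⁻¹ = S.ν x :=
  (add_cancel' (by rw [← S.ν_mul x hx _ (S.Q.inv_mem hx), mul_inv_cancel, S.ν_one])).symm

theorem ν_eq {x y : G} (hx : x ∈ S.Q) (hy : y ∈ S.Q) (h : S.ν x = S.ν y) : x = y ∨ x = y * z := by
  have h0 : S.ν (y⁻¹ * x) = 0 := by rw [S.ν_mul _ (S.Q.inv_mem hy) _ hx, S.ν_inv hy, h, add_self]
  rcases (S.ν_zero _ (S.Q.mul_mem (S.Q.inv_mem hy) hx)).mp h0 with e | e
  · exact Or.inl (inv_mul_eq_one.mp e).symm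
  · exact Or.inr (inv_mul_eq_iff_eq_mul.mp e)

theorem ne_z {x : G} : x * z ≠ x := fun h => S.z1 (mul_eq_left.mp h)

/-- commutators in the subgroup -/
theorem conj_Q {x y : G} (hx : x ∈ S.Q) (hy : y ∈ S.Q) : y * x * y⁻¹ = x ∨ y * x * y⁻¹ = x * z := by
  refine S.ν_eq (S.normal y (S.cent y hy) x hx) hx ?_
  rw [S.ν_act y (S.cent y hy) x hx, (S.π_iff y (S.cent y hy)).mpr hy]
  rfl

theorem conj_Q_ne {x y : G} (hx : x ∈ S.Q) (hy : y ∈ S.Q) (hB : B (S.ν y) (S.ν x) ≠ 0) :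
    y * x * y⁻¹ = x * z :=
  (S.conj_Q hx hy).resolve_left fun h => hB ((S.ν_comm y hy x hx).mp (mul_inv_eq_iff_eq_mul.mp h))

/-- the image of a subgroup -/
def img (H : Subgroup G) (hH : H ≤ S.Q) : AddSubgroup V where
  carrier := S.ν '' H
  add_mem' := by
    rintro _ _ ⟨x, hx, rfl⟩ ⟨y, hy, rfl⟩
    exact ⟨x * y, H.mul_mem hx hy, S.ν_mul x (hH hx) y (hH hy)⟩
  zero_mem' := ⟨1, H.one_mem, S.ν_one⟩
  neg_mem' := by
    rintro _ ⟨x, hx, rfl⟩
    exact ⟨x, hx, (neg_eq' _).symm⟩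

theorem mem_img {H : Subgroup G} (hH : H ≤ S.Q) {v : V} : v ∈ S.img H hH ↔ ∃ x ∈ H, S.ν x = v := Iff.rfl

theorem card_of_notMem {H : Subgroup G} (hH : H ≤ S.Q) (hz : z ∉ H) : Nat.card H = (S.ν '' H).ncard := by
  rw [Set.ncard_image_of_injOn, ← Nat.card_coe_set_eq]
  · rfl
  intro x hx y hy e
  rcases S.ν_eq (hH hx) (hH hy) e with h | h
  · exact h
  · exact absurd (show z ∈ H by simpa [h] using H.mul_mem (H.inv_mem hy) hx) hz

theorem card_of_mem {H : Subgroup G} (hH : H ≤ S.Q) (hz : z ∈ H) : Nat.card H = 2 * (S.ν '' H).ncard := by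
  classical
  have hsec : ∀ v ∈ S.ν '' (H : Set G), ∃ x ∈ H, S.ν x = v := fun v hv => hv
  choose s hs hsv using hsec
  let F : ↥(S.ν '' (H : Set G)) × Bool → ↥H := fun p =>
    ⟨s p.1 p.1.2 * (if p.2 then z else 1), H.mul_mem (hs _ _) (by cases p.2 <;> simp [hz])⟩
  have hb : Function.Bijective F := by
    constructor
    · rintro ⟨v, a⟩ ⟨v', a'⟩ e
      have e' : s v v.2 * (if a then z else 1) = s v' v'.2 * (if a' then z else 1) := congrArg Subtype.val e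
      have hv : v = v' := Subtype.ext <| by
        have := congrArg S.ν e'
        rw [S.ν_mul _ (hH (hs _ _)) _ (by cases a <;> simp [S.zQ]),
          S.ν_mul _ (hH (hs _ _)) _ (by cases a' <;> simp [S.zQ]), hsv, hsv] at this
        cases a <;> cases a' <;> simpa [S.ν_z, S.ν_one] using this
      subst hv
      have e2 := mul_left_cancel e'
      cases a <;> cases a' <;> simp_all [S.z1, Ne.symm S.z1]
    · rintro ⟨x, hx⟩
      rcases S.ν_eq (hH hx) (hH (hs _ ⟨x, hx, rfl⟩)) (hsv _ ⟨x, hx, rfl⟩).symm with e | e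
      · exact ⟨(⟨S.ν x, x, hx, rfl⟩, false), Subtype.ext (by simpa [F] using e.symm)⟩
      · exact ⟨(⟨S.ν x, x, hx, rfl⟩, true), Subtype.ext (by simpa [F] using e.symm)⟩
  have := Nat.card_eq_of_bijective F hb
  rw [Nat.card_prod, Nat.card_coe_set_eq, Nat.card_eq_fintype_card (α := Bool), Fintype.card_bool] at this
  omega

theorem card_Q : Nat.card S.Q = 512 := by
  rw [S.card_of_mem le_rfl S.zQ, show S.ν '' (S.Q : Set G) = Set.univ from Set.eq_univ_of_forall fun v => S.ν_surj v,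
    Set.ncard_univ, card_V]

/-- the action as a homomorphism -/
def πHom : ↥(Subgroup.centralizer ({z} : Set G)) →* Equiv.Perm V :=
  MonoidHom.mk' (fun c => S.π c) fun c d => S.π_mul _ _
    (Subgroup.mem_centralizer_singleton_iff.mp c.2) (Subgroup.mem_centralizer_singleton_iff.mp d.2)

/-- the same structure at a conjugate -/
def conj (g : G) : Setup (g * z * g⁻¹) where
  Q := S.Q.map (MulAut.conj g).toMonoidHom
  ν x := S.ν (g⁻¹ * x * g)
  π c := S.π (g⁻¹ * c * g)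
  z1 h := S.z1 (by simpa [mul_inv_eq_one] using h)
  z2 := by rw [show g * z * g⁻¹ * (g * z * g⁻¹) = g * (z * z) * g⁻¹ by group, S.z2]; group
  cent := by
    rintro _ ⟨x, hx, rfl⟩
    exact (S.cent x hx).map (MulAut.conj g).toMonoidHom
  normal c hc := by
    rintro _ ⟨x, hx, rfl⟩
    refine ⟨g⁻¹ * c * g * x * (g⁻¹ * c * g)⁻¹, S.normal _ ?_ x hx, ?_⟩
    · have := hc.map (MulAut.conj g⁻¹).toMonoidHom
      simpa [mul_assoc] using this
    · simp only [MulEquiv.coe_toMonoidHom, MulAut.conj_apply]; group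
  zQ := ⟨z, S.zQ, rfl⟩
  π_mul c d hc hd := by
    rw [show g⁻¹ * (c * d) * g = g⁻¹ * c * g * (g⁻¹ * d * g) by group]
    exact S.π_mul _ _ (by simpa [mul_assoc] using hc.map (MulAut.conj g⁻¹).toMonoidHom)
      (by simpa [mul_assoc] using hd.map (MulAut.conj g⁻¹).toMonoidHom)
  π_semi c hc := S.π_semi _ (by simpa [mul_assoc] using hc.map (MulAut.conj g⁻¹).toMonoidHom)
  π_iff c hc := by
    rw [S.π_iff _ (by simpa [mul_assoc] using hc.map (MulAut.conj g⁻¹).toMonoidHom)]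
    constructor
    · exact fun h => ⟨_, h, by simp [mul_assoc]⟩
    · rintro ⟨x, hx, rfl⟩
      simpa [mul_assoc] using hx
  π_surj e := by
    obtain ⟨c, hc, h⟩ := S.π_surj e
    exact ⟨g * c * g⁻¹, hc.map (MulAut.conj g).toMonoidHom, by rw [← h]; simp [mul_assoc]⟩
  ν_mul := by
    rintro _ ⟨x, hx, rfl⟩ _ ⟨y, hy, rfl⟩
    simpa [mul_assoc] using S.ν_mul x hx y hy
  ν_zero := by
    rintro _ ⟨x, hx, rfl⟩
    rw [show g⁻¹ * ((MulAut.conj g).toMonoidHom x) * g = x by simp [mul_assoc], S.ν_zero x hx]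
    exact or_congr (map_eq_one_iff _ (MulAut.conj g).injective).symm (MulAut.conj g).injective.eq_iff.symm
  ν_surj v := by
    obtain ⟨x, hx, h⟩ := S.ν_surj v
    exact ⟨g * x * g⁻¹, ⟨x, hx, rfl⟩, by rw [← h]; simp [mul_assoc]⟩
  ν_sq := by
    rintro _ ⟨x, hx, rfl⟩
    simp only [MulEquiv.coe_toMonoidHom]
    rw [← map_mul, map_eq_one_iff _ (MulAut.conj g).injective]
    simpa [mul_assoc] using S.ν_sq x hx
  ν_comm := by
    rintro _ ⟨x, hx, rfl⟩ _ ⟨y, hy, rfl⟩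
    simp only [MulEquiv.coe_toMonoidHom]
    rw [Commute, SemiconjBy, ← map_mul, ← map_mul, (MulAut.conj g).injective.eq_iff]
    simpa [mul_assoc, commute_iff_eq] using S.ν_comm x hx y hy
  ν_act c hc := by
    rintro _ ⟨x, hx, rfl⟩
    have := S.ν_act (g⁻¹ * c * g) (by simpa [mul_assoc] using hc.map (MulAut.conj g⁻¹).toMonoidHom) x hx
    rw [show g⁻¹ * ((MulAut.conj g).toMonoidHom x) * g = x by simp [mul_assoc], ← this]
    congr 1
    simp [mul_assoc]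

end Setup

end Cfsg.Agent.Spor.CHZ
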