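import Cfsg.Agent.Lib.Spor.CHZ.TwoData
import Cfsg.Agent.Lib.Classical.UFourTwo.Main
import Mathlib.GroupTheory.Sylow

/-!
Two-subgroups of the group of order 25920.
-/

set_option autoImplicit false
set_option maxRecDepth 100000
set_option linter.unusedSectionVars false

namespace Cfsg.Agent.Spor.CHZ.Two

open Cfsg.Agent.Spor.SpFour Cfsg.Agent.Small.Unitary

/-- entry of a code -/
def ent (n : ℕ) (r c : Fin 4) : F4 := F4.ofN (n / 4 ^ (4 * (r : ℕ) + (c : ℕ)) % 4)

/-- the matrix of a code -/
def mat (n : ℕ) : Matrix (Fin 4) (Fin 4) F4 := Matrix.of fun r c => ent n r c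

/-- the condition on a code -/
def Good (n : ℕ) : Prop := (mat n).conjTranspose * mat n = 1 ∧ (mat n).det = 1

instance decGood (n : ℕ) : Decidable (Good n) := by unfold Good; infer_instance

/-- the element of a code -/
def cEl (n : ℕ) : L := if h : Good n then mkSU hstar (mat n) h.1 h.2 else 1

theorem act_cEl {n : ℕ} (h : Good n) (v : V) : act (cEl n) v = (mat n).mulVec v := by
  rw [cEl, dif_pos h]
  rfl

theorem mat_cEl {n : ℕ} (h : Good n) : (cEl n).1.1 = mat n := by
  rw [cEl, dif_pos h]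
  rfl

/-- the matrix of a position -/
def num (i : Fin 64) : ℕ := codes.getD i 0

/-- an element of the two-subgroup -/
def el (i : Fin 64) : L := cEl (num i)

/-- the product of positions -/
def mu (i j : Fin 64) : Fin 64 := Fin.ofNat 64 ((table.getD i []).getD j 0)

theorem num_good : ∀ i : Fin 64, Good (num i) := by decide +kernel

theorem el_inj {i j : Fin 64} (h : el i = el j) : i = j := by
  have hm : mat (num i) = mat (num j) := by
    rw [← mat_cEl (num_good i), ← mat_cEl (num_good j), show cEl (num i) = cEl (num j) from h]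
  have key : ∀ i j : Fin 64, (∀ r c, ent (num i) r c = ent (num j) r c) → i = j := by decide +kernel
  exact key i j fun r c => congrFun (congrFun hm r) c

theorem mul_of_mat {a b c : L} (h : a.1.1 * b.1.1 = c.1.1) : a * b = c := Subtype.ext (Subtype.ext h)

/-- a generator's position -/
def gen (k : Fin 3) : Fin 64 := Fin.ofNat 64 (gens.getD k 0)

theorem el_mul_gen (i : Fin 64) (k : Fin 3) : el i * el (gen k) = el (mu i (gen k)) := by
  refine mul_of_mat ?_
  rw [show el i = cEl (num i) from rfl, show el (gen k) = cEl (num (gen k)) from rfl,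
    show el (mu i (gen k)) = cEl (num (mu i (gen k))) from rfl, mat_cEl (num_good _), mat_cEl (num_good _),
    mat_cEl (num_good _)]
  revert i k
  decide +kernel

theorem el_zero : el 0 = 1 := by
  refine Subtype.ext (Subtype.ext ?_)
  rw [show el 0 = cEl (num 0) from rfl, mat_cEl (num_good _)]
  exact (show mat (num 0) = 1 by decide +kernel)

/-- predecessor -/
def pre (i : Fin 64) : Fin 64 := Fin.ofNat 64 (parent.getD i (0, 0)).1

/-- last generator -/
def lastGen (i : Fin 64) : Fin 3 := Fin.ofNat 3 (parent.getD i (0, 0)).2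

theorem pre_lt : ∀ i : Fin 64, i ≠ 0 → pre i < i ∧ mu (pre i) (gen (lastGen i)) = i := by decide +kernel

theorem mu_assoc_gen : ∀ i j : Fin 64, j ≠ 0 → mu (mu i (pre j)) (gen (lastGen j)) = mu i j := by decide +kernel

theorem mu_zero : ∀ i : Fin 64, mu i 0 = i := by decide +kernel

theorem el_mul (i j : Fin 64) : el i * el j = el (mu i j) := by
  induction j using WellFoundedLT.induction with
  | ind j ih =>
    by_cases hj : j = 0
    · rw [hj, el_zero, mul_one, mu_zero]
    · obtain ⟨hlt, e⟩ := pre_lt j hj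
      conv_lhs => rw [← e, ← el_mul_gen, ← mul_assoc, ih _ hlt, el_mul_gen, mu_assoc_gen i j hj]

/-- the two-subgroup -/
def S64 : Subgroup L where
  carrier := Set.range el
  one_mem' := ⟨0, el_zero⟩
  mul_mem' := by
    rintro _ _ ⟨i, rfl⟩ ⟨j, rfl⟩
    exact ⟨mu i j, (el_mul i j).symm⟩
  inv_mem' := by
    rintro _ ⟨i, rfl⟩
    obtain ⟨j, hj⟩ := (show ∀ i : Fin 64, ∃ j, mu i j = 0 by decide +kernel) i
    exact ⟨j, (inv_eq_of_mul_eq_one_right (by rw [el_mul, hj, el_zero])).symm⟩

theorem card_S64 : Nat.card S64 = 64 := by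
  show Nat.card ↥(Set.range el) = 64
  rw [← Nat.card_congr (Equiv.ofInjective el fun _ _ h => el_inj h), Nat.card_eq_fintype_card, Fintype.card_fin]

/-- parity along the generators -/
def par (b : Fin 3 → Bool) : ℕ → Fin 64 → Bool
  | 0, _ => false
  | n + 1, i => if i = 0 then false else xor (par b n (pre i)) (b (lastGen i))

/-- a subgroup of index two, by the parity of the generators -/
def cand (b : Fin 3 → Bool) (i : Fin 64) : Bool := !(par b 64 i)

theorem par_stable : ∀ (b : Fin 3 → Bool) (i : Fin 64), i ≠ 0 →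
    cand b i = !(xor (!(cand b (pre i))) (b (lastGen i))) := by decide +kernel

theorem cand_zero : ∀ b, cand b 0 = true := by decide +kernel

/-- the distinguished involution -/
def iz : Fin 64 := Fin.ofNat 64 iZero

/-- the only index two choice with one nontrivial square -/
def bz : Fin 3 → Bool := ![true, false, false]

theorem cand_spec : ∀ (b : Fin 3 → Bool) (i : Fin 64),
    (∀ j, cand b j = true → mu j j = 0 ∨ mu j j = i) → b = bz ∧ i = iz := by decide +kernel

theorem full_squares : ∀ i : Fin 64, ∃ j, mu j j ≠ 0 ∧ mu j j ≠ i := by decide +kernel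

theorem bz_center : ∀ x, cand bz x = true → (∀ y, cand bz y = true → mu x y = mu y x) → x = 0 ∨ x = iz := by
  decide +kernel

theorem gThree_good : Good gThree := by decide +kernel

theorem gThree_cube : mat gThree * mat gThree * mat gThree = 1 := by decide +kernel

theorem gThree_iz : mat gThree * mat (num iz) = mat (num iz) * mat gThree := by decide +kernel

theorem gThree_only : ∀ x, cand bz x = true → mat gThree * mat (num x) = mat (num x) * mat gThree →
    x = 0 ∨ x = iz := by decide +kernel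

/-- every two-subgroup is conjugate into the subgroup -/
theorem exists_conj_le {P : Subgroup L} (hP : IsPGroup 2 P) :
    ∃ g : L, ∀ x ∈ P, g * x * g⁻¹ ∈ S64 := by
  classical
  haveI : Fact (Nat.Prime 2) := ⟨Nat.prime_two⟩
  obtain ⟨Q, hQ⟩ := hP.exists_le_sylow
  have hS : IsPGroup 2 S64 := IsPGroup.of_card (n := 6) (by rw [card_S64]; norm_num)
  obtain ⟨R, hR⟩ := hS.exists_le_sylow
  have hcard : Nat.card R = 64 := by
    rw [Sylow.card_eq_multiplicity, (Classical.UFourTwo.card_su (F := F4) hF).1,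
      show (25920 : ℕ) = 2 ^ 6 * 405 by norm_num, Nat.factorization_mul (by norm_num) (by norm_num),
      Nat.Prime.factorization_pow Nat.prime_two, Finsupp.add_apply, Finsupp.single_eq_same,
      Nat.factorization_eq_zero_of_not_dvd (by norm_num : ¬ 2 ∣ 405)]
    norm_num
  have heq : S64 = (R : Subgroup L) := Subgroup.eq_of_le_of_card_ge hR (by rw [hcard, card_S64])
  obtain ⟨g, hg⟩ := MulAction.exists_smul_eq L Q R
  refine ⟨g, fun x hx => ?_⟩
  rw [heq, ← hg]
  exact ⟨x, hQ hx, rfl⟩

/-- squares in a group of order two force the shape -/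
theorem shape_of_squares {P : Subgroup L} (hP : IsPGroup 2 P) {i : L} (hi : i ∈ P)
    (hsq : ∀ x ∈ P, x * x = 1 ∨ x * x = i) (h32 : 32 ≤ Nat.card P) :
    ∃ g : L, g * i * g⁻¹ = el iz ∧ Nat.card P = 32 ∧ ∀ x, x ∈ P ↔ ∃ j, cand bz j = true ∧ g * x * g⁻¹ = el j := by
  classical
  obtain ⟨g, hg⟩ := exists_conj_le hP
  obtain ⟨ii, hii⟩ := hg i hi
  let s : Fin 64 → Prop := fun j => g⁻¹ * el j * g ∈ P
  have hs : ∀ {x}, x ∈ P → ∃ j, s j ∧ g * x * g⁻¹ = el j := fun {x} hx => by
    obtain ⟨j, hj⟩ := hg x hx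
    refine ⟨j, ?_, hj.symm⟩
    show g⁻¹ * el j * g ∈ P
    rw [hj, show g⁻¹ * (g * x * g⁻¹) * g = x by group]
    exact hx
  have smul : ∀ {a b}, s a → s b → s (mu a b) := fun {a b} ha hb => by
    show g⁻¹ * el (mu a b) * g ∈ P
    rw [← el_mul, show g⁻¹ * (el a * el b) * g = g⁻¹ * el a * g * (g⁻¹ * el b * g) by group]
    exact P.mul_mem ha hb
  have hPs : Nat.card P = {j | s j}.ncard := by
    rw [← Nat.card_coe_set_eq]
    refine (Nat.card_eq_of_bijective (fun j : {j // s j} => (⟨g⁻¹ * el j.1 * g, j.2⟩ : P)) ⟨?_, ?_⟩).symm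
    · intro a b e
      have e' := congrArg (fun x : P => (x : L)) e
      exact Subtype.ext (el_inj (by simpa using e'))
    · rintro ⟨x, hx⟩
      obtain ⟨j, hj, e⟩ := hs hx
      exact ⟨⟨j, hj⟩, Subtype.ext (by simp only; rw [← e]; group)⟩
  have hsq' : ∀ j, s j → mu j j = 0 ∨ mu j j = ii := by
    intro j hj
    rcases hsq _ hj with e | e
    · left
      refine el_inj ?_
      rw [el_zero, ← el_mul]
      calc el j * el j = g * (g⁻¹ * el j * g * (g⁻¹ * el j * g)) * g⁻¹ := by group
        _ = 1 := by rw [e]; group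
    · right
      refine el_inj ?_
      rw [← el_mul, hii]
      calc el j * el j = g * (g⁻¹ * el j * g * (g⁻¹ * el j * g)) * g⁻¹ := by group
        _ = g * i * g⁻¹ := by rw [e]
  by_cases hall : ∀ j, s j
  · obtain ⟨j, h0, h1⟩ := full_squares ii
    rcases hsq' j (hall j) with e | e
    exacts [absurd e h0, absurd e h1]
  push Not at hall
  have hle : {j | s j}.ncard ≤ 32 := by
    obtain ⟨b, hb⟩ := hall
    have hinj : Set.InjOn (mu b) {j | s j} := fun a _ c _ e => el_inj (mul_left_cancel (a := el b)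
      (by rw [el_mul, el_mul, e]))
    have hdis : Disjoint {j | s j} (mu b '' {j | s j}) := Set.disjoint_left.mpr (by
      rintro _ ha ⟨c, hc, rfl⟩
      refine hb ?_
      show g⁻¹ * el b * g ∈ P
      have h1 : g⁻¹ * el (mu b c) * g ∈ P := ha
      rw [show g⁻¹ * el b * g = g⁻¹ * el (mu b c) * g * (g⁻¹ * el c * g)⁻¹ by rw [← el_mul]; group]
      exact P.mul_mem h1 (P.inv_mem hc))
    have h := Set.ncard_le_ncard (Set.subset_univ ({j | s j} ∪ mu b '' {j | s j}))
    rw [Set.ncard_union_eq hdis, Set.ncard_image_of_injOn hinj, Set.ncard_univ, Nat.card_eq_fintype_card,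
      Fintype.card_fin] at h
    omega
  have h32' : {j | s j}.ncard = 32 := by omega
  have htwo : ∀ a b, ¬ s a → ¬ s b → s (mu a b) := by
    intro a b ha hb
    by_contra hab
    -- the complement is one coset
    have hinj : Set.InjOn (mu a) {j | s j} := fun p _ c _ e => el_inj (mul_left_cancel (a := el a)
      (by rw [el_mul, el_mul, e]))
    have hsub : mu a '' {j | s j} ⊆ {j | ¬ s j} := by
      rintro _ ⟨c, hc, rfl⟩ h1
      refine ha ?_
      show g⁻¹ * el a * g ∈ P
      have h1' : g⁻¹ * el (mu a c) * g ∈ P := h1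
      rw [show g⁻¹ * el a * g = g⁻¹ * el (mu a c) * g * (g⁻¹ * el c * g)⁻¹ by rw [← el_mul]; group]
      exact P.mul_mem h1' (P.inv_mem hc)
    have hcompl : {j | ¬ s j}.ncard = 32 := by
      have h := Set.ncard_add_ncard_compl {j : Fin 64 | s j}
      rw [h32', Nat.card_eq_fintype_card, Fintype.card_fin] at h
      show {j | s j}ᶜ.ncard = 32
      omega
    have heq := Set.eq_of_subset_of_ncard_le hsub (by rw [Set.ncard_image_of_injOn hinj, h32', hcompl])
    obtain ⟨c, hc, e⟩ : mu a b ∈ mu a '' {j | s j} := by rw [heq]; exact hab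
    refine hb ?_
    rwa [show b = c from el_inj (mul_left_cancel (a := el a) (by rw [el_mul, el_mul, e]))]
  have hzero : s 0 := by
    show g⁻¹ * el 0 * g ∈ P
    rw [el_zero, mul_one, inv_mul_cancel]
    exact P.one_mem
  obtain ⟨b, hb⟩ : ∃ b : Fin 3 → Bool, ∀ k, (b k = false ↔ s (gen k)) :=
    ⟨fun k => !decide (s (gen k)), fun k => by simp⟩
  have hcand : ∀ j, (cand b j = true ↔ s j) := by
    intro j
    induction j using WellFoundedLT.induction with
    | ind j ih =>
      by_cases hj : j = 0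
      · rw [hj]; exact iff_of_true (cand_zero b) hzero
      obtain ⟨hlt, e⟩ := pre_lt j hj
      have h1 := ih _ hlt
      have h2 := hb (lastGen j)
      rw [par_stable b j hj]
      have key : ∀ (p q : Bool) (X Y Z : Prop), (p = true ↔ X) → (q = false ↔ Y) → (X → Y → Z) →
          (¬ X → ¬ Y → Z) → (Z → X → Y) → (Z → Y → X) → ((!(xor (!p) q)) = true ↔ Z) := by
        intro p q X Y Z hp hq a1 a2 a3 a4
        cases p <;> cases q <;> simp_all
      refine key _ _ _ _ (s j) h1 h2 (fun x y => e ▸ smul x y) (fun x y => e ▸ htwo _ _ x y)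
        (fun h x => ?_) (fun h y => ?_)
      · show g⁻¹ * el (gen (lastGen j)) * g ∈ P
        have h' : g⁻¹ * el (mu (pre j) (gen (lastGen j))) * g ∈ P := by rw [e]; exact h
        rw [show g⁻¹ * el (gen (lastGen j)) * g = (g⁻¹ * el (pre j) * g)⁻¹ *
          (g⁻¹ * el (mu (pre j) (gen (lastGen j))) * g) by rw [← el_mul]; group]
        exact P.mul_mem (P.inv_mem x) h'
      · show g⁻¹ * el (pre j) * g ∈ P
        have h' : g⁻¹ * el (mu (pre j) (gen (lastGen j))) * g ∈ P := by rw [e]; exact h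
        rw [show g⁻¹ * el (pre j) * g = (g⁻¹ * el (mu (pre j) (gen (lastGen j))) * g) *
          (g⁻¹ * el (gen (lastGen j)) * g)⁻¹ by rw [← el_mul]; group]
        exact P.mul_mem h' (P.inv_mem y)
  obtain ⟨rfl, rfl⟩ := cand_spec b ii fun j hj => hsq' j ((hcand j).mp hj)
  refine ⟨g, hii.symm, hPs.trans h32', fun x => ⟨fun hx => ?_, ?_⟩⟩
  · obtain ⟨j, hj, e⟩ := hs hx
    exact ⟨j, (hcand j).mpr hj, e⟩
  · rintro ⟨j, hj, e⟩
    rw [show x = g⁻¹ * el j * g by rw [← e]; group]
    exact (hcand j).mp hj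

/-- a group of exponent two has at most sixteen elements -/
theorem elementary_le {P : Subgroup L} (hP : IsPGroup 2 P) (hsq : ∀ x ∈ P, x * x = 1) : Nat.card P ≤ 16 := by
  classical
  haveI : Fact (Nat.Prime 2) := ⟨Nat.prime_two⟩
  obtain ⟨n, hn⟩ := hP.exists_card_eq
  by_contra hlt
  have h32 : 32 ≤ Nat.card P := by
    rw [hn] at hlt ⊢
    have : 5 ≤ n := by
      by_contra h5
      have : 2 ^ n ≤ 2 ^ 4 := Nat.pow_le_pow_right (by norm_num) (by omega)
      omega
    calc 32 = 2 ^ 5 := by norm_num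
      _ ≤ 2 ^ n := Nat.pow_le_pow_right (by norm_num) this
  obtain ⟨g, hg, -, hmem⟩ := shape_of_squares hP P.one_mem (fun x hx => Or.inl (hsq x hx)) h32
  rw [mul_one, mul_inv_cancel] at hg
  exact (show iz ≠ 0 by decide +kernel) (el_inj (hg.symm.trans el_zero.symm))

/-- a group of order at least 32 with all squares in a group of order two -/
theorem large_two {P : Subgroup L} (hP : IsPGroup 2 P) {i : L} (hi : i ∈ P)
    (hsq : ∀ x ∈ P, x * x = 1 ∨ x * x = i) (h32 : 32 ≤ Nat.card P) :
    Nat.card P = 32 ∧ (∀ x ∈ P, (∀ y ∈ P, x * y = y * x) → x = 1 ∨ x = i) ∧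
      ∃ g : L, g * g * g = 1 ∧ g * i = i * g ∧ ∀ x ∈ P, g * x = x * g → x = 1 ∨ x = i := by
  obtain ⟨g, hg, hcard, hmem⟩ := shape_of_squares hP hi hsq h32
  have back : ∀ {x j}, g * x * g⁻¹ = el j → j = 0 ∨ j = iz → x = 1 ∨ x = i := by
    rintro x j e (rfl | rfl)
    · rw [el_zero] at e
      exact Or.inl (by rw [show x = g⁻¹ * (g * x * g⁻¹) * g by group, e]; group)
    · exact Or.inr (by rw [show x = g⁻¹ * (g * x * g⁻¹) * g by group, e, ← hg]; group)
  refine ⟨hcard, fun x hx hc => ?_, g⁻¹ * cEl gThree * g, ?_, ?_, fun x hx hcx => ?_⟩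
  · obtain ⟨j, hj, e⟩ := (hmem x).mp hx
    refine back e (bz_center j hj fun k hk => el_inj ?_)
    have hy : g⁻¹ * el k * g ∈ P := (hmem _).mpr ⟨k, hk, by group⟩
    rw [← el_mul, ← el_mul, ← e]
    calc g * x * g⁻¹ * el k = g * (x * (g⁻¹ * el k * g)) * g⁻¹ := by group
      _ = g * (g⁻¹ * el k * g * x) * g⁻¹ := by rw [hc _ hy]
      _ = el k * (g * x * g⁻¹) := by group
  · rw [show g⁻¹ * cEl gThree * g * (g⁻¹ * cEl gThree * g) * (g⁻¹ * cEl gThree * g) =
      g⁻¹ * (cEl gThree * cEl gThree * cEl gThree) * g by group,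
      show cEl gThree * cEl gThree * cEl gThree = 1 from Subtype.ext (Subtype.ext (by
        show (cEl gThree).1.1 * (cEl gThree).1.1 * (cEl gThree).1.1 = 1
        rw [mat_cEl gThree_good]; exact gThree_cube))]
    group
  · rw [show i = g⁻¹ * el iz * g by rw [← hg]; group,
      show g⁻¹ * cEl gThree * g * (g⁻¹ * el iz * g) = g⁻¹ * (cEl gThree * el iz) * g by group,
      show g⁻¹ * el iz * g * (g⁻¹ * cEl gThree * g) = g⁻¹ * (el iz * cEl gThree) * g by group,
      show cEl gThree * el iz = el iz * cEl gThree from mul_of_mat (by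
        show _ = (el iz).1.1 * (cEl gThree).1.1
        rw [show el iz = cEl (num iz) from rfl, mat_cEl gThree_good, mat_cEl (num_good _)]
        exact gThree_iz)]
  · obtain ⟨j, hj, e⟩ := (hmem x).mp hx
    refine back e (gThree_only j hj ?_)
    have h : cEl gThree * el j = el j * cEl gThree := by
      rw [← e]
      calc cEl gThree * (g * x * g⁻¹) = g * (g⁻¹ * cEl gThree * g * x) * g⁻¹ := by group
        _ = g * (x * (g⁻¹ * cEl gThree * g)) * g⁻¹ := by rw [hcx]
        _ = g * x * g⁻¹ * cEl gThree := by group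
    have h' := congrArg (fun y : L => y.1.1) h
    simp only [Subgroup.coe_mul, Matrix.SpecialLinearGroup.coe_mul, show el j = cEl (num j) from rfl,
      mat_cEl gThree_good, mat_cEl (num_good j)] at h'
    exact h'

/-- the two standard involutions -/
noncomputable def std (t : ℕ) : L := if t = 0 then sw 0 else sw 0 * sw 2

theorem std_mat (t : ℕ) : (std t).1.1 = if t = 0 then transMat (sV 0) 1 else transMat (sV 0) 1 * transMat (sV 2) 1 := by
  unfold std
  split_ifs <;> rfl

theorem std_ok : ∀ i : Fin 64, i ≠ 0 → mu i i = 0 →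
    (toStd.any fun e => e.1 == (i : ℕ) && decide (Good e.2.2 ∧ mat e.2.2 * mat (num i) =
      (if e.2.1 = 0 then transMat (sV 0) 1 else transMat (sV 0) 1 * transMat (sV 2) 1) * mat e.2.2)) = true := by
  decide +kernel

/-- every involution is conjugate to one of two -/
theorem involution_std {i : L} (hi : i * i = 1) (hi1 : i ≠ 1) : ∃ g : L, g * i * g⁻¹ = sw 0 ∨ g * i * g⁻¹ = sw 0 * sw 2 := by
  classical
  haveI : Fact (Nat.Prime 2) := ⟨Nat.prime_two⟩
  have hP : IsPGroup 2 (Subgroup.zpowers i) := IsPGroup.of_card (n := 1) (by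
    rw [Nat.card_zpowers, orderOf_eq_prime (by rw [pow_two]; exact hi) hi1]; norm_num)
  obtain ⟨g, hg⟩ := exists_conj_le hP
  obtain ⟨j, hj⟩ := hg i (Subgroup.mem_zpowers i)
  have hj0 : j ≠ 0 := fun e => hi1 (by
    rw [e, el_zero] at hj
    rw [show i = g⁻¹ * (g * i * g⁻¹) * g by group, ← hj]; group)
  have hjj : mu j j = 0 := el_inj (by
    rw [← el_mul, hj, el_zero, show g * i * g⁻¹ * (g * i * g⁻¹) = g * (i * i) * g⁻¹ by group, hi]; group)
  have h := std_ok j hj0 hjj
  rw [List.any_eq_true] at h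
  obtain ⟨e, -, he⟩ := h
  rw [Bool.and_eq_true, decide_eq_true_eq] at he
  obtain ⟨-, hgood, hm⟩ := he
  refine ⟨cEl e.2.2 * g, ?_⟩
  have key : cEl e.2.2 * el j = std e.2.1 * cEl e.2.2 := Subtype.ext (Subtype.ext (by
    show (cEl e.2.2).1.1 * (cEl (num j)).1.1 = (std e.2.1).1.1 * (cEl e.2.2).1.1
    rw [mat_cEl hgood, mat_cEl (num_good j), std_mat]
    exact hm))
  have e2 : cEl e.2.2 * g * i * (cEl e.2.2 * g)⁻¹ = std e.2.1 := by
    rw [show cEl e.2.2 * g * i * (cEl e.2.2 * g)⁻¹ = cEl e.2.2 * (g * i * g⁻¹) * (cEl e.2.2)⁻¹ by group, ← hj,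
      key, mul_inv_cancel_right]
  rw [e2]
  unfold std
  split_ifs
  exacts [Or.inl rfl, Or.inr rfl]

end Cfsg.Agent.Spor.CHZ.Two
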