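import Cfsg.Agent.Lib.Spor.CHZ.Perp
import Cfsg.Agent.Lib.Spor.CHZ.Two

/-!
A fixed plane and three planes: the fixed plane is fixed by the whole group.
-/

set_option autoImplicit false
set_option maxRecDepth 100000
set_option maxHeartbeats 400000
set_option linter.unusedSectionVars false

namespace Cfsg.Agent.Spor.CHZ

open Cfsg.Agent.Spor.SpFour Cfsg.Agent.Small.Unitary

universe w

/-- the number of the piece of a plane -/
def kW (j : Fin 3) : Fin 14 := ![11, 12, 13] j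

theorem kW_ne : ∀ j, kW j ≠ 0 := by decide +kernel

theorem kW_inj : Function.Injective kW := by decide +kernel

theorem kW_range : ∀ k : Fin 14, ((k : ℕ) = 0 ∨ 11 ≤ (k : ℕ)) → k = 0 ∨ ∃ j, k = kW j := by decide +kernel

/-- a parameter moving one plane only -/
theorem kW_dual : ∀ j : Fin 3, ∃ a : A3, fn (kW j) a = 1 ∧ ∀ j', j' ≠ j → fn (kW j') a = 0 := by decide +kernel

theorem kW_high : ∀ j, (kW j : ℕ) = 0 ∨ 11 ≤ (kW j : ℕ) := by decide +kernel

theorem kW_cA : ∀ j, fn (kW j) cA ≠ 0 := by decide +kernel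

theorem sw_fix0 : ∀ (j : Fin 3) (a : A3), pf 0 (swA j a) = pf 0 a := by decide +kernel

/-- the images of the planes under the transpositions -/
def swW (j : Fin 3) (k : Fin 3) : Fin 3 := ![![0, 2, 1], ![1, 0, 2], ![0, 2, 1]] j k

theorem swW_spec : ∀ (j k : Fin 3) (a : A3), pf (kW (swW j k)) (swA j a) = pf (kW k) a := by decide +kernel

/-- the diagonal element under the further one -/
theorem kk_conj : ∃ a : A3, kk * Two.cEl Two.hKk = Two.cEl Two.hKk * dg a := by
  have hg : Two.Good Two.hKk := by decide +kernel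
  obtain ⟨a, ha⟩ : ∃ a : A3, kkM * Two.mat Two.hKk = Two.mat Two.hKk * dgM a := by decide +kernel
  refine ⟨a, Subtype.ext (Subtype.ext ?_)⟩
  show kkM * (Two.cEl Two.hKk).1.1 = (Two.cEl Two.hKk).1.1 * dgM a
  rw [Two.mat_cEl hg]
  exact ha

theorem hFour_facts : ∃ a : A3, sw 0 * sw 1 * Two.cEl Two.hFour = Two.cEl Two.hFour * dg a ∧
    Two.cEl Two.hFour * Two.cEl Two.hFour = sw 1 := by
  have hg : Two.Good Two.hFour := by decide +kernel
  obtain ⟨a, ha⟩ : ∃ a : A3, transMat (sV 0) 1 * transMat (sV 1) 1 * Two.mat Two.hFour =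
      Two.mat Two.hFour * dgM a := by decide +kernel
  have h2 : Two.mat Two.hFour * Two.mat Two.hFour = transMat (sV 1) 1 := by decide +kernel
  refine ⟨a, Subtype.ext (Subtype.ext ?_), Subtype.ext (Subtype.ext ?_)⟩
  · show transMat (sV 0) 1 * transMat (sV 1) 1 * (Two.cEl Two.hFour).1.1 = (Two.cEl Two.hFour).1.1 * dgM a
    rw [Two.mat_cEl hg]
    exact ha
  · show (Two.cEl Two.hFour).1.1 * (Two.cEl Two.hFour).1.1 = transMat (sV 1) 1
    rw [Two.mat_cEl hg]
    exact h2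


theorem sw_sq (j : Fin 3) : sw j * sw j = 1 := UnitaryTrans.tv_sq hstar _ _

theorem sw_shift : sw 0 * sw 1 * sw 2 * (sw 0 * sw 1) = sw 1 * sw 2 * (sw 0 * sw 1 * sw 2) :=
  Cfsg.Agent.Classical.URoot.eq_of_act fun v => funext fun i => by
    simp only [act_mul, act_sw]
    congr 1
    revert i
    decide +kernel

namespace Rep

variable {M : Type w} [AddCommGroup M] [Module (ZMod 2) M] [Finite M] (R : Rep M)
variable (hB : (∀ k : Fin 14, ((k : ℕ) = 0 ∨ 11 ≤ (k : ℕ)) → (R.piece k).ncard = 4) ∧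
      ∀ k : Fin 14, 1 ≤ (k : ℕ) → (k : ℕ) ≤ 10 → (R.piece k).ncard = 1)
include hB

theorem low_zero {k : Fin 14} (h1 : 1 ≤ (k : ℕ)) (h2 : (k : ℕ) ≤ 10) {x : M} (hx : x ∈ R.piece k) : x = 0 := by
  obtain ⟨v, hv⟩ := Set.ncard_eq_one.mp (hB.2 k h1 h2)
  have h := R.zero_mem k
  rw [hv, Set.mem_singleton_iff] at h hx
  rw [hx, h]

/-- the projection to the fixed plane -/
theorem split_sum (x : M) : R.S (pf 0) x + ∑ j, R.S (pf (kW j)) x = x := by
  conv_rhs => rw [← R.sum_proj x]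
  rw [← Finset.sum_subset (s₁ := insert 0 (Finset.univ.image kW)) (Finset.subset_univ _) fun k _ hk => ?_,
    Finset.sum_insert (by simp [fun j => (kW_ne j)]), Finset.sum_image fun a _ b _ h => kW_inj h]
  refine R.low_zero hB ?_ ?_ (R.proj_mem k x) <;>
  · have key : ∀ k : Fin 14, k ∉ insert 0 (Finset.univ.image kW) → 1 ≤ (k : ℕ) ∧ (k : ℕ) ≤ 10 := by decide +kernel
    first | exact (key k hk).1 | exact (key k hk).2

/-- vectors fixed by the scalar element -/
theorem cA_zero {x : M} (h : R.ρ (dg cA) x = x) : x ∈ R.piece 0 := by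
  have hz : ∀ j, R.S (pf (kW j)) x = 0 := by
    intro j
    refine R.free (kW_ne j) (kW_cA j) (R.proj_mem _ x) ?_
    conv_rhs => rw [← h]
    rw [← R.S_dl, ← R.S_dl, S_conv, S_conv]
    exact R.S_congr (fun c => by
      simp only [conv]
      exact Fintype.sum_equiv (Equiv.subLeft c) _ _ fun a => by
        simp only [Equiv.subLeft_apply, sub_sub_cancel, mul_comm]) x
  have h' := R.split_sum hB x
  rw [Finset.sum_eq_zero fun j _ => hz j, add_zero] at h'
  exact h'

omit hB in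
/-- stabiliser of the fixed plane -/
def invU : Subgroup L where
  carrier := {g | ∀ u ∈ R.piece 0, R.ρ g u ∈ R.piece 0}
  one_mem' u hu := by rw [R.one]; exact hu
  mul_mem' := fun {g h} hg hh u hu => by rw [R.mul]; exact hg _ (hh u hu)
  inv_mem' := fun {g} hg u hu => by
    classical
    have heq : R.ρ g '' R.piece 0 = R.piece 0 :=
      Set.eq_of_subset_of_ncard_le (by rintro _ ⟨v, hv, rfl⟩; exact hg v hv)
        (by rw [Set.ncard_image_of_injective _ (R.ρ_inj g)])
    obtain ⟨v, hv, e⟩ : u ∈ R.ρ g '' R.piece 0 := heq.symm ▸ hu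
    rw [← e, R.inv_act]
    exact hv

theorem invU_top : R.invU = ⊤ := by
  refine generated (fun a u hu => ?_) (fun j u hu => ?_) (fun u hu => ?_)
  · rw [R.trivial_fixed hu]; exact hu
  · exact R.move_mem (Function.Involutive.bijective (swA_invol j)) (sw_dg j) (sw_fix0 j) hu
  · exact R.cA_zero hB (by rw [← R.mul, ← kk_cA, R.mul, R.trivial_fixed hu])

omit hB in
/-- pointwise stabiliser of the fixed plane -/
def fixU : Subgroup L where
  carrier := {g | ∀ u ∈ R.piece 0, R.ρ g u = u}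
  one_mem' u _ := R.one u
  mul_mem' := fun {g h} hg hh u hu => by rw [R.mul, hh u hu, hg u hu]
  inv_mem' := fun {g} hg u hu => by
    conv_lhs => rw [← hg u hu]
    exact R.inv_act g u

theorem fixU_normal : R.fixU.Normal := ⟨fun n hn g u hu => by
  have h : R.ρ g⁻¹ u ∈ R.piece 0 := by
    have : g⁻¹ ∈ R.invU := by rw [R.invU_top hB]; exact Subgroup.mem_top _
    exact this u hu
  rw [R.mul, R.mul, hn _ h, R.act_inv]⟩

/-- the fixed plane is fixed -/
theorem fixU_top : R.fixU = ⊤ := by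
  classical
  haveI hN := R.fixU_normal hB
  have hdg : ∀ a, dg a ∈ R.fixU := fun a u hu => R.trivial_fixed hu a
  have hconj : ∀ {g h : L} {a : A3}, g * h = h * dg a → g ∈ R.fixU := by
    intro g h a e
    rw [show g = h * dg a * h⁻¹ by rw [← e, mul_inv_cancel_right]]
    exact hN.conj_mem _ (hdg a) h
  have hkk : kk ∈ R.fixU := by
    obtain ⟨a, ha⟩ := kk_conj
    exact hconj ha
  obtain ⟨a, h01, hh⟩ := hFour_facts
  have h01' : sw 0 * sw 1 ∈ R.fixU := hconj h01
  have h12 : sw 1 * sw 2 ∈ R.fixU := by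
    rw [show sw 1 * sw 2 = sw 0 * sw 1 * sw 2 * (sw 0 * sw 1) * (sw 0 * sw 1 * sw 2)⁻¹ by
      rw [sw_shift, mul_inv_cancel_right]]
    exact hN.conj_mem _ h01' _
  let φ := QuotientGroup.mk' R.fixU
  have hσ : ∀ j, φ (sw j) = φ (sw 0) := by
    have e1 : φ (sw 0) * φ (sw 1) = 1 := by
      rw [← map_mul]; exact (QuotientGroup.eq_one_iff _).mpr h01'
    have e2 : φ (sw 1) * φ (sw 2) = 1 := by
      rw [← map_mul]; exact (QuotientGroup.eq_one_iff _).mpr h12
    have i1 : φ (sw 1) * φ (sw 1) = 1 := by rw [← map_mul, sw_sq, map_one]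
    have f1 : φ (sw 1) = φ (sw 0) := by
      calc φ (sw 1) = φ (sw 0) * φ (sw 1) * φ (sw 1) := by rw [e1, one_mul]
        _ = φ (sw 0) := by rw [mul_assoc, i1, mul_one]
    intro j
    fin_cases j
    · rfl
    · exact f1
    · show φ (sw 2) = φ (sw 0)
      calc φ (sw 2) = φ (sw 1) * φ (sw 1) * φ (sw 2) := by rw [i1, one_mul]
        _ = φ (sw 0) := by rw [mul_assoc, e2, mul_one, f1]
  have hW : (Subgroup.zpowers (φ (sw 0))).comap φ = ⊤ := by
    refine generated (fun a => ?_) (fun j => ?_) ?_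
    · rw [Subgroup.mem_comap, show φ (dg a) = 1 from (QuotientGroup.eq_one_iff _).mpr (hdg a)]
      exact one_mem _
    · rw [Subgroup.mem_comap, hσ j]
      exact Subgroup.mem_zpowers (φ (sw 0))
    · rw [Subgroup.mem_comap, show φ kk = 1 from (QuotientGroup.eq_one_iff _).mpr hkk]
      exact one_mem _
  have hh1 : φ (sw 1) = 1 := by
    rw [← hh, map_mul]
    obtain ⟨n, hn⟩ := Subgroup.mem_zpowers_iff.mp
      (show φ (Two.cEl Two.hFour) ∈ Subgroup.zpowers (φ (sw 0)) by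
        rw [← Subgroup.mem_comap, hW]; exact Subgroup.mem_top _)
    rw [← hn, ← zpow_add, ← two_mul, zpow_mul, zpow_two, ← map_mul, sw_sq, map_one, one_zpow]
  have hsw : ∀ j, sw j ∈ R.fixU := fun j => (QuotientGroup.eq_one_iff _).mp (by
    show φ (sw j) = 1
    rw [hσ, ← hσ 1, hh1])
  exact generated hdg hsw hkk

theorem fixed_u (g : L) {u : M} (hu : u ∈ R.piece 0) : R.ρ g u = u := by
  have : g ∈ R.fixU := by rw [R.fixU_top hB]; exact Subgroup.mem_top _
  exact this u hu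

omit hB in
/-- pieces with a separating parameter are orthogonal -/
theorem orth_pieces {k k' : Fin 14} (hk' : k' ≠ 0) (h : ∃ a, fn k a = 0 ∧ fn k' a ≠ 0) {x y : M}
    (hx : x ∈ R.piece k) (hy : y ∈ R.piece k') : R.b x y = 0 := by
  obtain ⟨a, ha, ha'⟩ := h
  have key : ∀ v, R.b x (R.ρ (dg a) v) = R.b x v := fun v => by
    conv_lhs => rw [← R.fixed ha hx]
    rw [R.b_act]
  obtain ⟨s, hs⟩ : ∃ s, s = y + R.ρ (dg a) y + R.ρ (dg a) (R.ρ (dg a) y) := ⟨_, rfl⟩
  have hsm : s ∈ R.piece k' := hs ▸ R.add_mem (R.add_mem hy (R.piece_dg _ hy)) (R.piece_dg _ (R.piece_dg _ hy))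
  have hfix : R.ρ (dg a) s = s := by
    rw [hs, R.add, R.add, ← R.mul, ← R.mul, ← dg_add, ← dg_add, ← add_assoc, three_smul', dg_zero, R.one]
    abel
  have h0 := congrArg (R.b x) (R.free hk' ha' hsm hfix)
  rw [hs, R.b_add_right, R.b_add_right, key, key, key, R.b_zero_right, CharTwo.add_self_eq_zero, zero_add] at h0
  exact h0

omit hB in
theorem orth_U {u x : M} (hu : u ∈ R.piece 0) {j : Fin 3} (hx : x ∈ R.piece (kW j)) : R.b u x = 0 :=
  R.orth_pieces (kW_ne j) ⟨cA, rfl, kW_cA j⟩ hu hx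

omit hB in
theorem orth_W {i j : Fin 3} (h : i ≠ j) {x y : M} (hx : x ∈ R.piece (kW i)) (hy : y ∈ R.piece (kW j)) :
    R.b x y = 0 := by
  obtain ⟨a, ha, ha'⟩ := kW_dual j
  exact R.orth_pieces (kW_ne j) ⟨a, ha' i h, by rw [ha]; decide⟩ hx hy

theorem b_left_U {u : M} (hu : u ∈ R.piece 0) (x : M) : R.b u x = R.b u (R.S (pf 0) x) := by
  conv_lhs => rw [← R.split_sum hB x]
  rw [R.b_add_right, R.b_sum_right, Finset.sum_eq_zero fun j _ => R.orth_U hu (R.proj_mem _ x), add_zero]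

/-- the fixed plane is nondegenerate -/
theorem U_nondeg {u : M} (hu : u ∈ R.piece 0) (h0 : u ≠ 0) : ∃ v ∈ R.piece 0, R.b u v = 1 := by
  obtain ⟨y, hy⟩ := R.nondeg u h0
  refine ⟨R.S (pf 0) y, R.proj_mem 0 y, ?_⟩
  rw [← R.b_left_U hB hu]
  exact hy

/-- the projection commutes with the group -/
theorem proj_equivariant (g : L) (x : M) : R.S (pf 0) (R.ρ g x) = R.S (pf 0) x := by
  obtain ⟨d, hd⟩ : ∃ d, d = R.S (pf 0) (R.ρ g x) + R.S (pf 0) x := ⟨_, rfl⟩
  have hdm : d ∈ R.piece 0 := hd ▸ R.add_mem (R.proj_mem 0 _) (R.proj_mem 0 _)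
  by_contra hne
  obtain ⟨v, hv, hb⟩ := R.U_nondeg hB hdm (fun h0 => hne (by
    calc R.S (pf 0) (R.ρ g x) = d + R.S (pf 0) x := by rw [hd, add_assoc, R.self_add, add_zero]
      _ = R.S (pf 0) x := by rw [h0, zero_add]))
  rw [R.b_comm, hd, R.b_add_right, ← R.b_left_U hB hv, ← R.b_left_U hB hv] at hb
  conv_lhs at hb => arg 1; rw [← R.fixed_u hB g hv]
  rw [R.b_act, CharTwo.add_self_eq_zero] at hb
  exact zero_ne_one hb

/-- the other part -/
def wpart (x : M) : M := x + R.S (pf 0) x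

omit hB in
theorem wpart_add (x y : M) : R.wpart (x + y) = R.wpart x + R.wpart y := by
  rw [wpart, wpart, wpart, R.S_add]; abel

theorem wpart_act (g : L) (x : M) : R.wpart (R.ρ g x) = R.ρ g (R.wpart x) := by
  rw [wpart, wpart, R.add, R.proj_equivariant hB, R.fixed_u hB g (R.proj_mem 0 x)]

omit hB in
theorem wpart_proj (x : M) : R.S (pf 0) (R.wpart x) = 0 := by
  rw [wpart, R.S_add, R.proj_mem 0 x, R.self_add]

omit hB in
theorem wpart_eq_zero {x : M} : R.wpart x = 0 ↔ x ∈ R.piece 0 := by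
  constructor
  · intro h
    show R.S (pf 0) x = x
    calc R.S (pf 0) x = x + (x + R.S (pf 0) x) := by rw [← add_assoc, R.self_add, zero_add]
      _ = x := by rw [show x + R.S (pf 0) x = 0 from h, add_zero]
  · intro h
    rw [wpart, show R.S (pf 0) x = x from h, R.self_add]

theorem wpart_b (x y : M) : R.b x y = R.b (R.S (pf 0) x) (R.S (pf 0) y) + R.b (R.wpart x) (R.wpart y) := by
  have hUW : ∀ {u v : M}, u ∈ R.piece 0 → R.b u (R.wpart v) = 0 := fun {u v} hu => by
    rw [R.b_left_U hB hu, R.wpart_proj, R.b_zero_right]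
  have e : ∀ x : M, x = R.S (pf 0) x + R.wpart x := fun x => by
    rw [wpart, add_left_comm, R.self_add, add_zero]
  conv_lhs => rw [e x, e y]
  rw [R.b_add_left, R.b_add_right, R.b_add_right, hUW (R.proj_mem 0 x),
    R.b_comm (R.wpart x) (R.S (pf 0) y), hUW (R.proj_mem 0 y), add_zero, zero_add]

theorem q_add_eq (x y : M) : R.q (x + y) = R.q x + R.q y + R.b x y := by
  rw [b]
  generalize R.q (x + y) = a
  generalize R.q x = c
  generalize R.q y = d
  revert a c d
  decide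

/-- the elements of a plane -/
theorem plane_four {j : Fin 3} {x y : M} (hx : x ∈ R.piece (kW j)) (hx0 : x ≠ 0) (hy : y ∈ R.piece (kW j)) :
    ∃ a, fn (kW j) a = 1 ∧ (y = 0 ∨ y = x ∨ y = R.ρ (dg a) x ∨ y = R.ρ (dg a) (R.ρ (dg a) x)) := by
  classical
  obtain ⟨a, ha, -⟩ := kW_dual j
  refine ⟨a, ha, ?_⟩
  have ha0 : fn (kW j) a ≠ 0 := by rw [ha]; decide
  have h4 := hB.1 (kW j) (kW_high j)
  have hx1 := R.piece_dg a hx
  have hx2 := R.piece_dg a hx1
  have n1 : R.ρ (dg a) x ≠ 0 := fun e => hx0 (R.ρ_inj _ (e.trans (R.ρ_zero _).symm))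
  have n2 : R.ρ (dg a) (R.ρ (dg a) x) ≠ 0 := fun e => n1 (R.ρ_inj _ (e.trans (R.ρ_zero _).symm))
  have d1 : x ≠ R.ρ (dg a) x := fun e => hx0 (R.free (kW_ne j) ha0 hx e.symm)
  have d2 : R.ρ (dg a) x ≠ R.ρ (dg a) (R.ρ (dg a) x) := fun e => d1 (R.ρ_inj _ e)
  have d3 : x ≠ R.ρ (dg a) (R.ρ (dg a) x) := fun e => d1 (by
    have h3 : R.ρ (dg a) (R.ρ (dg a) (R.ρ (dg a) x)) = x := by
      rw [← R.mul, ← R.mul, ← dg_add, ← dg_add, three_smul', dg_zero, R.one]
    exact (h3.symm.trans (congrArg (R.ρ (dg a)) e.symm)))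
  have hsub : (({0, x, R.ρ (dg a) x, R.ρ (dg a) (R.ρ (dg a) x)} : Finset M) : Set M) ⊆ R.piece (kW j) := by
    intro v hv
    simp only [Finset.coe_insert, Finset.coe_singleton, Set.mem_insert_iff, Set.mem_singleton_iff] at hv
    rcases hv with rfl | rfl | rfl | rfl
    exacts [R.zero_mem _, hx, hx1, hx2]
  have hc : (({0, x, R.ρ (dg a) x, R.ρ (dg a) (R.ρ (dg a) x)} : Finset M) : Set M).ncard = 4 := by
    rw [Set.ncard_coe_finset, Finset.card_insert_of_notMem (by simp [Ne.symm hx0, Ne.symm n1, Ne.symm n2]),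
      Finset.card_insert_of_notMem (by simp [d1, d3]), Finset.card_insert_of_notMem (by simp [d2]),
      Finset.card_singleton]
  rw [← Set.eq_of_subset_of_ncard_le hsub (by rw [hc, h4]) (Set.toFinite _)] at hy
  simpa using hy

/-- nonzero vectors of a plane are nonsingular -/
theorem q_plane {j : Fin 3} {x : M} (hx : x ∈ R.piece (kW j)) (hx0 : x ≠ 0) : R.q x = 1 := by
  obtain ⟨y, hy⟩ := R.nondeg x hx0
  change R.b x y = 1 at hy
  rw [← R.split_sum hB y, R.b_add_right, R.b_comm x (R.S (pf 0) y), R.orth_U (R.proj_mem 0 y) hx, zero_add,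
    R.b_sum_right, Finset.sum_eq_single j (fun i _ hi => R.orth_W hi.symm hx (R.proj_mem _ _))
      (fun h => absurd (Finset.mem_univ j) h)] at hy
  obtain ⟨a, ha, h⟩ := R.plane_four hB hx hx0 (R.proj_mem (kW j) y)
  have h3 : x + R.ρ (dg a) x + R.ρ (dg a) (R.ρ (dg a) x) = 0 := by
    refine R.free (k := kW j) (kW_ne j) (b := a) (by rw [ha]; decide)
      (R.add_mem (R.add_mem hx (R.piece_dg a hx)) (R.piece_dg a (R.piece_dg a hx))) ?_
    rw [R.add, R.add, ← R.mul, ← R.mul, ← dg_add, ← dg_add, ← add_assoc, three_smul', dg_zero, R.one]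
    abel
  have e1 : x + R.ρ (dg a) x = R.ρ (dg a) (R.ρ (dg a) x) := by
    calc x + R.ρ (dg a) x = x + R.ρ (dg a) x + (R.ρ (dg a) (R.ρ (dg a) x) + R.ρ (dg a) (R.ρ (dg a) x)) := by
          rw [R.self_add, add_zero]
      _ = R.ρ (dg a) (R.ρ (dg a) x) := by rw [← add_assoc, h3, zero_add]
  have key : ∀ c : ZMod 2, c + c + c = 1 → c = 1 := by decide
  refine key _ ?_
  rcases h with e | e | e | e <;> rw [e] at hy
  · rw [R.b_zero_right] at hy
    exact absurd hy zero_ne_one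
  · rw [R.b_self] at hy
    exact absurd hy zero_ne_one
  · rw [b, e1] at hy
    simp only [R.q_act] at hy
    exact hy
  · rw [b, show x + R.ρ (dg a) (R.ρ (dg a) x) = R.ρ (dg a) x by rw [← e1, ← add_assoc, R.self_add, zero_add]]
      at hy
    simp only [R.q_act] at hy
    exact hy

end Rep

end Cfsg.Agent.Spor.CHZ
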