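import Cfsg.Agent.Lib.Spor.CHZ.Linear

/-!
The shape of a conjugate outside the subgroup when all actions are linear.
-/

set_option autoImplicit false
set_option maxRecDepth 100000
set_option maxHeartbeats 400000
set_option linter.unusedSectionVars false

namespace Cfsg.Agent.Spor.CHZ

open Cfsg.Agent.Spor.SpFour Cfsg.Agent.Small.Unitary

universe w

/-- the shape of a conjugate in the centraliser -/
structure Shape {G : Type w} [Group G] {z t : G} (S : Setup z) (T : Setup t) (u : V) : Prop where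
  ne : u ≠ 0
  iso : herm u u = 0
  act : ∀ x, S.π t x = x + herm u x • u
  comm : ∀ q ∈ S.Q, herm u (S.ν q) = 0 → Commute q t
  half : ¬ IsConj z (t * z)
  meet : ∀ d ∈ S.Q ⊓ T.Q, ∃ c : F4, S.ν d = c • u

/-- a subgroup with at most one element beside the identity -/
theorem AddSubgroup.two_elem {A : AddSubgroup V} (h : ∀ x ∈ A, ∀ y ∈ A, x ≠ 0 → y ≠ 0 → x = y) :
    ∃ d, (A : Set V) ⊆ {0, d} ∧ d ∈ A := by
  by_cases hA : ∃ x ∈ A, x ≠ 0
  · obtain ⟨d, hd, hd0⟩ := hA
    refine ⟨d, fun x hx => ?_, hd⟩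
    by_cases hx0 : x = 0
    · exact Or.inl hx0
    · exact Or.inr (h x hx d hd hx0 hd0)
  · push Not at hA
    exact ⟨0, fun x hx => Or.inl (hA x hx), A.zero_mem⟩

namespace Two

variable {G : Type w} [Group G] [Finite G] {z t : G} {S : Setup z} {T : Setup t} (P : Two S T)
  (hl : Lin (S.π t)) (hlz : Lin (T.π z))
include P hl hlz

theorem shape : ∃ u, Shape S T u := by
  classical
  rcases P.linear_cases hl with ⟨h16, hr⟩ | ⟨u, hu0, huu, hf⟩
  · exact (P.not_sixteen hl hlz h16 hr).elim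
  obtain ⟨x0, hx0⟩ := exists_herm_val hu0 1
  have hfix : ∀ v, S.π t v = v ↔ herm u v = 0 := fun v => by
    rw [hf, add_eq_left, smul_eq_zero]
    exact or_iff_left hu0
  have himg : ∀ c : F4, ∃ y, c • u = S.π t y + y := fun c => ⟨c • x0, by
    rw [hf, herm_smul_right, hx0, mul_one, add_comm (c • x0), add_assoc, add_self, add_zero]⟩
  let D := S.Q ⊓ T.Q
  have hDle : D ≤ S.Q := inf_le_left
  have hinjD : ∀ a ∈ D, ∀ b ∈ D, S.ν a = S.ν b → a = b := fun a ha b hb h =>
    (S.ν_eq ha.1 hb.1 h).resolve_right fun e => P.meet_z (by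
      have := D.mul_mem (D.inv_mem hb) ha
      rwa [e, inv_mul_cancel_left] at this)
  have horth : ∀ d ∈ D, ∀ y ∈ S.CQ t, B (S.ν d) (S.ν y) = 0 := fun d hd y hy =>
    (S.ν_comm d hd.1 y (S.mem_CQ.mp hy).1).mp (P.meet_comm hd hy).symm
  have hperpH : ∀ a : V, (∀ y, herm u y = 0 → B a y = 0) → ∃ c : F4, a = c • u := by
    intro a ha
    refine herm_perp_perp hu0 fun y hy => ?_
    have key : ∀ x : F4, (∀ c : F4, c * x + star (c * x) = 0) → x = 0 := by decide +kernel
    refine key _ fun c => ?_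
    rw [← herm_smul_right, ← B_eq]
    exact ha _ (by rw [herm_smul_right, hy, mul_zero])
  by_cases hcommall : ∀ q ∈ S.Q, herm u (S.ν q) = 0 → Commute q t
  · have hmeet : ∀ d ∈ D, ∃ c : F4, S.ν d = c • u := by
      intro d hd
      refine hperpH _ fun y hy => ?_
      obtain ⟨q, hq, rfl⟩ := S.ν_surj y
      exact horth d hd q (S.mem_CQ.mpr ⟨hq, hcommall q hq hy⟩)
    refine ⟨u, hu0, huu, hf, hcommall, fun hfull => ?_, hmeet⟩
    have hD1 : ∀ d ∈ D, d = 1 := fun d hd => by
      obtain ⟨c, hc⟩ := hmeet d hd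
      obtain ⟨y, hy⟩ := himg c
      exact P.full_meet hfull hd (hc.trans hy)
    have hb : D = ⊥ := (Subgroup.eq_bot_iff_forall _).mpr hD1
    have h := P.image_large hlz (n := 1) (by rw [show S.Q ⊓ T.Q = ⊥ from hb]; simp)
    obtain ⟨y0, hy0⟩ := exists_herm_val hu0 1
    have h4 := card_fixing (X := S.π '' (T.CQ z : Set G)) (H := {y | herm u y = 0}) (y0 := y0)
      (fun g hg => by
        obtain ⟨r, hr, rfl⟩ := hg
        refine auto_lin_line (S.π_semi r (T.mem_CQ.mp hr).2) hu0 fun y hy => ⟨0, ?_⟩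
        obtain ⟨q, hq, rfl⟩ := S.ν_surj y
        obtain ⟨d, hd, hdv⟩ := P.moves (S.mem_CQ.mpr ⟨hq, hcommall q hq hy⟩) hr
        rw [hdv, hD1 d hd, S.ν_one, zero_smul]) (fun g hg y hy => by
        obtain ⟨r, hr, rfl⟩ := hg
        obtain ⟨q, hq, rfl⟩ := S.ν_surj y
        obtain ⟨d, hd, hdv⟩ := P.moves (S.mem_CQ.mpr ⟨hq, hcommall q hq hy⟩) hr
        rw [hD1 d hd, S.ν_one] at hdv
        exact add_cancel' hdv)
      fun x => ⟨x + herm u x • y0, by
        show herm u _ = 0
        rw [herm_add_right, herm_smul_right, hy0, mul_one, CharTwo.add_self_eq_zero],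
        herm u x, by rw [add_assoc, add_self, add_zero]⟩
    omega
  -- the centraliser has index two: impossible
  exfalso
  push Not at hcommall
  obtain ⟨q0, hq0, hq0u, hne0⟩ := hcommall
  have hfull := P.full_of_flip hq0 ((hfix _).mpr hq0u) hne0
  let U : AddSubgroup V := S.img (S.CQ t) (S.CQ_le t)
  have hUH : ∀ y ∈ U, herm u y = 0 := by
    rintro _ ⟨q, hq, rfl⟩
    exact (hfix _).mp (P.CQ_fix hq)
  have hsplit : ∀ v, herm u v = 0 → v ∈ U ∨ v + S.ν q0 ∈ U := by
    intro v hv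
    obtain ⟨q, hq, rfl⟩ := S.ν_surj v
    by_cases hc : Commute q t
    · exact Or.inl ⟨q, S.mem_CQ.mpr ⟨hq, hc⟩, rfl⟩
    refine Or.inr ⟨q * q0, S.mem_CQ.mpr ⟨S.Q.mul_mem hq hq0, ?_⟩, by rw [S.ν_mul q hq q0 hq0]⟩
    have key : ∀ q ∈ S.Q, herm u (S.ν q) = 0 → ¬ Commute q t → t * q * t⁻¹ = q * z := by
      intro q hq hf' hn
      refine (S.ν_eq (S.normal t P.comm q hq) hq (by rw [S.ν_act t P.comm q hq, (hfix _).mpr hf'])).resolve_left ?_
      exact fun e => hn (mul_inv_eq_iff_eq_mul.mp e).symm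
    refine (mul_inv_eq_iff_eq_mul.mp ?_).symm
    calc t * (q * q0) * t⁻¹ = (t * q * t⁻¹) * (t * q0 * t⁻¹) := by group
      _ = q * z * (q0 * z) := by rw [key q hq hv hc, key q0 hq0 hq0u hne0]
      _ = q * q0 := by rw [mul_assoc, ← mul_assoc z, (S.cent q0 hq0).symm.eq, mul_assoc, S.z2, mul_one]
  have hline : ∀ c : F4, c • u ∈ U := by
    intro c
    obtain ⟨q, hq, hν⟩ := S.ν_surj (c • u)
    obtain ⟨y, hy⟩ := himg c
    exact ⟨q, S.mem_CQ.mpr ⟨hq, P.full_comm hfull hq
      (by rw [hν]; exact (hfix _).mpr (by rw [herm_smul_right, huu, mul_zero]))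
      (by rw [hν, herm_smul_left, herm_smul_right, huu, mul_zero, mul_zero]) (hν.trans hy)⟩, hν⟩
  -- the meet has at most two elements
  let A : AddSubgroup V := S.img D hDle
  have hBd : ∀ a ∈ A, a ≠ 0 → B a (S.ν q0) ≠ 0 := by
    rintro _ ⟨d, hd, rfl⟩ hne hB
    obtain ⟨c, hc⟩ := hperpH (S.ν d) fun y hy => by
      rcases hsplit y hy with ⟨q, hq, e⟩ | ⟨q, hq, e⟩
      · rw [← e]; exact horth d hd q hq
      · have := horth d hd q hq
        rw [e, B_add_right, hB, add_zero] at this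
        exact this
    obtain ⟨y, hy⟩ := himg c
    exact hne (by rw [P.full_meet hfull hd (hc.trans hy), S.ν_one])
  have real : ∀ a b : V, B a b = 0 ∨ B a b = 1 := fun a b =>
    F4_fixed _ (by rw [B_eq, star_add, star_star, add_comm])
  obtain ⟨d, hA, hdA⟩ := AddSubgroup.two_elem (A := A) fun a ha b hb ha0 hb0 => by
    by_contra hab
    refine hBd _ (A.add_mem ha hb) (fun e => hab (add_cancel' e)) ?_
    rw [B_add_left, (real _ _).resolve_left (hBd a ha ha0), (real _ _).resolve_left (hBd b hb hb0),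
      CharTwo.add_self_eq_zero]
  have hDcard : Nat.card D ≤ 2 := by
    rw [S.card_of_notMem hDle P.meet_z]
    calc (S.ν '' (D : Set G)).ncard ≤ ({0, d} : Set V).ncard := Set.ncard_le_ncard hA
      _ ≤ _ := (Set.ncard_insert_le _ _).trans (by rw [Set.ncard_singleton])
  have h16 := P.image_large hlz (n := 2) hDcard
  obtain ⟨X, hX⟩ : ∃ X, X = S.π '' (T.CQ z : Set G) := ⟨_, rfl⟩
  rw [← hX] at h16
  have hU32 : 32 ≤ (U : Set V).ncard := by
    have hsub : {y : V | herm u y = 0} ⊆ (U : Set V) ∪ (fun y => y + S.ν q0) '' (U : Set V) := fun v hv => by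
      rcases hsplit v hv with h | h
      · exact Or.inl h
      · exact Or.inr ⟨_, h, by show v + S.ν q0 + S.ν q0 = v; rw [add_assoc, add_self, add_zero]⟩
    have h := (Set.ncard_le_ncard hsub).trans (Set.ncard_union_le _ _)
    rw [hyper_ncard hu0, Set.ncard_image_of_injective _ (add_left_injective _)] at h
    omega
  have hXl : ∀ g ∈ X, Lin g := fun g hg => by
    obtain ⟨r, hr, rfl⟩ := (hX ▸ hg : g ∈ S.π '' (T.CQ z : Set G))
    have h := fix_large (S.π_semi r (T.mem_CQ.mp hr).2) U (E := ({0, d} : Set V)) (by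
      rintro _ ⟨q, hq, rfl⟩
      obtain ⟨d', hd', hdv⟩ := P.moves hq hr
      rw [hdv]
      exact hA ⟨d', hd', rfl⟩)
    have h2 : ({0, d} : Set V).ncard ≤ 2 := (Set.ncard_insert_le _ _).trans (by rw [Set.ncard_singleton])
    refine auto_lin (S.π_semi r (T.mem_CQ.mp hr).2) (H := {y | herm u y = 0})
      (fun x (hx : herm u x = 0) y (hy : herm u y = 0) => by
        show herm u (x + y) = 0
        rw [herm_add_right, hx, hy, add_zero])
      (fun c x (hx : herm u x = 0) => by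
        show herm u (c • x) = 0
        rw [herm_smul_right, hx, mul_zero])
      (n := 64) (m := 16) (le_of_eq (hyper_ncard hu0)) (by norm_num) ?_
    have h3 : ((U : Set V) ∩ fixS (S.π r)).ncard ≤ ({y : V | herm u y = 0} ∩ fixS (S.π r)).ncard :=
      Set.ncard_le_ncard fun y hy => ⟨hUH y hy.1, hy.2⟩
    nlinarith
  have hXU : ∀ g ∈ X, ∀ y ∈ U, g y = y ∨ g y = y + d := by
    intro g hg y hy
    obtain ⟨r, hr, rfl⟩ := (hX ▸ hg : g ∈ S.π '' (T.CQ z : Set G))
    obtain ⟨q, hq, rfl⟩ := hy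
    obtain ⟨d', hd', hdv⟩ := P.moves hq hr
    rcases hA ⟨d', hd', rfl⟩ with e | e
    · exact Or.inl (add_cancel' (hdv.trans e))
    · exact Or.inr (by rw [← show S.π r (S.ν q) + S.ν q = d from hdv.trans e, add_comm (S.ν q), add_assoc,
        add_self, add_zero])
  -- the part closed under scalars is fixed
  have hU0 : ∀ g ∈ X, ∀ y ∈ U, F4.w • y ∈ U → g y = y := by
    intro g hg y hy hy'
    rcases hXU g hg y hy with e | e
    · exact e
    rcases hXU g hg _ hy' with e' | e'
    · rw [(hXl g hg).smul] at e'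
      exact smul_right_injective V (by decide +kernel : F4.w ≠ 0) e'
    · rw [(hXl g hg).smul, e, smul_add, add_right_inj] at e'
      have : (F4.w + 1) • d = 0 := by rw [add_smul, one_smul, e', add_self]
      rw [(smul_eq_zero.mp this).resolve_left (by decide +kernel), add_zero] at e
      exact e
  have hH : ∀ v, herm u v = 0 → ∀ c : F4, herm u (c • v) = 0 := fun v hv c => by
    rw [herm_smul_right, hv, mul_zero]
  have hq0U : S.ν q0 ∉ U := by
    rintro ⟨q, hq, e⟩
    obtain ⟨hq', hqt⟩ := S.mem_CQ.mp hq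
    rcases S.ν_eq hq0 hq' e.symm with e' | e'
    · exact hne0 (e' ▸ hqt)
    · exact hne0 (e' ▸ hqt.mul_left P.comm.symm)
  obtain ⟨y1, hy1, hy1'⟩ : ∃ y1 ∈ U, F4.w • y1 ∉ U := by
    by_contra hno
    push Not at hno
    have hv : F4.v • S.ν q0 = S.ν q0 + F4.w • S.ν q0 := by
      rw [show F4.v = 1 + F4.w by decide +kernel, add_smul, one_smul]
    rcases hsplit _ (hH _ hq0u F4.w) with h | h
    · have h' := hno _ (hno _ h)
      rw [smul_smul, smul_smul, show F4.w * F4.w * F4.w = 1 by decide +kernel, one_smul] at h'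
      exact hq0U h'
    · rw [add_comm, ← hv] at h
      have h' := hno _ h
      rw [smul_smul, show F4.w * F4.v = 1 by decide +kernel, one_smul] at h'
      exact hq0U h'
  have hspan : ∀ x, herm u x = 0 → ∃ a ∈ U, ∃ b ∈ U, x = a + F4.w • b := by
    intro x hx
    rcases hsplit x hx with h | h
    · exact ⟨x, h, 0, U.zero_mem, by rw [smul_zero, add_zero]⟩
    rcases hsplit _ (hH _ (hUH y1 hy1) F4.w) with h' | h'
    · exact absurd h' hy1'
    refine ⟨x + F4.w • y1, ?_, y1, hy1, by rw [add_assoc, add_self, add_zero]⟩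
    have := U.add_mem h h'
    rwa [show x + S.ν q0 + (F4.w • y1 + S.ν q0) = x + F4.w • y1 + (S.ν q0 + S.ν q0) by abel, add_self,
      add_zero] at this
  have hfib : ∀ g ∈ X, ∀ g' ∈ X, (g y1 = y1 ↔ g' y1 = y1) → ∀ y ∈ U, g y = g' y := by
    intro g hg g' hg' hiff y hy
    have h1 : g y1 = g' y1 := by
      rcases hXU g hg y1 hy1 with e | e
      · rw [e, hiff.mp e]
      · rcases hXU g' hg' y1 hy1 with e' | e'
        · rw [e', hiff.mpr e']
        · rw [e, e']
    by_cases hy' : F4.w • y ∈ U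
    · rw [hU0 g hg y hy hy', hU0 g' hg' y hy hy']
    have hs : F4.w • (y + y1) ∈ U := by
      rcases hsplit _ (hH _ (hUH y hy) F4.w) with a | a
      · exact absurd a hy'
      rcases hsplit _ (hH _ (hUH y1 hy1) F4.w) with b | b
      · exact absurd b hy1'
      have := U.add_mem a b
      rwa [show F4.w • y + S.ν q0 + (F4.w • y1 + S.ν q0) = F4.w • y + F4.w • y1 + (S.ν q0 + S.ν q0) by abel,
        add_self, add_zero, ← smul_add] at this
    have e2 : g (y + y1) = g' (y + y1) := by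
      rw [hU0 g hg _ (U.add_mem hy hy1) hs, hU0 g' hg' _ (U.add_mem hy hy1) hs]
    rw [(hXl g hg).add, (hXl g' hg').add, h1] at e2
    exact add_right_cancel e2
  have hle : X.ncard ≤ 8 := by
    obtain ⟨y0, hy0⟩ := exists_herm_val hu0 1
    have hfour : {g | Lin g ∧ ∀ y ∈ U, g y = y}.ncard ≤ 4 :=
      card_fixing (H := {y | herm u y = 0}) (y0 := y0) (fun g hg => hg.1) (fun g hg x hx => by
        obtain ⟨a, ha, b, hb, rfl⟩ := hspan x hx
        rw [hg.1.add, hg.1.smul, hg.2 a ha, hg.2 b hb])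
        fun x => ⟨x + herm u x • y0, by
          show herm u _ = 0
          rw [herm_add_right, herm_smul_right, hy0, mul_one, CharTwo.add_self_eq_zero],
          herm u x, by rw [add_assoc, add_self, add_zero]⟩
    refine two_classes (S := fun g => g y1 = y1) (translate_le (P := fun g => Lin g ∧ ∀ y ∈ U, g y = y) hfour ?_)
      (translate_le (P := fun g => Lin g ∧ ∀ y ∈ U, g y = y) hfour ?_)
    · rintro g ⟨hg, hs⟩ g' ⟨hg', hs'⟩
      exact ⟨(hXl g hg).inv.mul (hXl g' hg'), fun y hy => fix_rel (hfib g hg g' hg' (iff_of_true hs hs') y hy)⟩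
    · rintro g ⟨hg, hs⟩ g' ⟨hg', hs'⟩
      exact ⟨(hXl g hg).inv.mul (hXl g' hg'), fun y hy => fix_rel (hfib g hg g' hg' (iff_of_false hs hs') y hy)⟩
  omega

end Two

end Cfsg.Agent.Spor.CHZ
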