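import Cfsg.Agent.Lib.Spor.CHZ.Count
import Cfsg.Agent.Lib.Classical.UFourTwo.Main

/-!
An involution commuting with a member is seen differently by two members commuting with it.
-/

set_option autoImplicit false
set_option maxRecDepth 100000
set_option maxHeartbeats 400000
set_option linter.unusedSectionVars false

namespace Cfsg.Agent.Spor.CHZ

open Cfsg.Agent.Spor.SpFour Cfsg.Agent.Small.Unitary

universe w

/-- moving nothing but within the lines -/
def InQ {G : Type w} [Group G] (D : Set G) (s u : G) : Prop :=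
  Commute u s ∧ ∀ t ∈ nb D s, u * t * u⁻¹ ∈ line D s t

/-- acting as one of the neighbours -/
def TvT {G : Type w} [Group G] (D : Set G) (s u : G) : Prop :=
  Commute u s ∧ ∃ t ∈ nb D s, InQ D s (u * t)

variable {G : Type w} [Group G] [Finite G] {D : Set G} (L : Loc D)
include L

theorem Loc.line_conj {g x y w : G} (hw : w ∈ line D x y) :
    g * w * g⁻¹ ∈ line D (g * x * g⁻¹) (g * y * g⁻¹) := by
  refine ⟨L.conj g w hw.1, fun v hv hvx hvy => ?_⟩
  have h := hw.2 (g⁻¹ * v * g) (by simpa using L.conj g⁻¹ v hv)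
    (by simpa [mul_assoc] using hvx.map (MulAut.conj g⁻¹).toMonoidHom)
    (by simpa [mul_assoc] using hvy.map (MulAut.conj g⁻¹).toMonoidHom)
  simpa [mul_assoc] using h.map (MulAut.conj g).toMonoidHom

theorem Loc.nb_conj {g x t : G} (ht : t ∈ nb D x) : g * t * g⁻¹ ∈ nb D (g * x * g⁻¹) :=
  ⟨L.conj g t ht.1, fun e => ht.2.1 ((MulAut.conj g).injective e),
    ht.2.2.map (MulAut.conj g).toMonoidHom⟩

theorem InQ.conj {g s u : G} (h : InQ D s u) : InQ D (g * s * g⁻¹) (g * u * g⁻¹) := by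
  refine ⟨h.1.map (MulAut.conj g).toMonoidHom, fun t ht => ?_⟩
  have h1 : g⁻¹ * t * g ∈ nb D s := by simpa [mul_assoc] using L.nb_conj (g := g⁻¹) ht
  have h2 := L.line_conj (g := g) (h.2 _ h1)
  simpa [mul_assoc] using h2

theorem TvT.conj {g s u : G} (h : TvT D s u) : TvT D (g * s * g⁻¹) (g * u * g⁻¹) := by
  obtain ⟨hc, t, ht, hq⟩ := h
  refine ⟨hc.map (MulAut.conj g).toMonoidHom, g * t * g⁻¹, L.nb_conj ht, ?_⟩
  have := InQ.conj L (g := g) hq
  simpa [mul_assoc] using this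

variable {z : G} (hz : z ∈ D) {S : Setup z} (hS : Full S)
include hz hS

theorem π_ne_one {t : G} (ht : t ∈ nb D z) : S.π t ≠ 1 := by
  obtain ⟨u, hu⟩ := point L hz hS ht
  intro e
  obtain ⟨v, hv⟩ := exists_herm_val hu.ne 1
  have h := congrArg (fun f => f v) e
  simp only [hu.act, hv, one_smul, Equiv.Perm.one_apply, add_eq_left] at h
  exact hu.ne h

theorem inQ_iff {u : G} : InQ D z u ↔ u ∈ S.Q := by
  constructor
  · rintro ⟨hc, hl⟩
    refine (S.π_iff u hc).mp ?_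
    obtain ⟨g, hg⟩ := hS u hc
    have hgen := (UnitaryTrans.isClass (F := F4) (n := 4) hstar hF le_rfl).2.2
    have hle : (⊤ : Subgroup CHZ.L) ≤ Subgroup.centralizer {g} := by
      rw [← hgen, Subgroup.closure_le]
      intro τ hτ
      obtain ⟨v, hv, hv0, rfl⟩ := UnitaryTrans.exists_tv hstar τ hτ
      obtain ⟨t, ht, hp⟩ := exists_over L hz hS hv0 hv
      have hsame : S.π (u * t * u⁻¹) = S.π t := by
        rcases (mem_line_iff L hz hS ht).mp (hl t ht) with e | ⟨-, e⟩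
        · exfalso
          have hne : u * t * u⁻¹ ≠ z := fun e => ht.2.1 ((MulAut.conj u).injective
            (e.trans (mul_inv_eq_iff_eq_mul.mpr hc.eq).symm))
          exact hne e
        · exact e
      rw [S.π_mul _ _ (hc.mul_left ht.2.2) hc.inv_left, S.π_mul _ _ hc ht.2.2, S.π_inv hc, hg] at hsame
      have ht' : S.π t = sp (UnitaryTrans.tv hstar v hv) := Equiv.ext fun x => by
        rw [hp.act, sp_apply, UnitaryTrans.act_tv]
      rw [ht', ← map_inv, ← map_mul, ← map_mul] at hsame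
      refine Subgroup.mem_centralizer_singleton_iff.mpr ?_
      exact (mul_inv_eq_iff_eq_mul.mp (sp_inj hsame)).symm
    have hgc : g ∈ Subgroup.center CHZ.L :=
      Subgroup.mem_center_iff.mpr fun k => Subgroup.mem_centralizer_singleton_iff.mp (hle (Subgroup.mem_top k))
    rw [Subgroup.eq_bot_of_card_eq _ (Classical.UFourTwo.card_su (F := F4) hF).2, Subgroup.mem_bot] at hgc
    rw [hg, hgc, map_one]
  · intro hu
    refine ⟨S.cent u hu, fun t ht => ?_⟩
    refine (mem_line_iff L hz hS ht).mpr (Or.inr ⟨?_, ?_⟩)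
    · have hzc : u * z * u⁻¹ = z := mul_inv_eq_iff_eq_mul.mpr (S.cent u hu).eq
      exact ⟨L.conj u t ht.1, fun e => ht.2.1 ((MulAut.conj u).injective (e.trans hzc.symm)),
        ((S.cent u hu).mul_left ht.2.2).mul_left (S.cent u hu).inv_left⟩
    · rw [S.π_mul _ _ ((S.cent u hu).mul_left ht.2.2) (S.cent u hu).inv_left, S.π_mul _ _ (S.cent u hu) ht.2.2,
        S.π_inv (S.cent u hu), (S.π_iff u (S.cent u hu)).mpr hu, inv_one, one_mul, mul_one]

theorem tvT_iff {u : G} (hu : Commute u z) : TvT D z u ↔ ∃ t ∈ nb D z, S.π u = S.π t := by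
  constructor
  · rintro ⟨-, t, ht, hq⟩
    refine ⟨t, ht, ?_⟩
    have h := (S.π_iff _ (hu.mul_left ht.2.2)).mpr ((inQ_iff L hz hS).mp hq)
    rw [S.π_mul _ _ hu ht.2.2, mul_eq_one_iff_eq_inv, ← S.π_inv ht.2.2, L.inv ht.1] at h
    exact h
  · rintro ⟨t, ht, e⟩
    refine ⟨hu, t, ht, (inQ_iff L hz hS).mpr ((S.π_iff _ (hu.mul_left ht.2.2)).mp ?_)⟩
    rw [S.π_mul _ _ hu ht.2.2, e, ← S.π_mul _ _ ht.2.2 ht.2.2, L.sq ht.1, S.π_one]

/-- products of two transvections at different orthogonal points are no transvection -/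
theorem not_tv_mul {a b : G} (ha : a ∈ nb D z) (hb : b ∈ nb D z) (hab : Commute a b) (hne : S.π a ≠ S.π b)
    {t : G} (ht : t ∈ nb D z) : S.π a * S.π b ≠ S.π t ∧ S.π a * S.π b ≠ 1 := by
  obtain ⟨p, hp⟩ := point L hz hS ha
  obtain ⟨r, hr⟩ := point L hz hS hb
  obtain ⟨m, hm⟩ := point L hz hS ht
  have hpr : herm p r = 0 := (commute_iff L hz hS ha hp hb hr).mp hab
  have hrp : herm r p = 0 := by rw [← star_herm, hpr, star_zero]
  refine ⟨fun e => hne ?_, fun e => hne ?_⟩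
  · have hv : ∀ v, herm r v • r + herm p v • p = herm m v • m := fun v => by
      have h := congrArg (fun f => f v) e
      simp only [Equiv.Perm.mul_apply, hp.act, hr.act, hm.act, herm_add_right, herm_smul_right, hpr, mul_zero,
        add_zero] at h
      rw [add_assoc] at h
      exact add_left_cancel h
    have key : ∀ {p r : V}, p ≠ 0 → herm p p = 0 → r ≠ 0 →
        (∀ v, herm r v • r + herm p v • p = herm m v • m) → (∀ c : F4, p ≠ c • r) → ∃ c : F4, p = c • m := by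
      intro p r _ _ hr0 hv hne'
      obtain ⟨v, hv1, hv2⟩ : ∃ v, herm r v = 0 ∧ herm p v ≠ 0 := by
        by_contra hno
        push Not at hno
        obtain ⟨c, hc⟩ := herm_perp_perp hr0 hno
        exact hne' c hc
      have h := hv v
      rw [hv1, zero_smul, zero_add] at h
      exact ⟨(herm p v)⁻¹ * herm m v, by rw [mul_smul, ← h, smul_smul, inv_mul_cancel₀ hv2, one_smul]⟩
    by_cases hprop : ∃ c : F4, p = c • r
    · obtain ⟨c, hc⟩ := hprop
      exact (act_eq_iff L hz hS hb hr ha hp).mpr ⟨c, hc⟩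
    push Not at hprop
    obtain ⟨c, hc⟩ := key hp.ne hp.iso hr.ne hv hprop
    obtain ⟨c', hc'⟩ := key hr.ne hr.iso hp.ne (fun v => by rw [add_comm]; exact hv v) (fun k hk => by
      have hk0 : k ≠ 0 := fun h0 => hr.ne (by rw [hk, h0, zero_smul])
      exact hprop k⁻¹ (by rw [hk, smul_smul, inv_mul_cancel₀ hk0, one_smul]))
    have hc'0 : c' ≠ 0 := fun h0 => hr.ne (by rw [hc', h0, zero_smul])
    exact (act_eq_iff L hz hS hb hr ha hp).mpr ⟨c * c'⁻¹, by
      rw [hc', smul_smul, mul_assoc, inv_mul_cancel₀ hc'0, mul_one]; exact hc⟩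
  · rw [mul_eq_one_iff_eq_inv, ← S.π_inv hb.2.2, L.inv hb.1] at e
    exact e

omit hS in
/-- two members see an involution differently -/
theorem two_types {u : G} (hu : Commute u z) (hu2 : u * u = 1) (hu1 : u ≠ 1) (huz : u ≠ z) :
    ∃ s ∈ nb D z, Commute u s ∧ ¬ ((InQ D z u ↔ InQ D s u) ∧ (TvT D z u ↔ TvT D s u)) := by
  obtain ⟨S, hS⟩ := L.str z hz
  have zne : ∀ {a}, a ∈ nb D z → S.π a ≠ 1 := fun h => π_ne_one L hz hS h
  have nbz : ∀ {a}, a ∈ nb D z → z ∈ nb D a := fun ha => ⟨hz, ha.2.1.symm, ha.2.2.symm⟩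
  by_cases huQ : u ∈ S.Q
  · -- in the subgroup
    have hq : InQ D z u := (inQ_iff L hz hS).mpr huQ
    obtain ⟨v, hv⟩ : ∃ v, v = S.ν u := ⟨_, rfl⟩
    have hv0 : v ≠ 0 := hv ▸ S.ν_ne huQ hu1 huz
    have hvv : herm v v = 0 := hv ▸ S.ν_singular huQ hu2
    obtain ⟨a, ha⟩ := exists_move v0_ok.1 v0_ok.2 hv0 hvv
    have hw : w0 ≠ 0 ∧ herm w0 w0 = 0 ∧ herm w0 v0 = 0 ∧ ∀ c : F4, v0 ≠ c • w0 := by decide +kernel
    obtain ⟨t, ht, hpt⟩ := exists_over L hz hS (u := sp a w0)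
      (fun e => hw.1 ((sp a).injective (e.trans (Semi.zero (Or.inl (sp_lin a))).symm)))
      (by rw [(sp_lin a).herm]; exact hw.2.1)
    refine ⟨t, ht, commutes_orth L hz hS ht hpt huQ (by rw [← hv, ← ha, (sp_lin a).herm]; exact hw.2.2.1),
      fun h => ?_⟩
    obtain ⟨T, hT⟩ := L.str t ht.1
    obtain ⟨p, hsh⟩ := S.shape hS.lin T hT.lin (L.cls z hz t ht.1) ht.2.2 ht.2.1
    obtain ⟨c, hc⟩ := hsh.meet u ⟨huQ, (inQ_iff L ht.1 hT).mp (h.1.mp hq)⟩
    obtain ⟨c', hc'⟩ := tv_unique hsh.ne fun x => add_left_cancel ((hsh.act x).symm.trans (hpt.act x))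
    rw [hc', smul_smul, ← hv, ← ha, ← (sp_lin a).smul] at hc
    exact hw.2.2.2 _ ((sp a).injective hc)
  by_cases hut : ∃ t ∈ nb D z, S.π u = S.π t
  · -- a transvection
    obtain ⟨t, ht, he⟩ := hut
    have hT0 : TvT D z u := (tvT_iff L hz hS hu).mpr ⟨t, ht, he⟩
    obtain ⟨T, hT⟩ := L.str t ht.1
    obtain ⟨p, hsh⟩ := S.shape hS.lin T hT.lin (L.cls z hz t ht.1) ht.2.2 ht.2.1
    have hp : Pt S t p := ⟨hsh.ne, hsh.iso, hsh.act⟩
    obtain ⟨q, hq⟩ : ∃ q, q = t * u := ⟨_, rfl⟩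
    have hqQ : q ∈ S.Q := hq ▸ (S.π_iff _ (ht.2.2.mul_left hu)).mp (by
      rw [S.π_mul _ _ ht.2.2 hu, he, ← S.π_mul _ _ ht.2.2 ht.2.2, L.sq ht.1, S.π_one])
    have e : u = t * q := by rw [hq, ← mul_assoc, L.sq ht.1, one_mul]
    have hqh : herm p (S.ν q) = 0 := by
      have h1 : t * q * t⁻¹ = q⁻¹ := by
        rw [L.inv ht.1]
        refine eq_inv_of_mul_eq_one_left ?_
        rw [mul_assoc (t * q), ← e]
        exact hu2
      have h := S.ν_act t ht.2.2 q hqQ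
      rw [h1, S.ν_inv hqQ, hp.act] at h
      exact (smul_eq_zero.mp (left_eq_add.mp h)).resolve_right hp.ne
    have hqt : Commute q t := commutes_orth L hz hS ht hp hqQ hqh
    have hut : Commute u t := e ▸ (Commute.refl t).mul_left hqt
    by_cases hline : ∃ c : F4, S.ν q = c • p
    · obtain ⟨c, hc⟩ := hline
      obtain ⟨x0, hx0⟩ := exists_herm_val hp.ne 1
      obtain ⟨y, hy, hyν⟩ := S.ν_surj (c • x0)
      have h1 : t * y * t ∈ S.Q ∧ S.ν (t * y * t) = S.π t (S.ν y) := by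
        have h1 := S.normal t ht.2.2 y hy
        have h2 := S.ν_act t ht.2.2 y hy
        rw [L.inv ht.1] at h1 h2
        exact ⟨h1, h2⟩
      have hx : t * y * t * y⁻¹ ∈ S.Q := S.Q.mul_mem h1.1 (S.Q.inv_mem hy)
      have hν : S.ν q = S.ν (t * y * t * y⁻¹) := by
        rw [S.ν_mul _ h1.1 _ (S.Q.inv_mem hy), S.ν_inv hy, h1.2, hp.act, hyν, herm_smul_right, hx0, mul_one,
          add_comm (c • x0), add_assoc, add_self, add_zero, hc]
      obtain ⟨t', ht'⟩ : ∃ t', t' = y * t * y⁻¹ := ⟨_, rfl⟩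
      have hyz := S.cent y hy
      have ht'n : t' ∈ nb D z := by
        have hzy : y * z * y⁻¹ = z := mul_inv_eq_iff_eq_mul.mpr hyz.eq
        exact ⟨ht' ▸ L.conj y t ht.1, fun e => ht.2.1 ((MulAut.conj y).injective ((ht' ▸ e :).trans hzy.symm)),
          ht' ▸ (hyz.mul_left ht.2.2).mul_left hyz.inv_left⟩
      have hπ' : S.π t' = S.π t := by
        rw [ht', S.π_mul _ _ (hyz.mul_left ht.2.2) hyz.inv_left, S.π_mul _ _ hyz ht.2.2, S.π_inv hyz,
          (S.π_iff y hyz).mpr hy, inv_one, one_mul, mul_one]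
      rcases S.ν_eq hqQ hx hν with e' | e'
      · have hut' : u = t' := by
          rw [e, e', ht', show t * (t * y * t * y⁻¹) = t * t * (y * t * y⁻¹) by group, L.sq ht.1, one_mul]
        refine ⟨t', ht'n, hut' ▸ Commute.refl u, fun h => huQ ((inQ_iff L hz hS).mp (h.1.mpr ?_))⟩
        obtain ⟨T', hT'⟩ := L.str t' ht'n.1
        rw [hut']
        exact (inQ_iff L ht'n.1 hT').mpr T'.zQ
      · have hut' : u = t' * z := by
          rw [e, e', ht', show t * (t * y * t * y⁻¹ * z) = t * t * (y * t * y⁻¹) * z by group, L.sq ht.1, one_mul]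
        obtain ⟨a, ha⟩ := exists_move v0_ok.1 v0_ok.2 hp.ne hp.iso
        have hw : w0 ≠ 0 ∧ herm w0 w0 = 0 ∧ herm w0 v0 = 0 ∧ ∀ c : F4, w0 ≠ c • v0 := by decide +kernel
        obtain ⟨s, hs, hps⟩ := exists_over L hz hS (u := sp a w0)
          (fun e => hw.1 ((sp a).injective (e.trans (Semi.zero (Or.inl (sp_lin a))).symm)))
          (by rw [(sp_lin a).herm]; exact hw.2.1)
        have hp' : Pt S t' p := ⟨hp.ne, hp.iso, fun v => by rw [hπ']; exact hp.act v⟩
        have hst' : Commute s t' := (commute_iff L hz hS hs hps ht'n hp').mpr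
          (by rw [← ha, (sp_lin a).herm]; exact hw.2.2.1)
        have hne : S.π s ≠ S.π t' := fun h => by
          obtain ⟨c, hc⟩ := (act_eq_iff L hz hS ht'n hp' hs hps).mp h
          rw [← ha, ← (sp_lin a).smul] at hc
          exact hw.2.2.2 _ ((sp a).injective hc)
        have hus : Commute u s := hut' ▸ hst'.symm.mul_left hs.2.2.symm
        refine ⟨s, hs, hus, fun h => ?_⟩
        obtain ⟨R, hR⟩ := L.str s hs.1
        obtain ⟨m, hm, hmu⟩ := (tvT_iff L hs.1 hR hus).mp (h.2.mp hT0)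
        have hzn := nbz hs
        have ht'ne : t' ≠ s := fun h' => hne (congrArg S.π h'.symm)
        have ht's : t' ∈ nb D s := ⟨ht'n.1, ht'ne, hst'.symm⟩
        have hne' : R.π t' ≠ R.π z := by
          intro h'
          have hl : t' ∈ line D s z := (mem_line_iff L hs.1 hR hzn).mpr (Or.inr ⟨ht's, h'⟩)
          rw [line_symm] at hl
          exact hne (((mem_line_iff L hz hS hs).mp hl).resolve_left ht'n.2.1).2.symm
        exact (not_tv_mul L hs.1 hR ht's hzn ht'n.2.2 hne' hm).1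
          (by rw [← R.π_mul _ _ ht's.2.2 hzn.2.2, ← hut']; exact hmu)
    · push Not at hline
      refine ⟨t, ht, hut, fun h => ?_⟩
      have hnq : u ∉ T.Q := by
        intro huT
        have hqT : q ∈ T.Q := hq ▸ T.Q.mul_mem T.zQ huT
        obtain ⟨c, hc⟩ := hsh.meet q ⟨hqQ, hqT⟩
        exact hline c hc
      obtain ⟨m, hm, hmu⟩ := (tvT_iff L ht.1 hT hut).mp (h.2.mp hT0)
      have hπtt : T.π t = 1 := (T.π_iff t (Commute.refl t)).mpr T.zQ
      have hπq : T.π q = T.π m := by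
        rw [← hmu, e, T.π_mul _ _ (Commute.refl t) hqt, hπtt, one_mul]
      have hzt := nbz ht
      obtain ⟨pm, hpm⟩ := point L ht.1 hT hm
      obtain ⟨pz, hpz⟩ := point L ht.1 hT hzt
      have hqz : Commute q z := S.cent q hqQ
      have hzq : T.π z * T.π q = T.π q * T.π z := by
        rw [← T.π_mul _ _ hzt.2.2 hqt, ← T.π_mul _ _ hqt hzt.2.2, hqz.eq]
      have hmz : Commute z m := by
        refine (commute_iff L ht.1 hT hzt hpz hm hpm).mpr (herm_zero_of_comm hpm.ne hpm.iso fun v => ?_)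
        have := congrArg (fun f => f v) hzq
        simpa [hπq, hpz.act, hpm.act] using this
      have hsamez : T.π m ≠ T.π z := by
        intro h'
        refine hline 0 ?_
        have hqz' : Commute (q * z) t := hqt.mul_left ht.2.2.symm
        have : q * z ∈ T.Q := (T.π_iff _ hqz').mp (by
          rw [T.π_mul _ _ hqt hzt.2.2, hπq, h', ← T.π_mul _ _ hzt.2.2 hzt.2.2, L.sq hz, T.π_one])
        obtain ⟨c, hc⟩ := hsh.meet _ ⟨S.mul_z hqQ, this⟩
        rw [S.ν_mulz hqQ] at hc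
        exact absurd hc (hline c)
      have hmne : m ≠ z := fun h' => hsamez (h' ▸ rfl)
      have hmn : m ∈ nb D z := ⟨hm.1, hmne, hmz.symm⟩
      obtain ⟨r, hr⟩ := point L hz hS hmn
      have hrp : ∀ c : F4, r ≠ c • p := fun c hc => by
        refine hsamez ?_
        have hl : m ∈ line D z t :=
          (mem_line_iff L hz hS ht).mpr (Or.inr ⟨hmn, (act_eq_iff L hz hS ht hp hmn hr).mpr ⟨c, hc⟩⟩)
        rw [line_symm] at hl
        exact (((mem_line_iff L ht.1 hT hzt).mp hl).resolve_left hm.2.1).2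
      obtain ⟨w, -, -, hwp, hwr⟩ := exists_perp_not hp.ne hp.iso hrp
      obtain ⟨yy, hyy, rfl⟩ := S.ν_surj w
      have hpw : herm p (S.ν yy) = 0 := by rw [← star_herm, hwp, star_zero]
      have hrw : herm r (S.ν yy) ≠ 0 := fun h' => hwr (by rw [← star_herm, h', star_zero])
      have hmq : q * m ∈ T.Q := (T.π_iff _ (hqt.mul_left hm.2.2)).mp (by
        rw [T.π_mul _ _ hqt hm.2.2, hπq, ← T.π_mul _ _ hm.2.2 hm.2.2, L.sq hm.1, T.π_one])
      have htwo := S.two hS.lin T hT.lin (L.cls z hz t ht.1) ht.2.2 ht.2.1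
      obtain ⟨d, hd, hdv⟩ := htwo.moves (r := q * m) (S.mem_CQ.mpr ⟨hyy, hsh.comm yy hyy hpw⟩)
        (T.mem_CQ.mpr ⟨hmq, hqz.mul_left hmn.2.2⟩)
      rw [S.π_mul _ _ hqz hmn.2.2, (S.π_iff q hqz).mpr hqQ, one_mul, hr.act, add_comm (S.ν yy), add_assoc,
        add_self, add_zero] at hdv
      obtain ⟨c, hc⟩ := hsh.meet d hd
      rw [hc] at hdv
      exact hrp ((herm r (S.ν yy))⁻¹ * c) (by rw [mul_smul, ← hdv, smul_smul, inv_mul_cancel₀ hrw, one_smul])
  -- neither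
  push Not at hut
  have hnT : ¬ TvT D z u := fun h => by
    obtain ⟨t, ht, e⟩ := (tvT_iff L hz hS hu).mp h
    exact hut t ht e
  obtain ⟨g, hg⟩ := hS u hu
  have hl : Lin (S.π u) := hS.lin u hu
  have hinv : S.π u * S.π u = 1 := by rw [← S.π_mul _ _ hu hu, hu2, S.π_one]
  rcases hl.invol_cases hinv (fun e => huQ ((S.π_iff u hu).mp e)) with ⟨h16, -⟩ | ⟨p, hp0, hpp, hpa⟩
  swap
  · obtain ⟨t, ht, hpt⟩ := exists_over L hz hS hp0 hpp
    exact absurd (Equiv.ext fun v => by rw [hpa, hpt.act]) (hut t ht)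
  obtain ⟨a, ha⟩ := exists_frame hl hinv h16
  have hv : v0 ≠ 0 ∧ herm v0 v0 = 0 ∧ w0 ≠ 0 ∧ herm w0 w0 = 0 ∧ herm v0 w0 = 0 ∧ herm w0 v0 = 0 ∧
      ∀ c : F4, v0 ≠ c • w0 := by decide +kernel
  have hne0 : ∀ x : V, x ≠ 0 → sp a x ≠ 0 := fun x hx e =>
    hx ((sp a).injective (e.trans (Semi.zero (Or.inl (sp_lin a))).symm))
  obtain ⟨t, ht, hp⟩ := exists_over L hz hS (hne0 _ hv.1) (by rw [(sp_lin a).herm]; exact hv.2.1)
  obtain ⟨t', ht', hr⟩ := exists_over L hz hS (hne0 _ hv.2.2.1) (by rw [(sp_lin a).herm]; exact hv.2.2.2.1)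
  have htt : Commute t t' := (commute_iff L hz hS ht hp ht' hr).mpr (by rw [(sp_lin a).herm]; exact hv.2.2.2.2.1)
  have hne : S.π t ≠ S.π t' := fun h => by
    obtain ⟨c, hc⟩ := (act_eq_iff L hz hS ht' hr ht hp).mp h
    rw [← (sp_lin a).smul] at hc
    exact hv.2.2.2.2.2.2 _ ((sp a).injective hc)
  have hπu : S.π u = S.π t * S.π t' := Equiv.ext fun x => by
    obtain ⟨x', rfl⟩ := (sp a).surjective x
    rw [ha, Equiv.Perm.mul_apply, hp.act, hr.act, tau0, (sp_lin a).add, (sp_lin a).add, (sp_lin a).smul,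
      (sp_lin a).smul]
    simp only [herm_add_right, herm_smul_right, (sp_lin a).herm, hv.2.2.2.2.1, mul_zero, add_zero]
    abel
  obtain ⟨q, hq⟩ : ∃ q, q = t' * t * u := ⟨_, rfl⟩
  have hqc : Commute q z := hq ▸ (ht'.2.2.mul_left ht.2.2).mul_left hu
  have hqQ : q ∈ S.Q := (S.π_iff q hqc).mp (by
    rw [hq, S.π_mul _ _ (ht'.2.2.mul_left ht.2.2) hu, S.π_mul _ _ ht'.2.2 ht.2.2, hπu,
      mul_assoc (S.π t'), ← mul_assoc (S.π t) (S.π t), ← S.π_mul _ _ ht.2.2 ht.2.2, L.sq ht.1, S.π_one, one_mul,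
      ← S.π_mul _ _ ht'.2.2 ht'.2.2, L.sq ht'.1, S.π_one])
  have e : u = t * t' * q := by
    rw [hq, show t * t' * (t' * t * u) = t * (t' * t') * t * u by group, L.sq ht'.1, mul_one, L.sq ht.1, one_mul]
  -- the part in the subgroup lies on the two points
  have hfix : S.π u (S.ν q) = S.ν q := by
    have h1 : u * q * u⁻¹ ∈ S.Q := S.normal u hu q hqQ
    rw [← S.ν_act u hu q hqQ]
    have h2 : t * t' * q * (t * t' * q) = 1 := e ▸ hu2
    have h3 : q * (t * t') * q = t * t' := by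
      calc q * (t * t') * q = (t * t') * (t * t') * (q * (t * t') * q) := by
            rw [show t * t' * (t * t') = t * (t' * t) * t' by group, ← htt.eq,
              show t * (t * t') * t' = t * t * (t' * t') by group, L.sq ht.1, L.sq ht'.1, one_mul, one_mul]
        _ = t * t' * (t * t' * q * (t * t' * q)) := by group
        _ = t * t' := by rw [h2, mul_one]
    have h4 : u * q * u⁻¹ = q⁻¹ := by
      rw [inv_eq_of_mul_eq_one_right hu2]
      refine eq_inv_of_mul_eq_one_left ?_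
      rw [e, show t * t' * q * q * (t * t' * q) * q = t * t' * q * (q * (t * t') * q) * q by group, h3,
        show t * t' * q * (t * t') * q = t * t' * q * (t * t' * q) by group, h2]
    rw [h4, S.ν_inv hqQ]
  have hspan : ∃ c d : F4, S.ν q = c • sp a v0 + d • sp a w0 := by
    obtain ⟨x, hx⟩ := (sp a).surjective (S.ν q)
    have hx' : tau0 x = x := (sp a).injective (by rw [← ha, hx, hfix])
    have h := line0_ok x hx'
    simp only [line0, List.mem_flatMap, List.mem_map] at h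
    obtain ⟨c, -, d, -, rfl⟩ := h
    exact ⟨c, d, by rw [← hx, (sp_lin a).add, (sp_lin a).smul, (sp_lin a).smul]⟩
  obtain ⟨c, d, hcd⟩ := hspan
  have hxs : ∀ {b : G} {p : V}, b ∈ nb D z → Pt S b p → ∀ c : F4, ∃ b' ∈ nb D z, S.π b' = S.π b ∧
      b * b' ∈ S.Q ∧ S.ν (b * b') = c • p := by
    intro b p hb hbp c
    obtain ⟨x0, hx0⟩ := exists_herm_val hbp.ne 1
    obtain ⟨y, hy, hyν⟩ := S.ν_surj (c • x0)
    have hyz := S.cent y hy
    have hzy : y * z * y⁻¹ = z := mul_inv_eq_iff_eq_mul.mpr hyz.eq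
    have h1 := S.normal b hb.2.2 y hy
    have h2 := S.ν_act b hb.2.2 y hy
    refine ⟨y * b * y⁻¹, ⟨L.conj y b hb.1, fun e => hb.2.1 ((MulAut.conj y).injective (e.trans hzy.symm)),
      (hyz.mul_left hb.2.2).mul_left hyz.inv_left⟩, ?_, ?_, ?_⟩
    · rw [S.π_mul _ _ (hyz.mul_left hb.2.2) hyz.inv_left, S.π_mul _ _ hyz hb.2.2, S.π_inv hyz,
        (S.π_iff y hyz).mpr hy, inv_one, one_mul, mul_one]
    · rw [show b * (y * b * y⁻¹) = b * y * b * y⁻¹ by group]
      rw [L.inv hb.1] at h1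
      exact S.Q.mul_mem h1 (S.Q.inv_mem hy)
    · rw [show b * (y * b * y⁻¹) = b * y * b * y⁻¹ by group]
      rw [L.inv hb.1] at h1 h2
      rw [S.ν_mul _ h1 _ (S.Q.inv_mem hy), S.ν_inv hy, h2, hbp.act, hyν, herm_smul_right, hx0, mul_one,
        add_comm (c • x0), add_assoc, add_self, add_zero]
  obtain ⟨t1, ht1, hπ1, hx1, hν1⟩ := hxs ht hp c
  obtain ⟨t2, ht2, hπ2, hx2, hν2⟩ := hxs ht' hr d
  have hp1 : Pt S t1 (sp a v0) := ⟨hp.ne, hp.iso, fun v => by rw [hπ1]; exact hp.act v⟩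
  have hr2 : Pt S t2 (sp a w0) := ⟨hr.ne, hr.iso, fun v => by rw [hπ2]; exact hr.act v⟩
  have h12 : Commute t1 t2 := (commute_iff L hz hS ht1 hp1 ht2 hr2).mpr (by rw [(sp_lin a).herm]; exact hv.2.2.2.2.1)
  have h12' : Commute t1 t' := (commute_iff L hz hS ht1 hp1 ht' hr).mpr (by rw [(sp_lin a).herm]; exact hv.2.2.2.2.1)
  have hrel : u = t1 * t2 ∨ u = t1 * t2 * z := by
    have hν : S.ν q = S.ν (t * t1 * (t' * t2)) := by rw [S.ν_mul _ hx1 _ hx2, hν1, hν2, hcd]
    have hid : t * t' * (t * t1 * (t' * t2)) = t1 * t2 := by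
      calc t * t' * (t * t1 * (t' * t2)) = t * (t' * t) * (t1 * t') * t2 := by group
        _ = t * (t * t') * (t' * t1) * t2 := by rw [htt.eq, h12'.eq]
        _ = t * t * (t' * t') * t1 * t2 := by group
        _ = t1 * t2 := by rw [L.sq ht.1, L.sq ht'.1, one_mul, one_mul]
    rcases S.ν_eq hqQ (S.Q.mul_mem hx1 hx2) hν with e' | e'
    · exact Or.inl (by rw [e, e', hid])
    · exact Or.inr (by rw [e, e', ← mul_assoc, hid])
  have hne12 : S.π t1 ≠ S.π t2 := by rw [hπ1, hπ2]; exact hne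
  rcases hrel with e' | e'
  · have hus : Commute u t1 := e' ▸ (Commute.refl t1).mul_left h12.symm
    refine ⟨t1, ht1, hus, fun h => hnT (h.2.mpr ?_)⟩
    obtain ⟨R, hR⟩ := L.str t1 ht1.1
    have hn : t2 ∈ nb D t1 := ⟨ht2.1, fun h' => hne12 (congrArg S.π h'.symm), h12.symm⟩
    refine (tvT_iff L ht1.1 hR hus).mpr ⟨t2, hn, ?_⟩
    rw [e', R.π_mul _ _ (Commute.refl t1) hn.2.2, (R.π_iff t1 (Commute.refl t1)).mpr R.zQ, one_mul]
  · have hn : t2 ∈ nb D t1 := ⟨ht2.1, fun h' => hne12 (congrArg S.π h'.symm), h12.symm⟩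
    obtain ⟨R1, hR1⟩ := L.str t1 ht1.1
    obtain ⟨s, hsl, hs'⟩ : ∃ s ∈ line D t1 t2, s ∉ ({t1, t2} : Set G) :=
      Set.exists_mem_notMem_of_ncard_lt_ncard (by
        rw [line_card L ht1.1 hR1 hn]
        have := Set.ncard_insert_le t1 ({t2} : Set G)
        rw [Set.ncard_singleton] at this
        omega)
    have hsne : s ≠ t1 := fun h' => hs' (Or.inl h')
    have hsne2 : s ≠ t2 := fun h' => hs' (Or.inr h')
    obtain ⟨hs1, -⟩ := L.line_nb ht1.1 hn hsl hsne
    have hs2 : Commute s t2 := L.line_comm ht1.1 hn hsl ⟨hn.1, fun v _ _ h => h⟩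
    have hzs : Commute z s := hsl.2 z hz ht1.2.2.symm ht2.2.2.symm
    have hsz : s ≠ z := by
      intro h'
      rw [h'] at hsl
      have hl : line D z t1 = line D t1 t2 :=
        L.line_eq ht1.1 hn hsl ⟨ht1.1, fun v _ h _ => h⟩ ht1.2.1.symm
      have hmem : t2 ∈ line D z t1 := hl ▸ ⟨hn.1, fun v _ _ h => h⟩
      exact hne12 (((mem_line_iff L hz hS ht1).mp hmem).resolve_left ht2.2.1).2.symm
    have hus : Commute u s := e' ▸ ((hs1.2.2.symm.mul_left hs2.symm).mul_left hzs)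
    refine ⟨s, ⟨hsl.1, hsz, hzs.symm⟩, hus, fun h => hnT (h.2.mpr ?_)⟩
    obtain ⟨R, hR⟩ := L.str s hsl.1
    have hzn : z ∈ nb D s := ⟨hz, hsz.symm, hzs⟩
    refine (tvT_iff L hsl.1 hR hus).mpr ⟨z, hzn, ?_⟩
    have hA : t1 ∈ nb D s := ⟨ht1.1, hsne.symm, hs1.2.2.symm⟩
    have hB : t2 ∈ nb D s := ⟨ht2.1, hsne2.symm, hs2.symm⟩
    have hl2 : t2 ∈ line D s t1 := by
      rw [L.line_eq ht1.1 hn hsl ⟨ht1.1, fun v _ h _ => h⟩ hsne]
      exact ⟨hn.1, fun v _ _ h => h⟩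
    have hsame := (((mem_line_iff L hsl.1 hR hA).mp hl2).resolve_left hsne2.symm).2
    rw [e', R.π_mul _ _ (hA.2.2.mul_left hB.2.2) hzn.2.2, R.π_mul _ _ hA.2.2 hB.2.2, hsame,
      ← R.π_mul _ _ hA.2.2 hA.2.2, L.sq ht1.1, R.π_one, one_mul]

end Cfsg.Agent.Spor.CHZ
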