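import Cfsg.Agent.Lib.Spor.CHZ.CoreTools
import Cfsg.Agent.Lib.Spor.CHZ.GamTwo

/-!
An involution centraliser which is an extraspecial group extended by the automorphism group of the group of
order 25920: the part over the linear elements and the action of the whole centraliser.
-/

set_option autoImplicit false
set_option linter.unusedSectionVars false
set_option maxHeartbeats 1600000

namespace Cfsg.Agent.Spor.CHZ

open Cfsg.Agent.Spor.SpFour Cfsg.Agent.Small.Unitary

universe w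

/-- the centraliser with its subgroup and quotient -/
structure XCore {G : Type w} [Group G] (z : G) where
  Q : Subgroup G
  ψ : ↥(Subgroup.centralizer ({z} : Set G)) →* ↥Gam
  ψ_surj : Function.Surjective ψ
  ψ_ker : ∀ c, ψ c = 1 ↔ (c : G) ∈ Q
  z1 : z ≠ 1
  z2 : z * z = 1
  cent : ∀ x ∈ Q, Commute x z
  normal : ∀ c, Commute c z → ∀ x ∈ Q, c * x * c⁻¹ ∈ Q
  zQ : z ∈ Q
  card : Nat.card Q = 512
  comm : ∀ x ∈ Q, ∀ y ∈ Q, x * y * x⁻¹ * y⁻¹ = 1 ∨ x * y * x⁻¹ * y⁻¹ = z
  sq : ∀ x ∈ Q, x * x = 1 ∨ x * x = z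
  center : ∀ x ∈ Q, (∀ y ∈ Q, Commute x y) → x = 1 ∨ x = z
  self : ∀ c, Commute c z → (∀ x ∈ Q, Commute c x) → c ∈ Q

namespace XCore

variable {G : Type w} [Group G] [Finite G] {z : G} (X : XCore z)

/-- the image of an element of the centraliser -/
noncomputable def img (c : G) : ↥Gam :=
  haveI := _root_.Classical.dec (c ∈ Subgroup.centralizer ({z} : Set G))
  if h : c ∈ Subgroup.centralizer ({z} : Set G) then X.ψ ⟨c, h⟩ else 1

theorem img_eq {c : G} (hc : Commute c z) :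
    X.img c = X.ψ ⟨c, Subgroup.mem_centralizer_singleton_iff.mpr hc.eq⟩ := dif_pos _

theorem img_mul {c d : G} (hc : Commute c z) (hd : Commute d z) : X.img (c * d) = X.img c * X.img d := by
  rw [X.img_eq hc, X.img_eq hd, X.img_eq (hc.mul_left hd), ← map_mul]
  rfl

theorem img_one : X.img (1 : G) = 1 := by
  rw [X.img_eq (Commute.one_left z)]
  exact map_one X.ψ

theorem img_inv {c : G} (hc : Commute c z) : X.img c⁻¹ = (X.img c)⁻¹ := by
  rw [X.img_eq hc, X.img_eq hc.inv_left, ← map_inv]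
  rfl

theorem img_eq_one {c : G} (hc : Commute c z) : X.img c = 1 ↔ c ∈ X.Q := by
  rw [X.img_eq hc]
  exact X.ψ_ker _

theorem img_Q {x : G} (hx : x ∈ X.Q) : X.img x = 1 := (X.img_eq_one (X.cent x hx)).mpr hx

theorem img_surj (g : ↥Gam) : ∃ c, Commute c z ∧ X.img c = g := by
  obtain ⟨c, hc⟩ := X.ψ_surj g
  exact ⟨c, Subgroup.mem_centralizer_singleton_iff.mp c.2,
    (X.img_eq (c := (c : G)) (Subgroup.mem_centralizer_singleton_iff.mp c.2)).trans hc⟩

/-- the elements acting linearly -/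
noncomputable def lin : Subgroup G where
  carrier := {c | Commute c z ∧ X.img c ∈ ι.range}
  one_mem' := ⟨Commute.one_left z, by rw [X.img_one]; exact one_mem _⟩
  mul_mem' := fun ha hb => ⟨ha.1.mul_left hb.1, by rw [X.img_mul ha.1 hb.1]; exact mul_mem ha.2 hb.2⟩
  inv_mem' := fun ha => ⟨ha.1.inv_left, by rw [X.img_inv ha.1]; exact inv_mem ha.2⟩

theorem Q_le : X.Q ≤ X.lin := fun x hx => ⟨X.cent x hx, by rw [X.img_Q hx]; exact one_mem _⟩

/-- the involution among the linear elements -/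
noncomputable def zl : ↥X.lin := ⟨z, X.Q_le X.zQ⟩

theorem zl_val : (X.zl : G) = z := rfl

/-- the image of a linear element -/
noncomputable def limg : ↥(Subgroup.centralizer ({X.zl} : Set ↥X.lin)) →* ι.range :=
  MonoidHom.mk' (fun c => ⟨X.img ((c : ↥X.lin) : G), (c : ↥X.lin).2.2⟩) fun a b =>
    Subtype.ext (X.img_mul (a : ↥X.lin).2.1 (b : ↥X.lin).2.1)

/-- the structure over the linear elements -/
noncomputable def core : Core X.zl where
  Q := X.Q.subgroupOf X.lin
  ψ := (MonoidHom.ofInjective ι_inj).symm.toMonoidHom.comp X.limg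
  ψ_surj := fun g => by
    obtain ⟨c, hc, hcg⟩ := X.img_surj (ι g)
    have hm : c ∈ X.lin := ⟨hc, hcg ▸ ⟨g, rfl⟩⟩
    refine ⟨⟨⟨c, hm⟩, Subgroup.mem_centralizer_singleton_iff.mpr (Subtype.ext hc.eq)⟩, ?_⟩
    rw [MonoidHom.comp_apply, MulEquiv.coe_toMonoidHom, MulEquiv.symm_apply_eq]
    exact Subtype.ext hcg
  ψ_ker := fun c => by
    rw [MonoidHom.comp_apply, MulEquiv.coe_toMonoidHom, MulEquiv.map_eq_one_iff, Subgroup.mem_subgroupOf,
      ← X.img_eq_one (c : ↥X.lin).2.1]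
    exact ⟨fun h => congrArg Subtype.val h, fun h => Subtype.ext h⟩
  z1 := fun e => X.z1 (congrArg Subtype.val e)
  z2 := Subtype.ext X.z2
  cent := fun x hx => Subtype.ext (X.cent _ hx).eq
  normal := fun c hc x hx => X.normal _ c.2.1 _ hx
  zQ := X.zQ
  card := by rw [Nat.card_congr (Subgroup.subgroupOfEquivOfLe X.Q_le).toEquiv, X.card]
  comm := fun x hx y hy => (X.comm _ hx _ hy).imp (fun e => Subtype.ext e) fun e => Subtype.ext e
  sq := fun x hx => (X.sq _ hx).imp (fun e => Subtype.ext e) fun e => Subtype.ext e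
  center := fun x hx h => (X.center _ hx fun y hy =>
    congrArg Subtype.val (h ⟨y, X.Q_le hy⟩ hy).eq).imp (fun e => Subtype.ext e) fun e => Subtype.ext e
  self := fun c hc h => X.self _ c.2.1 fun x hx => congrArg Subtype.val (h ⟨x, X.Q_le hx⟩ hx).eq

theorem core_img {c : ↥X.lin} : ι (X.core.img c) = X.img (c : G) := by
  rw [X.core.img_eq (show Commute c X.zl from Subtype.ext c.2.1.eq)]
  exact congrArg Subtype.val ((MonoidHom.ofInjective ι_inj).apply_symm_apply (X.limg ⟨c, _⟩))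

/-- the space -/
abbrev Sp : Type w := X.core.Sp

/-- the quadratic space -/
noncomputable abbrev R : Rep X.Sp := X.core.toRep

/-- the vector of an element -/
noncomputable def vec (x : G) : X.Sp :=
  haveI := _root_.Classical.dec (x ∈ X.lin)
  if h : x ∈ X.lin then X.core.vec ⟨x, h⟩ else 0

theorem vec_eq {x : G} (hx : x ∈ X.Q) : X.vec x = X.core.vec ⟨x, X.Q_le hx⟩ := dif_pos _

theorem vec_mul {x y : G} (hx : x ∈ X.Q) (hy : y ∈ X.Q) : X.vec (x * y) = X.vec x + X.vec y := by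
  rw [X.vec_eq (X.Q.mul_mem hx hy), X.vec_eq hx, X.vec_eq hy]
  exact X.core.vec_mul (x := ⟨x, X.Q_le hx⟩) (y := ⟨y, X.Q_le hy⟩) hx hy

theorem vec_iff {x y : G} (hx : x ∈ X.Q) (hy : y ∈ X.Q) : X.vec x = X.vec y ↔ y = x ∨ y = x * z := by
  rw [X.vec_eq hx, X.vec_eq hy, X.core.vec_iff (x := ⟨x, X.Q_le hx⟩) (y := ⟨y, X.Q_le hy⟩) hx hy]
  exact or_congr Subtype.ext_iff Subtype.ext_iff

theorem vec_surj (v : X.Sp) : ∃ x ∈ X.Q, X.vec x = v := by
  obtain ⟨x, hx, e⟩ := X.core.vec_surj v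
  exact ⟨(x : G), hx, (X.vec_eq (show (x : G) ∈ X.Q from hx)).trans e⟩

theorem vec_one : X.vec 1 = 0 := by rw [X.vec_eq X.Q.one_mem]; exact X.core.vec_one

theorem add_self (v : X.Sp) : v + v = 0 := X.core.add_self_Sp v

theorem vec_eq_zero {x : G} (hx : x ∈ X.Q) : X.vec x = 0 ↔ x = 1 ∨ x = z := by
  rw [← X.vec_one, eq_comm, X.vec_iff X.Q.one_mem hx, one_mul]

theorem vec_z : X.vec z = 0 := (X.vec_eq_zero X.zQ).mpr (Or.inr rfl)

theorem vec_inv {x : G} (hx : x ∈ X.Q) : X.vec x⁻¹ = X.vec x := by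
  have h := X.vec_mul (X.Q.inv_mem hx) hx
  rw [inv_mul_cancel, X.vec_one] at h
  calc X.vec x⁻¹ = X.vec x⁻¹ + (X.vec x + X.vec x) := by rw [X.add_self, add_zero]
    _ = X.vec x := by rw [← add_assoc, ← h, zero_add]

theorem sq_vec {x : G} (hx : x ∈ X.Q) : X.R.q (X.vec x) = 0 ↔ x * x = 1 := by
  rw [X.vec_eq hx]
  exact (X.core.sqv_vec (x := ⟨x, X.Q_le hx⟩) hx).trans Subtype.ext_iff

theorem b_zero {x y : G} (hx : x ∈ X.Q) (hy : y ∈ X.Q) : X.R.b (X.vec x) (X.vec y) = 0 ↔ Commute x y := by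
  rw [X.vec_eq hx, X.vec_eq hy, X.core.b_zero (x := ⟨x, X.Q_le hx⟩) (y := ⟨y, X.Q_le hy⟩) hx hy]
  exact ⟨fun h => congrArg Subtype.val h.eq, fun h => Subtype.ext h.eq⟩

theorem conj_cases {y x : G} (hy : y ∈ X.Q) (hx : x ∈ X.Q) : y * x * y⁻¹ = x ∨ y * x * y⁻¹ = x * z := by
  rcases X.comm y hy x hx with e | e
  · exact Or.inl (mul_inv_eq_one.mp e)
  · exact Or.inr (by rw [mul_inv_eq_iff_eq_mul.mp e, (X.cent x hx).symm.eq])

theorem conj_vec {c : G} (hc : Commute c z) {x y : G} (hx : x ∈ X.Q) (hy : y ∈ X.Q) (h : X.vec x = X.vec y) :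
    X.vec (c * x * c⁻¹) = X.vec (c * y * c⁻¹) := by
  refine (X.vec_iff (X.normal c hc x hx) (X.normal c hc y hy)).mpr ?_
  rcases (X.vec_iff hx hy).mp h with rfl | rfl
  · exact Or.inl rfl
  · refine Or.inr ?_
    rw [show c * (x * z) * c⁻¹ = c * x * c⁻¹ * (c * z * c⁻¹) by group, hc.eq, mul_inv_cancel_right]

/-- the representative -/
noncomputable def rep (v : X.Sp) : G := (X.vec_surj v).choose

theorem rep_mem (v : X.Sp) : X.rep v ∈ X.Q := (X.vec_surj v).choose_spec.1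

theorem vec_rep (v : X.Sp) : X.vec (X.rep v) = v := (X.vec_surj v).choose_spec.2

/-- the action of an element of the centraliser -/
noncomputable def act (c : G) (v : X.Sp) : X.Sp := X.vec (c * X.rep v * c⁻¹)

theorem act_vec {c x : G} (hc : Commute c z) (hx : x ∈ X.Q) : X.act c (X.vec x) = X.vec (c * x * c⁻¹) :=
  X.conj_vec hc (X.rep_mem _) hx (X.vec_rep _)

theorem act_add {c : G} (hc : Commute c z) (a b : X.Sp) : X.act c (a + b) = X.act c a + X.act c b := by
  obtain ⟨x, hx, rfl⟩ := X.vec_surj a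
  obtain ⟨y, hy, rfl⟩ := X.vec_surj b
  rw [← X.vec_mul hx hy, X.act_vec hc (X.Q.mul_mem hx hy), X.act_vec hc hx, X.act_vec hc hy,
    ← X.vec_mul (X.normal c hc x hx) (X.normal c hc y hy)]
  congr 1
  group

theorem act_mul {c d : G} (hc : Commute c z) (hd : Commute d z) (v : X.Sp) :
    X.act (c * d) v = X.act c (X.act d v) := by
  obtain ⟨x, hx, rfl⟩ := X.vec_surj v
  rw [X.act_vec (hc.mul_left hd) hx, X.act_vec hd hx, X.act_vec hc (X.normal d hd x hx)]
  congr 1
  group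

theorem act_one (v : X.Sp) : X.act 1 v = v := by
  obtain ⟨x, hx, rfl⟩ := X.vec_surj v
  rw [X.act_vec (Commute.one_left z) hx, inv_one, mul_one, one_mul]

theorem act_b {c : G} (hc : Commute c z) (a b : X.Sp) : X.R.b (X.act c a) (X.act c b) = X.R.b a b := by
  obtain ⟨x, hx, rfl⟩ := X.vec_surj a
  obtain ⟨y, hy, rfl⟩ := X.vec_surj b
  rw [X.act_vec hc hx, X.act_vec hc hy]
  have key : ∀ p q : ZMod 2, (p = 0 ↔ q = 0) → p = q := by decide
  refine key _ _ ?_
  rw [X.b_zero (X.normal c hc x hx) (X.normal c hc y hy), X.b_zero hx hy]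
  exact ⟨fun h => by simpa [mul_assoc] using h.map (MulAut.conj c⁻¹).toMonoidHom,
    fun h => h.map (MulAut.conj c).toMonoidHom⟩

theorem act_lin {c : G} (hc : Commute c z) {g : L} (hg : X.img c = ι g) (v : X.Sp) : X.act c v = X.R.ρ g v := by
  obtain ⟨x, hx, rfl⟩ := X.vec_surj v
  have hm : c ∈ X.lin := ⟨hc, hg ▸ ⟨g, rfl⟩⟩
  have hgc : g = X.core.img ⟨c, hm⟩ := ι_inj (by rw [X.core_img, hg])
  rw [X.act_vec hc hx, hgc, X.vec_eq hx, X.vec_eq (X.normal c hc x hx),
    X.core.act_vec (c := ⟨c, hm⟩) (x := ⟨x, X.Q_le hx⟩) (Subtype.ext hc.eq) hx]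
  rfl

theorem act_Q {y : G} (hy : y ∈ X.Q) (v : X.Sp) : X.act y v = v := by
  rw [X.act_lin (X.cent y hy) (g := 1) (by rw [map_one]; exact X.img_Q hy)]
  exact X.R.one v

/-- only the subgroup acts trivially -/
theorem faithful {c : G} (hc : Commute c z) (h : ∀ v, X.act c v = v) : c ∈ X.Q := by
  refine (X.img_eq_one hc).mp (centralizes fun g => ?_)
  obtain ⟨d, hd, hdg⟩ := X.img_surj (ι g)
  obtain ⟨g', hg'⟩ : X.img c * ι g * (X.img c)⁻¹ ∈ ι.range := range_normal _ g
  have e : X.img (c * d * c⁻¹) = ι g' := by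
    rw [X.img_mul (hc.mul_left hd) hc.inv_left, X.img_mul hc hd, X.img_inv hc, hdg, hg']
  have hρ : ∀ v, X.R.ρ g' v = X.R.ρ g v := fun v => by
    rw [← X.act_lin ((hc.mul_left hd).mul_left hc.inv_left) e, ← X.act_lin hd hdg,
      X.act_mul (hc.mul_left hd) hc.inv_left, X.act_mul hc hd, h]
    congr 1
    conv_lhs => rw [← h (X.act c⁻¹ v)]
    rw [← X.act_mul hc hc.inv_left, mul_inv_cancel, X.act_one]
  have hgg : g' = g := inv_mul_eq_one.mp (X.R.faithful _ fun v => by rw [X.R.mul, hρ, X.R.inv_act]) |>.symm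
  rw [← mul_inv_eq_iff_eq_mul, ← hg', hgg]

/-- one plus an element -/
noncomputable def dA (c : G) (hc : Commute c z) : X.Sp →+ X.Sp :=
  AddMonoidHom.mk' (fun v => v + X.act c v) fun a b => by rw [X.act_add hc]; abel

theorem mem_ker_dA {c : G} (hc : Commute c z) {v : X.Sp} : v ∈ (X.dA c hc).ker ↔ X.act c v = v := by
  show v + X.act c v = 0 ↔ _
  constructor
  · intro h
    calc X.act c v = v + (v + X.act c v) := by rw [← add_assoc, X.add_self, zero_add]
      _ = v := by rw [h, add_zero]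
  · intro h
    rw [h, X.add_self]

theorem card_dA (c : G) (hc : Commute c z) : Nat.card (X.dA c hc).ker * Nat.card (X.dA c hc).range = 256 := by
  have h := (X.dA c hc).ker.card_mul_index
  rwa [AddSubgroup.index_ker, X.R.card] at h

/-- the commutators are the complement of the fixed vectors -/
theorem perp_ker (c : G) (hc : Commute c z) : X.R.perp (X.dA c hc).ker = (X.dA c hc).range := by
  refine (AddSubgroup.eq_of_le_of_card_ge ?_ ?_).symm
  · rintro _ ⟨v, rfl⟩ f hf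
    show X.R.b f (v + X.act c v) = 0
    rw [X.R.b_add_right]
    conv_lhs => arg 2; rw [← (X.mem_ker_dA hc).mp hf]
    rw [X.act_b hc, CharTwo.add_self_eq_zero]
  · have h1 := X.card_dA c hc
    have h2 := X.R.card_perp (X.dA c hc).ker
    exact le_of_eq (Nat.eq_of_mul_eq_mul_left Nat.card_pos (h2.trans h1.symm))

/-- the image of a subgroup -/
noncomputable def image (E : Subgroup G) (hle : E ≤ Subgroup.centralizer ({z} : Set G)) : Subgroup ↥Gam :=
  (X.ψ.comp (Subgroup.inclusion hle)).range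

theorem mem_image {E : Subgroup G} {hle : E ≤ Subgroup.centralizer ({z} : Set G)} {g : ↥Gam} :
    g ∈ X.image E hle ↔ ∃ c ∈ E, X.img c = g := by
  constructor
  · rintro ⟨⟨c, hc⟩, h⟩
    exact ⟨c, hc, by rw [← h, X.img_eq (Subgroup.mem_centralizer_singleton_iff.mp (hle hc))]; rfl⟩
  · rintro ⟨c, hc, h⟩
    exact ⟨⟨c, hc⟩, by rw [← h, X.img_eq (Subgroup.mem_centralizer_singleton_iff.mp (hle hc))]; rfl⟩

theorem card_image (E : Subgroup G) (hle : E ≤ Subgroup.centralizer ({z} : Set G)) :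
    Nat.card (X.image E hle) * Nat.card ↥(E ⊓ X.Q) = Nat.card E := by
  have h := (X.ψ.comp (Subgroup.inclusion hle)).ker.card_mul_index
  rw [Subgroup.index_ker] at h
  have e : Nat.card (X.ψ.comp (Subgroup.inclusion hle)).ker = Nat.card ↥(E ⊓ X.Q) := Nat.card_congr
    { toFun := fun x => ⟨((x : E) : G), (x : E).2, (X.ψ_ker _).mp x.2⟩
      invFun := fun x => ⟨⟨x, x.2.1⟩, (X.ψ_ker (Subgroup.inclusion hle ⟨x, x.2.1⟩)).mpr x.2.2⟩
      left_inv := fun _ => rfl
      right_inv := fun _ => rfl }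
  rw [e] at h
  rw [mul_comm]
  exact h

theorem isPGroup_Q : IsPGroup 2 X.Q := IsPGroup.of_card (n := 9) (by rw [X.card]; norm_num)

theorem isPGroup_image {E : Subgroup G} {hle : E ≤ Subgroup.centralizer ({z} : Set G)} (hE : IsPGroup 2 E) :
    IsPGroup 2 (X.image E hle) :=
  hE.of_surjective _ (MonoidHom.rangeRestrict_surjective _)

theorem sub_le {E : Subgroup G} (hle : E ≤ X.Q) : E.subgroupOf X.lin ≤ X.core.Q := fun _ hx => hle hx

/-- the vectors of a subgroup -/
noncomputable def vecS (E : Subgroup G) (hle : E ≤ X.Q) : AddSubgroup X.Sp :=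
  X.core.vecS (E.subgroupOf X.lin) (X.sub_le hle)

theorem mem_vecS {E : Subgroup G} {hle : E ≤ X.Q} {v : X.Sp} : v ∈ X.vecS E hle ↔ ∃ x ∈ E, X.vec x = v := by
  rw [vecS, X.core.mem_vecS]
  constructor
  · rintro ⟨x, hx, rfl⟩
    exact ⟨x, hx, X.vec_eq (hle hx)⟩
  · rintro ⟨x, hx, rfl⟩
    exact ⟨⟨x, X.Q_le (hle hx)⟩, hx, (X.vec_eq (hle hx)).symm⟩

theorem card_sub {E : Subgroup G} (hle : E ≤ X.Q) : Nat.card (E.subgroupOf X.lin) = Nat.card E :=
  Nat.card_congr (Subgroup.subgroupOfEquivOfLe (hle.trans X.Q_le)).toEquiv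

theorem card_vecS_of_mem {E : Subgroup G} (hle : E ≤ X.Q) (hz : z ∈ E) :
    Nat.card (X.vecS E hle) * 2 = Nat.card E := by
  rw [← X.card_sub hle]
  exact X.core.card_vecS_of_mem _ hz

theorem card_vecS_of_not_mem {E : Subgroup G} (hle : E ≤ X.Q) (hz : z ∉ E) :
    Nat.card (X.vecS E hle) = Nat.card E := by
  rw [← X.card_sub hle]
  exact X.core.card_vecS_of_not_mem _ hz

include X in
theorem card_zpowers : Nat.card (Subgroup.zpowers z) = 2 := by
  rw [Nat.card_zpowers]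
  exact orderOf_eq_prime (by rw [pow_two]; exact X.z2) X.z1

/-- the centraliser of a noncentral element in the subgroup -/
theorem cent_half {x : G} (hx : x ∈ X.Q) (h1 : x ≠ 1) (h2 : x ≠ z) :
    Nat.card (X.R.perp (AddSubgroup.zmultiples (X.vec x))) = 128 ∧
      ∀ y ∈ X.Q, (Commute y x ↔ X.vec y ∈ X.R.perp (AddSubgroup.zmultiples (X.vec x))) := by
  have h := X.core.cent_half (x := ⟨x, X.Q_le hx⟩) hx (fun e => h1 (congrArg Subtype.val e))
    (fun e => h2 (congrArg Subtype.val e))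
  rw [X.vec_eq hx]
  refine ⟨h.1, fun y hy => ?_⟩
  have e := SetLike.ext_iff.mp h.2 ⟨y, X.Q_le hy⟩
  rw [Subgroup.mem_inf, Subgroup.mem_centralizer_singleton_iff] at e
  rw [X.vec_eq hy]
  exact ⟨fun hc => (e.mp ⟨hy, Subtype.ext hc.eq⟩).2, fun hm => congrArg Subtype.val (e.mpr ⟨hy, hm⟩).2⟩

theorem card_cent_mem {x : G} (hx : x ∈ X.Q) (h1 : x ≠ 1) (h2 : x ≠ z) :
    Nat.card ↥(X.Q ⊓ Subgroup.centralizer ({x} : Set G)) = 256 := by
  have h := X.core.card_cent_mem (x := ⟨x, X.Q_le hx⟩) hx (fun e => h1 (congrArg Subtype.val e))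
    (fun e => h2 (congrArg Subtype.val e))
  rw [← h, ← X.card_sub inf_le_left]
  refine Nat.card_congr (Equiv.subtypeEquivRight fun y => ?_)
  show (y : G) ∈ X.Q ∧ (y : G) ∈ Subgroup.centralizer ({x} : Set G) ↔ _
  rw [Subgroup.mem_inf, Subgroup.mem_centralizer_singleton_iff, Subgroup.mem_centralizer_singleton_iff]
  exact and_congr Iff.rfl ⟨fun e => Subtype.ext e, fun e => congrArg Subtype.val e⟩

/-- the same structure at a conjugate -/
noncomputable def conj (g : G) : XCore (g * z * g⁻¹) :=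
  have hm : ∀ c : ↥(Subgroup.centralizer ({g * z * g⁻¹} : Set G)),
      g⁻¹ * (c : G) * g ∈ Subgroup.centralizer ({z} : Set G) := fun c => by
    have h := Subgroup.mem_centralizer_singleton_iff.mp c.2
    rw [Subgroup.mem_centralizer_singleton_iff]
    calc g⁻¹ * (c : G) * g * z = g⁻¹ * ((c : G) * (g * z * g⁻¹)) * g := by group
      _ = g⁻¹ * (g * z * g⁻¹ * c) * g := by rw [h]
      _ = z * (g⁻¹ * c * g) := by group
  have hc' : ∀ {c}, Commute c (g * z * g⁻¹) → Commute (g⁻¹ * c * g) z := fun hc => by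
    have := hc.map (MulAut.conj g⁻¹).toMonoidHom
    simpa [mul_assoc] using this
  { Q := X.Q.map (MulAut.conj g).toMonoidHom
    ψ := X.ψ.comp
      { toFun := fun c => ⟨g⁻¹ * (c : G) * g, hm c⟩
        map_one' := Subtype.ext (by show g⁻¹ * 1 * g = 1; group)
        map_mul' := fun a c => Subtype.ext (by
          show g⁻¹ * ((a : G) * c) * g = g⁻¹ * a * g * (g⁻¹ * c * g); group) }
    ψ_surj := fun l => by
      obtain ⟨d, hd⟩ := X.ψ_surj l
      refine ⟨⟨g * d * g⁻¹, ?_⟩, ?_⟩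
      · have h := Subgroup.mem_centralizer_singleton_iff.mp d.2
        rw [Subgroup.mem_centralizer_singleton_iff]
        calc g * (d : G) * g⁻¹ * (g * z * g⁻¹) = g * ((d : G) * z) * g⁻¹ := by group
          _ = g * (z * d) * g⁻¹ := by rw [h]
          _ = g * z * g⁻¹ * (g * d * g⁻¹) := by group
      · rw [← hd]
        exact congrArg X.ψ (Subtype.ext (by show g⁻¹ * (g * d * g⁻¹) * g = d; group))
    ψ_ker := fun c => by
      rw [MonoidHom.comp_apply, X.ψ_ker]
      show g⁻¹ * (c : G) * g ∈ X.Q ↔ _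
      rw [Subgroup.mem_map_equiv, MulAut.conj_symm_apply]
    z1 := fun e => X.z1 (conj_eq_one_iff.mp e)
    z2 := by rw [show g * z * g⁻¹ * (g * z * g⁻¹) = g * (z * z) * g⁻¹ by group, X.z2]; group
    cent := by
      rintro _ ⟨x, hx, rfl⟩
      exact (X.cent x hx).map (MulAut.conj g).toMonoidHom
    normal := by
      rintro c hc _ ⟨x, hx, rfl⟩
      exact ⟨_, X.normal _ (hc' hc) x hx, by simp [mul_assoc]⟩
    zQ := ⟨z, X.zQ, rfl⟩
    card := by rw [Subgroup.card_map_of_injective (MulAut.conj g).injective, X.card]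
    comm := by
      rintro _ ⟨x, hx, rfl⟩ _ ⟨y, hy, rfl⟩
      rw [← map_inv, ← map_inv, ← map_mul, ← map_mul, ← map_mul]
      rcases X.comm x hx y hy with e | e <;> rw [e]
      exacts [Or.inl (map_one _), Or.inr rfl]
    sq := by
      rintro _ ⟨x, hx, rfl⟩
      rw [← map_mul]
      rcases X.sq x hx with e | e <;> rw [e]
      exacts [Or.inl (map_one _), Or.inr rfl]
    center := by
      rintro _ ⟨x, hx, rfl⟩ h
      have := X.center x hx fun y hy => by
        have h' := h _ ⟨y, hy, rfl⟩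
        simpa [mul_assoc] using h'.map (MulAut.conj g⁻¹).toMonoidHom
      exact this.imp (fun e => by rw [e]; exact map_one _) fun e => by rw [e]; rfl
    self := fun c hc h => by
      refine ⟨g⁻¹ * c * g, X.self _ (hc' hc) fun x hx => ?_, by simp [mul_assoc]⟩
      simpa [mul_assoc] using (h _ ⟨x, hx, rfl⟩).map (MulAut.conj g⁻¹).toMonoidHom }

end XCore

end Cfsg.Agent.Spor.CHZ
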