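import Cfsg.Agent.Lib.Spor.CHZ.XCore
import Cfsg.Agent.Lib.Spor.CHZ.Parity

/-!
The Hermitian case: the whole centraliser acts semilinearly.
-/

set_option autoImplicit false
set_option maxRecDepth 100000
set_option linter.unusedSectionVars false

namespace Cfsg.Agent.Spor.CHZ

open Cfsg.Agent.Spor.SpFour Cfsg.Agent.Small.Unitary

universe w

theorem singular_link : ∀ v : V, v ≠ 0 → herm v v = 0 →
    (∃ u : V, herm u u = 0 ∧ herm v0 u = 1 ∧ herm v u = 1) ∨
      ∃ u : V, herm u u = 0 ∧ herm w0 u = 1 ∧ herm v u = 1 := by decide +kernel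

theorem w0_link : ∃ u : V, herm u u = 0 ∧ herm v0 u = 1 ∧ herm w0 u = 1 := by decide +kernel

theorem singular_span : ∀ x : V, ∃ a : V, herm a a = 0 ∧ herm (x + a) (x + a) = 0 := by decide +kernel

theorem w_square : ∀ m : F4, m * m + m + 1 = 0 → m = F4.w ∨ m = F4.v := by decide +kernel

/-- a map commuting with the transvections is a scalar -/
theorem exists_scalar (W : V → V) (hadd : ∀ x y, W (x + y) = W x + W y)
    (h : ∀ (v : V), herm v v = 0 → ∀ x, W (herm v x • v) = herm v (W x) • v) : ∃ m : F4, ∀ x, W x = m • x := by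
  have h0 : W 0 = 0 := by
    have := hadd 0 0
    rw [add_zero] at this
    exact left_eq_add.mp this
  have hedge : ∀ {v u : V}, herm v v = 0 → ∀ {l : F4}, W u = l • u → herm v u = 1 → W v = l • v := by
    intro v u hv l hl hvu
    have h1 := h v hv u
    rwa [hvu, one_smul, hl, herm_smul_right, hvu, mul_one] at h1
  have hback : ∀ {v u : V}, herm v u = 1 → herm u v = 1 := fun {v u} e => by rw [← star_herm, e, star_one]
  obtain ⟨x0, hx0⟩ := exists_herm_val v0_ok.1 1
  obtain ⟨m, hm⟩ : ∃ m, W v0 = m • v0 := ⟨herm v0 (W x0), by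
    have := h v0 v0_ok.2 x0
    rwa [hx0, one_smul] at this⟩
  obtain ⟨uw, huw, h1w, h2w⟩ := w0_link
  have hw : W w0 = m • w0 := hedge w0_ok.1 (hedge huw hm (hback h1w)) h2w
  have hsing : ∀ v : V, herm v v = 0 → W v = m • v := by
    intro v hv
    by_cases hv0 : v = 0
    · rw [hv0, h0, smul_zero]
    rcases singular_link v hv0 hv with ⟨u, hu, h1, h2⟩ | ⟨u, hu, h1, h2⟩
    · exact hedge hv (hedge hu hm (hback h1)) h2
    · exact hedge hv (hedge hu hw (hback h1)) h2
  refine ⟨m, fun x => ?_⟩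
  obtain ⟨a, ha, hb⟩ := singular_span x
  have e : x = (x + a) + a := by rw [add_assoc, add_self, add_zero]
  rw [e, hadd, hsing _ hb, hsing _ ha, ← smul_add]

/-- a map normalising the group and preserving the quadratic form is semilinear -/
theorem semi_of_normal {f : Equiv.Perm V} (hadd : ∀ x y, f (x + y) = f x + f y)
    (hq : ∀ x, herm (f x) (f x) = herm x x) (hn : ∀ g : L, ∃ g' : L, f * sp g' = sp g * f) : Semi f := by
  have hB : ∀ x y, B (f x) (f y) = B x y := fun x y => by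
    have h := q_add (f x) (f y)
    rw [← hadd, hq, hq, hq, q_add] at h
    exact (add_left_cancel h).symm
  have hs : ∀ x, f.symm (x : V) = f⁻¹ x := fun x => rfl
  have hfs : ∀ x y, f.symm (x + y) = f.symm x + f.symm y := fun x y => f.injective (by
    rw [hadd, Equiv.apply_symm_apply, Equiv.apply_symm_apply, Equiv.apply_symm_apply])
  obtain ⟨W, hW⟩ : ∃ W : V → V, ∀ x, W x = f (F4.w • f.symm x) := ⟨_, fun _ => rfl⟩
  have hWadd : ∀ x y, W (x + y) = W x + W y := fun x y => by rw [hW, hW, hW, hfs, smul_add, hadd]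
  have hWg : ∀ g x, W (sp g x) = sp g (W x) := by
    intro g x
    obtain ⟨g', hg'⟩ := hn g
    have e : ∀ v, f (sp g' v) = sp g (f v) := fun v => congrArg (fun p : Equiv.Perm V => p v) hg'
    have e' : f.symm (sp g x) = sp g' (f.symm x) := f.injective (by
      rw [e, Equiv.apply_symm_apply, Equiv.apply_symm_apply])
    rw [hW, hW, e', ← (sp_lin g').smul, e]
  obtain ⟨m, hm⟩ := exists_scalar W hWadd fun v hv x => by
    have h := hWg (tvL v hv) x
    rw [sp_tvL, sp_tvL, hWadd] at h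
    exact add_left_cancel h
  have hfw : ∀ x, f (F4.w • x) = m • f x := fun x => by
    have h := hm (f x)
    rwa [hW, Equiv.symm_apply_apply] at h
  obtain ⟨x, hx⟩ : ∃ x : V, x ≠ 0 := ⟨v0, v0_ok.1⟩
  have hf0 : f 0 = 0 := by
    have := hadd 0 0
    rw [add_zero] at this
    exact left_eq_add.mp this
  have hfv : ∀ y, f (F4.v • y) = m • f y + f y := fun y => by
    rw [show F4.v = F4.w + 1 by decide +kernel, add_smul, one_smul, hadd, hfw]
  have hmm : m * m + m + 1 = 0 := by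
    have hne : f x ≠ 0 := fun e => hx (f.injective (e.trans hf0.symm))
    refine (smul_eq_zero.mp (?_ : (m * m + m + 1) • f x = 0)).resolve_right hne
    rw [add_smul, add_smul, one_smul, ← smul_smul, ← hfw, ← hfw, smul_smul,
      show F4.w * F4.w = F4.v by decide +kernel, hfv, add_assoc, hfw, add_self]
  have key : ∀ (c : F4) y, f (c • y) = (if c = 0 then (0 : F4) else if c = 1 then 1 else if c = F4.w then m else m + 1) • f y := by
    intro c y
    rcases F4_cases c with rfl | rfl | rfl | rfl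
    · simp [hf0]
    · simp
    · rw [hfw, if_neg (by decide), if_neg (by decide), if_pos rfl]
    · rw [hfv, if_neg (by decide), if_neg (by decide), if_neg (by decide), add_smul, one_smul]
  rcases w_square m hmm with rfl | rfl
  · have hsm : ∀ (c : F4) y, f (c • y) = c • f y := fun c y => by
      rw [key]
      congr 1
      revert c
      decide +kernel
    refine Or.inl ⟨hadd, hsm, fun a b => ?_⟩
    refine herm_det _ _ ?_ ?_
    · rw [← B_eq, ← B_eq, hB]
    · rw [← herm_smul_right, ← herm_smul_right, ← B_eq, ← B_eq, ← hsm, hB]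
  · have hsm : ∀ (c : F4) y, f (c • y) = star c • f y := fun c y => by
      rw [key]
      congr 1
      revert c
      decide +kernel
    refine Or.inr ⟨hadd, hsm, fun a b => ?_⟩
    have e1 : ∀ h : F4, star h + star (star h) = h + star h := fun h => by rw [star_star, add_comm]
    have e2 : ∀ h h' : F4, h + star h = h' + star h' →
        F4.v * h + star (F4.v * h) = F4.w * h' + star (F4.w * h') → h = star h' := by decide +kernel
    refine e2 _ _ ?_ ?_
    · rw [← B_eq, ← B_eq, hB]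
    · rw [← herm_smul_right, ← herm_smul_right, ← B_eq, ← B_eq,
        show F4.v = star F4.w by decide +kernel, ← hsm, hB]

namespace XCore

variable {G : Type w} [Group G] [Finite G] {z : G} (X : XCore z)

/-- the structure with semilinear action -/
theorem exists_setup (φ : X.Sp ≃+ V) (hlin : ∀ g, ∃ f : Equiv.Perm V, Lin f ∧ ∀ x, φ (X.R.ρ g x) = f (φ x))
    (hq : ∀ x, (X.R.q x = 0 ↔ herm (φ x) (φ x) = 0)) :
    ∃ S : Setup z, (∃ c, Commute c z ∧ ¬ Lin (S.π c)) ∧ ∀ c, Commute c z → Lin (S.π c) → ∃ g : L, S.π c = sp g := by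
  classical
  obtain ⟨S1, hfull, hQ1⟩ := X.core.exists_setup φ hlin hq
  let ν : G → V := fun x => if h : x ∈ X.lin then S1.ν ⟨x, h⟩ else 0
  have hν : ∀ {x} (hx : x ∈ X.Q), ν x = S1.ν ⟨x, X.Q_le hx⟩ := fun hx => dif_pos _
  have hmemQ : ∀ {x : G} (hx : x ∈ X.Q), (⟨x, X.Q_le hx⟩ : ↥X.lin) ∈ S1.Q := fun hx => hQ1 ▸ hx
  have hsurj : ∀ v, ∃ x ∈ X.Q, ν x = v := fun v => by
    obtain ⟨x, hx, e⟩ := S1.ν_surj v
    have hx' : (x : G) ∈ X.Q := by rw [hQ1] at hx; exact hx
    exact ⟨x, hx', (hν hx').trans e⟩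
  have hmul : ∀ x ∈ X.Q, ∀ y ∈ X.Q, ν (x * y) = ν x + ν y := fun x hx y hy => by
    rw [hν (X.Q.mul_mem hx hy), hν hx, hν hy]
    exact S1.ν_mul _ (hmemQ hx) _ (hmemQ hy)
  have hzero : ∀ x ∈ X.Q, (ν x = 0 ↔ x = 1 ∨ x = z) := fun x hx => by
    rw [hν hx, S1.ν_zero _ (hmemQ hx)]
    exact or_congr Subtype.ext_iff Subtype.ext_iff
  have hsq : ∀ x ∈ X.Q, (x * x = 1 ↔ herm (ν x) (ν x) = 0) := fun x hx => by
    rw [hν hx, ← S1.ν_sq _ (hmemQ hx)]
    exact ⟨fun h => Subtype.ext h, fun h => congrArg Subtype.val h⟩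
  have hcomm : ∀ x ∈ X.Q, ∀ y ∈ X.Q, (Commute x y ↔ B (ν x) (ν y) = 0) := fun x hx y hy => by
    rw [hν hx, hν hy, ← S1.ν_comm _ (hmemQ hx) _ (hmemQ hy)]
    exact ⟨fun h => Subtype.ext h.eq, fun h => congrArg Subtype.val h.eq⟩
  have hνeq : ∀ {x y}, x ∈ X.Q → y ∈ X.Q → ν x = ν y → y = x ∨ y = x * z := by
    intro x y hx hy e
    have h := (hzero _ (X.Q.mul_mem (X.Q.inv_mem hx) hy)).mp (by
      have h' := hmul _ (X.Q.inv_mem hx) _ hx
      rw [inv_mul_cancel, (hzero 1 X.Q.one_mem).mpr (Or.inl rfl)] at h'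
      rw [hmul _ (X.Q.inv_mem hx) _ hy, ← e, ← h'])
    exact h.imp (fun h => (inv_mul_eq_one.mp h).symm) fun h => inv_mul_eq_iff_eq_mul.mp h
  choose rp hrp hrpν using hsurj
  let F : G → V → V := fun c v => ν (c * rp v * c⁻¹)
  have hF : ∀ {c}, Commute c z → ∀ {x}, x ∈ X.Q → F c (ν x) = ν (c * x * c⁻¹) := fun {c} hc {x} hx => by
    rcases hνeq (hrp (ν x)) hx (hrpν _) with e | e
    · show ν (c * rp (ν x) * c⁻¹) = _; rw [← e]
    · show ν (c * rp (ν x) * c⁻¹) = _
      conv_rhs => rw [e, show c * (rp (ν x) * z) * c⁻¹ = c * rp (ν x) * c⁻¹ * (c * z * c⁻¹) by group, hc.eq,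
        mul_inv_cancel_right, hmul _ (X.normal c hc _ (hrp _)) _ X.zQ, (hzero z X.zQ).mpr (Or.inr rfl), add_zero]
  have hFmul : ∀ {c d}, Commute c z → Commute d z → ∀ v, F (c * d) v = F c (F d v) := fun {c d} hc hd v => by
    conv_lhs => rw [← hrpν v]
    conv_rhs => rw [← hrpν v]
    rw [hF (hc.mul_left hd) (hrp v), hF hd (hrp v), hF hc (X.normal d hd _ (hrp v))]
    congr 1
    group
  have hFone : ∀ v, F 1 v = v := fun v => by
    conv_lhs => rw [← hrpν v]
    rw [hF (Commute.one_left z) (hrp v), inv_one, mul_one, one_mul, hrpν]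
  let P : ∀ c, Commute c z → Equiv.Perm V := fun c hc => ⟨F c, F c⁻¹,
    fun v => by rw [← hFmul hc.inv_left hc, inv_mul_cancel, hFone],
    fun v => by rw [← hFmul hc hc.inv_left, mul_inv_cancel, hFone]⟩
  let π : G → Equiv.Perm V := fun c => if h : Commute c z then P c h else 1
  have hπ : ∀ {c} (hc : Commute c z) (v : V), π c v = F c v := fun hc v => by
    show (if h : Commute _ z then P _ h else 1) v = _
    rw [dif_pos hc]; rfl
  have hπmul : ∀ c d, Commute c z → Commute d z → π (c * d) = π c * π d := fun c d hc hd => Equiv.ext fun v => by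
    rw [Equiv.Perm.mul_apply, hπ (hc.mul_left hd), hπ hd, hπ hc, hFmul hc hd]
  have hlinπ : ∀ (d : ↥X.lin), π (d : G) = S1.π d := fun d => Equiv.ext fun v => by
    have hd : Commute (d : G) z := d.2.1
    obtain ⟨x, hx, rfl⟩ : ∃ x ∈ X.Q, ν x = v := ⟨rp v, hrp v, hrpν v⟩
    rw [hπ hd, hF hd hx, hν hx, hν (X.normal _ hd x hx), ← S1.ν_act d (Subtype.ext hd.eq) _ (hmemQ hx)]
    rfl
  have hnorm : ∀ c, Commute c z → ∀ g : L, ∃ g' : L, π c * sp g' = sp g * π c := by
    intro c hc g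
    obtain ⟨d, hdz, hdg⟩ := S1.π_surj g
    have hd : Commute (d : G) z := d.2.1
    have hm : c⁻¹ * (d : G) * c ∈ X.lin := ⟨(hc.inv_left.mul_left hd).mul_left hc, by
      rw [X.img_mul (hc.inv_left.mul_left hd) hc, X.img_mul hc.inv_left hd, X.img_inv hc]
      obtain ⟨g0, e⟩ := d.2.2
      rw [← e]
      simpa using range_normal (X.img c)⁻¹ g0⟩
    obtain ⟨g', hg'⟩ := hfull ⟨_, hm⟩ (Subtype.ext hm.1.eq)
    refine ⟨g', ?_⟩
    rw [← hg', ← hdg, ← hlinπ, ← hlinπ, ← hπmul _ _ hc hm.1, ← hπmul _ _ hd hc]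
    congr 1
    show c * (c⁻¹ * (d : G) * c) = (d : G) * c
    group
  have hadd : ∀ c, Commute c z → ∀ a b, π c (a + b) = π c a + π c b := fun c hc a b => by
    conv_lhs => rw [← hrpν a, ← hrpν b, ← hmul _ (hrp a) _ (hrp b)]
    conv_rhs => rw [← hrpν a, ← hrpν b]
    rw [hπ hc, hπ hc, hπ hc, hF hc (X.Q.mul_mem (hrp a) (hrp b)), hF hc (hrp a), hF hc (hrp b),
      ← hmul _ (X.normal c hc _ (hrp a)) _ (X.normal c hc _ (hrp b))]
    congr 1
    group
  have hqq : ∀ c, Commute c z → ∀ v, herm (π c v) (π c v) = herm v v := fun c hc v => by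
    have key : ∀ a b : F4, (a = 0 ∨ a = 1) → (b = 0 ∨ b = 1) → (a = 0 ↔ b = 0) → a = b := by decide +kernel
    refine key _ _ (q_cases _) (q_cases _) ?_
    obtain ⟨x, hx, rfl⟩ : ∃ x ∈ X.Q, ν x = v := ⟨rp v, hrp v, hrpν v⟩
    rw [hπ hc, hF hc hx, ← hsq _ (X.normal c hc _ hx), ← hsq _ hx,
      show c * x * c⁻¹ * (c * x * c⁻¹) = c * (x * x) * c⁻¹ by group]
    exact conj_eq_one_iff
  let S : Setup z :=
    { Q := X.Q, ν := ν, π := π, z1 := X.z1, z2 := X.z2, cent := X.cent, normal := X.normal, zQ := X.zQ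
      π_mul := hπmul
      π_semi := fun c hc => semi_of_normal (hadd c hc) (hqq c hc) (hnorm c hc)
      π_iff := fun c hc => by
        constructor
        · intro h
          refine X.faithful hc fun v => ?_
          obtain ⟨x, hx, rfl⟩ := X.vec_surj v
          rw [X.act_vec hc hx]
          have e : ν (c * x * c⁻¹) = ν x := by rw [← hF hc hx, ← hπ hc, h]; rfl
          exact (X.vec_iff (X.normal c hc x hx) hx).mpr (hνeq (X.normal c hc x hx) hx e)
        · intro h
          rw [hlinπ ⟨c, X.Q_le h⟩]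
          exact (S1.π_iff _ (Subtype.ext (X.Q_le h).1.eq)).mpr (hmemQ h)
      π_surj := fun g => by
        obtain ⟨d, -, hdg⟩ := S1.π_surj g
        exact ⟨d, d.2.1, by rw [hlinπ, hdg]⟩
      ν_mul := hmul, ν_zero := hzero, ν_surj := fun v => ⟨rp v, hrp v, hrpν v⟩, ν_sq := hsq, ν_comm := hcomm
      ν_act := fun c hc x hx => by show ν _ = π c (ν x); rw [hπ hc, hF hc hx] }
  have hdet : ∀ c, Commute c z → Lin (π c) → ∃ g : L, π c = sp g := by
    intro c hc hl
    have hm : c * c ∈ X.lin := ⟨hc.mul_left hc, by rw [X.img_mul hc hc]; exact sq_mem_range _⟩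
    obtain ⟨h, hh⟩ := hfull ⟨_, hm⟩ (Subtype.ext hm.1.eq)
    rw [← hlinπ, show ((⟨c * c, hm⟩ : ↥X.lin) : G) = c * c from rfl, hπmul _ _ hc hc] at hh
    obtain ⟨A, hAdef⟩ : ∃ A : Matrix (Fin 4) (Fin 4) F4, A = LinearMap.toMatrix'
        { toFun := π c, map_add' := hl.add, map_smul' := fun a x => hl.smul a x } := ⟨_, rfl⟩
    have hA : ∀ v, A.mulVec v = π c v := fun v => by
      rw [hAdef, ← Matrix.toLin'_apply, Matrix.toLin'_toMatrix']
      rfl
    have hAA : A * A = h.1.1 := Matrix.ext_iff_mulVec.mpr fun v => by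
      rw [← Matrix.mulVec_mulVec, hA, hA]
      exact congrArg (fun p : Equiv.Perm V => p v) hh
    refine Core.det_one_mem hl A hA ?_
    have key : ∀ d : F4, d * d = 1 → d = 1 := by decide +kernel
    exact key _ (by rw [← Matrix.det_mul, hAA]; exact h.1.2)
  refine ⟨S, ?_, hdet⟩
  obtain ⟨c, hc, hcg⟩ := X.img_surj fr
  refine ⟨c, hc, fun hl => ?_⟩
  obtain ⟨g, hg⟩ := hdet c hc hl
  obtain ⟨d, -, hdg⟩ := S1.π_surj g
  have hd : Commute (d : G) z := d.2.1
  have hQ : c * (d : G)⁻¹ ∈ X.Q := by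
    refine (S.π_iff _ (hc.mul_left hd.inv_left)).mp ?_
    show π _ = 1
    rw [hπmul _ _ hc hd.inv_left]
    have e : π (d : G)⁻¹ = (π (d : G))⁻¹ := eq_inv_of_mul_eq_one_left (by
      rw [← hπmul _ _ hd.inv_left hd, inv_mul_cancel, hlinπ ⟨1, X.lin.one_mem⟩]
      exact (S1.π_iff _ (Commute.one_left _)).mpr S1.Q.one_mem)
    rw [e, hlinπ, hdg, ← hg, mul_inv_cancel]
  have hcl : c ∈ X.lin := by
    rw [show c = c * (d : G)⁻¹ * d by group]
    exact X.lin.mul_mem (X.Q_le hQ) d.2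
  exact frP_anti.not_lin (mem_range_ι.mp (hcg ▸ hcl.2))

end XCore

end Cfsg.Agent.Spor.CHZ
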